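import Mathlib
import Cfsg.Prelude.Def_Transfer
import Cfsg.Prelude.Def_Local
import Cfsg.Prelude.Def_PLocal
import Cfsg.Agent.Lib.Cores
import Cfsg.Agent.PLocal.SylowFixed

set_option autoImplicit false

/-! Reduction of statements on `p`-constrained, `p`-stable groups `G` to the group `G / O_{p'}(G)`.

* `sup_normalizer_eq_top`: Frattini argument modulo a normal `p'`-subgroup.
* `centralizer_pCore_quotient_le`: if `G` is `p`-constrained then `C(O_p(G/K)) ≤ O_p(G/K)` for `K = O_{p'}(G)`.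
* `isPStableOn_quotient`: if `G` is `p`-stable then `G/K` acts `p`-stably on all its normal `p`-subgroups.
-/

namespace Cfsg.Agent.PLocal.ZJReduction

open Cfsg Subgroup
open Cfsg.Agent.Lib.Cores (le_pCore pCore_isPGroup card_sup_dvd pPrimeCore_coprime)
open scoped commutatorElement

/-- Frattini argument modulo a normal `p'`-subgroup: if `K` is a normal `p'`-subgroup and `Q` a
`p`-subgroup with `K Q` normal in `G`, then `G = K N_G(Q)`. -/
theorem sup_normalizer_eq_top {G : Type*} [Group G] [Finite G] {p : ℕ} [Fact p.Prime]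
    {K : Subgroup G} (hKn : K.Normal) (hK : (Nat.card K).Coprime p) {Q : Subgroup G}
    (hQ : IsPGroup p Q) (hKQ : (K ⊔ Q).Normal) :
    K ⊔ Subgroup.normalizer (Q : Set G) = ⊤ := by
  have hQH : Q ≤ K ⊔ Q := le_sup_right
  have hdvd : Q.relIndex (K ⊔ Q) ∣ Nat.card K := by
    have h1 : Nat.card Q * Q.relIndex (K ⊔ Q) = Nat.card (K ⊔ Q : Subgroup G) := by
      rw [← relIndex_bot_left, relIndex_mul_relIndex ⊥ Q (K ⊔ Q) bot_le hQH, relIndex_bot_left]
    have h2 := card_sup_dvd K Q hKn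
    rw [← h1, mul_comm (Nat.card K)] at h2
    exact Nat.dvd_of_mul_dvd_mul_left Nat.card_pos h2
  have hidx : ¬ p ∣ (Q.subgroupOf (K ⊔ Q)).index := by
    intro h
    have h3 : p ∣ Nat.card K := h.trans hdvd
    exact (Fact.out : p.Prime).one_lt.ne' (Nat.eq_one_of_dvd_coprimes hK h3 dvd_rfl)
  have hp' : IsPGroup p (Q.subgroupOf (K ⊔ Q)) :=
    hQ.comap_of_injective (K ⊔ Q).subtype (Subgroup.subtype_injective _)
  have h := Sylow.normalizer_sup_eq_top (hp'.toSylow hidx)
  rw [IsPGroup.toSylow_coe, subgroupOf_map_subtype, inf_of_le_left hQH] at h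
  rw [eq_top_iff, ← h]
  exact sup_le le_sup_right (sup_le le_sup_left (le_normalizer.trans le_sup_right))

/-- A surjective homomorphism maps `O_p` into `O_p`. -/
theorem map_pCore_le {G H : Type*} [Group G] [Group H] {f : G →* H} (hf : Function.Surjective f)
    (p : ℕ) : (pCore p G).map f ≤ pCore p H :=
  le_pCore ((Cfsg.pCore_normal p G).map f hf) ((pCore_isPGroup p).map f)

/-- If the image of `x` under `f` is a `p`-element, then some power of `x` is a `p`-element with the
same image. -/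
theorem exists_pow_pElement {X Y : Type*} [Group X] [Finite X] [Group Y] {p : ℕ} [Fact p.Prime]
    (f : X →* Y) (x : X) {k : ℕ} (hx : f x ^ p ^ k = 1) :
    ∃ n : ℕ, f (x ^ n) = f x ∧ ∃ m : ℕ, (x ^ n) ^ p ^ m = 1 := by
  obtain ⟨m, r, hr, hxr⟩ := Nat.exists_eq_pow_mul_and_not_dvd (orderOf_pos x).ne' p
    (Fact.out : p.Prime).ne_one
  have hcop : (p ^ k).Coprime r :=
    Nat.Coprime.pow_left _ (((Fact.out : p.Prime).coprime_iff_not_dvd).2 hr)
  obtain ⟨n, hn1, hn2⟩ := Nat.chineseRemainder hcop 1 0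
  refine ⟨n, ?_, m, ?_⟩
  · rw [map_pow]
    conv_rhs => rw [← pow_one (f x)]
    rw [pow_eq_pow_iff_modEq]
    exact hn1.of_dvd (orderOf_dvd_of_pow_eq_one hx)
  · rw [← pow_mul, ← orderOf_dvd_iff_pow_eq_one, hxr, mul_comm]
    exact Nat.mul_dvd_mul ((Nat.modEq_zero_iff_dvd).1 hn2) dvd_rfl

/-- If `[Q, ⟨x⟩, ⟨x⟩] = 1` with `Q` a normal `p`-subgroup of a finite group, then some `x ^ p ^ k` centralizes `Q`. -/
theorem exists_pow_mem_centralizer {X : Type*} [Group X] [Finite X] {p : ℕ} [Fact p.Prime]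
    {Q : Subgroup X} (hQn : Q.Normal) (hQ : IsPGroup p Q) {x : X}
    (hx : ⁅⁅Q, zpowers x⁆, zpowers x⁆ = ⊥) :
    ∃ k : ℕ, x ^ p ^ k ∈ Subgroup.centralizer (Q : Set X) := by
  obtain ⟨k, hk⟩ := IsPGroup.iff_card.mp hQ
  refine ⟨k, ?_⟩
  rw [mem_centralizer_iff]
  intro q hq
  have hc1 : ⁅q, x⁆ ∈ ⁅Q, zpowers x⁆ := commutator_mem_commutator hq (mem_zpowers x)
  have hcQ : ⁅q, x⁆ ∈ Q := commutator_le_left Q (zpowers x) hc1
  have hcom : Commute ⁅q, x⁆ x := by
    have h2 : ⁅⁅q, x⁆, x⁆ ∈ ⁅⁅Q, zpowers x⁆, zpowers x⁆ :=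
      commutator_mem_commutator hc1 (mem_zpowers x)
    rw [hx, mem_bot, commutatorElement_eq_one_iff_commute] at h2
    exact h2
  have h3 : q * x * q⁻¹ = ⁅q, x⁆ * x := by
    rw [commutatorElement_def]; group
  have h4 : ⁅q, x⁆ ^ p ^ k = 1 := by
    have := pow_card_eq_one' (G := Q) (x := ⟨_, hcQ⟩)
    rw [hk] at this
    simpa using congrArg Subtype.val this
  have h5 : q * x ^ p ^ k * q⁻¹ = x ^ p ^ k := by
    rw [← conj_pow, h3, hcom.mul_pow, h4, one_mul]
  rw [mul_inv_eq_iff_eq_mul] at h5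
  exact h5

/-- For `K` normal in `G`, `N` a normal `p`-subgroup of `G/K` and `S` a Sylow `p`-subgroup of `G`,
the intersection of `S` with the preimage of `N` maps onto `N`. -/
theorem map_inf_comap {G : Type*} [Group G] [Finite G] {p : ℕ} [Fact p.Prime]
    (K : Subgroup G) [K.Normal] {N : Subgroup (G ⧸ K)} (hN : N.Normal) (hNp : IsPGroup p N)
    (S : Sylow p G) :
    ((S : Subgroup G) ⊓ N.comap (QuotientGroup.mk' K)).map (QuotientGroup.mk' K) = N := by
  apply le_antisymm
  · rw [map_le_iff_le_comap]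
    exact inf_le_right
  · intro y hy
    obtain ⟨g, rfl⟩ := QuotientGroup.mk'_surjective K y
    obtain ⟨s, hs, c, hc, rfl⟩ := SylowFixed.exists_mul_of_mk_mem K N hNp S hy
    have h1 : (QuotientGroup.mk' K) (s * c) = (QuotientGroup.mk' K) s := by
      rw [map_mul]
      have : (QuotientGroup.mk' K) c = 1 := (QuotientGroup.eq_one_iff c).2 hc
      rw [this, mul_one]
    rw [h1] at hy ⊢
    exact mem_map_of_mem _ ⟨hs, hy⟩

/-- With the notation of `map_inf_comap`: `K (S ∩ π⁻¹ N) = π⁻¹ N`. -/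
theorem sup_inf_comap {G : Type*} [Group G] [Finite G] {p : ℕ} [Fact p.Prime]
    (K : Subgroup G) [K.Normal] {N : Subgroup (G ⧸ K)} (hN : N.Normal) (hNp : IsPGroup p N)
    (S : Sylow p G) :
    K ⊔ ((S : Subgroup G) ⊓ N.comap (QuotientGroup.mk' K)) = N.comap (QuotientGroup.mk' K) := by
  have h := congrArg (Subgroup.comap (QuotientGroup.mk' K)) (map_inf_comap K hN hNp S)
  rw [comap_map_eq, QuotientGroup.ker_mk', sup_comm] at h
  exact h

theorem inf_eq_bot {G : Type*} [Group G] [Finite G] {p : ℕ} [Fact p.Prime]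
    {K Q : Subgroup G} (hK : (Nat.card K).Coprime p) (hQ : IsPGroup p Q) : K ⊓ Q = ⊥ := by
  obtain ⟨n, hn⟩ := IsPGroup.iff_card.mp hQ
  refine (disjoint_of_coprime_natCard ?_).eq_bot
  rw [hn]
  exact Nat.Coprime.pow_right _ hK

/-- If `G` is `p`-constrained then `G/O_{p'}(G)` satisfies `C(O_p) ≤ O_p`. -/
theorem centralizer_pCore_quotient_le {G : Type*} [Group G] [Finite G] {p : ℕ} [Fact p.Prime]
    (hc : IsPConstrained p G) :
    Subgroup.centralizer (pCore p (G ⧸ pPrimeCore p G) : Set (G ⧸ pPrimeCore p G)) ≤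
      pCore p (G ⧸ pPrimeCore p G) := by
  obtain ⟨P0⟩ := (inferInstance : Nonempty (Sylow p ↥(pPrimePCore p G)))
  obtain ⟨S, hS⟩ := Sylow.exists_comap_subtype_eq P0
  have hQ : (P0 : Subgroup ↥(pPrimePCore p G)).map (pPrimePCore p G).subtype =
      (S : Subgroup G) ⊓ pPrimePCore p G := by
    rw [← hS]
    exact subgroupOf_map_subtype _ _
  have hcP := hc P0
  rw [hQ] at hcP
  have hn := Cfsg.pCore_normal p (G ⧸ pPrimeCore p G)
  have hp := pCore_isPGroup (G := G ⧸ pPrimeCore p G) p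
  have hsup := sup_inf_comap (pPrimeCore p G) hn hp S
  have hmap := map_inf_comap (pPrimeCore p G) hn hp S
  change _ = pPrimePCore p G at hsup
  change Subgroup.map _ ((S : Subgroup G) ⊓ pPrimePCore p G) = _ at hmap
  change pPrimeCore p G ⊔ ((S : Subgroup G) ⊓ pPrimePCore p G) = _ at hsup
  set Q : Subgroup G := (S : Subgroup G) ⊓ pPrimePCore p G with hQdef
  have hQp : IsPGroup p Q := S.isPGroup'.to_le inf_le_left
  have htop := sup_normalizer_eq_top (Cfsg.pPrimeCore_normal p G) (pPrimeCore_coprime p) hQp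
    (by rw [hsup]; exact hn.comap _)
  intro y hy
  obtain ⟨g, rfl⟩ := QuotientGroup.mk'_surjective _ y
  have hg : g ∈ pPrimeCore p G ⊔ Subgroup.normalizer (Q : Set G) := by rw [htop]; exact mem_top g
  obtain ⟨c, hcK, n, hnN, rfl⟩ := mem_sup_of_normal_left.1 hg
  have h1 : (QuotientGroup.mk' (pPrimeCore p G)) (c * n) =
      (QuotientGroup.mk' (pPrimeCore p G)) n := by
    rw [map_mul]
    have : (QuotientGroup.mk' (pPrimeCore p G)) c = 1 := (QuotientGroup.eq_one_iff c).2 hcK
    rw [this, one_mul]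
  rw [h1] at hy ⊢
  have hncent : n ∈ Subgroup.centralizer (Q : Set G) := by
    rw [mem_centralizer_iff]
    intro q hq
    have h2 : ⁅q, n⁆ ∈ Q := by
      rw [commutatorElement_def, mul_assoc, mul_assoc]
      refine mul_mem hq ?_
      rw [← mul_assoc]
      exact (mem_normalizer_iff.1 hnN _).1 (inv_mem hq)
    have h3 : ⁅q, n⁆ ∈ pPrimeCore p G := by
      rw [← QuotientGroup.eq_one_iff]
      have hqm : (QuotientGroup.mk' (pPrimeCore p G)) q ∈ pCore p (G ⧸ pPrimeCore p G) := by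
        rw [← hmap]; exact mem_map_of_mem _ hq
      have h4 := mem_centralizer_iff.1 hy _ hqm
      have h5 : (QuotientGroup.mk' (pPrimeCore p G)) ⁅q, n⁆ = 1 := by
        rw [map_commutatorElement, commutatorElement_eq_one_iff_mul_comm]
        exact h4
      exact h5
    have h6 : ⁅q, n⁆ ∈ pPrimeCore p G ⊓ Q := ⟨h3, h2⟩
    rw [inf_eq_bot (pPrimeCore_coprime p) hQp, mem_bot, commutatorElement_eq_one_iff_mul_comm] at h6
    exact h6
  exact hcP hncent

/-- If `G` is `p`-stable (`IsPStable`) then `G/O_{p'}(G)` acts `p`-stably on each of its normal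
`p`-subgroups. -/
theorem isPStableOn_quotient {G : Type*} [Group G] [Finite G] {p : ℕ} [Fact p.Prime]
    (hs : IsPStable p G) (N : Subgroup (G ⧸ pPrimeCore p G)) [hN : N.Normal] (hNp : IsPGroup p N) :
    IsPStableOn p N := by
  intro y hy
  obtain ⟨g, rfl⟩ := QuotientGroup.mk'_surjective _ y
  set π : G →* G ⧸ pPrimeCore p G := QuotientGroup.mk' (pPrimeCore p G) with hπ
  obtain ⟨k, hk⟩ := exists_pow_mem_centralizer hN hNp hy
  set ρ : (G ⧸ pPrimeCore p G) →* (G ⧸ pPrimeCore p G) ⧸ Subgroup.centralizer (N : Set _) :=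
    QuotientGroup.mk' (Subgroup.centralizer (N : Set (G ⧸ pPrimeCore p G))) with hρ
  have hk' : (ρ.comp π) g ^ p ^ k = 1 := by
    rw [← map_pow, MonoidHom.comp_apply, map_pow]
    exact (QuotientGroup.eq_one_iff _).2 hk
  obtain ⟨n, hn, m, hm⟩ := exists_pow_pElement (ρ.comp π) g hk'
  change ρ (π g) ∈ _
  have hn' : ρ (π g) = ρ (π (g ^ n)) := hn.symm
  rw [hn']
  set a : G := g ^ n with ha
  -- `A = ⟨a⟩` is a `p`-group
  have hA : IsPGroup p (zpowers a) := by
    have h1 : orderOf a ∣ p ^ m := orderOf_dvd_of_pow_eq_one hm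
    obtain ⟨j, -, hj⟩ := (Nat.dvd_prime_pow Fact.out).1 h1
    exact IsPGroup.of_card (n := j) (by rw [Nat.card_zpowers, hj])
  obtain ⟨S, hAS⟩ := hA.exists_le_sylow
  set Q : Subgroup G := (S : Subgroup G) ⊓ N.comap π with hQdef
  have hQp : IsPGroup p Q := S.isPGroup'.to_le inf_le_left
  have hmap : Q.map π = N := map_inf_comap (pPrimeCore p G) hN hNp S
  have hsup : pPrimeCore p G ⊔ Q = N.comap π := sup_inf_comap (pPrimeCore p G) hN hNp S
  have hnormal : (pPrimeCore p G ⊔ Q).Normal := by rw [hsup]; exact hN.comap π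
  have hAQ : ∀ b ∈ zpowers a, ∀ x ∈ Q, b * x * b⁻¹ ∈ Q := by
    intro b hb x hx
    refine ⟨(S : Subgroup G).mul_mem ((S : Subgroup G).mul_mem (hAS hb) hx.1)
      ((S : Subgroup G).inv_mem (hAS hb)), ?_⟩
    exact (hN.comap π).conj_mem x hx.2 b
  have hQle : Q ≤ pPrimePCore p G := by
    refine inf_le_right.trans ?_
    exact Subgroup.comap_mono (le_pCore hN hNp)
  have hcomm : ⁅⁅Q, zpowers a⁆, zpowers a⁆ = ⊥ := by
    have hle1 : ⁅Q, zpowers a⁆ ≤ Q := by
      rw [commutator_le]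
      intro q hq b hb
      rw [commutatorElement_def, mul_assoc, mul_assoc]
      refine mul_mem hq ?_
      rw [← mul_assoc]
      exact hAQ b hb _ (inv_mem hq)
    have hle2 : ⁅⁅Q, zpowers a⁆, zpowers a⁆ ≤ Q := by
      rw [commutator_le]
      intro q hq b hb
      rw [commutatorElement_def, mul_assoc, mul_assoc]
      refine mul_mem (hle1 hq) ?_
      rw [← mul_assoc]
      exact hAQ b hb _ (inv_mem (hle1 hq))
    have hle3 : ⁅⁅Q, zpowers a⁆, zpowers a⁆ ≤ pPrimeCore p G := by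
      have h1 : (⁅⁅Q, zpowers a⁆, zpowers a⁆).map π = ⊥ := by
        rw [map_commutator, map_commutator, hmap, MonoidHom.map_zpowers]
        rw [eq_bot_iff]
        refine le_trans ?_ hy.le
        have h2 : zpowers (π a) ≤ zpowers (π g) := by
          rw [zpowers_le, ha, map_pow]
          exact pow_mem (mem_zpowers _) n
        exact commutator_mono (commutator_mono le_rfl h2) h2
      rw [Subgroup.map_eq_bot_iff, hπ, QuotientGroup.ker_mk'] at h1
      exact h1
    rw [eq_bot_iff, ← inf_eq_bot (pPrimeCore_coprime (G := G) p) hQp]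
    exact le_inf hle3 hle2
  have hmain := hs.2.2 (zpowers a) Q hA hQp hAQ hQle hnormal hcomm
  have htop := sup_normalizer_eq_top (Cfsg.pPrimeCore_normal p G) (pPrimeCore_coprime p) hQp hnormal
  have haN : a ∈ Subgroup.normalizer (Q : Set G) := by
    rw [mem_normalizer_iff]
    intro h
    constructor
    · intro hh; exact hAQ a (mem_zpowers a) h hh
    · intro hh
      have := hAQ a⁻¹ (inv_mem (mem_zpowers a)) _ hh
      simpa [mul_assoc] using this
  -- the homomorphism `N_G(Q)/C_G(Q) → (G/K)/C(N)`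
  have hker : (Subgroup.centralizer (Q : Set G)).subgroupOf (Subgroup.normalizer (Q : Set G)) ≤
      (Subgroup.centralizer (N : Set (G ⧸ pPrimeCore p G))).comap
        (π.comp (Subgroup.normalizer (Q : Set G)).subtype) := by
    intro z hz
    rw [mem_subgroupOf] at hz
    rw [mem_comap, mem_centralizer_iff]
    intro w hw
    rw [SetLike.mem_coe, ← hmap] at hw
    obtain ⟨q, hq, rfl⟩ := hw
    have := mem_centralizer_iff.1 hz q hq
    rw [MonoidHom.comp_apply, ← map_mul]
    change _ = π z * π q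
    rw [← map_mul]
    exact congrArg π this
  let φ := QuotientGroup.map _ _ (π.comp (Subgroup.normalizer (Q : Set G)).subtype) hker
  have hφ : Function.Surjective φ := by
    intro w
    obtain ⟨v, rfl⟩ := QuotientGroup.mk'_surjective _ w
    obtain ⟨u, rfl⟩ := QuotientGroup.mk'_surjective _ v
    have hu : u ∈ pPrimeCore p G ⊔ Subgroup.normalizer (Q : Set G) := by
      rw [htop]; exact mem_top u
    obtain ⟨c, hcK, n', hnN, rfl⟩ := mem_sup_of_normal_left.1 hu
    refine ⟨QuotientGroup.mk ⟨n', hnN⟩, ?_⟩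
    have h1 : (QuotientGroup.mk' (pPrimeCore p G)) (c * n') =
        (QuotientGroup.mk' (pPrimeCore p G)) n' := by
      rw [map_mul]
      have : (QuotientGroup.mk' (pPrimeCore p G)) c = 1 := (QuotientGroup.eq_one_iff c).2 hcK
      rw [this, one_mul]
    rw [h1]
    rfl
  have hfin := map_pCore_le hφ p
  apply hfin
  refine ⟨QuotientGroup.mk ⟨a, haN⟩, ?_, rfl⟩
  apply hmain
  exact mem_map_of_mem _ (by rw [mem_subgroupOf]; exact mem_zpowers a)

end Cfsg.Agent.PLocal.ZJReduction
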