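import Mathlib
import Cfsg.Prelude.Def_Transfer

/-!
# `p`-groups (`p` odd) with a cyclic subgroup of index `p`

Main results, for an odd prime `p`, a finite `p`-group `R` and a cyclic subgroup `C` of index `p`:
* `comm_pow_mem_center`: every commutator is central and has `p`-th power `1`;
* `mul_pow_prime`: `x ↦ x ^ p` is multiplicative;
* `exists_pow_eq_one_not_mem`: if `R` is not cyclic, some `b ∉ C` has `b ^ p = 1`;
* `elementary_and_card`: if `R` is not cyclic, then the elements with `x ^ p = 1` form an elementary abelian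
  subgroup of order `p ^ 2`.
-/

set_option autoImplicit false

open scoped commutatorElement

namespace Cfsg.Agent.PLocal.CyclicIndexP

section general

variable {G : Type*} [Group G]

theorem pow_mul_of_commute {x y c : G} (h : y * x = x * y * c) (hy : Commute c y)
    (n : ℕ) : y ^ n * x = x * y ^ n * c ^ n := by
  induction n with
  | zero => simp
  | succ n ih =>
    have h1 : Commute (c ^ n) y := hy.pow_left n
    calc y ^ (n + 1) * x = y ^ n * (y * x) := by rw [pow_succ]; group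
      _ = (y ^ n * x) * y * c := by rw [h]; group
      _ = x * y ^ n * (c ^ n * y) * c := by rw [ih]; group
      _ = x * y ^ n * (y * c ^ n) * c := by rw [h1.eq]
      _ = x * y ^ (n + 1) * c ^ (n + 1) := by rw [pow_succ, pow_succ]; group

/-- The power formula for two elements whose commutator commutes with both. -/
theorem mul_pow_of_commute {x y c : G} (h : y * x = x * y * c) (hx : Commute c x) (hy : Commute c y)
    (n : ℕ) : (x * y) ^ n = x ^ n * y ^ n * c ^ (n.choose 2) := by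
  induction n with
  | zero => simp
  | succ n ih =>
    have h1 : Commute (c ^ (n.choose 2)) x := hx.pow_left _
    have h2 : Commute (c ^ (n.choose 2)) y := hy.pow_left _
    have h3 : Commute (c ^ n) y := hy.pow_left _
    have h4 : (n + 1).choose 2 = n + n.choose 2 := by
      rw [Nat.choose_succ_succ' n 1, Nat.choose_one_right]
    calc (x * y) ^ (n + 1) = (x * y) ^ n * (x * y) := pow_succ _ _
      _ = x ^ n * y ^ n * (c ^ (n.choose 2) * x) * y := by rw [ih]; group
      _ = x ^ n * (y ^ n * x) * (c ^ (n.choose 2) * y) := by rw [h1.eq]; group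
      _ = x ^ n * (x * y ^ n * c ^ n) * (y * c ^ (n.choose 2)) := by
        rw [h2.eq, pow_mul_of_commute h hy]
      _ = x ^ n * x * y ^ n * (c ^ n * y) * c ^ (n.choose 2) := by group
      _ = x ^ n * x * y ^ n * (y * c ^ n) * c ^ (n.choose 2) := by rw [h3.eq]
      _ = x ^ (n + 1) * y ^ (n + 1) * c ^ ((n + 1).choose 2) := by
        rw [h4, pow_succ, pow_succ, pow_add]; group

/-- In a group in which the commutators of `x` and `y` are central with `p`-th power `1` (`p` odd), the `p`-th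
power is multiplicative on `x`, `y`. -/
theorem mul_pow_prime_of_comm {p : ℕ} [Fact p.Prime] (hp : p ≠ 2) {x y : G}
    (hc : ⁅y⁻¹, x⁻¹⁆ ∈ Subgroup.center G) (hcp : ⁅y⁻¹, x⁻¹⁆ ^ p = 1) :
    (x * y) ^ p = x ^ p * y ^ p := by
  have hpp : p.Prime := Fact.out
  have h : y * x = x * y * ⁅y⁻¹, x⁻¹⁆ := by
    rw [commutatorElement_def]; group
  have hx : Commute ⁅y⁻¹, x⁻¹⁆ x := (Subgroup.mem_center_iff.mp hc x).symm
  have hy : Commute ⁅y⁻¹, x⁻¹⁆ y := (Subgroup.mem_center_iff.mp hc y).symm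
  rw [mul_pow_of_commute h hx hy]
  have hdvd : p ∣ p.choose 2 := by
    apply hpp.dvd_choose_self (by norm_num)
    have := hpp.two_le
    omega
  obtain ⟨k, hk⟩ := hdvd
  rw [hk, pow_mul, hcp, one_pow, mul_one]

end general

/-- Lifting the exponent: `p` odd, `m ^ p ≡ 1 mod p ^ n` gives `p * (m - 1) ≡ 0 mod p ^ n`, and `m ≡ 1 mod p` if
`n ≥ 1`. -/
theorem dvd_of_pow_sub_one {p : ℕ} [Fact p.Prime] (hp : p ≠ 2) {n : ℕ} {m : ℤ}
    (h : (p : ℤ) ^ n ∣ m ^ p - 1) : (p : ℤ) ^ n ∣ (m - 1) * p ∧ (n ≠ 0 → (p : ℤ) ∣ m - 1) := by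
  have hpp : p.Prime := Fact.out
  rcases Nat.eq_zero_or_pos n with rfl | hn
  · simp
  have h1 : (p : ℤ) ∣ m ^ p - 1 := dvd_trans (dvd_pow_self _ hn.ne') h
  have h2 : (p : ℤ) ∣ m - 1 := by
    have h3 : ((m ^ p - 1 : ℤ) : ZMod p) = 0 := (ZMod.intCast_zmod_eq_zero_iff_dvd _ _).mpr h1
    have h4 : ((m - 1 : ℤ) : ZMod p) = 0 := by
      push_cast at h3 ⊢
      rwa [ZMod.pow_card] at h3
    exact (ZMod.intCast_zmod_eq_zero_iff_dvd _ _).mp h4
  refine ⟨?_, fun _ => h2⟩
  have h5 : ¬ (p : ℤ) ∣ m := by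
    intro h6
    have : (p : ℤ) ∣ 1 := by
      have := dvd_sub h6 h2
      simpa using this
    have h7 := Int.natCast_dvd_natCast.mp (by simpa using this : (p : ℤ) ∣ ((1 : ℕ) : ℤ))
    exact hpp.one_lt.ne' (Nat.dvd_one.mp h7)
  have hodd : Odd p := hpp.odd_of_ne_two hp
  have h8 := Int.emultiplicity_pow_sub_pow hpp hodd (x := m) (y := 1) (by simpa using h2) h5 p
  rw [one_pow] at h8
  rw [pow_dvd_iff_le_emultiplicity] at h ⊢
  rw [h8] at h
  rw [emultiplicity_mul (Nat.prime_iff_prime_int.mp hpp)]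
  have h9 : emultiplicity (p : ℤ) (p : ℤ) = emultiplicity p p := by
    exact_mod_cast Int.natCast_emultiplicity p p
  rw [h9]
  exact h

section auto

variable {G : Type*} [Group G] {p : ℕ} [Fact p.Prime]

theorem conj_pow_eq {a g : G} {m : ℤ} (hm : g * a * g⁻¹ = a ^ m) (k : ℕ) :
    g ^ k * a * (g ^ k)⁻¹ = a ^ (m ^ k) := by
  induction k with
  | zero => simp
  | succ k ih =>
    calc g ^ (k + 1) * a * (g ^ (k + 1))⁻¹ = g * (g ^ k * a * (g ^ k)⁻¹) * g⁻¹ := by
          rw [pow_succ']; group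
      _ = g * a ^ (m ^ k) * g⁻¹ := by rw [ih]
      _ = (g * a * g⁻¹) ^ (m ^ k) := by rw [conj_zpow]
      _ = a ^ (m ^ (k + 1)) := by rw [hm, ← zpow_mul, pow_succ']

/-- If `g` normalizes the cyclic `p`-group `⟨a⟩` (`p` odd) and `g ^ p` centralizes it, then `⁅g, a ^ k⁆ ^ p = 1`
and `g` commutes with the elements of `⟨a⟩` of order dividing `p`. -/
theorem comm_gen (hp : p ≠ 2) {a g : G} {n : ℕ} (ha : orderOf a = p ^ n) {m : ℤ}
    (hm : g * a * g⁻¹ = a ^ m) (hgp : Commute (g ^ p) a) (k : ℤ) :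
    ⁅g, a ^ k⁆ ^ p = 1 ∧ ((a ^ k) ^ p = 1 → Commute g (a ^ k)) := by
  have hpp : p.Prime := Fact.out
  have h1 : a ^ (m ^ p) = a := by
    rw [← conj_pow_eq hm, hgp.eq, mul_assoc, mul_inv_cancel, mul_one]
  have h2 : (p : ℤ) ^ n ∣ m ^ p - 1 := by
    have h3 : a ^ (m ^ p - 1) = 1 := by rw [zpow_sub, h1, zpow_one, mul_inv_cancel]
    have h4 := orderOf_dvd_iff_zpow_eq_one.mpr h3
    rw [ha] at h4
    exact_mod_cast h4
  obtain ⟨h5, h6⟩ := dvd_of_pow_sub_one hp h2
  have h7 : g * a ^ k * g⁻¹ = a ^ (m * k) := by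
    rw [← conj_zpow, hm, ← zpow_mul]
  constructor
  · rw [commutatorElement_def, h7, ← zpow_neg, ← zpow_add, ← zpow_natCast, ← zpow_mul]
    apply orderOf_dvd_iff_zpow_eq_one.mp
    rw [ha]
    push_cast
    have : (m * k + -k) * (p : ℤ) = ((m - 1) * p) * k := by ring
    rw [this]
    exact dvd_mul_of_dvd_left h5 _
  · intro h8
    rcases Nat.eq_zero_or_pos n with rfl | hn
    · rw [pow_zero, orderOf_eq_one_iff] at ha
      subst ha
      simp
    · have h9 : (p : ℤ) ∣ m - 1 := h6 hn.ne'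
      rw [← zpow_natCast, ← zpow_mul] at h8
      have h10 := orderOf_dvd_iff_zpow_eq_one.mpr h8
      rw [ha] at h10
      obtain ⟨n', rfl⟩ : ∃ n', n = n' + 1 := ⟨n - 1, by omega⟩
      push_cast at h10
      rw [pow_succ] at h10
      have hp0 : (p : ℤ) ≠ 0 := by exact_mod_cast hpp.ne_zero
      have h11 : (p : ℤ) ^ n' ∣ k := Int.dvd_of_mul_dvd_mul_right hp0 h10
      have h12 : a ^ (m * k - k) = 1 := by
        apply orderOf_dvd_iff_zpow_eq_one.mp
        rw [ha]
        push_cast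
        rw [pow_succ]
        have : m * k - k = k * (m - 1) := by ring
        rw [this]
        exact mul_dvd_mul h11 h9
      have h13 : g * a ^ k * g⁻¹ = a ^ k := by
        rw [h7]
        rw [zpow_sub, mul_inv_eq_one] at h12
        exact h12
      exact mul_inv_eq_iff_eq_mul.mp h13

end auto

section cyclicIndex

variable {R : Type*} [Group R] [Finite R] {p : ℕ} [Fact p.Prime]

theorem normal_of_index (hR : IsPGroup p R) {C : Subgroup R} (hCi : C.index = p) : C.Normal := by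
  have hpp : p.Prime := Fact.out
  apply Subgroup.normal_of_index_eq_minFac_card
  rw [hCi]
  obtain ⟨n, hn⟩ := IsPGroup.iff_card.mp hR
  have hn0 : n ≠ 0 := by
    rintro rfl
    have h1 : C.index ∣ Nat.card R := C.index_dvd_card
    rw [hCi, hn, pow_zero] at h1
    exact hpp.one_lt.ne' (Nat.dvd_one.mp h1)
  rw [hn, hpp.pow_minFac hn0]

omit [Finite R] in
theorem eq_top_of_lt {C K : Subgroup R} (hCi : C.index = p) (hCK : C ≤ K) {g : R} (hgK : g ∈ K)
    (hgC : g ∉ C) : K = ⊤ := by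
  have hpp : p.Prime := Fact.out
  have h1 := Subgroup.relIndex_mul_index hCK
  rw [hCi] at h1
  rcases (Nat.dvd_prime hpp).mp (Dvd.intro_left _ h1) with h2 | h2
  · exact Subgroup.index_eq_one.mp h2
  · exfalso
    rw [h2] at h1
    have h3 : C.relIndex K = 1 := by
      have := hpp.pos
      exact Nat.eq_of_mul_eq_mul_right this (by rw [h1, one_mul])
    exact hgC (Subgroup.relIndex_eq_one.mp h3 hgK)

theorem pow_mem (hR : IsPGroup p R) {C : Subgroup R} (hCi : C.index = p) (g : R) : g ^ p ∈ C := by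
  have := normal_of_index hR hCi
  rw [← hCi]
  exact C.pow_index_mem g

/-- The basic facts about commutators with elements of a cyclic subgroup of index `p`. -/
theorem comm_with_cyclic (hp : p ≠ 2) (hR : IsPGroup p R) {C : Subgroup R} (hC : IsCyclic C)
    (hCi : C.index = p) (g : R) {c : R} (hc : c ∈ C) :
    ⁅g, c⁆ ∈ C ∧ ⁅g, c⁆ ^ p = 1 ∧ (c ^ p = 1 → Commute g c) := by
  have := normal_of_index hR hCi
  obtain ⟨⟨a, haC⟩, ha⟩ := hC.exists_generator
  have hgen : ∀ x ∈ C, ∃ k : ℤ, a ^ k = x := by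
    intro x hx
    obtain ⟨k, hk⟩ := Subgroup.mem_zpowers_iff.mp (ha ⟨x, hx⟩)
    exact ⟨k, by simpa using congrArg Subtype.val hk⟩
  obtain ⟨n, hn⟩ := (IsPGroup.iff_orderOf.mp hR) a
  obtain ⟨m, hm⟩ := hgen (g * a * g⁻¹) (Subgroup.Normal.conj_mem inferInstance a haC g)
  obtain ⟨k, rfl⟩ := hgen c hc
  have hgp : Commute (g ^ p) a := by
    obtain ⟨l, hl⟩ := hgen _ (pow_mem hR hCi g)
    rw [← hl]
    exact (Commute.refl a).zpow_left l
  obtain ⟨h1, h2⟩ := comm_gen hp hn hm.symm hgp k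
  refine ⟨?_, h1, h2⟩
  rw [commutatorElement_def]
  exact C.mul_mem (Subgroup.Normal.conj_mem inferInstance _ hc g) (C.inv_mem hc)

/-- The subgroup of the elements of order dividing `p` of a cyclic subgroup `C` of index `p`. -/
def omegaC (hR : IsPGroup p R) (hp : p ≠ 2) {C : Subgroup R} (hC : IsCyclic C) (hCi : C.index = p) :
    Subgroup R where
  carrier := {x | x ∈ C ∧ x ^ p = 1}
  mul_mem' := by
    rintro x y ⟨hx, hx'⟩ ⟨hy, hy'⟩
    refine ⟨C.mul_mem hx hy, ?_⟩
    have := (comm_with_cyclic hp hR hC hCi x hy).2.2 hy'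
    rw [this.mul_pow, hx', hy', one_mul]
  one_mem' := ⟨C.one_mem, one_pow _⟩
  inv_mem' := by
    rintro x ⟨hx, hx'⟩
    exact ⟨C.inv_mem hx, by rw [inv_pow, hx', inv_one]⟩

theorem omegaC_le_center (hR : IsPGroup p R) (hp : p ≠ 2) {C : Subgroup R} (hC : IsCyclic C)
    (hCi : C.index = p) : omegaC hR hp hC hCi ≤ Subgroup.center R := by
  rintro x ⟨hx, hx'⟩
  rw [Subgroup.mem_center_iff]
  intro g
  exact ((comm_with_cyclic hp hR hC hCi g hx).2.2 hx').eq

theorem comm_mem (hp : p ≠ 2) (hR : IsPGroup p R) {C : Subgroup R} (hC : IsCyclic C)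
    (hCi : C.index = p) (x y : R) : ⁅x, y⁆ ∈ C ∧ ⁅x, y⁆ ^ p = 1 := by
  have := normal_of_index hR hCi
  set Z := omegaC hR hp hC hCi with hZ
  have hZn : Z.Normal := by
    refine ⟨fun z hz g => ?_⟩
    have h1 := Subgroup.mem_center_iff.mp (omegaC_le_center hR hp hC hCi hz) g
    rw [h1, mul_assoc, mul_inv_cancel, mul_one]
    exact hz
  have hZC : Z ≤ C := fun z hz => hz.1
  have hcyc : IsCyclic (R ⧸ C) := by
    apply isCyclic_of_prime_card (p := p)
    rw [← hCi]; rfl
  let f : R ⧸ Z →* R ⧸ C := QuotientGroup.map Z C (MonoidHom.id R) (by simpa using hZC)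
  have hf : f.ker ≤ Subgroup.center (R ⧸ Z) := by
    intro q hq
    obtain ⟨c, rfl⟩ := QuotientGroup.mk_surjective q
    have hc : c ∈ C := by
      have h1 : ((c : R) : R ⧸ C) = 1 := by simpa [f, MonoidHom.mem_ker] using hq
      exact (QuotientGroup.eq_one_iff c).mp h1
    rw [Subgroup.mem_center_iff]
    intro q'
    obtain ⟨g, rfl⟩ := QuotientGroup.mk_surjective q'
    have h2 := comm_with_cyclic hp hR hC hCi g hc
    have h3 : ((⁅g, c⁆ : R) : R ⧸ Z) = 1 := (QuotientGroup.eq_one_iff _).mpr ⟨h2.1, h2.2.1⟩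
    have h4 : ⁅(g : R ⧸ Z), (c : R ⧸ Z)⁆ = 1 := by
      rw [← h3]; rfl
    exact commutatorElement_eq_one_iff_mul_comm.mp h4
  have h5 := (MonoidHom.isMulCommutative_of_isCyclic_of_ker_le_center f hf).is_comm.comm
    (x : R ⧸ Z) (y : R ⧸ Z)
  have h6 : ⁅(x : R ⧸ Z), (y : R ⧸ Z)⁆ = 1 := commutatorElement_eq_one_iff_mul_comm.mpr h5
  have h7 : ((⁅x, y⁆ : R) : R ⧸ Z) = 1 := by rw [← h6]; rfl
  exact (QuotientGroup.eq_one_iff _).mp h7

/-- In a `p`-group (`p` odd) with a cyclic subgroup of index `p`, commutators are central and their `p`-th power is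
`1`. -/
theorem comm_pow_mem_center (hp : p ≠ 2) (hR : IsPGroup p R) {C : Subgroup R} (hC : IsCyclic C)
    (hCi : C.index = p) (x y : R) : ⁅x, y⁆ ∈ Subgroup.center R ∧ ⁅x, y⁆ ^ p = 1 := by
  have h := comm_mem hp hR hC hCi x y
  exact ⟨omegaC_le_center hR hp hC hCi h, h.2⟩

/-- In a `p`-group (`p` odd) with a cyclic subgroup of index `p`, the map `x ↦ x ^ p` is multiplicative. -/
theorem mul_pow_prime (hp : p ≠ 2) (hR : IsPGroup p R) {C : Subgroup R} (hC : IsCyclic C)
    (hCi : C.index = p) (x y : R) : (x * y) ^ p = x ^ p * y ^ p :=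
  mul_pow_prime_of_comm hp (comm_pow_mem_center hp hR hC hCi _ _).1
    (comm_pow_mem_center hp hR hC hCi _ _).2

/-- In a non-cyclic `p`-group with a cyclic subgroup `C` of index `p` (`p` odd) some element outside `C` has
`p`-th power `1`. -/
theorem exists_pow_eq_one_not_mem (hp : p ≠ 2) (hR : IsPGroup p R) {C : Subgroup R} (hC : IsCyclic C)
    (hCi : C.index = p) (hnc : ¬ IsCyclic R) : ∃ b : R, b ∉ C ∧ b ^ p = 1 := by
  have hpp : p.Prime := Fact.out
  obtain ⟨⟨a, haC⟩, ha⟩ := hC.exists_generator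
  have hgen : ∀ x ∈ C, ∃ k : ℤ, a ^ k = x := by
    intro x hx
    obtain ⟨k, hk⟩ := Subgroup.mem_zpowers_iff.mp (ha ⟨x, hx⟩)
    exact ⟨k, by simpa using congrArg Subtype.val hk⟩
  obtain ⟨g, hg⟩ : ∃ g : R, g ∉ C := by
    by_contra h
    push Not at h
    have : C = ⊤ := by
      rw [eq_top_iff]; intro x _; exact h x
    rw [this, Subgroup.index_top] at hCi
    exact hpp.one_lt.ne hCi
  obtain ⟨k, hk⟩ := hgen _ (pow_mem hR hCi g)
  by_cases hpk : (p : ℤ) ∣ k
  · obtain ⟨l, rfl⟩ := hpk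
    refine ⟨g * a ^ (-l), ?_, ?_⟩
    · intro h
      apply hg
      have := C.mul_mem h (C.zpow_mem haC l)
      simpa [mul_assoc] using this
    · rw [mul_pow_prime hp hR hC hCi, ← hk, ← zpow_natCast (a ^ (-l)) p, ← zpow_mul, ← zpow_add]
      have : (p : ℤ) * l + -l * p = 0 := by ring
      rw [this, zpow_zero]
  · exfalso
    apply hnc
    obtain ⟨n, hn⟩ := (IsPGroup.iff_orderOf.mp hR) a
    have hcop : IsCoprime k ((p ^ n : ℕ) : ℤ) := by
      push_cast
      apply IsCoprime.pow_right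
      exact ((Nat.prime_iff_prime_int.mp hpp).coprime_iff_not_dvd.mpr hpk).symm
    obtain ⟨u, v, huv⟩ := hcop
    have h1 : (g ^ p) ^ u = a := by
      rw [← hk, ← zpow_mul]
      have h2 : k * u = 1 - v * ((p ^ n : ℕ) : ℤ) := by linarith
      rw [h2, zpow_sub, zpow_one, mul_comm v, zpow_mul, zpow_natCast, ← hn, pow_orderOf_eq_one]
      simp
    have h3 : Subgroup.zpowers g = ⊤ := by
      apply eq_top_of_lt hCi _ (Subgroup.mem_zpowers g) hg
      intro x hx
      obtain ⟨j, rfl⟩ := hgen x hx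
      rw [← h1]
      exact Subgroup.zpow_mem _ (Subgroup.zpow_mem _ (Subgroup.pow_mem _ (Subgroup.mem_zpowers g) _) _) _
    refine ⟨g, fun x => ?_⟩
    have h4 : x ∈ Subgroup.zpowers g := by rw [h3]; exact Subgroup.mem_top x
    exact Subgroup.mem_zpowers_iff.mp h4

/-- The elements with `x ^ p = 1` of a `p`-group with a cyclic subgroup of index `p` (`p` odd), as a subgroup. -/
def omega (hp : p ≠ 2) (hR : IsPGroup p R) {C : Subgroup R} (hC : IsCyclic C) (hCi : C.index = p) :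
    Subgroup R where
  carrier := {x | x ^ p = 1}
  mul_mem' := by
    intro x y hx hy
    have hx' : x ^ p = 1 := hx
    have hy' : y ^ p = 1 := hy
    change (x * y) ^ p = 1
    rw [mul_pow_prime hp hR hC hCi, hx', hy', one_mul]
  one_mem' := one_pow _
  inv_mem' := by
    intro x hx
    have hx' : x ^ p = 1 := hx
    change (x⁻¹) ^ p = 1
    rw [inv_pow, hx', inv_one]

theorem mem_omega (hp : p ≠ 2) (hR : IsPGroup p R) {C : Subgroup R} (hC : IsCyclic C)
    (hCi : C.index = p) {x : R} : x ∈ omega hp hR hC hCi ↔ x ^ p = 1 := Iff.rfl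

theorem closure_eq_omega (hp : p ≠ 2) (hR : IsPGroup p R) {C : Subgroup R} (hC : IsCyclic C)
    (hCi : C.index = p) : Subgroup.closure {x : R | x ^ p = 1} = omega hp hR hC hCi :=
  Subgroup.closure_eq (omega hp hR hC hCi)

/-- A cyclic `p`-group that is not trivial has exactly `p` elements of order dividing `p`. -/
theorem card_pow_eq_one_of_isCyclic {K : Type*} [Group K] [Finite K] [IsCyclic K]
    (hK : IsPGroup p K) (h1 : Nat.card K ≠ 1) : Nat.card {x : K | x ^ p = 1} = p := by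
  have hpp : p.Prime := Fact.out
  let _ : CommGroup K := IsCyclic.commGroup
  have h2 := IsCyclic.card_powMonoidHom_ker (G := K) p
  have h3 : p ∣ Nat.card K := (hK.card_eq_or_dvd).resolve_left h1
  rw [Nat.gcd_eq_right h3] at h2
  exact h2

theorem card_omega (hp : p ≠ 2) (hR : IsPGroup p R) {C : Subgroup R} (hC : IsCyclic C)
    (hCi : C.index = p) (hnc : ¬ IsCyclic R) : Nat.card (omega hp hR hC hCi) = p ^ 2 := by
  have hpp : p.Prime := Fact.out
  have := normal_of_index hR hCi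
  set K := omega hp hR hC hCi with hK
  obtain ⟨b, hbC, hb⟩ := exists_pow_eq_one_not_mem hp hR hC hCi hnc
  have hC1 : Nat.card C ≠ 1 := by
    intro h
    have h2 := C.card_mul_index
    rw [h, hCi, one_mul] at h2
    exact hnc (isCyclic_of_prime_card h2.symm)
  have h1 : Nat.card (K ⊓ C : Subgroup R) = p := by
    have h2 := card_pow_eq_one_of_isCyclic (hR.to_subgroup C) hC1
    rw [← h2]
    refine Nat.card_congr ⟨fun x => ⟨⟨x.1, x.2.2⟩, Subtype.ext x.2.1⟩,
      fun x => ⟨x.1.1, ⟨show (x.1.1 : R) ^ p = 1 by simpa using congrArg Subtype.val x.2, x.1.2⟩⟩,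
      fun x => rfl, fun x => rfl⟩
  have h3 : K ⊔ C = ⊤ := eq_top_of_lt hCi le_sup_right (Subgroup.mem_sup_left (show b ∈ K from hb)) hbC
  have h4 : C.relIndex K = p := by
    rw [← Subgroup.relIndex_sup_right, h3, Subgroup.relIndex_top_right, hCi]
  have h5 : (K ⊓ C).relIndex K = p := by rw [Subgroup.inf_relIndex_left, h4]
  have h6 := Subgroup.relIndex_mul_relIndex ⊥ (K ⊓ C) K bot_le inf_le_left
  rw [Subgroup.relIndex_bot_left, Subgroup.relIndex_bot_left, h1, h5] at h6
  rw [← h6, sq]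

/-- For `p` odd, in a non-cyclic `p`-group with a cyclic subgroup of index `p` the elements with `x ^ p = 1`
generate (in fact form) an elementary abelian subgroup of order `p ^ 2`. -/
theorem elementary_and_card (hp : p ≠ 2) (hR : IsPGroup p R) (hnc : ¬ IsCyclic R) (C : Subgroup R)
    (hC : IsCyclic C) (hCi : C.index = p) :
    Cfsg.IsElementaryAbelian p (Subgroup.closure {x : R | x ^ p = 1}) ∧
      Nat.card (Subgroup.closure {x : R | x ^ p = 1}) = p ^ 2 := by
  rw [closure_eq_omega hp hR hC hCi]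
  have h := card_omega hp hR hC hCi hnc
  exact ⟨⟨IsPGroup.isMulCommutative_of_card_eq_prime_sq h, fun a ha => ha⟩, h⟩

end cyclicIndex

end Cfsg.Agent.PLocal.CyclicIndexP
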