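/-
Huppert: for `p` odd, a finite `p`-group `R` all of whose quotients of exponent dividing `p` have order at most
`p ^ 2` is metacyclic.
-/
import Mathlib
import Cfsg.Prelude.Def_OddOrderLocal
import Cfsg.Agent.S0015

set_option autoImplicit false

namespace Cfsg.Agent.PLocal.Huppert

open scoped commutatorElement

theorem pow_mul_comm_central {G : Type*} [Group G] {x y c : G} (hc : ∀ g, c * g = g * c)
    (h : y * x = x * y * c) (n : ℕ) : y ^ n * x = x * y ^ n * c ^ n := by
  induction n with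
  | zero => simp
  | succ n ih =>
    have hcn : c ^ n * y = y * c ^ n := (Commute.pow_left (hc y : Commute c y) n)
    calc y ^ (n + 1) * x = y ^ n * (y * x) := by rw [pow_succ, mul_assoc]
      _ = (y ^ n * x) * y * c := by rw [h]; simp only [mul_assoc]
      _ = x * y ^ n * (c ^ n * y) * c := by rw [ih]; simp only [mul_assoc]
      _ = x * y ^ (n + 1) * c ^ (n + 1) := by rw [hcn]; simp only [mul_assoc, pow_succ]

theorem mul_pow_central {G : Type*} [Group G] {x y c : G} (hc : ∀ g, c * g = g * c)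
    (h : y * x = x * y * c) (n : ℕ) : (x * y) ^ n = x ^ n * y ^ n * c ^ (n.choose 2) := by
  induction n with
  | zero => simp
  | succ n ih =>
    have hcx : ∀ m : ℕ, ∀ g, c ^ m * g = g * c ^ m := fun m g =>
      (Commute.pow_left (hc g : Commute c g) m)
    have h2 : (n + 1).choose 2 = n + n.choose 2 := by
      rw [Nat.choose_succ_succ' n 1, Nat.choose_one_right]
    calc (x * y) ^ (n + 1) = (x * y) ^ n * (x * y) := pow_succ _ _
      _ = x ^ n * y ^ n * (c ^ (n.choose 2) * (x * y)) := by rw [ih]; simp only [mul_assoc]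
      _ = x ^ n * (y ^ n * x) * y * c ^ (n.choose 2) := by rw [hcx]; simp only [mul_assoc]
      _ = x ^ n * (x * y ^ n * (c ^ n * y)) * c ^ (n.choose 2) := by
            rw [pow_mul_comm_central hc h]; simp only [mul_assoc]
      _ = x ^ (n + 1) * y ^ (n + 1) * c ^ ((n + 1).choose 2) := by
            rw [hcx, h2, pow_add c, pow_succ x, pow_succ y]; simp only [mul_assoc]

section

variable {R : Type*} [Group R] {p : ℕ} [Fact p.Prime]

/-- If `⟨d⟩` is normal in the `p`-group `R`, then `[⟨d⟩, R] ≤ ⟨d ^ p⟩`. -/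
theorem comm_mem_zpowers_pow (hR : IsPGroup p R) {d r : R} {k : ℤ} (h : r * d * r⁻¹ = d ^ k)
    (j : ℤ) : ⁅d ^ j, r⁆ ∈ Subgroup.zpowers (d ^ p) := by
  have h0 : ⁅d ^ j, r⁆ = d ^ (j * (1 - k)) := by
    have : r * (d ^ j)⁻¹ * r⁻¹ = d ^ (-(k * j)) := by
      rw [← zpow_neg, ← MulAut.conj_apply, map_zpow, MulAut.conj_apply, h, ← zpow_mul]
      ring_nf
    calc ⁅d ^ j, r⁆ = d ^ j * (r * (d ^ j)⁻¹ * r⁻¹) := by rw [commutatorElement_def]; group
      _ = d ^ (j * (1 - k)) := by rw [this, ← zpow_add]; ring_nf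
  by_cases hd : d = 1
  · rw [h0, hd, one_zpow]; exact one_mem _
  have hpow : ∀ a : ℕ, r ^ a * d * (r ^ a)⁻¹ = d ^ (k ^ a) := by
    intro a
    induction a with
    | zero => simp
    | succ a ih =>
      have : r ^ (a + 1) * d * (r ^ (a + 1))⁻¹ = r * (r ^ a * d * (r ^ a)⁻¹) * r⁻¹ := by
        rw [pow_succ']; group
      rw [this, ih, ← MulAut.conj_apply, map_zpow, MulAut.conj_apply, h, ← zpow_mul, pow_succ']
  obtain ⟨m, hm⟩ := hR r
  have h1 := hpow (p ^ m)
  rw [hm] at h1
  have h2 : d ^ (k ^ (p ^ m) - 1) = 1 := by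
    rw [zpow_sub, ← h1]; simp
  have h3 : (p : ℤ) ∣ k ^ (p ^ m) - 1 := by
    have hpd : p ∣ orderOf d := hR.dvd_orderOf hd
    exact (Int.natCast_dvd_natCast.2 hpd).trans (orderOf_dvd_iff_zpow_eq_one.2 h2)
  have h4 : (p : ℤ) ∣ 1 - k := by
    rw [← ZMod.intCast_zmod_eq_zero_iff_dvd] at h3 ⊢
    push_cast at h3 ⊢
    rw [ZMod.pow_card_pow] at h3
    rw [← neg_sub, h3, neg_zero]
  obtain ⟨c, hc⟩ := h4
  rw [h0, hc]
  refine ⟨j * c, ?_⟩
  simp only
  rw [← zpow_natCast, ← zpow_mul]
  ring_nf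

/-- The lifting step: `N` central of order `p` inside every subgroup containing the commutators `[d, r]` and the
powers `d ^ p` for `d` in the derived subgroup; if `R ⧸ N` is metacyclic, so is `R`. -/
theorem isMetacyclic_of_quotient [Finite R] (hR : IsPGroup p R) (N : Subgroup R) [N.Normal]
    (hNc : N ≤ Subgroup.center R) (hNp : Nat.card N = p)
    (hNK : ∀ K : Subgroup R, K.Normal → (∀ d ∈ commutator R, ∀ r, ⁅d, r⁆ ∈ K) →
      (∀ d ∈ commutator R, d ^ p ∈ K) → N ≤ K)
    (hm : Cfsg.IsMetacyclic (R ⧸ N)) : Cfsg.IsMetacyclic R := by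
  have hpp : p.Prime := Fact.out
  obtain ⟨X', hX'n, hX'c, hQc⟩ := hm
  set X : Subgroup R := X'.comap (QuotientGroup.mk' N) with hX
  have hXn : X.Normal := hX'n.comap _
  have hNX : N ≤ X := by
    intro n hn
    rw [hX, Subgroup.mem_comap]
    have : (QuotientGroup.mk' N) n = 1 := (QuotientGroup.eq_one_iff n).2 hn
    rw [this]; exact one_mem _
  -- a generator of `X` modulo `N`
  obtain ⟨x, hxX, hx⟩ : ∃ x ∈ X, ∀ u ∈ X, ∃ k : ℤ, ∃ n ∈ N, u = x ^ k * n := by
    obtain ⟨⟨x', hx'⟩, hgen⟩ := hX'c.exists_generator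
    obtain ⟨x, rfl⟩ := QuotientGroup.mk_surjective x'
    refine ⟨x, hx', ?_⟩
    intro u hu
    obtain ⟨k, hk⟩ := hgen ⟨QuotientGroup.mk u, hu⟩
    have hk' : (QuotientGroup.mk x : R ⧸ N) ^ k = QuotientGroup.mk u := congrArg Subtype.val hk
    rw [← QuotientGroup.mk_zpow, QuotientGroup.eq] at hk'
    exact ⟨k, (x ^ k)⁻¹ * u, hk', by group⟩
  -- a generator of `R` modulo `X`
  obtain ⟨y, hy⟩ : ∃ y : R, ∀ r : R, ∃ k : ℕ, ∃ u ∈ X, r = y ^ k * u := by
    obtain ⟨g, hg⟩ := hQc.exists_generator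
    obtain ⟨y', rfl⟩ := QuotientGroup.mk_surjective g
    obtain ⟨y, rfl⟩ := QuotientGroup.mk_surjective y'
    refine ⟨y, fun r => ?_⟩
    have hfin : Finite ((R ⧸ N) ⧸ X') := inferInstance
    obtain ⟨k, hk⟩ := mem_powers_iff_mem_zpowers.2 (hg (QuotientGroup.mk (QuotientGroup.mk r)))
    have hk' : (QuotientGroup.mk (QuotientGroup.mk (y ^ k)) : (R ⧸ N) ⧸ X') =
        QuotientGroup.mk (QuotientGroup.mk r) := by
      rw [← hk]; rfl
    rw [QuotientGroup.eq] at hk'
    exact ⟨k, (y ^ k)⁻¹ * r, hk', by group⟩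
  have hNcen : ∀ n ∈ N, ∀ g : R, n * g = g * n := fun n hn g =>
    (Subgroup.mem_center_iff.1 (hNc hn) g).symm
  by_cases hNx : N ≤ Subgroup.zpowers x
  · -- `X` is cyclic
    have hXx : X = Subgroup.zpowers x := by
      apply le_antisymm
      · intro u hu
        obtain ⟨k, n, hn, rfl⟩ := hx u hu
        exact mul_mem (Subgroup.zpow_mem_zpowers x k) (hNx hn)
      · rw [Subgroup.zpowers_le]; exact hxX
    refine ⟨X, hXn, ?_, ?_⟩
    · rw [hXx]; infer_instance
    · refine ⟨⟨QuotientGroup.mk y, ?_⟩⟩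
      intro q
      obtain ⟨r, rfl⟩ := QuotientGroup.mk_surjective q
      obtain ⟨k, u, hu, rfl⟩ := hy r
      refine ⟨k, ?_⟩
      simp only
      rw [← QuotientGroup.mk_zpow, QuotientGroup.eq]
      simpa using hu
  · exfalso
    -- `X` is abelian
    have hXcomm : ∀ u ∈ X, ∀ v ∈ X, u * v = v * u := by
      intro u hu v hv
      obtain ⟨k, n, hn, rfl⟩ := hx u hu
      obtain ⟨l, m, hm, rfl⟩ := hx v hv
      have h1 := hNcen n hn
      have h2 := hNcen m hm
      have h3 : x ^ k * x ^ l = x ^ l * x ^ k := by rw [← zpow_add, ← zpow_add, add_comm]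
      calc x ^ k * n * (x ^ l * m) = x ^ k * (n * (x ^ l * m)) := by group
        _ = x ^ k * x ^ l * m * n := by rw [h1]; group
        _ = x ^ l * (x ^ k * m) * n := by rw [h3]; group
        _ = x ^ l * m * (x ^ k * n) := by rw [← h2]; group
    set d : R := ⁅x, y⁆ with hd
    -- commutators with `y` are powers of `d`
    have hcommX : ∀ u ∈ X, ⁅u, y⁆ ∈ X := by
      intro u hu
      rw [commutatorElement_def]
      have : u * y * u⁻¹ * y⁻¹ = u * (y * u⁻¹ * y⁻¹) := by group
      rw [this]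
      exact mul_mem hu (hXn.conj_mem _ (inv_mem hu) y)
    let φ : X →* R :=
      { toFun := fun u => ⁅(u : R), y⁆
        map_one' := by simp
        map_mul' := by
          intro u v
          have h1 := hXcomm _ u.2 _ (hcommX v v.2)
          have h2 := hXcomm _ (hcommX u u.2) _ (hcommX v v.2)
          simp only [Subgroup.coe_mul]
          calc ⁅(u : R) * v, y⁆ = u * ⁅(v : R), y⁆ * (y * (u : R)⁻¹ * y⁻¹) := by
                rw [commutatorElement_def, commutatorElement_def]; group
            _ = ⁅(v : R), y⁆ * ⁅(u : R), y⁆ := by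
                rw [h1, commutatorElement_def (u : R) y]; group
            _ = ⁅(u : R), y⁆ * ⁅(v : R), y⁆ := h2.symm }
    have hφN : ∀ n (hn : n ∈ N), φ ⟨n, hNX hn⟩ = 1 := fun n hn =>
      commutatorElement_eq_one_iff_mul_comm.2 (hNcen n hn y)
    have hφd : ∀ u : X, φ u ∈ Subgroup.zpowers d := by
      rintro ⟨u, hu⟩
      obtain ⟨k, n, hn, rfl⟩ := hx u hu
      have : (⟨x ^ k * n, hu⟩ : X) = (⟨x, hxX⟩ : X) ^ k * ⟨n, hNX hn⟩ := by
        apply Subtype.ext; simp
      rw [this, map_mul, map_zpow, hφN n hn, mul_one]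
      exact Subgroup.zpow_mem_zpowers _ _
    have hdX : d ∈ X := hcommX x hxX
    -- `⟨d⟩` is normal
    have hconjd : ∀ r : R, ∃ k : ℤ, r * d * r⁻¹ = d ^ k := by
      have hyd : ∃ k : ℤ, y * d * y⁻¹ = d ^ k := by
        have h1 : y * x * y⁻¹ ∈ X := hXn.conj_mem x hxX y
        obtain ⟨k, hk⟩ := hφd ⟨_, h1⟩
        refine ⟨k, ?_⟩
        simp only at hk
        rw [hk]
        change _ = ⁅y * x * y⁻¹, y⁆
        rw [hd, commutatorElement_def, commutatorElement_def]
        group
      obtain ⟨k, hk⟩ := hyd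
      have hpow : ∀ a : ℕ, y ^ a * d * (y ^ a)⁻¹ = d ^ (k ^ a) := by
        intro a
        induction a with
        | zero => simp
        | succ a ih =>
          have : y ^ (a + 1) * d * (y ^ (a + 1))⁻¹ = y * (y ^ a * d * (y ^ a)⁻¹) * y⁻¹ := by
            rw [pow_succ']; group
          rw [this, ih, ← MulAut.conj_apply, map_zpow, MulAut.conj_apply, hk, ← zpow_mul, pow_succ']
      intro r
      obtain ⟨a, u, hu, rfl⟩ := hy r
      refine ⟨k ^ a, ?_⟩
      have h1 : u * d * u⁻¹ = d := by rw [hXcomm u hu d hdX]; group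
      calc y ^ a * u * d * (y ^ a * u)⁻¹ = y ^ a * (u * d * u⁻¹) * (y ^ a)⁻¹ := by group
        _ = d ^ (k ^ a) := by rw [h1, hpow]
    have hDn : (Subgroup.zpowers d).Normal := by
      refine ⟨?_⟩
      rintro _ ⟨j, rfl⟩ r
      obtain ⟨k, hk⟩ := hconjd r
      simp only
      rw [← MulAut.conj_apply, map_zpow, MulAut.conj_apply, hk, ← zpow_mul]
      exact Subgroup.zpow_mem_zpowers _ _
    have hDle : commutator R ≤ Subgroup.zpowers d := by
      have hcom : ∀ a b : R ⧸ Subgroup.zpowers d, a * b = b * a := by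
        have hxy : (QuotientGroup.mk x : R ⧸ Subgroup.zpowers d) * QuotientGroup.mk y =
            QuotientGroup.mk y * QuotientGroup.mk x := by
          rw [← commutatorElement_eq_one_iff_mul_comm]
          change (QuotientGroup.mk ⁅x, y⁆ : R ⧸ Subgroup.zpowers d) = 1
          rw [QuotientGroup.eq_one_iff]
          exact Subgroup.mem_zpowers d
        have hyu : ∀ u ∈ X, Commute (QuotientGroup.mk u : R ⧸ Subgroup.zpowers d) (QuotientGroup.mk y) := by
          intro u hu
          obtain ⟨k, n, hn, rfl⟩ := hx u hu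
          have h1 : Commute (QuotientGroup.mk n : R ⧸ Subgroup.zpowers d) (QuotientGroup.mk y) := by
            change (QuotientGroup.mk (n * y) : R ⧸ Subgroup.zpowers d) = QuotientGroup.mk (y * n)
            rw [hNcen n hn y]
          have h2 : Commute ((QuotientGroup.mk x : R ⧸ Subgroup.zpowers d) ^ k) (QuotientGroup.mk y) :=
            Commute.zpow_left hxy k
          exact Commute.mul_left h2 h1
        intro a b
        obtain ⟨r, rfl⟩ := QuotientGroup.mk_surjective a
        obtain ⟨s, rfl⟩ := QuotientGroup.mk_surjective b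
        obtain ⟨i, u, hu, rfl⟩ := hy r
        obtain ⟨j, v, hv, rfl⟩ := hy s
        have h1 : Commute (QuotientGroup.mk u : R ⧸ Subgroup.zpowers d) (QuotientGroup.mk v) := by
          change (QuotientGroup.mk (u * v) : R ⧸ Subgroup.zpowers d) = QuotientGroup.mk (v * u)
          rw [hXcomm u hu v hv]
        have h2 := hyu u hu
        have h3 := hyu v hv
        have h4 : Commute ((QuotientGroup.mk y : R ⧸ Subgroup.zpowers d) ^ i * QuotientGroup.mk u)
            ((QuotientGroup.mk y : R ⧸ Subgroup.zpowers d) ^ j * QuotientGroup.mk v) := by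
          apply Commute.mul_left
          · apply Commute.mul_right
            · exact Commute.pow_pow (Commute.refl _) i j
            · exact (Commute.pow_left h3.symm i)
          · apply Commute.mul_right
            · exact Commute.pow_right h2 j
            · exact h1
        exact h4
      rw [commutator_def, Subgroup.commutator_le]
      intro a _ b _
      refine (QuotientGroup.eq_one_iff (N := Subgroup.zpowers d) _).1 ?_
      change ⁅(QuotientGroup.mk a : R ⧸ Subgroup.zpowers d), (QuotientGroup.mk b : R ⧸ Subgroup.zpowers d)⁆ = 1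
      rw [commutatorElement_eq_one_iff_mul_comm]
      exact hcom _ _
    have hNd : N ≤ Subgroup.zpowers (d ^ p) := by
      apply hNK
      · refine ⟨?_⟩
        rintro _ ⟨j, rfl⟩ r
        obtain ⟨k, hk⟩ := hconjd r
        refine ⟨k * j, ?_⟩
        simp only
        rw [← MulAut.conj_apply, map_zpow, map_pow, MulAut.conj_apply, hk, ← zpow_natCast, ← zpow_natCast,
          ← zpow_mul, ← zpow_mul, ← zpow_mul]
        ring_nf
      · intro e he r
        obtain ⟨j, rfl⟩ := hDle he
        obtain ⟨k, hk⟩ := hconjd r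
        exact comm_mem_zpowers_pow hR hk j
      · intro e he
        obtain ⟨j, rfl⟩ := hDle he
        refine ⟨j, ?_⟩
        simp only
        rw [← zpow_natCast, ← zpow_natCast, ← zpow_mul, ← zpow_mul, mul_comm]
    apply hNx
    refine hNd.trans ?_
    rw [Subgroup.zpowers_le]
    obtain ⟨k, n, hn, hk⟩ := hx d hdX
    have hnp : n ^ p = 1 := by
      have h1 : (⟨n, hn⟩ : N) ^ p = 1 := by rw [← hNp]; exact pow_card_eq_one'
      exact congrArg Subtype.val h1
    rw [hk, Commute.mul_pow ((hNcen n hn (x ^ k)).symm), hnp, mul_one, ← zpow_natCast, ← zpow_mul]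
    exact Subgroup.zpow_mem_zpowers _ _

/-- A `p`-group of order at most `p ^ 2` is abelian. -/
theorem comm_of_card_le_sq {Q : Type*} [Group Q] [Finite Q] (hQ : IsPGroup p Q)
    (hc : Nat.card Q ≤ p ^ 2) (a b : Q) : a * b = b * a := by
  have hpp : p.Prime := Fact.out
  obtain ⟨k, hk⟩ := IsPGroup.iff_card.1 hQ
  rw [hk] at hc
  have hk2 : k ≤ 2 := (Nat.pow_le_pow_iff_right hpp.one_lt).1 hc
  interval_cases k
  · rw [pow_zero] at hk
    have := (Nat.card_eq_one_iff_unique.1 hk).1
    exact Subsingleton.elim _ _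
  · rw [pow_one] at hk
    have : IsCyclic Q := isCyclic_of_prime_card hk
    exact (IsCyclic.isMulCommutative (α := Q)).is_comm.comm a b
  · exact (IsPGroup.isMulCommutative_of_card_eq_prime_sq hk).is_comm.comm a b

/-- In a `p`-group of order at most `p ^ 2`, any nontrivial element is part of a generating pair. -/
theorem exists_complement_gen {Q : Type*} [Group Q] [Finite Q] (hQ : IsPGroup p Q)
    (hc : Nat.card Q ≤ p ^ 2) {x : Q} (hx : x ≠ 1) :
    ∃ y : Q, ∀ q : Q, ∃ i j : ℤ, q = y ^ i * x ^ j := by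
  have hpp : p.Prime := Fact.out
  have hcomm := comm_of_card_le_sq hQ hc
  by_cases hT : Subgroup.zpowers x = ⊤
  · refine ⟨1, fun q => ?_⟩
    obtain ⟨j, hj⟩ := hT ▸ Subgroup.mem_top q
    exact ⟨0, j, by simpa using hj.symm⟩
  · obtain ⟨y, hy⟩ : ∃ y, y ∉ Subgroup.zpowers x := by
      by_contra hcon
      push Not at hcon
      exact hT (eq_top_iff.2 fun y _ => hcon y)
    refine ⟨y, fun q => ?_⟩
    have hn : (Subgroup.zpowers x).Normal := ⟨fun n hn g => by
      rw [hcomm g n, mul_inv_cancel_right]; exact hn⟩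
    have htop : Subgroup.zpowers y ⊔ Subgroup.zpowers x = ⊤ := by
      have hlt : Subgroup.zpowers x < Subgroup.zpowers y ⊔ Subgroup.zpowers x := by
        refine lt_of_le_of_ne le_sup_right ?_
        intro h
        apply hy
        rw [h]
        exact Subgroup.mem_sup_left (Subgroup.mem_zpowers y)
      apply Subgroup.eq_top_of_le_card
      obtain ⟨k, hk⟩ := (IsPGroup.iff_card (p := p)).1 (hQ.to_subgroup (Subgroup.zpowers y ⊔ Subgroup.zpowers x))
      obtain ⟨i, hi⟩ := (IsPGroup.iff_card (p := p)).1 (hQ.to_subgroup (Subgroup.zpowers x))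
      have h1 : Nat.card (Subgroup.zpowers x) < Nat.card ↥(Subgroup.zpowers y ⊔ Subgroup.zpowers x) :=
        Set.Finite.card_lt_card (Set.toFinite _) hlt
      rw [hi, hk] at h1
      have h2 : i < k := (Nat.pow_lt_pow_iff_right hpp.one_lt).1 h1
      have hi0 : i ≠ 0 := by
        rintro rfl
        rw [pow_zero, Subgroup.card_eq_one, Subgroup.zpowers_eq_bot] at hi
        exact hx hi
      rw [hk]
      exact hc.trans (Nat.pow_le_pow_right hpp.pos (by omega))
    have hq : q ∈ Subgroup.zpowers y ⊔ Subgroup.zpowers x := htop ▸ Subgroup.mem_top q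
    obtain ⟨a, ⟨i, rfl⟩, b, ⟨j, rfl⟩, rfl⟩ := Subgroup.mem_sup_of_normal_right.1 hq
    exact ⟨i, j, rfl⟩

/-- The base case of class at most two with elementary abelian derived subgroup. -/
theorem base_case [Finite R] (hp : p ≠ 2) (hR : IsPGroup p R)
    (h : ∀ T : Subgroup R, T.Normal → (∀ x : R, x ^ p ∈ T) → T.index ≤ p ^ 2)
    (hDc : ∀ d ∈ commutator R, ∀ r : R, d * r = r * d)
    (hDp : ∀ d ∈ commutator R, d ^ p = 1) : Cfsg.IsMetacyclic R := by
  have hpp : p.Prime := Fact.out
  have hp2 : 2 < p := lt_of_le_of_ne hpp.two_le (Ne.symm hp)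
  rcases subsingleton_or_nontrivial R with hs | hnt
  · refine ⟨⊥, inferInstance, inferInstance, ?_⟩
    exact isCyclic_of_subsingleton
  have hcommD : ∀ x y : R, ∃ c ∈ commutator R, y * x = x * y * c := fun x y =>
    ⟨⁅y⁻¹, x⁻¹⁆, Subgroup.commutator_mem_commutator (Subgroup.mem_top _) (Subgroup.mem_top _),
      by rw [commutatorElement_def]; group⟩
  have hpow : ∀ x y : R, (x * y) ^ p = x ^ p * y ^ p := by
    intro x y
    obtain ⟨c, hc, hcxy⟩ := hcommD x y
    rw [mul_pow_central (hDc c hc) hcxy p]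
    obtain ⟨m, hm⟩ := hpp.dvd_choose_self (k := 2) (by norm_num) hp2
    rw [hm, pow_mul, hDp c hc, one_pow, mul_one]
  let φ : R →* R :=
    { toFun := fun x => x ^ p
      map_one' := one_pow p
      map_mul' := hpow }
  have hφ : ∀ x, φ x = x ^ p := fun x => rfl
  have hcen : ∀ x r : R, x ^ p * r = r * x ^ p := by
    intro x r
    obtain ⟨c, hc, hcxy⟩ := hcommD r x
    have h1 := pow_mul_comm_central (hDc c hc) hcxy p
    rw [hDp c hc, mul_one] at h1
    exact h1
  set P : Subgroup R := φ.range with hP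
  have hPn : P.Normal := ⟨by
    rintro _ ⟨x, rfl⟩ g
    rw [hφ, ← hcen x g, mul_inv_cancel_right]
    exact ⟨x, rfl⟩⟩
  have hPindex : P.index ≤ p ^ 2 := h P hPn (fun x => ⟨x, rfl⟩)
  have hQ : IsPGroup p (R ⧸ P) := hR.to_quotient P
  have hQc : Nat.card (R ⧸ P) ≤ p ^ 2 := hPindex
  have hDP : commutator R ≤ P := by
    rw [commutator_def, Subgroup.commutator_le]
    intro a _ b _
    refine (QuotientGroup.eq_one_iff (N := P) _).1 ?_
    change ⁅(QuotientGroup.mk a : R ⧸ P), (QuotientGroup.mk b : R ⧸ P)⁆ = 1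
    rw [commutatorElement_eq_one_iff_mul_comm]
    exact comm_of_card_le_sq hQ hQc _ _
  have hPt : P ≠ ⊤ := by
    intro hPt
    have hsurj : Function.Surjective φ := MonoidHom.range_eq_top.1 hPt
    have hinj : Function.Injective φ := Finite.injective_iff_surjective.2 hsurj
    obtain ⟨k, hk, hcard⟩ := hR.nontrivial_iff_card.1 hnt
    obtain ⟨x, hx⟩ := exists_prime_orderOf_dvd_card' (G := R) p (by rw [hcard]; exact dvd_pow_self p hk.ne')
    have h1 : φ x = φ 1 := by rw [map_one, hφ, ← hx, pow_orderOf_eq_one]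
    rw [hinj h1, orderOf_one] at hx
    exact hpp.one_lt.ne hx
  -- generation modulo `P`
  have hgen : ∀ g : R, g ∉ P → ∃ h : R, ∀ r : R, ∃ i j : ℤ, ∃ s : R, r = h ^ i * g ^ j * s ^ p := by
    intro g hg
    have hg' : (QuotientGroup.mk g : R ⧸ P) ≠ 1 := fun h => hg ((QuotientGroup.eq_one_iff g).1 h)
    obtain ⟨y, hy⟩ := exists_complement_gen hQ hQc hg'
    obtain ⟨y, rfl⟩ := QuotientGroup.mk_surjective y
    refine ⟨y, fun r => ?_⟩
    obtain ⟨i, j, hij⟩ := hy (QuotientGroup.mk r)
    have hij' : (QuotientGroup.mk (y ^ i * g ^ j) : R ⧸ P) = QuotientGroup.mk r := by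
      rw [hij]; rfl
    rw [QuotientGroup.eq] at hij'
    obtain ⟨s, hs⟩ := hij'
    exact ⟨i, j, s, by rw [← hφ, hs]; group⟩
  -- the derived subgroup is contained in a cyclic subgroup
  obtain ⟨c, hc⟩ : ∃ c : R, commutator R ≤ Subgroup.zpowers c := by
    obtain ⟨g, hg⟩ : ∃ g, g ∉ P := by
      by_contra hcon
      push Not at hcon
      exact hPt (eq_top_iff.2 fun y _ => hcon y)
    obtain ⟨h, hh⟩ := hgen g hg
    refine ⟨⁅h, g⁆, ?_⟩
    set d := ⁅h, g⁆ with hd
    have hdD : d ∈ commutator R :=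
      Subgroup.commutator_mem_commutator (Subgroup.mem_top _) (Subgroup.mem_top _)
    have hDn : (Subgroup.zpowers d).Normal := ⟨by
      rintro _ ⟨j, rfl⟩ r
      simp only
      rw [← hDc _ (Subgroup.zpow_mem _ hdD j) r, mul_inv_cancel_right]
      exact Subgroup.zpow_mem_zpowers _ _⟩
    rw [commutator_def, Subgroup.commutator_le]
    intro a _ b _
    refine (QuotientGroup.eq_one_iff (N := Subgroup.zpowers d) _).1 ?_
    change ⁅(QuotientGroup.mk a : R ⧸ Subgroup.zpowers d), (QuotientGroup.mk b : R ⧸ Subgroup.zpowers d)⁆ = 1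
    rw [commutatorElement_eq_one_iff_mul_comm]
    have hhg : Commute (QuotientGroup.mk h : R ⧸ Subgroup.zpowers d) (QuotientGroup.mk g) := by
      change (QuotientGroup.mk h : R ⧸ Subgroup.zpowers d) * (QuotientGroup.mk g) = _
      rw [← commutatorElement_eq_one_iff_mul_comm]
      change (QuotientGroup.mk ⁅h, g⁆ : R ⧸ Subgroup.zpowers d) = 1
      rw [QuotientGroup.eq_one_iff]
      exact Subgroup.mem_zpowers d
    have hsp : ∀ (s : R) (q : R ⧸ Subgroup.zpowers d), Commute ((QuotientGroup.mk s : R ⧸ Subgroup.zpowers d) ^ p) q := by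
      intro s q
      obtain ⟨r, rfl⟩ := QuotientGroup.mk_surjective q
      change (QuotientGroup.mk (s ^ p * r) : R ⧸ Subgroup.zpowers d) = QuotientGroup.mk (r * s ^ p)
      rw [hcen]
    obtain ⟨i, j, s, rfl⟩ := hh a
    obtain ⟨k, l, t, rfl⟩ := hh b
    change Commute ((QuotientGroup.mk h : R ⧸ Subgroup.zpowers d) ^ i * QuotientGroup.mk g ^ j * QuotientGroup.mk s ^ p)
      ((QuotientGroup.mk h : R ⧸ Subgroup.zpowers d) ^ k * QuotientGroup.mk g ^ l * QuotientGroup.mk t ^ p)
    apply Commute.mul_left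
    · apply Commute.mul_right
      · apply Commute.mul_left
        · apply Commute.mul_right
          · exact (Commute.refl _).zpow_zpow i k
          · exact hhg.zpow_zpow i l
        · apply Commute.mul_right
          · exact hhg.symm.zpow_zpow j k
          · exact (Commute.refl _).zpow_zpow j l
      · exact (hsp t _).symm
    · exact hsp s _
  -- choose `g` of maximal order with `D ≤ ⟨g⟩`
  obtain ⟨g, hgD, hgmax⟩ := Set.exists_max_image {g : R | commutator R ≤ Subgroup.zpowers g} orderOf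
    (Set.toFinite _) ⟨c, hc⟩
  replace hgD : commutator R ≤ Subgroup.zpowers g := hgD
  have hgP : g ∉ P := by
    rintro ⟨s, hs⟩
    rw [hφ] at hs
    have h1 : commutator R ≤ Subgroup.zpowers s := by
      refine hgD.trans ?_
      rw [Subgroup.zpowers_le, ← hs]
      exact Subgroup.pow_mem _ (Subgroup.mem_zpowers s) p
    have h2 : orderOf s ≤ orderOf g := hgmax s h1
    by_cases hs1 : s = 1
    · -- then g = 1, commutator trivial
      have hg1 : g = 1 := by rw [← hs, hs1, one_pow]
      obtain ⟨x, hx⟩ := exists_ne (1 : R)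
      have h3 : commutator R ≤ Subgroup.zpowers x := by
        refine hgD.trans ?_
        rw [hg1, Subgroup.zpowers_one_eq_bot]
        exact bot_le
      have h4 : orderOf x ≤ orderOf g := hgmax x h3
      rw [hg1, orderOf_one] at h4
      have h5 := orderOf_pos x
      exact hx (orderOf_eq_one_iff.1 (by omega))
    · have hps : p ∣ orderOf s := hR.dvd_orderOf hs1
      rw [← hs, orderOf_pow_of_dvd hpp.ne_zero hps] at h2
      have h5 := orderOf_pos s
      have h6 : orderOf s / p < orderOf s := Nat.div_lt_self h5 hpp.one_lt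
      omega
  obtain ⟨h', hh'⟩ := hgen g hgP
  have hgn : (Subgroup.zpowers g).Normal := Subgroup.Normal.of_commutator_le R hgD
  refine ⟨Subgroup.zpowers g, hgn, inferInstance, ?_⟩
  have hcommQ : ∀ a b : R ⧸ Subgroup.zpowers g, Commute a b := by
    intro a b
    obtain ⟨a, rfl⟩ := QuotientGroup.mk_surjective a
    obtain ⟨b, rfl⟩ := QuotientGroup.mk_surjective b
    change (QuotientGroup.mk a : R ⧸ Subgroup.zpowers g) * (QuotientGroup.mk b) = _
    rw [← commutatorElement_eq_one_iff_mul_comm]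
    change (QuotientGroup.mk ⁅a, b⁆ : R ⧸ Subgroup.zpowers g) = 1
    rw [QuotientGroup.eq_one_iff]
    exact hgD (Subgroup.commutator_mem_commutator (Subgroup.mem_top _) (Subgroup.mem_top _))
  have hone : ∀ q : R ⧸ Subgroup.zpowers g, ∃ i : ℤ, ∃ s : R ⧸ Subgroup.zpowers g,
      q = (QuotientGroup.mk h') ^ i * s ^ p := by
    intro q
    obtain ⟨r, rfl⟩ := QuotientGroup.mk_surjective q
    obtain ⟨i, j, s, rfl⟩ := hh' r
    refine ⟨i, QuotientGroup.mk s, ?_⟩
    have hg1 : (QuotientGroup.mk g : R ⧸ Subgroup.zpowers g) = 1 := by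
      rw [QuotientGroup.eq_one_iff]; exact Subgroup.mem_zpowers g
    change (QuotientGroup.mk h' : R ⧸ Subgroup.zpowers g) ^ i * QuotientGroup.mk g ^ j * QuotientGroup.mk s ^ p = _
    rw [hg1, one_zpow, mul_one]
  have hall : ∀ (n : ℕ) (q : R ⧸ Subgroup.zpowers g), ∃ i : ℤ, ∃ s : R ⧸ Subgroup.zpowers g,
      q = (QuotientGroup.mk h') ^ i * s ^ (p ^ n) := by
    intro n
    induction n with
    | zero => intro q; exact ⟨0, q, by simp⟩
    | succ n ih =>
      intro q
      obtain ⟨i, s, rfl⟩ := ih q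
      obtain ⟨j, t, rfl⟩ := hone s
      refine ⟨i + j * (p ^ n : ℕ), t, ?_⟩
      rw [(hcommQ _ _).mul_pow, ← mul_assoc, zpow_add, zpow_mul, zpow_natCast, ← pow_mul, pow_succ',]
  have hQ' : IsPGroup p (R ⧸ Subgroup.zpowers g) := hR.to_quotient _
  obtain ⟨n, hn⟩ := IsPGroup.iff_card.1 hQ'
  refine ⟨⟨QuotientGroup.mk h', fun q => ?_⟩⟩
  obtain ⟨i, s, rfl⟩ := hall n q
  refine ⟨i, ?_⟩
  rw [← hn, pow_card_eq_one', mul_one]

/-- **Huppert**: for `p` odd, a finite `p`-group all of whose quotients of exponent dividing `p` have order at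
most `p ^ 2` is metacyclic. -/
theorem isMetacyclic_aux (hp : p ≠ 2) (n : ℕ) : ∀ (R : Type*) [Group R] [Finite R], Nat.card R = n →
    IsPGroup p R → (∀ T : Subgroup R, T.Normal → (∀ x : R, x ^ p ∈ T) → T.index ≤ p ^ 2) →
    Cfsg.IsMetacyclic R := by
  induction n using Nat.strong_induction_on with
  | _ n ih =>
  intro R _ _ hn hR h
  have hpp : p.Prime := Fact.out
  set K : Subgroup R := Subgroup.normalClosure
    ({a | ∃ d ∈ commutator R, ∃ r : R, ⁅d, r⁆ = a} ∪ {a | ∃ d ∈ commutator R, d ^ p = a}) with hK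
  have hK1 : ∀ d ∈ commutator R, ∀ r : R, ⁅d, r⁆ ∈ K := fun d hd r =>
    Subgroup.subset_normalClosure (Or.inl ⟨d, hd, r, rfl⟩)
  have hK2 : ∀ d ∈ commutator R, d ^ p ∈ K := fun d hd =>
    Subgroup.subset_normalClosure (Or.inr ⟨d, hd, rfl⟩)
  by_cases hKb : K = ⊥
  · apply base_case hp hR h
    · intro d hd r
      have := hK1 d hd r
      rw [hKb, Subgroup.mem_bot] at this
      exact commutatorElement_eq_one_iff_mul_comm.1 this
    · intro d hd
      have := hK2 d hd
      rwa [hKb, Subgroup.mem_bot] at this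
  · have hnil : Group.IsNilpotent R := hR.isNilpotent
    obtain ⟨x, hxK, hx1, hxc⟩ := Cfsg.Agent.S0015.exists_mem_center_of_normal K hKb
    -- an element of order `p`
    obtain ⟨z, hzK, hzc, hz⟩ : ∃ z ∈ K, z ∈ Subgroup.center R ∧ orderOf z = p := by
      have hd : p ∣ orderOf x := hR.dvd_orderOf hx1
      refine ⟨x ^ (orderOf x / p), K.pow_mem hxK _, Subgroup.pow_mem _ hxc _, ?_⟩
      exact orderOf_pow_orderOf_div (orderOf_pos x).ne' hd
    have hzN : (Subgroup.zpowers z).Normal := ⟨by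
      rintro _ ⟨j, rfl⟩ r
      have h1 : z ^ j ∈ Subgroup.center R := Subgroup.zpow_mem _ hzc j
      simp only
      rw [Subgroup.mem_center_iff.1 h1 r, mul_inv_cancel_right]
      exact Subgroup.zpow_mem_zpowers _ _⟩
    have hcardz : Nat.card (Subgroup.zpowers z) = p := by rw [Nat.card_zpowers, hz]
    have hm : Cfsg.IsMetacyclic (R ⧸ Subgroup.zpowers z) := by
      refine ih (Nat.card (R ⧸ Subgroup.zpowers z)) ?_ _ rfl (hR.to_quotient _) ?_
      · rw [← hn, ← Subgroup.card_mul_index (Subgroup.zpowers z), hcardz]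
        change (Subgroup.zpowers z).index < p * (Subgroup.zpowers z).index
        have h1 : 0 < (Subgroup.zpowers z).index := Nat.pos_of_ne_zero Subgroup.index_ne_zero_of_finite
        exact lt_mul_of_one_lt_left h1 hpp.one_lt
      · intro T hT hTp
        have h1 := h (T.comap (QuotientGroup.mk' (Subgroup.zpowers z))) (hT.comap _)
          (fun x => by rw [Subgroup.mem_comap, map_pow]; exact hTp _)
        rwa [Subgroup.index_comap_of_surjective _ (QuotientGroup.mk'_surjective _)] at h1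
    refine isMetacyclic_of_quotient hR (Subgroup.zpowers z) ?_ hcardz ?_ hm
    · rw [Subgroup.zpowers_le]; exact hzc
    · intro K' hK'n h1 h2
      rw [Subgroup.zpowers_le]
      have hKK' : K ≤ K' := by
        rw [hK]
        apply Subgroup.normalClosure_le_normal
        rintro a (⟨d, hd, r, rfl⟩ | ⟨d, hd, rfl⟩)
        · exact h1 d hd r
        · exact h2 d hd
      exact hKK' hzK

/-- **Huppert**: for `p` odd, a finite `p`-group all of whose quotients of exponent dividing `p` have order at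
most `p ^ 2` is metacyclic. -/
theorem isMetacyclic_of_quotients {R : Type*} [Group R] [Finite R] (hp : p ≠ 2) (hR : IsPGroup p R)
    (h : ∀ T : Subgroup R, T.Normal → (∀ x : R, x ^ p ∈ T) → T.index ≤ p ^ 2) :
    Cfsg.IsMetacyclic R :=
  isMetacyclic_aux hp (Nat.card R) R rfl hR h

end

end Cfsg.Agent.PLocal.Huppert
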