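import Mathlib
import Cfsg.Prelude.Def_PLocal
import Cfsg.Agent.Lib.NormalAbelian
import Cfsg.Agent.Lib.FrattiniPGroup
import Cfsg.Agent.OddOrderLocal.Rank
import Cfsg.Agent.Transfer.SmallClassPow
import Cfsg.Agent.Transfer.MaximalClass
import Cfsg.Agent.S0636

/-!
# `p`-groups of rank at most two, `p > 3`

* `index_centralizer_dvd`: in a finite `p`-group the centralizer of a normal subgroup of order `p ^ 2` has index
  dividing `p`;
* `mul_pow_eq_one_of_rank_two`: `p > 3`, rank at most two: the elements with `x ^ p = 1` are closed under products;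
* `card_omega_le_of_rank_two`: there are at most `p ^ 3` of them;
* `exists_exponent_p_of_card_lt`: `p > 3` and `|Ω₁(R)| > p ^ 2` gives a subgroup of order `p ^ 3` and exponent `p`;
* `card_pow_eq_one_of_quotient`: `p > 3`, `|R| = p ^ 4`, `T` central of order `p` with `x ^ p ∈ T` for all `x`: at
  least `p ^ 3` elements have `x ^ p = 1`.
-/

set_option autoImplicit false

open scoped commutatorElement

namespace Cfsg.Agent.PLocal.OmegaRankTwo

open Cfsg.Agent.OddOrderLocal.Rank

universe u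

/-- In a finite `p`-group the centralizer of a normal subgroup of order `p ^ 2` has index dividing `p`. -/
theorem index_centralizer_dvd {R : Type*} [Group R] [Finite R] {p : ℕ} [Fact p.Prime]
    (hR : IsPGroup p R) (E : Subgroup R) [hEn : E.Normal] (hE : Nat.card E = p ^ 2) :
    (Subgroup.centralizer (E : Set R)).index ∣ p := by
  have hpp : p.Prime := Fact.out
  have hnil : Group.IsNilpotent R := hR.isNilpotent
  have hEne : E ≠ ⊥ := by
    rintro rfl
    rw [Subgroup.card_bot] at hE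
    have := Nat.one_lt_pow (n := 2) (by norm_num) hpp.one_lt
    omega
  have h1 := Cfsg.Agent.Lib.NormalAbelian.normal_inf_center_ne_bot E hEne
  have h2 : p ∣ Nat.card (E ⊓ Subgroup.center R : Subgroup R) := by
    rcases (hR.to_subgroup (E ⊓ Subgroup.center R)).card_eq_or_dvd with h | h
    · exact absurd (Subgroup.card_eq_one.mp h) h1
    · exact h
  obtain ⟨⟨z, hz⟩, hzo⟩ := exists_prime_orderOf_dvd_card' p h2
  have hzo' : orderOf z = p := by rw [← hzo, ← Subgroup.orderOf_coe]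
  have hzc : z ∈ Subgroup.center R := hz.2
  have hZn : (Subgroup.zpowers z).Normal := by
    refine ⟨fun a ha g => ?_⟩
    obtain ⟨k, rfl⟩ := Subgroup.mem_zpowers_iff.mp ha
    have h3 : g * z ^ k = z ^ k * g := Subgroup.mem_center_iff.mp (Subgroup.zpow_mem _ hzc k) g
    rw [h3, mul_assoc, mul_inv_cancel, mul_one]
    exact ha
  have hZE : Subgroup.zpowers z ≤ E := by
    rw [Subgroup.zpowers_le]; exact hz.1
  have hZc : Nat.card (Subgroup.zpowers z) = p := by rw [Nat.card_zpowers, hzo']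
  have hnE : ¬ E ≤ Subgroup.zpowers z := by
    intro h
    have h3 := Subgroup.card_le_of_le h
    rw [hZc, hE] at h3
    have := hpp.two_le
    nlinarith
  obtain ⟨e, heE, heZ, hec⟩ :=
    Cfsg.Agent.Lib.NormalAbelian.exists_mem_not_mem_central_mod hZn hEn hnE
  -- the homomorphism `g ↦ e g e⁻¹ g⁻¹` into `⟨z⟩`
  have hcent : ∀ g : R, ∀ h : R, h * (e * g * e⁻¹ * g⁻¹) = (e * g * e⁻¹ * g⁻¹) * h := by
    intro g h
    obtain ⟨k, hk⟩ := Subgroup.mem_zpowers_iff.mp (hec g)
    rw [← hk]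
    exact Subgroup.mem_center_iff.mp (Subgroup.zpow_mem _ hzc k) h
  let φ : R →* Subgroup.zpowers z :=
    { toFun := fun g => ⟨e * g * e⁻¹ * g⁻¹, hec g⟩
      map_one' := by ext; simp
      map_mul' := by
        intro g h
        ext
        change e * (g * h) * e⁻¹ * (g * h)⁻¹ = (e * g * e⁻¹ * g⁻¹) * (e * h * e⁻¹ * h⁻¹)
        calc e * (g * h) * e⁻¹ * (g * h)⁻¹ = (e * g * e⁻¹) * (e * h * e⁻¹ * h⁻¹) * g⁻¹ := by group
          _ = (e * g * e⁻¹) * ((e * h * e⁻¹ * h⁻¹) * g⁻¹) := by group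
          _ = (e * g * e⁻¹) * (g⁻¹ * (e * h * e⁻¹ * h⁻¹)) := by rw [← hcent h g⁻¹]
          _ = (e * g * e⁻¹ * g⁻¹) * (e * h * e⁻¹ * h⁻¹) := by group }
  have hker : φ.ker ≤ Subgroup.centralizer (E : Set R) := by
    intro g hg
    have hg' : e * g * e⁻¹ * g⁻¹ = 1 := congrArg Subtype.val (MonoidHom.mem_ker.mp hg)
    have hge : e * g = g * e := by
      have h3 : e * g * e⁻¹ = g := mul_inv_eq_one.mp hg'
      calc e * g = (e * g * e⁻¹) * e := by group
        _ = g * e := by rw [h3]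
    -- `E ≤ centralizer {g}`
    have h4 : Subgroup.zpowers z ⊔ Subgroup.zpowers e ≤ Subgroup.centralizer ({g} : Set R) := by
      rw [sup_le_iff, Subgroup.zpowers_le, Subgroup.zpowers_le, Subgroup.mem_centralizer_singleton_iff,
        Subgroup.mem_centralizer_singleton_iff]
      exact ⟨(Subgroup.mem_center_iff.mp hzc g).symm, hge⟩
    have h5 : Subgroup.zpowers z ⊔ Subgroup.zpowers e = E := by
      apply Subgroup.eq_of_le_of_card_ge
      · rw [sup_le_iff, Subgroup.zpowers_le, Subgroup.zpowers_le]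
        exact ⟨hz.1, heE⟩
      · obtain ⟨k, hk⟩ := IsPGroup.iff_card.mp
          (hR.to_subgroup (Subgroup.zpowers z ⊔ Subgroup.zpowers e))
        have h6 : Nat.card (Subgroup.zpowers z) <
            Nat.card (Subgroup.zpowers z ⊔ Subgroup.zpowers e : Subgroup R) := by
          by_contra hlt
          have h7 := Subgroup.eq_of_le_of_card_ge
            (le_sup_left : Subgroup.zpowers z ≤ Subgroup.zpowers z ⊔ Subgroup.zpowers e) (not_lt.mp hlt)
          apply heZ
          rw [h7]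
          exact Subgroup.mem_sup_right (Subgroup.mem_zpowers e)
        rw [hZc, hk] at h6
        rw [hE, hk]
        apply Nat.pow_le_pow_right hpp.pos
        by_contra hk2
        have hk1 : k ≤ 1 := by omega
        have := Nat.pow_le_pow_right hpp.pos hk1
        rw [pow_one] at this
        omega
    rw [Subgroup.mem_centralizer_iff]
    intro x hx
    have hx' : x ∈ Subgroup.centralizer ({g} : Set R) := h4 (h5.symm ▸ hx)
    exact Subgroup.mem_centralizer_singleton_iff.mp hx'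
  have h7 : φ.ker.index ∣ p := by
    rw [Subgroup.index_ker]
    calc Nat.card φ.range ∣ Nat.card (Subgroup.zpowers z) := Subgroup.card_subgroup_dvd_card _
      _ = p := hZc
  exact (Subgroup.index_dvd_of_le hker).trans h7

/-- A finite `p`-group of order at most `p ^ 4` (`p > 3`) satisfies the class condition of `SmallClassPow`. -/
theorem class_le_three {R : Type u} [Group R] [Finite R] {p : ℕ} [Fact p.Prime] {k : ℕ}
    (hk : Nat.card R = p ^ k) (hk4 : k ≤ 4) :
    ⁅⁅commutator R, (⊤ : Subgroup R)⁆, (⊤ : Subgroup R)⁆ = ⊥ := by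
  have hpp : p.Prime := Fact.out
  have hR : IsPGroup p R := IsPGroup.of_card hk
  have hnil : Group.IsNilpotent R := hR.isNilpotent
  rcases Nat.lt_or_ge 1 k with h1 | h1
  · have h2 := Cfsg.Agent.Transfer.MaximalClass.nilpotencyClass_le_pred (p := p) k R hk h1
    have h3 : Group.nilpotencyClass R ≤ 3 := by omega
    have h4 := Subgroup.lowerCentralSeries_eq_bot_iff_nilpotencyClass_le.mpr h3
    rw [← h4]
    rfl
  · have h2 : IsCyclic R := by
      rcases Nat.lt_or_ge k 1 with h3 | h3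
      · have h4 : k = 0 := by omega
        rw [h4, pow_zero] at hk
        exact isCyclic_of_card_dvd_prime (p := p) (by rw [hk]; exact one_dvd p)
      · have h4 : k = 1 := by omega
        rw [h4, pow_one] at hk
        exact isCyclic_of_prime_card hk
    let _ : CommGroup R := IsCyclic.commGroup
    rw [commutator_eq_bot]
    simp

/-- If `R = ⟨x, y⟩`, `N` is normal, `x ∈ N` and `y ^ p = 1`, then the index of `N` divides `p`. -/
theorem index_dvd_of_closure {R : Type*} [Group R] {p : ℕ} (N : Subgroup R) [N.Normal] {x y : R}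
    (hxy : Subgroup.closure ({x, y} : Set R) = ⊤) (hx : x ∈ N) (hy : y ^ p = 1) : N.index ∣ p := by
  have h1 : ∀ q : R ⧸ N, q ∈ Subgroup.zpowers (y : R ⧸ N) := by
    intro q
    obtain ⟨r, rfl⟩ := QuotientGroup.mk_surjective q
    have h2 : r ∈ (Subgroup.zpowers (y : R ⧸ N)).comap (QuotientGroup.mk' N) := by
      have h3 : Subgroup.closure ({x, y} : Set R) ≤
          (Subgroup.zpowers (y : R ⧸ N)).comap (QuotientGroup.mk' N) := by
        rw [Subgroup.closure_le]
        rintro w (hw | hw)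
        · change (QuotientGroup.mk' N) w ∈ Subgroup.zpowers (y : R ⧸ N)
          have h4 : (QuotientGroup.mk' N) w = 1 := (QuotientGroup.eq_one_iff w).mpr (hw ▸ hx)
          rw [h4]
          exact Subgroup.one_mem _
        · rw [Set.mem_singleton_iff] at hw
          rw [hw]
          exact Subgroup.mem_zpowers (y : R ⧸ N)
      rw [hxy] at h3
      exact h3 (Subgroup.mem_top r)
    exact h2
  have h2 : N.index = orderOf (y : R ⧸ N) := by
    rw [← Nat.card_zpowers, (Subgroup.eq_top_iff' _).mpr h1, Subgroup.card_top]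
    rfl
  rw [h2]
  apply orderOf_dvd_of_pow_eq_one
  rw [← QuotientGroup.mk_pow, hy]
  rfl

/-- Rank at most two: an element of order dividing `p` that centralizes an elementary abelian subgroup of order
`p ^ 2` lies in it. -/
theorem mem_of_centralizes {R : Type*} [Group R] [Finite R] {p : ℕ} [Fact p.Prime]
    (hrk : Cfsg.PRankLE p 2 R) {E : Subgroup R} (hE : Cfsg.IsElementaryAbelian p E)
    (hEc : Nat.card E = p ^ 2) {c : R} (hc : c ∈ Subgroup.centralizer (E : Set R)) (hcp : c ^ p = 1) :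
    c ∈ E := by
  have h1 : Cfsg.IsElementaryAbelian p (E ⊔ Subgroup.zpowers c) := by
    apply elemAb_sup hE (elemAb_zpowers hcp)
    intro a ha b hb
    obtain ⟨k, rfl⟩ := Subgroup.mem_zpowers_iff.mp hb
    have h2 : Commute a c := Subgroup.mem_centralizer_iff.mp hc a ha
    exact (h2.zpow_right k).eq
  have h2 := pRankLE_def.mp hrk _ h1
  have h3 := Subgroup.eq_of_le_of_card_ge (le_sup_left : E ≤ E ⊔ Subgroup.zpowers c) (by rw [hEc]; exact h2)
  rw [h3]
  exact Subgroup.mem_sup_right (Subgroup.mem_zpowers c)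

/-- If the elements of order dividing `p` of `M` (a normal subgroup of `R`) are closed under products and `R` has
rank at most two, then there are at most `p ^ 3` of them. -/
theorem card_le_of_rank_two {R : Type u} [Group R] [Finite R] {p : ℕ} [Fact p.Prime]
    (hR : IsPGroup p R) (hrk : Cfsg.PRankLE p 2 R) {E : Subgroup R} [hEn : E.Normal]
    (hE : Cfsg.IsElementaryAbelian p E) (hEc : Nat.card E = p ^ 2) (Ω : Subgroup R)
    (hΩ : ∀ x ∈ Ω, x ^ p = 1) : Nat.card Ω ≤ p ^ 3 := by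
  have hpp : p.Prime := Fact.out
  set C := Subgroup.centralizer (E : Set R) with hC
  have hCi : C.index ∣ p := index_centralizer_dvd hR E hEc
  have h1 : Ω ⊓ C ≤ E := fun x hx => mem_of_centralizes hrk hE hEc hx.2 (hΩ x hx.1)
  have h2 : Nat.card (Ω ⊓ C : Subgroup R) ≤ p ^ 2 := by
    rw [← hEc]; exact Subgroup.card_le_of_le h1
  have h3 : (Ω ⊓ C).relIndex Ω ≤ p := by
    rw [Subgroup.inf_relIndex_left]
    exact Nat.le_of_dvd hpp.pos ((Subgroup.relIndex_dvd_index_of_normal C Ω).trans hCi)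
  have h6 := Subgroup.relIndex_mul_relIndex ⊥ (Ω ⊓ C) Ω bot_le inf_le_left
  rw [Subgroup.relIndex_bot_left, Subgroup.relIndex_bot_left] at h6
  rw [← h6, pow_succ]
  exact Nat.mul_le_mul h2 h3

/-- The elements of order dividing `p`, once they are known to be closed under products. -/
def omegaSub {R : Type*} [Group R] {p : ℕ} (M : Subgroup R)
    (h : ∀ x ∈ M, ∀ y ∈ M, x ^ p = 1 → y ^ p = 1 → (x * y) ^ p = 1) : Subgroup R where
  carrier := {x | x ∈ M ∧ x ^ p = 1}
  mul_mem' := by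
    rintro x y ⟨hx, hx'⟩ ⟨hy, hy'⟩
    exact ⟨M.mul_mem hx hy, h x hx y hy hx' hy'⟩
  one_mem' := ⟨M.one_mem, one_pow _⟩
  inv_mem' := by
    rintro x ⟨hx, hx'⟩
    exact ⟨M.inv_mem hx, by rw [inv_pow, hx', inv_one]⟩

theorem mem_omegaSub {R : Type*} [Group R] {p : ℕ} {M : Subgroup R}
    {h : ∀ x ∈ M, ∀ y ∈ M, x ^ p = 1 → y ^ p = 1 → (x * y) ^ p = 1} {x : R} :
    x ∈ omegaSub M h ↔ x ∈ M ∧ x ^ p = 1 := Iff.rfl

theorem omegaSub_normal {R : Type*} [Group R] {p : ℕ} {M : Subgroup R} (hM : M.Normal)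
    (h : ∀ x ∈ M, ∀ y ∈ M, x ^ p = 1 → y ^ p = 1 → (x * y) ^ p = 1) : (omegaSub M h).Normal := by
  refine ⟨?_⟩
  rintro x ⟨hx, hx'⟩ g
  exact ⟨hM.conj_mem x hx g, by rw [conj_pow, hx', mul_one, mul_inv_cancel]⟩

theorem mul_pow_eq_one_aux {p : ℕ} [Fact p.Prime] (hp : 3 < p) (n : ℕ) :
    ∀ (R : Type u) [Group R] [Finite R], Nat.card R = n → IsPGroup p R → Cfsg.PRankLE p 2 R →
      ∀ x y : R, x ^ p = 1 → y ^ p = 1 → (x * y) ^ p = 1 := by
  have hpp : p.Prime := Fact.out
  induction n using Nat.strong_induction_on with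
  | _ n ih =>
  intro R _ _ hn hR hrk x y hx hy
  have hsub : ∀ H : Subgroup R, H ≠ ⊤ → ∀ a ∈ H, ∀ b ∈ H, a ^ p = 1 → b ^ p = 1 → (a * b) ^ p = 1 := by
    intro H hH a ha b hb ha' hb'
    have h1 : Nat.card H < n := by
      rw [← hn]
      by_contra hlt
      exact hH (Subgroup.eq_top_of_le_card H (not_lt.mp hlt))
    have h2 := ih _ h1 H rfl (hR.to_subgroup H) (pRankLE_subgroup hrk) ⟨a, ha⟩ ⟨b, hb⟩
      (Subtype.ext ha') (Subtype.ext hb')
    simpa using congrArg Subtype.val h2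
  by_cases hcl : Subgroup.closure ({x, y} : Set R) = ⊤
  swap
  · exact hsub _ hcl x (Subgroup.subset_closure (by simp)) y (Subgroup.subset_closure (by simp)) hx hy
  by_cases hcyc : IsCyclic R
  · let _ : CommGroup R := IsCyclic.commGroup
    rw [mul_pow, hx, hy, one_mul]
  have htop : ¬ IsCyclic (⊤ : Subgroup R) := fun h => hcyc (Subgroup.topEquiv.isCyclic.mp h)
  obtain ⟨E, -, hEn, hE, hEc⟩ := Cfsg.Agent.S0636.result (by omega) hR ⊤ htop
  obtain ⟨M, hM, hxM⟩ : ∃ M : Subgroup R, IsCoatom M ∧ x ∈ M := by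
    rcases eq_top_or_exists_le_coatom (Subgroup.zpowers x) with h | ⟨M, hM, hxM⟩
    · exfalso
      apply hcyc
      refine ⟨x, fun r => ?_⟩
      have h4 : r ∈ Subgroup.zpowers x := by rw [h]; exact Subgroup.mem_top r
      exact Subgroup.mem_zpowers_iff.mp h4
    · exact ⟨M, hM, hxM (Subgroup.mem_zpowers x)⟩
  have hMn : M.Normal := Cfsg.Agent.Lib.FrattiniPGroup.normal_of_coatom hR hM
  let Ω := omegaSub M (hsub M hM.1)
  have hΩn : Ω.Normal := omegaSub_normal hMn _
  have h1 : Nat.card Ω ≤ p ^ 3 := card_le_of_rank_two hR hrk hE hEc Ω (fun z hz => hz.2)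
  have h2 : Ω.index ∣ p := index_dvd_of_closure Ω hcl ⟨hxM, hx⟩ hy
  have h3 : Nat.card R ≤ p ^ 4 := by
    rw [← Ω.card_mul_index, pow_succ]
    exact Nat.mul_le_mul h1 (Nat.le_of_dvd hpp.pos h2)
  obtain ⟨k, hk⟩ := IsPGroup.iff_card.mp hR
  have hk4 : k ≤ 4 := by
    rw [hk] at h3
    exact (Nat.pow_le_pow_iff_right hpp.one_lt).mp h3
  exact Cfsg.Agent.Transfer.SmallClassPow.mul_pow_eq_one_of_small_class hpp
    (Or.inr ⟨hp, class_le_three hk hk4⟩) hx hy

/-- `p > 3`, rank at most two: the elements of order dividing `p` are closed under products. -/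
theorem mul_pow_eq_one_of_rank_two {p : ℕ} [Fact p.Prime] (hp : 3 < p) {R : Type u} [Group R]
    [Finite R] (hR : IsPGroup p R) (hrk : Cfsg.PRankLE p 2 R) {x y : R} (hx : x ^ p = 1)
    (hy : y ^ p = 1) : (x * y) ^ p = 1 :=
  mul_pow_eq_one_aux hp _ R rfl hR hrk x y hx hy

theorem omegaOne_top_eq {p : ℕ} {R : Type*} [Group R]
    (h : ∀ x y : R, x ^ p = 1 → y ^ p = 1 → (x * y) ^ p = 1) :
    Cfsg.omegaOne p (⊤ : Subgroup R) = omegaSub (⊤ : Subgroup R) (fun x _ y _ => h x y) :=
  Subgroup.closure_eq (omegaSub (⊤ : Subgroup R) (fun x _ y _ => h x y))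

/-- `p > 3`, rank at most two: `Ω₁(R)` has exponent dividing `p`. -/
theorem pow_eq_one_of_mem_omegaOne {p : ℕ} [Fact p.Prime] (hp : 3 < p) {R : Type u} [Group R]
    [Finite R] (hR : IsPGroup p R) (hrk : Cfsg.PRankLE p 2 R) {x : R}
    (hx : x ∈ Cfsg.omegaOne p (⊤ : Subgroup R)) : x ^ p = 1 := by
  rw [omegaOne_top_eq (fun x y hx hy => mul_pow_eq_one_of_rank_two hp hR hrk hx hy)] at hx
  exact hx.2

/-- `p > 3`, rank at most two: `Ω₁(R)` has order at most `p ^ 3`. -/
theorem card_omega_le_of_rank_two {p : ℕ} [Fact p.Prime] (hp : 3 < p) {R : Type u} [Group R]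
    [Finite R] (hR : IsPGroup p R) (hrk : Cfsg.PRankLE p 2 R) :
    Nat.card (Cfsg.omegaOne p (⊤ : Subgroup R)) ≤ p ^ 3 := by
  have hpp : p.Prime := Fact.out
  by_cases hcyc : IsCyclic R
  · by_cases h1 : Nat.card R = 1
    · calc Nat.card (Cfsg.omegaOne p (⊤ : Subgroup R)) ≤ Nat.card R := Subgroup.card_le_card_group _
        _ = 1 := h1
        _ ≤ p ^ 3 := Nat.one_le_pow _ _ hpp.pos
    · have h2 := Cfsg.Agent.PLocal.CyclicIndexP.card_pow_eq_one_of_isCyclic hR h1
      calc Nat.card (Cfsg.omegaOne p (⊤ : Subgroup R)) ≤ Nat.card {x : R | x ^ p = 1} :=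
            Nat.card_le_card_of_injective
              (fun x => (⟨x.1, pow_eq_one_of_mem_omegaOne hp hR hrk x.2⟩ : {x : R | x ^ p = 1}))
              (fun a b hab => Subtype.ext (congrArg (fun z : {x : R | x ^ p = 1} => (z : R)) hab))
        _ = p := h2
        _ ≤ p ^ 3 := Nat.le_self_pow (by norm_num) p
  · have htop : ¬ IsCyclic (⊤ : Subgroup R) := fun h => hcyc (Subgroup.topEquiv.isCyclic.mp h)
    obtain ⟨E, -, hEn, hE, hEc⟩ := Cfsg.Agent.S0636.result (by omega) hR ⊤ htop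
    exact card_le_of_rank_two hR hrk hE hEc _ (fun z hz => pow_eq_one_of_mem_omegaOne hp hR hrk hz)

/-- `p > 3` and `|Ω₁(R)| > p ^ 2`: there is a subgroup of order `p ^ 3` and exponent `p`. -/
theorem exists_exponent_p_of_card_lt {p : ℕ} [Fact p.Prime] (hp : 3 < p) {R : Type u} [Group R]
    [Finite R] (hR : IsPGroup p R) (h : p ^ 2 < Nat.card (Cfsg.omegaOne p (⊤ : Subgroup R))) :
    ∃ U : Subgroup R, Nat.card U = p ^ 3 ∧ ∀ u ∈ U, u ^ p = 1 := by
  have hpp : p.Prime := Fact.out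
  by_cases hrk : Cfsg.PRankLE p 2 R
  · obtain ⟨k, hk⟩ := IsPGroup.iff_card.mp (hR.to_subgroup (Cfsg.omegaOne p (⊤ : Subgroup R)))
    have h3 : 3 ≤ k := by
      rw [hk] at h
      exact (Nat.pow_lt_pow_iff_right hpp.one_lt).mp h
    obtain ⟨U, hU, hUc⟩ := Sylow.exists_subgroup_le_card_pow_prime_of_le_card (n := 3) hpp hR
      (H := Cfsg.omegaOne p (⊤ : Subgroup R)) (by rw [hk]; exact Nat.pow_le_pow_right hpp.pos h3)
    exact ⟨U, hUc, fun u hu => pow_eq_one_of_mem_omegaOne hp hR hrk (hU hu)⟩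
  · obtain ⟨A, hA, hAc⟩ := exists_elemAb_of_not_pRankLE_top hrk
    exact ⟨A, hAc, hA.2⟩

/-- `p > 3`, `|R| = p ^ 4`, `T` central of order `p` containing all `p`-th powers: at least `p ^ 3` elements have
`x ^ p = 1`. -/
theorem card_pow_eq_one_of_quotient {p : ℕ} [Fact p.Prime] (hp : 3 < p) {R : Type u} [Group R]
    [Finite R] (hc : Nat.card R = p ^ 4) (T : Subgroup R) (hT : T ≤ Subgroup.center R)
    (hTc : Nat.card T = p) (hpow : ∀ x : R, x ^ p ∈ T) : p ^ 3 ≤ Nat.card {x : R | x ^ p = 1} := by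
  have hpp : p.Prime := Fact.out
  have hcl := Or.inr (a := p ≠ 2 ∧ ⁅commutator R, (⊤ : Subgroup R)⁆ = ⊥)
    (And.intro hp (class_le_three hc (by norm_num)))
  have hcomm : ∀ x y : R, ⁅y, x⁆ ^ p = 1 := by
    intro x y
    obtain ⟨c, d, e, hyx, hxc, hyc, hd, he, -, -, -, h2, h3⟩ :=
      Cfsg.Agent.Transfer.SmallClassPow.exists_collect hpp hcl x y
    have hxT : ∀ g : R, g * x ^ p = x ^ p * g := Subgroup.mem_center_iff.mp (hT (hpow x))
    have hyT : ∀ g : R, g * y ^ p = y ^ p * g := Subgroup.mem_center_iff.mp (hT (hpow y))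
    have hep : e ^ p = 1 := by
      have h := Cfsg.Agent.Transfer.SmallClassPow.pow_mul_central hyc he p
      rw [← hyT c, mul_assoc] at h
      exact mul_eq_right.mp h.symm
    have pow_dvd : ∀ (g : R) (m : ℕ), g ^ p = 1 → p ∣ m → g ^ m = 1 := by
      rintro g m hg ⟨k, rfl⟩
      rw [pow_mul, hg, one_pow]
    have hcp : c ^ p = 1 := by
      have h := Cfsg.Agent.Transfer.SmallClassPow.pow_mul_eq hyx hyc he p
      rw [pow_dvd e _ hep h2, one_mul, ← hyT x, mul_assoc] at h
      exact mul_eq_right.mp h.symm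
    have h4 : ⁅y, x⁆ = c := by
      rw [commutatorElement_def, hyx]; group
    rw [h4, hcp]
  have hder : ∀ g ∈ commutator R, g ^ p = 1 := by
    intro g hg
    apply Cfsg.Agent.Transfer.SmallClassPow.pow_eq_one_of_mem_closure hpp hcl
    rw [commutator_eq_closure] at hg
    refine Subgroup.closure_mono ?_ hg
    rintro _ ⟨a, b, rfl⟩
    exact hcomm b a
  let f : R →* R :=
    { toFun := fun x => x ^ p
      map_one' := one_pow p
      map_mul' := fun x y =>
        Cfsg.Agent.Transfer.SmallClassPow.mul_pow_of_small_class hpp hcl hder x y }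
  have h1 : Nat.card f.ker * Nat.card f.range = p ^ 4 := by
    rw [← hc, ← Subgroup.index_ker f, Subgroup.card_mul_index]
  have h2 : Nat.card f.range ≤ p := by
    rw [← hTc]
    apply Subgroup.card_le_of_le
    rintro _ ⟨x, rfl⟩
    exact hpow x
  have h3 : Nat.card f.ker = Nat.card {x : R | x ^ p = 1} := rfl
  rw [← h3]
  by_contra hlt
  push Not at hlt
  have h4 : Nat.card f.ker * Nat.card f.range < p ^ 3 * p := by
    calc Nat.card f.ker * Nat.card f.range ≤ Nat.card f.ker * p := Nat.mul_le_mul_left _ h2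
      _ < p ^ 3 * p := Nat.mul_lt_mul_of_pos_right hlt hpp.pos
  rw [h1, ← pow_succ] at h4
  exact lt_irrefl _ h4

end Cfsg.Agent.PLocal.OmegaRankTwo
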