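import Mathlib
import Cfsg.Prelude.Def_Transfer
import Cfsg.Agent.PLocal.ThompsonJ
import Cfsg.Agent.Lib.ProductSet

/-!
Glauberman's replacement theorem for elementary abelian subgroups, in an ambient group.  The subgroup
`B` has class at most two and `[B, B]` is only assumed to be centralised by `A` (it need not lie in `A`).
-/

set_option autoImplicit false

namespace Cfsg.Agent.PLocal.ReplacementElem

open Cfsg Subgroup
open scoped Pointwise commutatorElement

universe u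

/-! ### Elementary commutator identities -/

theorem comm_mul_left_of_commute {G : Type u} [Group G] {y z t : G} (h : Commute ⁅z, t⁆ y) :
    ⁅y * z, t⁆ = ⁅z, t⁆ * ⁅y, t⁆ := by
  rw [commutatorElement_mul_left_eq_conj_mul, ← h.eq, mul_inv_cancel_right]

theorem comm_mul_right_of_commute {G : Type u} [Group G] {y z t : G} (h : Commute ⁅y, t⁆ z) :
    ⁅y, z * t⁆ = ⁅y, z⁆ * ⁅y, t⁆ := by
  rw [commutatorElement_mul_right_eq_mul_conj, mul_assoc _ z, ← h.eq, ← mul_assoc, mul_assoc,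
    mul_inv_cancel, mul_one]

/-- Power formula when the commutator is central in the group generated by `x` and `y`. -/
theorem mul_pow_of_commute {G : Type u} [Group G] {x y c : G} (h : y * x = x * y * c)
    (hx : Commute c x) (hy : Commute c y) (n : ℕ) :
    (x * y) ^ n = x ^ n * y ^ n * c ^ (n.choose 2) := by
  have h1 : ∀ n : ℕ, y ^ n * x = x * y ^ n * c ^ n := by
    intro n
    induction n with
    | zero => simp
    | succ n ih =>
      rw [pow_succ, mul_assoc, h, ← mul_assoc, ← mul_assoc, ih]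
      rw [mul_assoc (x * y ^ n), (hy.pow_left n).eq, pow_succ c]
      simp only [mul_assoc]
  induction n with
  | zero => simp
  | succ n ih =>
    rw [pow_succ, ih, Nat.choose_succ_succ' n 1, Nat.choose_one_right, pow_add c]
    have h2 : x ^ n * y ^ n * c ^ n.choose 2 * (x * y)
        = x ^ n * (y ^ n * x) * y * c ^ n.choose 2 := by
      rw [mul_assoc (x ^ n * y ^ n), (((hx.mul_right hy).pow_left _).eq)]
      simp only [mul_assoc]
    rw [h2, h1, pow_succ x, pow_succ y]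
    have h3 : x ^ n * (x * y ^ n * c ^ n) * y = x ^ n * x * (y ^ n * y) * c ^ n := by
      rw [mul_assoc (x ^ n), mul_assoc (x * y ^ n), (hy.pow_left n).eq]
      simp only [mul_assoc]
    rw [h3]
    simp only [mul_assoc]

/-! ### The commuting lemma -/

/-- The heart of Glauberman's replacement theorem: with `x ∈ B` and `a, b ∈ A`, the square of
`⁅u_b, u_a⁆` is trivial, where `u_a = ⁅a, x⁆`, `u_b = ⁅b, x⁆`. -/
theorem sq_eq_one {G : Type u} [Group G] {A B : Subgroup G}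
    (hAc : ∀ a ∈ A, ∀ b ∈ A, a * b = b * a)
    (hAB : A ≤ normalizer (B : Set G))
    (hcl : ∀ y ∈ B, ∀ z ∈ B, ∀ t ∈ B, Commute ⁅y, z⁆ t)
    (hBA : ∀ y ∈ B, ∀ z ∈ B, ∀ a ∈ A, Commute ⁅y, z⁆ a)
    {x : G} (hx : x ∈ B)
    (hZ : ∀ a ∈ A, ∀ b ∈ A, ∀ c ∈ A, Commute ⁅a, ⁅b, x⁆⁆ ⁅c, x⁆)
    {a b : G} (ha : a ∈ A) (hb : b ∈ A) : ⁅⁅a, x⁆, ⁅b, x⁆⁆ ^ 2 = 1 := by
  have hB : ∀ a ∈ A, ∀ y ∈ B, a * y * a⁻¹ ∈ B := le_normalizer_iff.1 hAB
  have hu : ∀ a ∈ A, ⁅a, x⁆ ∈ B := by
    intro a ha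
    rw [commutatorElement_def]
    exact mul_mem (hB a ha x hx) (inv_mem hx)
  have hw : ∀ a ∈ A, ∀ b ∈ A, ⁅a, ⁅b, x⁆⁆ ∈ B := by
    intro a ha b hb
    rw [commutatorElement_def]
    exact mul_mem (hB a ha _ (hu b hb)) (inv_mem (hu b hb))
  -- conjugation by `a` of `x` and `u_b`
  have hax : ∀ a : G, a * x * a⁻¹ = ⁅a, x⁆ * x := by
    intro a; rw [commutatorElement_def]; group
  have hab : ∀ a b : G, a * ⁅b, x⁆ * a⁻¹ = ⁅a, ⁅b, x⁆⁆ * ⁅b, x⁆ := by
    intro a b; simp only [commutatorElement_def]; group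
  -- (1)
  have key1 : ∀ a ∈ A, ∀ b ∈ A, ⁅⁅a, x⁆, ⁅b, x⁆⁆ * ⁅x, ⁅a, ⁅b, x⁆⁆⁆ = 1 := by
    intro a ha b hb
    set u := ⁅a, x⁆ with hu_def
    set v := ⁅b, x⁆ with hv_def
    set w := ⁅a, v⁆ with hw_def
    have huB : u ∈ B := hu a ha
    have hvB : v ∈ B := hu b hb
    have hwB : w ∈ B := hw a ha b hb
    have e1 : a * ⁅x, v⁆ * a⁻¹ = ⁅x, v⁆ := by
      rw [← (hBA x hx v hvB a ha).eq, mul_inv_cancel_right]
    rw [conjugate_commutatorElement, hax, hab, ← hu_def, ← hv_def, ← hw_def] at e1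
    have c1 : Commute u w := (hZ a ha b hb a ha).symm
    rw [comm_mul_left_of_commute (hcl x hx _ (mul_mem hwB hvB) u huB),
      comm_mul_right_of_commute (hcl x hx v hvB w hwB),
      comm_mul_right_of_commute (hcl u huB v hvB w hwB), c1.commutator_eq, one_mul] at e1
    -- e1 : ⁅x,w⁆ * ⁅x,v⁆ * ⁅u,v⁆ = ⁅x,v⁆
    have c2 : Commute ⁅x, v⁆ ⁅u, v⁆ := hcl x hx v hvB _ (by
      rw [commutatorElement_def]
      exact mul_mem (mul_mem (mul_mem huB hvB) (inv_mem huB)) (inv_mem hvB))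
    rw [mul_assoc, c2.eq, ← mul_assoc] at e1
    have e2 : ⁅x, w⁆ * ⁅u, v⁆ = 1 := by
      have := congrArg (fun t => t * ⁅x, v⁆⁻¹) e1
      simpa only [mul_inv_cancel_right, mul_inv_cancel] using this
    have c3 : Commute ⁅x, w⁆ ⁅u, v⁆ := hcl x hx w hwB _ (by
      rw [commutatorElement_def]
      exact mul_mem (mul_mem (mul_mem huB hvB) (inv_mem huB)) (inv_mem hvB))
    rw [← c3.eq, e2]
  set u := ⁅a, x⁆ with hu_def
  set v := ⁅b, x⁆ with hv_def
  have huB : u ∈ B := hu a ha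
  have hvB : v ∈ B := hu b hb
  -- comparison of conjugation by `a * b` and `b * a`
  have e3 : ⁅a, v⁆ * v * u = ⁅b, u⁆ * u * v := by
    have h1 : a * (b * x * b⁻¹) * a⁻¹ = b * (a * x * a⁻¹) * b⁻¹ := by
      have := hAc a ha b hb
      have h2 : a * (b * x * b⁻¹) * a⁻¹ = (a * b) * x * (a * b)⁻¹ := by group
      have h3 : b * (a * x * a⁻¹) * b⁻¹ = (b * a) * x * (b * a)⁻¹ := by group
      rw [h2, h3, this]
    rw [hax b, hax a] at h1
    have h4 : a * (⁅b, x⁆ * x) * a⁻¹ = (a * ⁅b, x⁆ * a⁻¹) * (a * x * a⁻¹) := by group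
    have h5 : b * (⁅a, x⁆ * x) * b⁻¹ = (b * ⁅a, x⁆ * b⁻¹) * (b * x * b⁻¹) := by group
    rw [h4, h5, hab, hab, hax, hax] at h1
    have h6 := congrArg (fun t => t * x⁻¹) h1
    simp only [mul_assoc, mul_inv_cancel, mul_one] at h6
    simp only [mul_assoc]
    exact h6
  have hauB : ⁅a, v⁆ ∈ B := hw a ha b hb
  have hbuB : ⁅b, u⁆ ∈ B := hw b hb a ha
  -- `⁅b,u⁆ = ⁅a,v⁆ * ⁅v,u⁆`
  have e4 : ⁅b, u⁆ = ⁅a, v⁆ * ⁅v, u⁆ := by
    have h1 : ⁅b, u⁆ = ⁅a, v⁆ * v * u * (u * v)⁻¹ := by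
      rw [e3]; group
    rw [h1, commutatorElement_def v u]; group
  have e5 : ⁅x, ⁅b, u⁆⁆ = ⁅x, ⁅a, v⁆⁆ := by
    have hvu : ∀ t ∈ B, Commute ⁅v, u⁆ t := hcl v hvB u huB
    have hvuB : ⁅v, u⁆ ∈ B := by
      rw [commutatorElement_def]
      exact mul_mem (mul_mem (mul_mem hvB huB) (inv_mem hvB)) (inv_mem huB)
    rw [e4, comm_mul_right_of_commute (hcl x hx _ hvuB _ hauB), (hvu x hx).symm.commutator_eq,
      mul_one]
  have f1 := key1 a ha b hb
  have f2 := key1 b hb a ha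
  rw [← hu_def, ← hv_def] at f1 f2
  rw [e5] at f2
  have f3 : ⁅u, v⁆ = ⁅v, u⁆ := mul_right_cancel (f1.trans f2.symm)
  rw [pow_two]
  nth_rewrite 2 [f3]
  rw [← commutatorElement_inv u v, mul_inv_cancel]

/-! ### The growing of normalizers -/

/-- If `B` (normalized by `A`) does not normalize `A` and `A ⊔ B` is a `p`-group, some `x ∈ B` outside
`N(A)` conjugates `A` into `N(A)` in both directions. -/
theorem exists_mem_conj_le_normalizer {G : Type u} [Group G] [Finite G] {p : ℕ} [Fact p.Prime]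
    {A B : Subgroup G} (hpAB : IsPGroup p ↥(A ⊔ B)) (hAB : A ≤ normalizer (B : Set G))
    (hnot : ¬ B ≤ normalizer (A : Set G)) :
    ∃ x ∈ B, x ∉ normalizer (A : Set G) ∧
      (∀ a ∈ A, x * a * x⁻¹ ∈ normalizer (A : Set G)) ∧
      (∀ a ∈ A, x⁻¹ * a * x ∈ normalizer (A : Set G)) := by
  haveI : Group.IsNilpotent ↥(A ⊔ B) := hpAB.isNilpotent
  have hnc : NormalizerCondition ↥(A ⊔ B) := Group.normalizerCondition_of_isNilpotent
  haveI hBn : (B.subgroupOf (A ⊔ B)).Normal :=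
    normal_subgroupOf_of_le_normalizer (sup_le hAB le_normalizer)
  have hlt : (normalizer (A : Set G)).subgroupOf (A ⊔ B) < ⊤ := by
    rw [lt_top_iff_ne_top, Ne, subgroupOf_eq_top]
    exact fun h => hnot (le_sup_right.trans h)
  obtain ⟨g, hg1, hg2⟩ := SetLike.exists_of_lt (hnc _ hlt)
  rw [mem_subgroupOf] at hg2
  obtain ⟨a, ha, b, hb, hab⟩ : ∃ a ∈ A, ∃ b ∈ B, a * b = (g : G) := by
    have hg := g.2
    rw [← SetLike.mem_coe, coe_mul_of_left_le_normalizer_right A B hAB] at hg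
    exact hg
  have haN : a ∈ normalizer (A : Set G) := le_normalizer ha
  -- the element `b`
  have hbN : (⟨b, mem_sup_right hb⟩ : ↥(A ⊔ B)) ∈
      normalizer ((normalizer (A : Set G)).subgroupOf (A ⊔ B) : Set ↥(A ⊔ B)) := by
    have h1 : (⟨b, mem_sup_right hb⟩ : ↥(A ⊔ B)) = (⟨a, mem_sup_left ha⟩ : ↥(A ⊔ B))⁻¹ * g := by
      apply Subtype.ext
      simp [← hab]
    rw [h1]
    refine mul_mem (inv_mem (le_normalizer ?_)) hg1
    rw [mem_subgroupOf]
    exact haN
  refine ⟨b, hb, ?_, ?_, ?_⟩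
  · intro h
    apply hg2
    rw [← hab]
    exact mul_mem haN h
  · intro c hc
    have h2 := (mem_normalizer_iff.1 hbN ⟨c, mem_sup_left hc⟩).1 (by
      rw [mem_subgroupOf]; exact le_normalizer hc)
    rw [mem_subgroupOf] at h2
    exact h2
  · intro c hc
    have h2 := (mem_normalizer_iff.1 (inv_mem hbN) ⟨c, mem_sup_left hc⟩).1 (by
      rw [mem_subgroupOf]; exact le_normalizer hc)
    rw [mem_subgroupOf] at h2
    simpa using h2

/-! ### The replacement theorem -/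

/-- **Glauberman's replacement theorem**, elementary abelian version: `A` is elementary abelian,
normalizes `B`, `B` has class at most two and `[B, B]` is centralised by `A`.  If `B` does not normalize
`A`, there is an elementary abelian `A'` of order at least that of `A`, normalizing `A`, lying in
`A ⊔ B` and meeting `B` in a strictly larger subgroup. -/
theorem exists_replacement {G : Type u} [Group G] [Finite G] {p : ℕ} [Fact p.Prime] (hp : p ≠ 2)
    {A B : Subgroup G} (hpAB : IsPGroup p ↥(A ⊔ B)) (hAB : A ≤ normalizer (B : Set G))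
    (hA : IsElementaryAbelian p A) (hcl : ⁅⁅B, B⁆, B⁆ = ⊥) (hBA : ⁅⁅B, B⁆, A⁆ = ⊥)
    (hnot : ¬ B ≤ normalizer (A : Set G)) :
    ∃ A' : Subgroup G, A' ≤ A ⊔ B ∧ IsElementaryAbelian p A' ∧ Nat.card A ≤ Nat.card A' ∧
      A ⊓ B < A' ⊓ B ∧ A' ≤ normalizer (A : Set G) := by
  classical
  obtain ⟨hAc, hAp⟩ := ThompsonJ.isElementaryAbelian_iff.1 hA
  have hcl' : ∀ y ∈ B, ∀ z ∈ B, ∀ t ∈ B, Commute ⁅y, z⁆ t := by
    intro y hy z hz t ht
    rw [commutator_eq_bot_iff_le_centralizer] at hcl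
    exact (mem_centralizer_iff.1 (hcl (commutator_mem_commutator hy hz)) t ht).symm
  have hBA' : ∀ y ∈ B, ∀ z ∈ B, ∀ a ∈ A, Commute ⁅y, z⁆ a := by
    intro y hy z hz t ht
    rw [commutator_eq_bot_iff_le_centralizer] at hBA
    exact (mem_centralizer_iff.1 (hBA (commutator_mem_commutator hy hz)) t ht).symm
  obtain ⟨x, hxB, hxN, hx1, hx2⟩ := exists_mem_conj_le_normalizer hpAB hAB hnot
  have hB : ∀ a ∈ A, ∀ y ∈ B, a * y * a⁻¹ ∈ B := le_normalizer_iff.1 hAB
  have hu : ∀ a ∈ A, ⁅a, x⁆ ∈ B := by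
    intro a ha
    rw [commutatorElement_def]
    exact mul_mem (hB a ha x hxB) (inv_mem hxB)
  -- the conjugate of `A` by `x`
  set Ax : Subgroup G := A.map (MulAut.conj x).toMonoidHom with hAx
  have hmemAx : ∀ g : G, g ∈ Ax ↔ x⁻¹ * g * x ∈ A := by
    intro g
    rw [hAx, mem_map]
    constructor
    · rintro ⟨a, ha, rfl⟩
      simpa [mul_assoc] using ha
    · intro h
      exact ⟨_, h, by simp [mul_assoc]⟩
  have hAxN : Ax ≤ normalizer (A : Set G) := by
    rintro g ⟨a, ha, rfl⟩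
    exact hx1 a ha
  have hNAx : A ≤ normalizer (Ax : Set G) := by
    rw [le_normalizer_iff]
    intro a ha c hc
    rw [hmemAx] at hc ⊢
    have h1 := (mem_normalizer_iff.1 (hx2 a ha) (x⁻¹ * c * x)).1 hc
    have h2 : x⁻¹ * a * x * (x⁻¹ * c * x) * (x⁻¹ * a * x)⁻¹ = x⁻¹ * (a * c * a⁻¹) * x := by group
    rwa [h2] at h1
  have hAxc : ∀ a ∈ Ax, ∀ b ∈ Ax, a * b = b * a := by
    intro a ha b hb
    rw [hmemAx] at ha hb
    have h1 := hAc _ ha _ hb
    have h2 : x * (x⁻¹ * a * x * (x⁻¹ * b * x)) * x⁻¹ = a * b := by group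
    have h3 : x * (x⁻¹ * b * x * (x⁻¹ * a * x)) * x⁻¹ = b * a := by group
    rw [← h2, ← h3, h1]
  have hAxp : ∀ a ∈ Ax, a ^ p = 1 := by
    intro a ha
    rw [hmemAx] at ha
    have h1 := hAp _ ha
    have h2 : a = x * (x⁻¹ * a * x) * x⁻¹ := by group
    rw [h2, conj_pow, h1, mul_one, mul_inv_cancel]
  -- commutators of elements of `A` and `Ax`
  have hcomm : ∀ a ∈ A, ∀ c ∈ Ax, ⁅a, c⁆ ∈ A ⊓ Ax := by
    intro a ha c hc
    rw [mem_inf, commutatorElement_def]
    constructor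
    · have h1 : a * c * a⁻¹ * c⁻¹ = a * (c * a⁻¹ * c⁻¹) := by group
      rw [h1]
      exact mul_mem ha ((mem_normalizer_iff.1 (hAxN hc) _).1 (inv_mem ha))
    · exact mul_mem ((mem_normalizer_iff.1 (hNAx ha) _).1 hc) (inv_mem hc)
  -- `A ⊓ Ax` centralises `A` and `Ax`
  have hZA : ∀ z ∈ A ⊓ Ax, ∀ a ∈ A, Commute z a := fun z hz a ha => hAc z hz.1 a ha
  have hZAx : ∀ z ∈ A ⊓ Ax, ∀ a ∈ Ax, Commute z a := fun z hz a ha => hAxc z hz.2 a ha
  have hxa : ∀ a ∈ A, x * a * x⁻¹ ∈ Ax := by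
    intro a ha
    rw [hmemAx]
    simpa [mul_assoc] using ha
  -- `u_a = a * (x a⁻¹ x⁻¹)`
  have hua : ∀ a : G, ⁅a, x⁆ = a * (x * a⁻¹ * x⁻¹) := by
    intro a; rw [commutatorElement_def]; group
  have hZu : ∀ z ∈ A ⊓ Ax, ∀ a ∈ A, Commute z ⁅a, x⁆ := by
    intro z hz a ha
    rw [hua]
    exact (hZA z hz a ha).mul_right (hZAx z hz _ (hxa _ (inv_mem ha)))
  have hau : ∀ a ∈ A, ∀ b ∈ A, ⁅a, ⁅b, x⁆⁆ ∈ A ⊓ Ax := by
    intro a ha b hb
    have h1 : ⁅a, ⁅b, x⁆⁆ = ⁅a, x * b⁻¹ * x⁻¹⁆ := by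
      rw [hua b, commutatorElement_def, commutatorElement_def]
      have hab := hAc a ha b hb
      have h2 : a * (b * (x * b⁻¹ * x⁻¹)) * a⁻¹ = b * (a * (x * b⁻¹ * x⁻¹) * a⁻¹) := by
        rw [← mul_assoc a b, hab]; group
      rw [h2]
      have h3 : b * (a * (x * b⁻¹ * x⁻¹) * a⁻¹) * (b * (x * b⁻¹ * x⁻¹))⁻¹
          = b * (a * (x * b⁻¹ * x⁻¹) * a⁻¹ * (x * b⁻¹ * x⁻¹)⁻¹) * b⁻¹ := by group
      rw [h3]
      have h4 := hcomm a ha _ (hxa _ (inv_mem hb))
      rw [commutatorElement_def] at h4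
      have h5 := (hZA _ h4 b hb).eq
      rw [← h5, mul_inv_cancel_right]
    rw [h1]
    exact hcomm a ha _ (hxa _ (inv_mem hb))
  have hZ : ∀ a ∈ A, ∀ b ∈ A, ∀ c ∈ A, Commute ⁅a, ⁅b, x⁆⁆ ⁅c, x⁆ :=
    fun a ha b hb c hc => hZu _ (hau a ha b hb) c hc
  -- the elements `u_a` commute
  have huu : ∀ a ∈ A, ∀ b ∈ A, Commute ⁅a, x⁆ ⁅b, x⁆ := by
    intro a ha b hb
    have h1 := sq_eq_one hAc hAB hcl' hBA' hxB hZ ha hb
    have h2 : ⁅⁅a, x⁆, ⁅b, x⁆⁆ ∈ A ⊔ B := by
      have h3 := hu a ha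
      have h4 := hu b hb
      refine mem_sup_right ?_
      rw [commutatorElement_def]
      exact mul_mem (mul_mem (mul_mem h3 h4) (inv_mem h3)) (inv_mem h4)
    obtain ⟨k, hk⟩ := hpAB ⟨_, h2⟩
    have hk' : ⁅⁅a, x⁆, ⁅b, x⁆⁆ ^ p ^ k = 1 := by
      have := congrArg Subtype.val hk
      simpa using this
    have hodd : Nat.Coprime 2 (p ^ k) := by
      refine Nat.Coprime.pow_right k ?_
      exact (Nat.coprime_primes Nat.prime_two (Fact.out : p.Prime)).2 (Ne.symm hp)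
    have h5 : orderOf ⁅⁅a, x⁆, ⁅b, x⁆⁆ ∣ 1 := by
      rw [← hodd.gcd_eq_one]
      exact Nat.dvd_gcd (orderOf_dvd_of_pow_eq_one h1) (orderOf_dvd_of_pow_eq_one hk')
    rw [← commutatorElement_eq_one_iff_commute]
    exact orderOf_eq_one_iff.1 (Nat.dvd_one.1 h5)
  -- the subgroup `M`
  set M : Subgroup G := closure {g | ∃ a ∈ A, g = ⁅a, x⁆} with hM
  have huM : ∀ a ∈ A, ⁅a, x⁆ ∈ M := fun a ha => subset_closure ⟨a, ha, rfl⟩
  have hMB : M ≤ B := by
    rw [hM, closure_le]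
    rintro _ ⟨a, ha, rfl⟩
    exact hu a ha
  have hMN : M ≤ normalizer (A : Set G) := by
    rw [hM, closure_le]
    rintro _ ⟨a, ha, rfl⟩
    rw [hua]
    exact mul_mem (le_normalizer ha) (hAxN (hxa _ (inv_mem ha)))
  have hMc : ∀ y ∈ M, ∀ z ∈ M, y * z = z * y := by
    have h1 : M ≤ centralizer (M : Set G) := by
      have h2 : M ≤ centralizer {g | ∃ a ∈ A, g = ⁅a, x⁆} := by
        rw [hM, closure_le]
        rintro _ ⟨a, ha, rfl⟩
        rw [SetLike.mem_coe, mem_centralizer_iff]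
        rintro _ ⟨b, hb, rfl⟩
        exact (huu b hb a ha).eq
      rw [le_centralizer_iff, hM, closure_le]
      intro g hg
      rw [SetLike.mem_coe, mem_centralizer_iff]
      intro h hh
      exact ((mem_centralizer_iff.1 (h2 hh)) g hg).symm
    intro y hy z hz
    exact (mem_centralizer_iff.1 (h1 hz)) y hy
  have hMp : ∀ y ∈ M, y ^ p = 1 := by
    intro y hy
    rw [hM] at hy
    refine closure_induction (p := fun y _ => y ^ p = 1) ?_ (one_pow p) ?_ ?_ hy
    · rintro _ ⟨a, ha, rfl⟩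
      rw [hua]
      set c := x * a⁻¹ * x⁻¹ with hc
      have hcAx : c ∈ Ax := hxa _ (inv_mem ha)
      have hac : ⁅c⁻¹, a⁻¹⁆ ∈ A ⊓ Ax := by
        rw [← commutatorElement_inv]
        exact inv_mem (hcomm _ (inv_mem ha) _ (inv_mem hcAx))
      have h1 : c * a = a * c * ⁅c⁻¹, a⁻¹⁆ := by
        rw [commutatorElement_def]; group
      rw [mul_pow_of_commute h1 (hZA _ hac a ha) (hZAx _ hac c hcAx), hAp a ha, hAxp c hcAx,
        one_mul, one_mul]
      have h2 : p ∣ p.choose 2 :=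
        (Fact.out : p.Prime).dvd_choose_self (by norm_num)
          (lt_of_le_of_ne (Fact.out : p.Prime).two_le (Ne.symm hp))
      obtain ⟨m, hm⟩ := h2
      rw [hm, pow_mul, hAp _ hac.1, one_pow]
    · intro y z hy' hz' hy hz
      have hc : Commute y z := hMc y (by rw [hM]; exact hy') z (by rw [hM]; exact hz')
      rw [hc.mul_pow, hy, hz, one_mul]
    · intro y _ hy
      rw [inv_pow, hy, inv_one]
  -- the centralizer part
  set C : Subgroup G := A ⊓ centralizer (M : Set G) with hC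
  have hCM : ∀ c ∈ C, ∀ m ∈ M, c * m = m * c := by
    intro c hc m hm
    exact ((mem_centralizer_iff.1 hc.2) m hm).symm
  have hZC : A ⊓ Ax ≤ C := by
    intro z hz
    refine ⟨hz.1, ?_⟩
    have h1 : M ≤ centralizer ({z} : Set G) := by
      rw [hM, closure_le]
      rintro _ ⟨a, ha, rfl⟩
      rw [SetLike.mem_coe, mem_centralizer_singleton_iff]
      exact (hZu z hz a ha).symm.eq
    refine mem_centralizer_iff.2 ?_
    intro m hm
    exact mem_centralizer_singleton_iff.1 (h1 hm)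
  refine ⟨M ⊔ C, ?_, ?_, ?_, ?_, ?_⟩
  · exact sup_le (hMB.trans le_sup_right) (inf_le_left.trans le_sup_left)
  · -- elementary abelian
    have hMC : ((M ⊔ C : Subgroup G) : Set G) = (M : Set G) * (C : Set G) := by
      refine coe_mul_of_left_le_normalizer_right M C ?_
      rw [le_normalizer_iff]
      intro m hm c hc
      rw [← hCM c hc m hm, mul_inv_cancel_right]
      exact hc
    rw [ThompsonJ.isElementaryAbelian_iff]
    constructor
    · intro y hy z hz
      rw [← SetLike.mem_coe, hMC] at hy hz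
      obtain ⟨m, hm, c, hc, rfl⟩ := hy
      obtain ⟨m', hm', c', hc', rfl⟩ := hz
      have e1 : Commute m m' := hMc m hm m' hm'
      have e2 : Commute m c' := (hCM c' hc' m hm).symm
      have e3 : Commute c m' := hCM c hc m' hm'
      have e4 : Commute c c' := hAc c hc.1 c' hc'.1
      exact (Commute.mul_left (e1.mul_right e2) (e3.mul_right e4)).eq
    · intro y hy
      rw [← SetLike.mem_coe, hMC] at hy
      obtain ⟨m, hm, c, hc, rfl⟩ := hy
      have e2 : Commute m c := (hCM c hc m hm).symm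
      show (m * c) ^ p = 1
      rw [e2.mul_pow, hMp m hm, hAp c hc.1, one_mul]
  · -- the order
    have hMC : ((M ⊔ C : Subgroup G) : Set G) = (M : Set G) * (C : Set G) := by
      refine coe_mul_of_left_le_normalizer_right M C ?_
      rw [le_normalizer_iff]
      intro m hm c hc
      rw [← hCM c hc m hm, mul_inv_cancel_right]
      exact hc
    have k1 := Lib.ProductSet.card_mul_card_inf M C
    have k2 := Lib.ProductSet.card_mul_card_inf A M
    have k3 := Lib.ProductSet.card_mul_card_inf A Ax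
    have hcardAx : Nat.card Ax = Nat.card A :=
      ThompsonJ.card_map_injective A (MulAut.conj x).injective
    have hsub : ((A : Set G) * (Ax : Set G)) ⊆ (A : Set G) * (M : Set G) := by
      rintro _ ⟨a, ha, c, hc, rfl⟩
      rw [SetLike.mem_coe, hmemAx] at hc
      refine ⟨a * (x⁻¹ * c * x), mul_mem ha hc, ⁅(x⁻¹ * c * x)⁻¹, x⁆,
        huM _ (inv_mem hc), ?_⟩
      show a * (x⁻¹ * c * x) * ⁅(x⁻¹ * c * x)⁻¹, x⁆ = a * c
      rw [commutatorElement_def]; group
    have k4 : Nat.card ((A : Set G) * (Ax : Set G) : Set G) ≤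
        Nat.card ((A : Set G) * (M : Set G) : Set G) := by
      rw [Nat.card_coe_set_eq, Nat.card_coe_set_eq]
      exact Set.ncard_le_ncard hsub (Set.toFinite _)
    have k5 : Nat.card (A ⊓ Ax : Subgroup G) ≤ Nat.card C :=
      Nat.card_le_card_of_injective _ (inclusion_injective hZC)
    have k6 : M ⊓ C = A ⊓ M := by
      ext y
      constructor
      · rintro ⟨h1, h2⟩
        exact ⟨h2.1, h1⟩
      · rintro ⟨h1, h2⟩
        refine ⟨h2, h1, mem_centralizer_iff.2 ?_⟩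
        intro m hm
        exact hMc m hm y h2
    rw [k6] at k1
    have k7 : Nat.card (M ⊔ C : Subgroup G) = Nat.card ((M : Set G) * (C : Set G) : Set G) := by
      rw [← hMC]; rfl
    rw [k7]
    rw [hcardAx] at k3
    have p1 : 0 < Nat.card (A ⊓ M : Subgroup G) := Nat.card_pos
    have p2 : 0 < Nat.card (A ⊓ Ax : Subgroup G) := Nat.card_pos
    have p3 : 0 < Nat.card A := Nat.card_pos
    set α := Nat.card A
    set μ := Nat.card M
    set γ := Nat.card C
    set s := Nat.card (A ⊓ M : Subgroup G)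
    set t := Nat.card (A ⊓ Ax : Subgroup G)
    set X := Nat.card ((M : Set G) * (C : Set G) : Set G)
    set Y := Nat.card ((A : Set G) * (M : Set G) : Set G)
    set W := Nat.card ((A : Set G) * (Ax : Set G) : Set G)
    -- k1 : X * s = μ * γ, k2 : Y * s = α * μ, k3 : W * t = α * α, k4 : W ≤ Y, k5 : t ≤ γ
    have q1 : α * (α * s) ≤ α * (μ * t) := by
      calc α * (α * s) = (α * α) * s := by ring
        _ = W * t * s := by rw [k3]
        _ ≤ Y * t * s := Nat.mul_le_mul_right _ (Nat.mul_le_mul_right _ k4)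
        _ = (Y * s) * t := by ring
        _ = α * (μ * t) := by rw [k2]; ring
    have q2 : α * s ≤ μ * t := Nat.le_of_mul_le_mul_left q1 p3
    have q3 : α * s ≤ X * s := by
      rw [k1]
      exact q2.trans (Nat.mul_le_mul_left _ k5)
    exact Nat.le_of_mul_le_mul_right q3 p1
  · -- strictly larger intersection with `B`
    have hle : A ⊓ B ≤ (M ⊔ C) ⊓ B := by
      rintro w ⟨hwA, hwB⟩
      refine ⟨mem_sup_right ⟨hwA, ?_⟩, hwB⟩
      have h1 : M ≤ centralizer ({w} : Set G) := by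
        rw [hM, closure_le]
        rintro _ ⟨a, ha, rfl⟩
        rw [SetLike.mem_coe, mem_centralizer_singleton_iff]
        have e1 : a * ⁅x, w⁆ * a⁻¹ = ⁅x, w⁆ := by
          rw [← (hBA' x hxB w hwB a ha).eq, mul_inv_cancel_right]
        have e2 : a * x * a⁻¹ = ⁅a, x⁆ * x := by rw [commutatorElement_def]; group
        have e3 : a * w * a⁻¹ = w := by rw [hAc a ha w hwA, mul_inv_cancel_right]
        rw [conjugate_commutatorElement, e2, e3,
          comm_mul_left_of_commute (hcl' x hxB w hwB _ (hu a ha)), mul_eq_left] at e1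
        exact commutatorElement_eq_one_iff_mul_comm.1 e1
      refine mem_centralizer_iff.2 ?_
      intro m hm
      exact mem_centralizer_singleton_iff.1 (h1 hm)
    refine lt_of_le_of_ne hle ?_
    intro heq
    apply hxN
    have hMA : M ≤ A := by
      have h1 : M ≤ (M ⊔ C) ⊓ B := le_inf le_sup_left hMB
      rw [← heq] at h1
      exact h1.trans inf_le_left
    have hAxA : Ax ≤ A := by
      rintro _ ⟨a, ha, rfl⟩
      have h1 : (MulAut.conj x).toMonoidHom a = a * ⁅a⁻¹, x⁆ := by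
        show x * a * x⁻¹ = _
        rw [commutatorElement_def]; group
      rw [h1]
      exact mul_mem ha (hMA (huM _ (inv_mem ha)))
    rw [mem_normalizer_iff_map_conj_eq]
    exact Subgroup.eq_of_le_of_card_ge hAxA
      (by rw [ThompsonJ.card_map_injective A (MulAut.conj x).injective])
  · exact sup_le hMN (inf_le_left.trans le_normalizer)

end Cfsg.Agent.PLocal.ReplacementElem
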