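import Mathlib
import Cfsg.Prelude.Def_Transfer
import Cfsg.Prelude.Def_PLocal
import Cfsg.Agent.PLocal.ThompsonJ
import Cfsg.Agent.PLocal.ElemAbSup
import Cfsg.Agent.PLocal.SylowFixed
import Cfsg.Agent.PLocal.ReplacementElem
import Cfsg.Agent.Lib.Cores
import Cfsg.Agent.Lib.CoprimeStab

/-!
The full ZJ theorem for the elementary abelian Thompson subgroup: `Z(J_e(S)) = Cfsg.centerThompsonOf p S`
is normal in `G` when `p` is odd, `C_G(O_p(G)) ≤ O_p(G)` and the elements of `S` act `p`-stably on the
normal `p`-subgroups of `G`.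
-/

set_option autoImplicit false
set_option linter.style.haveILetI false

namespace Cfsg.Agent.PLocal.ZJElem

open Cfsg Subgroup
open scoped commutatorElement Pointwise
open Cfsg.Agent.PLocal.ThompsonJ

universe u v

/-! ### Generalities -/

theorem centerThompsonOf_def {G : Type u} [Group G] (p : ℕ) (P : Subgroup G) :
    centerThompsonOf p P = thompsonSubgroupOf p P ⊓
      Subgroup.centralizer (thompsonSubgroupOf p P : Set G) := rfl

theorem centerThompsonOf_le_thompson {G : Type u} [Group G] (p : ℕ) (P : Subgroup G) :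
    centerThompsonOf p P ≤ thompsonSubgroupOf p P := inf_le_left

theorem centerThompsonOf_le_centralizer {G : Type u} [Group G] (p : ℕ) (P : Subgroup G) :
    centerThompsonOf p P ≤ Subgroup.centralizer (thompsonSubgroupOf p P : Set G) := inf_le_right

theorem centerThompsonOf_le {G : Type u} [Group G] (p : ℕ) (P : Subgroup G) :
    centerThompsonOf p P ≤ P := inf_le_left.trans (thompsonSubgroupOf_le_self p P)

theorem centerThompsonOf_comm {G : Type u} [Group G] {p : ℕ} {P : Subgroup G} {x y : G}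
    (hx : x ∈ centerThompsonOf p P) (hy : y ∈ centerThompsonOf p P) : x * y = y * x :=
  (mem_centralizer_iff.1 (centerThompsonOf_le_centralizer p P hy)) x
    (centerThompsonOf_le_thompson p P hx)

/-- `A ⊓ C(A)` is compatible with injective homomorphisms. -/
theorem map_inf_centralizer_self {G : Type u} {H : Type v} [Group G] [Group H] {f : G →* H}
    (hf : Function.Injective f) (A : Subgroup G) :
    (A ⊓ Subgroup.centralizer (A : Set G)).map f =
      A.map f ⊓ Subgroup.centralizer ((A.map f : Subgroup H) : Set H) := by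
  ext y
  constructor
  · rintro ⟨x, ⟨hx1, hx2⟩, rfl⟩
    refine ⟨mem_map_of_mem f hx1, mem_centralizer_iff.2 ?_⟩
    rintro _ ⟨z, hz, rfl⟩
    rw [← map_mul, ← map_mul, mem_centralizer_iff.1 hx2 z hz]
  · rintro ⟨⟨x, hx, rfl⟩, h2⟩
    refine ⟨x, ⟨hx, mem_centralizer_iff.2 ?_⟩, rfl⟩
    intro z hz
    apply hf
    rw [map_mul, map_mul]
    exact mem_centralizer_iff.1 h2 _ (mem_map_of_mem f hz)

theorem centerThompsonOf_map {G : Type u} {H : Type v} [Group G] [Group H] (p : ℕ) {f : G →* H}
    (hf : Function.Injective f) (P : Subgroup G) :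
    centerThompsonOf p (P.map f) = (centerThompsonOf p P).map f := by
  rw [centerThompsonOf_def, centerThompsonOf_def, map_inf_centralizer_self hf,
    thompsonSubgroupOf_map p hf]

/-- `N_G(P) ≤ N_G(J(P))`. -/
theorem normalizer_le_normalizer_thompsonSubgroupOf {G : Type u} [Group G] (p : ℕ)
    (P : Subgroup G) :
    normalizer (P : Set G) ≤ normalizer (thompsonSubgroupOf p P : Set G) := by
  intro g hg
  rw [mem_normalizer_iff_map_conj_eq] at hg ⊢
  rw [show (thompsonSubgroupOf p P).map (MulAut.conj g) = (thompsonSubgroupOf p P).map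
    (MulAut.conj g).toMonoidHom from rfl, ← thompsonSubgroupOf_map_conj,
    show P.map (MulAut.conj g).toMonoidHom = P from hg]

/-- `N_G(J(P)) ≤ N_G(Z(J(P)))`. -/
theorem normalizer_thompsonSubgroupOf_le {G : Type u} [Group G] (p : ℕ) (P : Subgroup G) :
    normalizer (thompsonSubgroupOf p P : Set G) ≤ normalizer (centerThompsonOf p P : Set G) := by
  intro g hg
  rw [mem_normalizer_iff_map_conj_eq] at hg ⊢
  rw [centerThompsonOf_def]
  have h := map_inf_centralizer_self (f := (MulAut.conj g).toMonoidHom) (MulAut.conj g).injective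
    (thompsonSubgroupOf p P)
  rw [show (thompsonSubgroupOf p P).map (MulAut.conj g).toMonoidHom = thompsonSubgroupOf p P
    from hg] at h
  exact h

theorem normalizer_le_normalizer_centerThompsonOf {G : Type u} [Group G] (p : ℕ)
    (P : Subgroup G) :
    normalizer (P : Set G) ≤ normalizer (centerThompsonOf p P : Set G) :=
  (normalizer_le_normalizer_thompsonSubgroupOf p P).trans (normalizer_thompsonSubgroupOf_le p P)

/-! ### Frattini argument for `S ⊓ L`, `L` normal -/

theorem exists_sylow_subgroupOf {G : Type u} [Group G] [Finite G] {p : ℕ} [Fact p.Prime]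
    (S : Sylow p G) (L : Subgroup G) [L.Normal] :
    ∃ Q : Sylow p L, (Q : Subgroup L).map L.subtype = (S : Subgroup G) ⊓ L := by
  have h1 : IsPGroup p ((S : Subgroup G).subgroupOf L) := S.isPGroup'.comap_subtype
  obtain ⟨Q, hQ⟩ := h1.exists_le_sylow
  refine ⟨Q, ?_⟩
  have h2 : (S : Subgroup G) ⊓ L ≤ (Q : Subgroup L).map L.subtype := by
    have := Subgroup.map_mono (f := L.subtype) hQ
    rwa [subgroupOf_map_subtype] at this
  obtain ⟨T, hT⟩ := (Q.isPGroup'.map L.subtype).exists_le_sylow
  obtain ⟨g, hg⟩ := MulAction.exists_smul_eq G S T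
  have h3 : (Q : Subgroup L).map L.subtype ≤
      ((S : Subgroup G) ⊓ L).map (MulAut.conj g).toMonoidHom := by
    intro y hy
    have hyT := hT hy
    have hyL : y ∈ L := map_subtype_le _ hy
    rw [← hg, Sylow.coe_subgroup_smul] at hyT
    obtain ⟨s, hs, hsy⟩ := hyT
    have hsy' : g * s * g⁻¹ = y := hsy
    refine ⟨s, ⟨hs, ?_⟩, hsy⟩
    have h4 : s = g⁻¹ * y * g⁻¹⁻¹ := by rw [← hsy']; group
    rw [SetLike.mem_coe, h4]
    exact Normal.conj_mem inferInstance y hyL g⁻¹
  refine (Subgroup.eq_of_le_of_card_ge h2 ?_).symm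
  refine (Subgroup.card_le_of_le h3).trans ?_
  rw [card_map_injective _ (MulAut.conj g).injective]

theorem normalizer_inf_sup_eq_top {G : Type u} [Group G] [Finite G] {p : ℕ} [Fact p.Prime]
    (S : Sylow p G) (L : Subgroup G) [L.Normal] :
    normalizer (((S : Subgroup G) ⊓ L : Subgroup G) : Set G) ⊔ L = ⊤ := by
  obtain ⟨Q, hQ⟩ := exists_sylow_subgroupOf S L
  rw [← hQ]
  exact Sylow.normalizer_sup_eq_top Q

/-! ### The stability step -/

/-- If `D` is normal in `G` and modulo `C_G(B)` it is a `p`-group, where a Sylow `p`-subgroup `S` and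
`C_G(B)` normalize `T`, then `D` normalizes `T`. -/
theorem le_normalizer_of_pow {G : Type u} [Group G] [Finite G] {p : ℕ} [Fact p.Prime]
    {B D T : Subgroup G} [B.Normal] [D.Normal] (S : Sylow p G)
    (hST : (S : Subgroup G) ≤ normalizer (T : Set G))
    (hCT : centralizer (B : Set G) ≤ normalizer (T : Set G))
    (hD : ∀ d ∈ D, ∃ k : ℕ, d ^ p ^ k ∈ centralizer (B : Set G)) :
    D ≤ normalizer (T : Set G) := by
  intro d hd
  set C := centralizer (B : Set G) with hC
  haveI : C.Normal := by rw [hC]; infer_instance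
  have hN : IsPGroup p (D.map (QuotientGroup.mk' C)) := by
    rintro ⟨_, y, hy, rfl⟩
    obtain ⟨k, hk⟩ := hD y hy
    refine ⟨k, Subtype.ext ?_⟩
    show (QuotientGroup.mk' C y) ^ p ^ k = 1
    rw [← map_pow]
    exact (QuotientGroup.eq_one_iff _).2 hk
  haveI : (D.map (QuotientGroup.mk' C)).Normal :=
    Subgroup.Normal.map inferInstance _ (QuotientGroup.mk'_surjective C)
  obtain ⟨s, hs, c, hc, rfl⟩ := SylowFixed.exists_mul_of_mk_mem C _ hN S (mem_map_of_mem _ hd)
  exact mul_mem (hST hs) (hCT hc)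

/-- For odd `p`: an element centralising all elements `b` of the `p`-group `B` with `b ^ p = 1` has a
`p ^ k`-th power centralising `B`. -/
theorem exists_pow_mem_centralizer {G : Type u} [Group G] [Finite G] {p : ℕ} [Fact p.Prime]
    (hp : p ≠ 2) {B : Subgroup G} [B.Normal] (hB : IsPGroup p B) {y : G}
    (hy : ∀ b ∈ B, b ^ p = 1 → Commute b y) :
    ∃ k : ℕ, y ^ p ^ k ∈ centralizer (B : Set G) := by
  obtain ⟨k, r, hr, hor⟩ := Nat.exists_eq_pow_mul_and_not_dvd (orderOf_pos y).ne' p
    (Fact.out : p.Prime).ne_one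
  refine ⟨k, ?_⟩
  have hord : orderOf (y ^ p ^ k) = r := by
    have hpk : 0 < p ^ k := pow_pos (Fact.out : p.Prime).pos k
    rw [orderOf_pow, hor, Nat.gcd_eq_right (Dvd.intro _ rfl), Nat.mul_div_cancel_left _ hpk]
  have h1 : (zpowers (y ^ p ^ k)) ≤ centralizer (B : Set G) := by
    refine Lib.CoprimeStab.le_centralizer_of_omega p hp _ ?_ B hB le_normalizer_of_normal ?_
    · rw [Nat.card_zpowers, hord]
      exact (((Fact.out : p.Prime).coprime_iff_not_dvd).2 hr).symm
    · intro b hb hbp a ha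
      obtain ⟨m, rfl⟩ := mem_zpowers_iff.1 ha
      exact ((hy b hb hbp).pow_right _).zpow_right _
  exact h1 (mem_zpowers _)

/-! ### The ZJ theorem -/

/-- The closure of the elements of order dividing `p` of a normal subgroup is normal. -/
theorem omega_normal {G : Type u} [Group G] (p : ℕ) (B : Subgroup G) [B.Normal] :
    (closure {x : G | x ∈ B ∧ x ^ p = 1}).Normal := by
  rw [← normalizer_eq_top_iff, eq_top_iff, le_normalizer_closure_iff]
  rintro h - g ⟨hg1, hg2⟩
  refine subset_closure ⟨Normal.conj_mem inferInstance g hg1 h, ?_⟩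
  rw [conj_pow, hg2, mul_one, mul_inv_cancel]

/-- The set of largest elementary abelian subgroups inside a subgroup `U` of `S` containing one of
them: `J(U)` is generated by them. -/
theorem thompsonSubgroupOf_mono_of_mem {G : Type u} [Group G] {p : ℕ} {U V A : Subgroup G}
    (hUV : U ≤ V) (hA : A ∈ maxElementaryAbelianSubgroups p G) (hAU : A ≤ U) :
    thompsonSubgroupOf p U ≤ thompsonSubgroupOf p V := by
  rw [thompsonSubgroupOf_eq_sSup hA hAU, thompsonSubgroupOf_eq_sSup hA (hAU.trans hUV)]
  exact sSup_le_sSup fun X hX => ⟨hX.1, hX.2.trans hUV⟩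

/-- **ZJ theorem** (elementary abelian Thompson subgroup), main step: `B ∩ Z(J(S))` is normal in `G`
for every normal `p`-subgroup `B`. -/
theorem inf_centerThompsonOf_normal {G : Type u} [Group G] [Finite G] {p : ℕ} [Fact p.Prime]
    (hp : p ≠ 2) (S : Sylow p G)
    (hst : ∀ (P : Subgroup G) [P.Normal], IsPGroup p P → ∀ a ∈ (S : Subgroup G),
      ⁅⁅P, Subgroup.zpowers a⁆, Subgroup.zpowers a⁆ = ⊥ →
        (QuotientGroup.mk a : G ⧸ Subgroup.centralizer (P : Set G)) ∈
          pCore p (G ⧸ Subgroup.centralizer (P : Set G)))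
    (B : Subgroup G) [hBn : B.Normal] (hB : IsPGroup p B) :
    (B ⊓ centerThompsonOf p (S : Subgroup G)).Normal := by
  obtain ⟨n, hn⟩ : ∃ n, Nat.card B = n := ⟨_, rfl⟩
  induction n using Nat.strong_induction_on generalizing B with
  | _ n ih =>
  subst hn
  set Z := centerThompsonOf p (S : Subgroup G) with hZ
  set J := thompsonSubgroupOf p (S : Subgroup G) with hJ
  set T : Subgroup G := B ⊓ Z with hT
  have hBS : B ≤ (S : Subgroup G) := hB.le_sylow_of_normal S
  have hTB : T ≤ B := inf_le_left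
  have hTZ : T ≤ Z := inf_le_right
  have hZS : (S : Subgroup G) ≤ normalizer (Z : Set G) :=
    le_normalizer.trans (normalizer_le_normalizer_centerThompsonOf p _)
  have hST : (S : Subgroup G) ≤ normalizer (T : Set G) := by
    refine le_trans (le_inf ?_ hZS) inf_normalizer_le_normalizer_inf
    rw [normalizer_eq_top]; exact le_top
  have hZJ : Z ≤ centralizer (J : Set G) := centerThompsonOf_le_centralizer p _
  -- reduction to the case where `B` is the normal closure of `T`
  by_cases hB1 : normalClosure (T : Set G) = B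
  swap
  · have h1 : normalClosure (T : Set G) ≤ B := normalClosure_le_normal hTB
    have h2 : Nat.card (normalClosure (T : Set G)) < Nat.card B :=
      lt_of_le_of_ne (card_le_of_le h1)
        (fun h => hB1 (Subgroup.eq_of_le_of_card_ge h1 h.ge))
    have h3 := ih _ h2 (normalClosure (T : Set G)) (hB.to_le h1) rfl
    have h4 : normalClosure (T : Set G) ⊓ Z = T := by
      apply le_antisymm
      · exact inf_le_inf_right _ h1
      · exact le_inf subset_normalClosure hTZ
    rwa [h4] at h3
  -- trivial case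
  by_cases hbot : B = ⊥
  · have : T = ⊥ := le_bot_iff.1 (hTB.trans hbot.le)
    rw [this]; infer_instance
  -- `[B, B]` lies in `Z` and is central
  have hBB : ⁅B, B⁆ < B := by
    haveI : Nontrivial B := (nontrivial_iff_ne_bot B).2 hbot
    haveI : Group.IsNilpotent B := hB.isNilpotent
    have h1 : _root_.commutator B < ⊤ := IsSolvable.commutator_lt_top_of_nontrivial (G := B)
    have h2 := (map_subtype_lt_map_subtype (G' := B)).2 h1
    rw [map_subtype_commutator, ← MonoidHom.range_eq_map, range_subtype] at h2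
    exact h2
  have hWn : (⁅B, B⁆ ⊓ Z).Normal := by
    refine ih _ ?_ ⁅B, B⁆ (hB.to_le hBB.le) rfl
    exact lt_of_le_of_ne (card_le_of_le hBB.le)
      (fun h => hBB.ne (Subgroup.eq_of_le_of_card_ge hBB.le h.ge))
  have hTBW : ⁅T, B⁆ ≤ ⁅B, B⁆ ⊓ Z := by
    refine le_inf (commutator_mono hTB le_rfl) ?_
    refine le_trans ?_ hTZ
    exact le_normalizer_iff_commutator_le_left.1 (hBS.trans hST)
  have hBBZ : ⁅B, B⁆ ≤ Z := by
    have h1 : ⁅B, B⁆ ≤ ⁅B, B⁆ ⊓ Z := by
      rw [Lib.Cores.commutator_le_iff_le_comap_centralizer] at hTBW ⊢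
      haveI : (B.map (QuotientGroup.mk' (⁅B, B⁆ ⊓ Z))).Normal :=
        hBn.map _ (QuotientGroup.mk'_surjective _)
      have h2 := normalClosure_le_normal (N := comap (QuotientGroup.mk' (⁅B, B⁆ ⊓ Z))
        (centralizer ((B.map (QuotientGroup.mk' (⁅B, B⁆ ⊓ Z)) : Subgroup _) : Set _))) hTBW
      rwa [hB1] at h2
    exact h1.trans inf_le_right
  have hcl : ⁅⁅B, B⁆, B⁆ = ⊥ := by
    rw [commutator_comm, commutator_eq_bot_iff_le_centralizer]
    have h1 : T ≤ centralizer ((⁅B, B⁆ : Subgroup G) : Set G) := by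
      intro t ht
      rw [mem_centralizer_iff]
      intro c hc
      exact centerThompsonOf_comm (hBBZ hc) (hTZ ht)
    have h2 := normalClosure_le_normal h1
    rwa [hB1] at h2
  -- the subgroup `L`
  set L : Subgroup G := (normalizer (T : Set G)).normalCore with hL
  have hLT : L ≤ normalizer (T : Set G) := normalCore_le _
  have hCT : centralizer (B : Set G) ≤ normalizer (T : Set G) :=
    (centralizer_le hTB).trans (centralizer_le_normalizer _)
  -- the stability step
  have claim : ∀ P : Subgroup G, P.Normal → P ≤ B → (∀ b ∈ B, b ^ p = 1 → b ∈ P) →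
      ∀ a ∈ (S : Subgroup G), ⁅⁅P, zpowers a⁆, zpowers a⁆ = ⊥ → a ∈ L := by
    intro P hPn hPB hPΩ a ha haq
    have h1 := hst P (hB.to_le hPB) a ha haq
    set C₁ := centralizer (P : Set G) with hC₁
    haveI : C₁.Normal := by rw [hC₁]; infer_instance
    set D : Subgroup G := (pCore p (G ⧸ C₁)).comap (QuotientGroup.mk' C₁) with hD
    haveI : (pCore p (G ⧸ C₁)).Normal := Lib.Cores.pCore_normal p
    haveI hDn : D.Normal := by rw [hD]; infer_instance
    have haD : a ∈ D := h1
    have hDT : D ≤ normalizer (T : Set G) := by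
      refine le_normalizer_of_pow (B := B) S hST hCT ?_
      intro d hd
      obtain ⟨j, hj⟩ := (Lib.Cores.pCore_isPGroup (G := G ⧸ C₁) p) ⟨_, hd⟩
      have hj' : d ^ p ^ j ∈ C₁ := by
        have := congrArg Subtype.val hj
        rw [← QuotientGroup.eq_one_iff]
        exact this
      obtain ⟨k, hk⟩ := exists_pow_mem_centralizer hp hB (y := d ^ p ^ j) (fun b hb hbp =>
        mem_centralizer_iff.1 hj' b (hPΩ b hb hbp))
      refine ⟨j + k, ?_⟩
      rw [pow_add, pow_mul]
      exact hk
    exact (normal_le_normalCore.2 hDT) haD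
  -- the case where all members of `A(S)` lie in `L`
  obtain ⟨A₀, hA₀, hA₀S⟩ := exists_max_le_sylow S
  have hfr := normalizer_inf_sup_eq_top S L
  by_cases hall : ∀ A ∈ maxElementaryAbelianSubgroups p G, A ≤ (S : Subgroup G) → A ≤ L
  · have hJR : thompsonSubgroupOf p ((S : Subgroup G) ⊓ L) = J := by
      rw [hJ, thompsonSubgroupOf_eq_sSup hA₀ hA₀S,
        thompsonSubgroupOf_eq_sSup hA₀ (le_inf hA₀S (hall _ hA₀ hA₀S))]
      congr 1
      ext A
      exact ⟨fun h => ⟨h.1, h.2.trans inf_le_left⟩, fun h => ⟨h.1, le_inf h.2 (hall A h.1 h.2)⟩⟩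
    have h1 : normalizer (((S : Subgroup G) ⊓ L : Subgroup G) : Set G) ≤
        normalizer (T : Set G) := by
      have h2 := normalizer_le_normalizer_thompsonSubgroupOf p ((S : Subgroup G) ⊓ L)
      rw [hJR, hJ] at h2
      exact le_trans (le_inf (le_top.trans (normalizer_eq_top_iff.2 hBn).ge)
        (h2.trans (normalizer_thompsonSubgroupOf_le p _))) inf_normalizer_le_normalizer_inf
    rw [← normalizer_eq_top_iff, eq_top_iff, ← hfr]
    exact sup_le h1 hLT
  -- choose `A`
  push Not at hall
  obtain ⟨A₁, hA₁, hA₁S, hA₁L⟩ := hall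
  obtain ⟨A, ⟨hA, hAS, hAL⟩, hAmax⟩ := Set.exists_max_image
    {A : Subgroup G | A ∈ maxElementaryAbelianSubgroups p G ∧ A ≤ (S : Subgroup G) ∧ ¬ A ≤ L}
    (fun A => Nat.card (A ⊓ B : Subgroup G)) (Set.toFinite _) ⟨A₁, hA₁, hA₁S, hA₁L⟩
  have hAab : ⁅A, A⁆ = ⊥ := by
    rw [commutator_eq_bot_iff_le_centralizer]
    intro a ha
    rw [mem_centralizer_iff]
    intro b hb
    exact isElementaryAbelian_comm hA.1 hb ha
  have hquad : ∀ P X : Subgroup G, ⁅P, A⁆ ≤ A → ∀ a ∈ A,
      ⁅⁅P, zpowers a⁆, zpowers a⁆ = ⊥ := by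
    intro P _ hPX a ha
    have h1 : zpowers a ≤ A := by rwa [zpowers_le]
    rw [eq_bot_iff, ← hAab]
    exact commutator_mono ((commutator_mono le_rfl h1).trans hPX) h1
  have hnot : ¬ B ≤ normalizer (A : Set G) := by
    intro h
    apply hAL
    intro a ha
    refine claim B hBn le_rfl (fun b hb _ => hb) a (hAS ha) (hquad B A ?_ a ha)
    exact le_normalizer_iff_commutator_le_right.1 h
  have hABS : A ⊔ B ≤ (S : Subgroup G) := sup_le hAS hBS
  have hAJ : A ≤ J := by
    rw [hJ, thompsonSubgroupOf_eq_sSup hA₀ hA₀S]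
    exact le_sSup ⟨hA, hAS⟩
  have hBA : ⁅⁅B, B⁆, A⁆ = ⊥ := by
    rw [commutator_eq_bot_iff_le_centralizer]
    exact (hBBZ.trans hZJ).trans (centralizer_le hAJ)
  obtain ⟨A', hA'AB, hA'el, hA'card, hA'B, hA'N⟩ := ReplacementElem.exists_replacement hp
    (S.isPGroup'.to_le hABS) le_normalizer_of_normal hA.1 hcl hBA hnot
  have hA' : A' ∈ maxElementaryAbelianSubgroups p G := mem_max_of_card_eq hA hA'el hA'card
  have hA'S : A' ≤ (S : Subgroup G) := hA'AB.trans hABS
  have hA'L : A' ≤ L := by
    by_contra hcon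
    have h1 := hAmax A' ⟨hA', hA'S, hcon⟩
    have h2 : Nat.card (A ⊓ B : Subgroup G) < Nat.card (A' ⊓ B : Subgroup G) :=
      lt_of_le_of_ne (card_le_of_le hA'B.le)
        (fun h => hA'B.ne (Subgroup.eq_of_le_of_card_ge hA'B.le h.ge))
    exact absurd h2 (not_lt.2 h1)
  -- `B` centralises `J(S ∩ L)`
  set R : Subgroup G := (S : Subgroup G) ⊓ L with hR
  have hA'R : A' ≤ R := le_inf hA'S hA'L
  have hJRJ : thompsonSubgroupOf p R ≤ J := thompsonSubgroupOf_mono_of_mem inf_le_left hA' hA'R
  have hBJR : B ≤ centralizer (thompsonSubgroupOf p R : Set G) := by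
    rw [← hB1, normalClosure, closure_le]
    intro y hy
    obtain ⟨t, ht, hty⟩ := Group.mem_conjugatesOfSet_iff.1 hy
    obtain ⟨g, hg⟩ := isConj_iff.1 hty
    have hgtop : g ∈ normalizer (R : Set G) ⊔ L := by rw [hR, hfr]; exact mem_top g
    obtain ⟨m, hm, l, hl, rfl⟩ := mem_sup_of_normal_right.1 hgtop
    have h1 : l * t * l⁻¹ ∈ T := (mem_normalizer_iff.1 (hLT hl) t).1 ht
    have h2 : l * t * l⁻¹ ∈ centralizer (thompsonSubgroupOf p R : Set G) :=
      centralizer_le hJRJ (hZJ (hTZ h1))
    have hm' : m ∈ normalizer (thompsonSubgroupOf p R : Set G) :=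
      normalizer_le_normalizer_thompsonSubgroupOf p R hm
    rw [SetLike.mem_coe, mem_centralizer_iff]
    intro c hc
    have h3 : m⁻¹ * c * m ∈ thompsonSubgroupOf p R := (mem_normalizer_iff''.1 hm' c).1 hc
    have h4 := mem_centralizer_iff.1 h2 _ h3
    rw [← hg]
    have h5 : c * (m * l * t * (m * l)⁻¹) = m * (m⁻¹ * c * m * (l * t * l⁻¹)) * m⁻¹ := by group
    have h6 : m * l * t * (m * l)⁻¹ * c = m * (l * t * l⁻¹ * (m⁻¹ * c * m)) * m⁻¹ := by group
    rw [h5, h6, h4]
  have hA'JR : A' ≤ thompsonSubgroupOf p R := by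
    rw [thompsonSubgroupOf_eq_sSup hA' hA'R]
    exact le_sSup ⟨hA', hA'R⟩
  have hBA' : B ≤ centralizer (A' : Set G) := hBJR.trans (centralizer_le hA'JR)
  -- the final contradiction with `Ω₁(B)`
  exfalso
  apply hAL
  intro a ha
  set P : Subgroup G := closure {x : G | x ∈ B ∧ x ^ p = 1} with hP
  have hPA' : P ≤ A' := by
    rw [hP, closure_le]
    rintro b ⟨hb, hbp⟩
    exact ElemAbSup.mem_of_mem_centralizer_of_mem_max hA' (hBA' hb) hbp
  refine claim P (omega_normal p B) ?_ (fun b hb hbp => subset_closure ⟨hb, hbp⟩) a (hAS ha)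
    (hquad P A ?_ a ha)
  · rw [hP, closure_le]
    exact fun b hb => hb.1
  · exact (commutator_mono hPA' le_rfl).trans (le_normalizer_iff_commutator_le_right.1 hA'N)

/-- `Z(J(S)) ≤ O_p(G)` under `p`-stability of the action on `O_p(G)` and `C_G(O_p(G)) ≤ O_p(G)`. -/
theorem centerThompsonOf_le_pCore {G : Type u} [Group G] [Finite G] {p : ℕ} [Fact p.Prime]
    (S : Sylow p G)
    (hst : ∀ a ∈ (S : Subgroup G),
      ⁅⁅pCore p G, Subgroup.zpowers a⁆, Subgroup.zpowers a⁆ = ⊥ →
        (QuotientGroup.mk a : G ⧸ Subgroup.centralizer (pCore p G : Set G)) ∈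
          pCore p (G ⧸ Subgroup.centralizer (pCore p G : Set G)))
    (hc : Subgroup.centralizer (pCore p G : Set G) ≤ pCore p G) :
    centerThompsonOf p (S : Subgroup G) ≤ pCore p G := by
  set Z := centerThompsonOf p (S : Subgroup G) with hZ
  have hZS : (S : Subgroup G) ≤ normalizer (Z : Set G) :=
    le_normalizer.trans (normalizer_le_normalizer_centerThompsonOf p _)
  have hZZ : ⁅Z, Z⁆ = ⊥ := by
    rw [commutator_eq_bot_iff_le_centralizer]
    intro a ha
    rw [mem_centralizer_iff]
    intro b hb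
    exact centerThompsonOf_comm hb ha
  have hOS : pCore p G ≤ (S : Subgroup G) := Lib.Cores.pCore_le_sylow S
  intro z hz
  have hzZ : zpowers z ≤ Z := by rwa [zpowers_le]
  have h1 := hst z (centerThompsonOf_le p _ hz) (by
    rw [eq_bot_iff, ← hZZ]
    refine commutator_mono ?_ hzZ
    exact (commutator_mono le_rfl hzZ).trans
      (le_normalizer_iff_commutator_le_right.1 (hOS.trans hZS)))
  have h2 := Lib.Cores.comap_mk_pCore p (N := centralizer (pCore p G : Set G))
    ((Lib.Cores.pCore_isPGroup p).to_le hc)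
  rw [← h2]
  exact h1

/-- **ZJ theorem** (elementary abelian Thompson subgroup): `Z(J(S))` is normal in `G`. -/
theorem centerThompsonOf_normal {G : Type u} [Group G] [Finite G] {p : ℕ} [Fact p.Prime]
    (hp : p ≠ 2) (S : Sylow p G)
    (hst : ∀ (P : Subgroup G) [P.Normal], IsPGroup p P → ∀ a ∈ (S : Subgroup G),
      ⁅⁅P, Subgroup.zpowers a⁆, Subgroup.zpowers a⁆ = ⊥ →
        (QuotientGroup.mk a : G ⧸ Subgroup.centralizer (P : Set G)) ∈
          pCore p (G ⧸ Subgroup.centralizer (P : Set G)))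
    (hc : Subgroup.centralizer (pCore p G : Set G) ≤ pCore p G) :
    (centerThompsonOf p (S : Subgroup G)).Normal := by
  have h1 := centerThompsonOf_le_pCore S (hst (pCore p G) (Lib.Cores.pCore_isPGroup p)) hc
  have h2 := inf_centerThompsonOf_normal hp S hst (pCore p G) (Lib.Cores.pCore_isPGroup p)
  rwa [inf_eq_right.2 h1] at h2

/-! ### Passage modulo a normal `p'`-subgroup -/

/-- The restriction of a homomorphism with `p'`-kernel to a `p`-subgroup is injective. -/
theorem injective_comp_subtype {G : Type u} {H : Type v} [Group G] [Finite G] [Group H] {p : ℕ}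
    [Fact p.Prime] {f : G →* H} (hf : (Nat.card f.ker).Coprime p) {P : Subgroup G}
    (hP : IsPGroup p P) : Function.Injective (f.comp P.subtype) := by
  rw [injective_iff_map_eq_one]
  intro x hx
  obtain ⟨k, hk⟩ := hP x
  have h1 : (x : G) ∈ f.ker := hx
  have h2 : (x : G) ^ Nat.card f.ker = 1 := by
    have := pow_card_eq_one' (G := f.ker) (x := ⟨x, h1⟩)
    simpa using congrArg Subtype.val this
  have h3 : (x : G) ^ p ^ k = 1 := by
    have := congrArg Subtype.val hk
    simpa using this
  have h4 : orderOf (x : G) ∣ 1 := by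
    rw [← (Nat.Coprime.pow_right k hf).gcd_eq_one]
    exact Nat.dvd_gcd (orderOf_dvd_of_pow_eq_one h2) (orderOf_dvd_of_pow_eq_one h3)
  exact Subtype.ext (orderOf_eq_one_iff.1 (Nat.dvd_one.1 h4))

/-- `J(f(P)) = f(J(P))` for `f` injective on `P`. -/
theorem thompsonSubgroupOf_map_of_injective_comp {G : Type u} {H : Type v} [Group G] [Group H]
    (p : ℕ) {f : G →* H} {P : Subgroup G} (hf : Function.Injective (f.comp P.subtype)) :
    thompsonSubgroupOf p (P.map f) = (thompsonSubgroupOf p P).map f := by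
  have h1 : P.map f = (⊤ : Subgroup P).map (f.comp P.subtype) := by
    rw [← Subgroup.map_map, ← MonoidHom.range_eq_map, range_subtype]
  have h2 : thompsonSubgroupOf p P =
      (thompsonSubgroupOf p (⊤ : Subgroup P)).map P.subtype := by
    rw [← thompsonSubgroupOf_map p P.subtype_injective, ← MonoidHom.range_eq_map, range_subtype]
  rw [h1, h2, thompsonSubgroupOf_map p hf, Subgroup.map_map]

theorem centerThompsonOf_map_of_injective_comp {G : Type u} {H : Type v} [Group G] [Group H]
    (p : ℕ) {f : G →* H} {P : Subgroup G} (hf : Function.Injective (f.comp P.subtype)) :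
    centerThompsonOf p (P.map f) = (centerThompsonOf p P).map f := by
  have h1 : P.map f = (⊤ : Subgroup P).map (f.comp P.subtype) := by
    rw [← Subgroup.map_map, ← MonoidHom.range_eq_map, range_subtype]
  have h2 : centerThompsonOf p P =
      (centerThompsonOf p (⊤ : Subgroup P)).map P.subtype := by
    rw [← centerThompsonOf_map p P.subtype_injective, ← MonoidHom.range_eq_map, range_subtype]
  rw [h1, h2, centerThompsonOf_map p hf, Subgroup.map_map]

/-- `Z(J(P N / N)) = Z(J(P)) N / N` for a `p`-subgroup `P` and a normal `p'`-subgroup `N`. -/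
theorem map_mk_centerThompsonOf {G : Type u} [Group G] [Finite G] {p : ℕ} [Fact p.Prime]
    (N : Subgroup G) [N.Normal] (hN : (Nat.card N).Coprime p) {P : Subgroup G}
    (hP : IsPGroup p P) :
    (centerThompsonOf p P).map (QuotientGroup.mk' N) =
      centerThompsonOf p (P.map (QuotientGroup.mk' N)) := by
  refine (centerThompsonOf_map_of_injective_comp p ?_).symm
  refine injective_comp_subtype ?_ hP
  rwa [QuotientGroup.ker_mk']

/-- If `Z(J(SN/N))` is normal in `G/N`, `N` a normal `p'`-subgroup, then `Z(J(S)) N` is normal in `G`. -/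
theorem sup_normal_of_quotient {G : Type u} [Group G] [Finite G] {p : ℕ} [Fact p.Prime]
    (N : Subgroup G) [N.Normal] (hN : (Nat.card N).Coprime p) {P : Subgroup G}
    (hP : IsPGroup p P)
    (h : (centerThompsonOf p (P.map (QuotientGroup.mk' N))).Normal) :
    (centerThompsonOf p P ⊔ N).Normal := by
  rw [← map_mk_centerThompsonOf N hN hP] at h
  have h1 := h.comap (QuotientGroup.mk' N)
  rwa [comap_map_eq, QuotientGroup.ker_mk'] at h1

end Cfsg.Agent.PLocal.ZJElem
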