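import Mathlib

/-!
A ring lemma on quadratic actions: if `n ^ 2 = 0` and an element `y` with `y ^ m = 1` commutes with its
conjugates under `1 + n` and `1 - n`, and `2`, `m` can be cancelled, then `y` commutes with `n`.
-/

set_option autoImplicit false
set_option linter.style.haveILetI false

open scoped commutatorElement

namespace Cfsg.Agent.PLocal.QuadRing

variable {R : Type*} [Ring R]

/-- If `y` commutes with `z = y n - n y` then `y ^ k n - n y ^ k = k y ^ (k - 1) z`. -/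
theorem pow_succ_comm (y n : R) (hz : y * (y * n - n * y) = (y * n - n * y) * y) (k : ℕ) :
    y ^ (k + 1) * n - n * y ^ (k + 1) = (k + 1 : ℕ) • (y ^ k * (y * n - n * y)) := by
  induction k with
  | zero => simp
  | succ k ih =>
    have hk : (y * n - n * y) * y ^ (k + 1) = y ^ (k + 1) * (y * n - n * y) := by
      have hc : Commute y (y * n - n * y) := hz
      exact ((hc.pow_left (k + 1)).eq).symm
    have h1 : y ^ (k + 1 + 1) * n - n * y ^ (k + 1 + 1)
        = y * (y ^ (k + 1) * n - n * y ^ (k + 1)) + (y * n - n * y) * y ^ (k + 1) := by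
      rw [pow_succ' y (k + 1)]
      noncomm_ring
    have h2 : y * ((k + 1 : ℕ) • (y ^ k * (y * n - n * y)))
        = (k + 1 : ℕ) • (y ^ (k + 1) * (y * n - n * y)) := by
      rw [mul_smul_comm, ← mul_assoc, ← pow_succ']
    rw [h1, ih, hk, h2, succ_nsmul (y ^ (k + 1) * (y * n - n * y)) (k + 1)]

/-- The ring lemma: if `y`, of order prime to the characteristic, commutes with `(1 - n) y (1 + n)` and with
`(1 + n) y (1 - n)` then it commutes with `n`. -/
theorem comm_of_comm_conj (n y : R) (m : ℕ)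
    (h1 : y * ((1 - n) * y * (1 + n)) = ((1 - n) * y * (1 + n)) * y)
    (h2 : y * ((1 + n) * y * (1 - n)) = ((1 + n) * y * (1 - n)) * y)
    (hm : m ≠ 0) (hy : y ^ m = 1) (h2c : ∀ r : R, 2 • r = 0 → r = 0)
    (hmc : ∀ r : R, m • r = 0 → r = 0) : y * n = n * y := by
  have e1 : (1 - n) * y * (1 + n) = y + (y * n - n * y) - n * y * n := by noncomm_ring
  have e2 : (1 + n) * y * (1 - n) = y - (y * n - n * y) - n * y * n := by noncomm_ring
  rw [e1] at h1
  rw [e2] at h2
  have h3 : 2 • (y * (y * n - n * y) - (y * n - n * y) * y) = 0 := by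
    have a1 : y * (y + (y * n - n * y) - n * y * n) - y * (y - (y * n - n * y) - n * y * n)
        = 2 • (y * (y * n - n * y)) := by noncomm_ring
    have a2 : (y + (y * n - n * y) - n * y * n) * y - (y - (y * n - n * y) - n * y * n) * y
        = 2 • ((y * n - n * y) * y) := by noncomm_ring
    rw [smul_sub, ← a1, ← a2, h1, h2, sub_self]
  have hz : y * (y * n - n * y) = (y * n - n * y) * y := sub_eq_zero.1 (h2c _ h3)
  obtain ⟨k, rfl⟩ := Nat.exists_eq_succ_of_ne_zero hm
  have h4 := pow_succ_comm y n hz k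
  rw [Nat.succ_eq_add_one] at hy hmc
  rw [hy, one_mul, mul_one, sub_self] at h4
  have h5 := hmc _ h4.symm
  have h6 : y * (y ^ k * (y * n - n * y)) = 0 := by rw [h5, mul_zero]
  rw [← mul_assoc, ← pow_succ', hy, one_mul] at h6
  exact sub_eq_zero.1 h6

/-- The additive endomorphism of `Additive W` given by an automorphism of `W`. -/
def toEnd {W : Type*} [CommGroup W] (e : MulAut W) : AddMonoid.End (Additive W) :=
  MonoidHom.toAdditive e.toMonoidHom

theorem toEnd_apply {W : Type*} [CommGroup W] (e : MulAut W) (w : Additive W) :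
    toEnd e w = Additive.ofMul (e w.toMul) := rfl

theorem toEnd_mul {W : Type*} [CommGroup W] (e f : MulAut W) :
    toEnd (e * f) = toEnd e * toEnd f := rfl

theorem toEnd_one {W : Type*} [CommGroup W] : toEnd (1 : MulAut W) = 1 := rfl

theorem toEnd_pow {W : Type*} [CommGroup W] (e : MulAut W) (k : ℕ) :
    toEnd (e ^ k) = toEnd e ^ k := by
  induction k with
  | zero => simp [toEnd_one]
  | succ k ih => rw [pow_succ, pow_succ, toEnd_mul, ih]

theorem toEnd_injective {W : Type*} [CommGroup W] :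
    Function.Injective (toEnd : MulAut W → AddMonoid.End (Additive W)) := by
  intro e f h
  ext w
  have := DFunLike.congr_fun h (Additive.ofMul w)
  exact this

/-- In a `p`-group, an element killed by a power prime to `p` is trivial. -/
theorem eq_one_of_pow_eq_one {W : Type*} [Group W] {p m : ℕ} (hW : IsPGroup p W)
    (hm : m.Coprime p) {w : W} (h : w ^ m = 1) : w = 1 := by
  obtain ⟨k, hk⟩ := hW w
  have h1 : orderOf w ∣ m := orderOf_dvd_of_pow_eq_one h
  have h2 : orderOf w ∣ p ^ k := orderOf_dvd_of_pow_eq_one hk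
  have h3 : orderOf w ∣ 1 := by
    have := Nat.dvd_gcd h1 h2
    rwa [Nat.Coprime.pow_right k hm] at this
  exact orderOf_eq_one_iff.1 (Nat.dvd_one.1 h3)

/-- Automorphism version: `a` acts quadratically on the abelian `p`-group `W`, `p` odd, and `y` has order
prime to `p` and commutes with its conjugates by `a` and `a⁻¹`. Then `y` commutes with `a`. -/
theorem mulAut_commute {W : Type*} [Group W] (hc : ∀ x y : W, x * y = y * x) {p m : ℕ}
    (hp2 : Nat.Coprime 2 p) (hW : IsPGroup p W) (hm : m.Coprime p) (hm0 : m ≠ 0) (a y : MulAut W)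
    (ha : ∀ w : W, a (a w * w⁻¹) = a w * w⁻¹) (hy : y ^ m = 1)
    (h1 : y * (a⁻¹ * y * a) = (a⁻¹ * y * a) * y)
    (h2 : y * (a * y * a⁻¹) = (a * y * a⁻¹) * y) : y * a = a * y := by
  let _ : CommGroup W := { (inferInstance : Group W) with mul_comm := hc }
  set A : AddMonoid.End (Additive W) := toEnd a with hA
  set n : AddMonoid.End (Additive W) := A - 1 with hn
  have hA1 : A = 1 + n := by rw [hn]; abel
  have hnn : n * n = 0 := by
    ext w
    have h := ha w.toMul
    have e1 : n w = Additive.ofMul (a w.toMul * (w.toMul)⁻¹) := by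
      rw [hn]
      show A w - w = _
      rw [hA, toEnd_apply, sub_eq_add_neg]
      rfl
    show n (n w) = 0
    rw [e1]
    show A (Additive.ofMul (a w.toMul * (w.toMul)⁻¹)) - Additive.ofMul (a w.toMul * (w.toMul)⁻¹) = 0
    rw [hA, toEnd_apply, toMul_ofMul, h, sub_self]
  have hAi : toEnd a⁻¹ = 1 - n := by
    have e1 : toEnd a⁻¹ * (1 + n) = 1 := by
      rw [← hA1, hA, ← toEnd_mul, inv_mul_cancel, toEnd_one]
    have e2 : (1 + n) * (1 - n) = 1 := by
      have : (1 + n) * (1 - n) = 1 - n * n := by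
        simp only [mul_sub, add_mul, mul_one, one_mul]; abel
      rw [this, hnn, sub_zero]
    calc toEnd a⁻¹ = toEnd a⁻¹ * ((1 + n) * (1 - n)) := by rw [e2, mul_one]
      _ = 1 - n := by rw [← mul_assoc, e1, one_mul]
  have hcancel : ∀ k : ℕ, k.Coprime p → ∀ r : AddMonoid.End (Additive W), k • r = 0 → r = 0 := by
    intro k hk r hr
    ext w
    have h3 : (k • r) w = 0 := by rw [hr]; rfl
    have h4 : k • (r w) = 0 := h3
    have h5 : (r w).toMul ^ k = 1 := h4
    exact eq_one_of_pow_eq_one hW hk h5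
  have key := comm_of_comm_conj n (toEnd y) m
    (by
      rw [← hAi, ← hA1, hA, ← toEnd_mul, ← toEnd_mul, ← toEnd_mul, ← toEnd_mul, h1])
    (by
      rw [← hAi, ← hA1, hA, ← toEnd_mul, ← toEnd_mul, ← toEnd_mul, ← toEnd_mul, h2])
    hm0 (by rw [← toEnd_pow, hy, toEnd_one]) (hcancel 2 hp2) (hcancel m hm)
  apply toEnd_injective
  rw [toEnd_mul, toEnd_mul, ← hA, hA1, mul_add, add_mul, mul_one, one_mul, key]

/-- Section version: `Y ≤ X` normal in `G` with `X / Y` an abelian `p`-group, `p` odd, `a` quadratic on `X / Y`,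
`y` acting with order prime to `p` and commuting in its action with the conjugates `a⁻¹ y a` and `a y a⁻¹`. Then
`⁅y, a⁆` centralizes `X / Y`. -/
theorem section_commutator_mem {G : Type*} [Group G] {p m : ℕ} (hp2 : Nat.Coprime 2 p)
    (hm : m.Coprime p) (hm0 : m ≠ 0) (X Y : Subgroup G) [X.Normal] [Y.Normal] (hX : IsPGroup p X)
    (hXX : ∀ x ∈ X, ∀ y ∈ X, ⁅x, y⁆ ∈ Y) (a y : G) (ha : ∀ x ∈ X, ⁅a, ⁅a, x⁆⁆ ∈ Y)
    (hy : ∀ x ∈ X, ⁅y ^ m, x⁆ ∈ Y) (h1 : ∀ x ∈ X, ⁅⁅y, a⁻¹ * y * a⁆, x⁆ ∈ Y)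
    (h2 : ∀ x ∈ X, ⁅⁅y, a * y * a⁻¹⁆, x⁆ ∈ Y) : ∀ x ∈ X, ⁅⁅y, a⁆, x⁆ ∈ Y := by
  haveI hWn : (X.map (QuotientGroup.mk' Y)).Normal :=
    Subgroup.Normal.map inferInstance _ (QuotientGroup.mk'_surjective Y)
  let φ : G →* MulAut (X.map (QuotientGroup.mk' Y)) :=
    (MulAut.conjNormal).comp (QuotientGroup.mk' Y)
  have hφ : ∀ g : G, φ g = 1 ↔ ∀ x ∈ X, ⁅g, x⁆ ∈ Y := by
    intro g
    constructor
    · intro h x hx
      have h3 := congrArg Subtype.val (DFunLike.congr_fun h
        (⟨QuotientGroup.mk' Y x, x, hx, rfl⟩ : X.map (QuotientGroup.mk' Y)))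
      have h4 : (g : G ⧸ Y) * (x : G ⧸ Y) * (g : G ⧸ Y)⁻¹ = (x : G ⧸ Y) := h3
      rw [← QuotientGroup.eq_one_iff, commutatorElement_def, QuotientGroup.mk_mul,
        QuotientGroup.mk_mul, QuotientGroup.mk_mul, QuotientGroup.mk_inv, QuotientGroup.mk_inv, h4,
        mul_inv_cancel]
    · intro h
      ext ⟨w, x, hx, rfl⟩
      have h3 := h x hx
      rw [← QuotientGroup.eq_one_iff, commutatorElement_def, QuotientGroup.mk_mul,
        QuotientGroup.mk_mul, QuotientGroup.mk_mul, QuotientGroup.mk_inv, QuotientGroup.mk_inv,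
        mul_inv_eq_one] at h3
      exact h3
  have hc : ∀ u v : X.map (QuotientGroup.mk' Y), u * v = v * u := by
    rintro ⟨_, u, hu, rfl⟩ ⟨_, v, hv, rfl⟩
    apply Subtype.ext
    show (u : G ⧸ Y) * (v : G ⧸ Y) = (v : G ⧸ Y) * (u : G ⧸ Y)
    have h3 := hXX u hu v hv
    rw [← QuotientGroup.eq_one_iff] at h3
    have h4 : ⁅(u : G ⧸ Y), (v : G ⧸ Y)⁆ = 1 := h3
    exact commutatorElement_eq_one_iff_mul_comm.1 h4
  have hcomm : ∀ g h : G, φ ⁅g, h⁆ = 1 → φ g * φ h = φ h * φ g := by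
    intro g h hgh
    rw [map_commutatorElement] at hgh
    exact commutatorElement_eq_one_iff_mul_comm.1 hgh
  have key := mulAut_commute hc hp2 (hX.map (QuotientGroup.mk' Y)) hm hm0 (φ a) (φ y) ?_
    (by rw [← map_pow]; exact (hφ _).2 hy)
    (by
      have := hcomm _ _ ((hφ _).2 h1)
      rwa [map_mul, map_mul, map_inv] at this)
    (by
      have := hcomm _ _ ((hφ _).2 h2)
      rwa [map_mul, map_mul, map_inv] at this)
  · rw [← hφ, map_commutatorElement]
    exact commutatorElement_eq_one_iff_mul_comm.2 key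
  · rintro ⟨_, x, hx, rfl⟩
    apply Subtype.ext
    show (a : G ⧸ Y) * ((a : G ⧸ Y) * (x : G ⧸ Y) * (a : G ⧸ Y)⁻¹ * (x : G ⧸ Y)⁻¹) * (a : G ⧸ Y)⁻¹
      = (a : G ⧸ Y) * (x : G ⧸ Y) * (a : G ⧸ Y)⁻¹ * (x : G ⧸ Y)⁻¹
    have h3 := ha x hx
    rw [← QuotientGroup.eq_one_iff] at h3
    have h4 : ⁅(a : G ⧸ Y), ⁅(a : G ⧸ Y), (x : G ⧸ Y)⁆⁆ = 1 := h3
    rw [commutatorElement_eq_one_iff_mul_comm, commutatorElement_def] at h4
    rw [h4, mul_inv_cancel_right]

end Cfsg.Agent.PLocal.QuadRing
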