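import Mathlib
import Cfsg.Prelude.Def_PLocal
import Cfsg.Agent.PLocal.QuadRing
import Cfsg.Agent.Lib.Cores

/-!
`p`-stability (`Cfsg.IsPStableOn`) in the situation of the normal `p`-complement theorems: `G` has normal
subgroups `H ≤ A` with `H` a `p`-group, `A / H` an abelian `p'`-group and `G / A` a `p`-group, `p` odd. Then the
action of `G` on each of its normal subgroups `V ≤ H` is `p`-stable.
-/

set_option autoImplicit false
set_option linter.style.haveILetI false

open scoped commutatorElement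
open Cfsg

namespace Cfsg.Agent.PLocal.AbelianStable

variable {G : Type*} [Group G]

/-- Membership in the kernel of the action on a section, elementwise. -/
theorem mem_sectionKernel {K N : Subgroup G} [N.Normal] {g : G} :
    g ∈ sectionKernel K N ↔ ∀ x ∈ K, ⁅g, x⁆ ∈ N := by
  show g ∈ (Subgroup.centralizer ((K.map (QuotientGroup.mk' N) : Subgroup (G ⧸ N)) :
    Set (G ⧸ N))).comap (QuotientGroup.mk' N) ↔ _
  rw [Subgroup.mem_comap, Subgroup.mem_centralizer_iff]
  constructor
  · intro h x hx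
    have h1 := h _ ⟨x, hx, rfl⟩
    rw [← QuotientGroup.eq_one_iff, ← QuotientGroup.mk'_apply, map_commutatorElement,
      commutatorElement_eq_one_iff_mul_comm]
    exact h1.symm
  · rintro h _ ⟨x, hx, rfl⟩
    have h1 := h x hx
    rw [← QuotientGroup.eq_one_iff, ← QuotientGroup.mk'_apply, map_commutatorElement,
      commutatorElement_eq_one_iff_mul_comm] at h1
    exact h1.symm

theorem sectionKernel_normal (K N : Subgroup G) [K.Normal] [N.Normal] :
    (sectionKernel K N).Normal := by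
  haveI : (K.map (QuotientGroup.mk' N)).Normal :=
    Subgroup.Normal.map inferInstance _ (QuotientGroup.mk'_surjective N)
  exact Subgroup.Normal.comap inferInstance _

/-- The chain `V ≥ [V, H] ≥ [V, H, H] ≥ ⋯`. -/
def chain (V H : Subgroup G) : ℕ → Subgroup G
  | 0 => V
  | i + 1 => ⁅chain V H i, H⁆

theorem chain_zero (V H : Subgroup G) : chain V H 0 = V := rfl

theorem chain_succ (V H : Subgroup G) (i : ℕ) : chain V H (i + 1) = ⁅chain V H i, H⁆ := rfl

theorem chain_normal (V H : Subgroup G) [V.Normal] [H.Normal] (i : ℕ) : (chain V H i).Normal := by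
  induction i with
  | zero => exact inferInstanceAs V.Normal
  | succ i ih => rw [chain_succ]; infer_instance

theorem chain_succ_le (V H : Subgroup G) [V.Normal] [H.Normal] (i : ℕ) :
    chain V H (i + 1) ≤ chain V H i := by
  haveI := chain_normal V H i
  rw [chain_succ]
  exact Subgroup.commutator_le_left _ _

theorem chain_le (V H : Subgroup G) [V.Normal] [H.Normal] (i : ℕ) : chain V H i ≤ V := by
  induction i with
  | zero => exact le_rfl
  | succ i ih => exact (chain_succ_le V H i).trans ih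

theorem chain_le_lowerCentralSeries (V H : Subgroup G) (h : V ≤ H) (i : ℕ) :
    chain V H i ≤ H.lowerCentralSeries i := by
  induction i with
  | zero => exact h
  | succ i ih =>
    rw [chain_succ, Subgroup.lowerCentralSeries_succ]
    exact Subgroup.commutator_mono ih le_rfl

theorem exists_chain_eq_bot [Finite G] {p : ℕ} [Fact p.Prime] (V H : Subgroup G) (h : V ≤ H)
    (hH : IsPGroup p H) : ∃ n, chain V H n = ⊥ := by
  haveI : Group.IsNilpotent H := hH.isNilpotent
  obtain ⟨n, hn⟩ := (Subgroup.isNilpotent_iff_lowerCentralSeries H).1 this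
  exact ⟨n, le_bot_iff.1 ((chain_le_lowerCentralSeries V H h n).trans hn.le)⟩

/-- If `u` commutes with `⁅u, x⁆ = w` then `u ^ j x u ^ (- j) = w ^ j x`. -/
theorem conj_pow_eq {u x w : G} (hw : ⁅u, x⁆ = w) (hc : u * w = w * u) (j : ℕ) :
    u ^ j * x * (u ^ j)⁻¹ = w ^ j * x := by
  induction j with
  | zero => simp
  | succ j ih =>
    have h1 : u * x * u⁻¹ = w * x := by
      rw [← hw, commutatorElement_def]; group
    have h2 : u * w ^ j * u⁻¹ = w ^ j := by
      have : Commute u w := hc
      rw [(this.pow_right j).eq, mul_inv_cancel_right]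
    calc u ^ (j + 1) * x * (u ^ (j + 1))⁻¹ = u * (u ^ j * x * (u ^ j)⁻¹) * u⁻¹ := by
          rw [pow_succ']; group
      _ = (u * w ^ j * u⁻¹) * (u * x * u⁻¹) := by rw [ih]; group
      _ = w ^ (j + 1) * x := by rw [h1, h2, pow_succ, mul_assoc]

theorem mem_centralizer_iff_commutator {V : Subgroup G} {g : G} :
    g ∈ Subgroup.centralizer (V : Set G) ↔ ∀ x ∈ V, ⁅g, x⁆ = 1 := by
  rw [Subgroup.mem_centralizer_iff]
  refine forall₂_congr fun x _ => ?_
  rw [commutatorElement_eq_one_iff_mul_comm]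
  exact eq_comm

/-- A quadratic element acts on a `p`-group with order a power of `p`. -/
theorem exists_pow_mem_centralizer [Finite G] {p : ℕ} [Fact p.Prime] (V : Subgroup G) [V.Normal]
    (hV : IsPGroup p V) (a : G) (ha : ∀ x ∈ V, ⁅a, ⁅a, x⁆⁆ = 1) :
    ∃ k, a ^ p ^ k ∈ Subgroup.centralizer (V : Set G) := by
  obtain ⟨k, hk⟩ := IsPGroup.iff_card.1 hV
  refine ⟨k, mem_centralizer_iff_commutator.2 fun x hx => ?_⟩
  have hu : ⁅a, x⁆ ∈ V := by
    rw [commutatorElement_def]
    exact V.mul_mem (‹V.Normal›.conj_mem x hx a) (V.inv_mem hx)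
  have h1 := conj_pow_eq (u := a) (x := x) rfl
    (commutatorElement_eq_one_iff_mul_comm.1 (ha x hx)) (p ^ k)
  have h2 : ⁅a, x⁆ ^ p ^ k = 1 := by
    have := pow_card_eq_one' (x := (⟨⁅a, x⁆, hu⟩ : V))
    rw [hk] at this
    exact congrArg Subtype.val this
  rw [commutatorElement_def, h1, h2, one_mul, mul_inv_cancel]

/-- An element stabilizing the chain `V ≥ [V, H] ≥ ⋯ ≥ 1` acts on `V` with order a power of `p`. -/
theorem exists_pow_mem_centralizer_of_chain [Finite G] {p : ℕ} [Fact p.Prime] (V H : Subgroup G)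
    [V.Normal] [H.Normal] (hVH : V ≤ H) (hH : IsPGroup p H) (g : G)
    (hg : ∀ i, ∀ x ∈ chain V H i, ⁅g, x⁆ ∈ chain V H (i + 1)) :
    ∃ k, g ^ p ^ k ∈ Subgroup.centralizer (V : Set G) := by
  obtain ⟨n, hn⟩ := exists_chain_eq_bot V H hVH hH
  obtain ⟨k, m, hpm, hkm⟩ := Nat.exists_eq_pow_mul_and_not_dvd (orderOf_pos g).ne' p
    (Fact.out : p.Prime).ne_one
  refine ⟨k, ?_⟩
  have hcop : m.Coprime p := ((Nat.Prime.coprime_iff_not_dvd Fact.out).2 hpm).symm
  set u := g ^ p ^ k with hu
  have hum : u ^ m = 1 := by rw [hu, ← pow_mul, ← hkm, pow_orderOf_eq_one]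
  have huK : ∀ i, ∀ x ∈ chain V H i, ⁅u, x⁆ ∈ chain V H (i + 1) := by
    intro i x hx
    haveI := chain_normal V H (i + 1)
    have h1 : g ∈ sectionKernel (chain V H i) (chain V H (i + 1)) := mem_sectionKernel.2 (hg i)
    exact mem_sectionKernel.1 (Subgroup.pow_mem _ h1 _) x hx
  have key : ∀ j, ∀ x ∈ chain V H (n - j), ⁅u, x⁆ = 1 := by
    intro j
    induction j with
    | zero =>
      intro x hx
      rw [Nat.sub_zero, hn, Subgroup.mem_bot] at hx
      rw [hx, commutatorElement_one_right]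
    | succ j ih =>
      intro x hx
      rcases Nat.lt_or_ge j n with hjn | hjn
      · have hw := huK _ x hx
        rw [show n - (j + 1) + 1 = n - j by omega] at hw
        have h1 := conj_pow_eq (u := u) (x := x) rfl
          (commutatorElement_eq_one_iff_mul_comm.1 (ih _ hw)) m
        rw [hum, one_mul, inv_one, mul_one] at h1
        have h2 : ⁅u, x⁆ ^ m = 1 := by
          have := congrArg (· * x⁻¹) h1
          simpa using this.symm
        have hwV : ⁅u, x⁆ ∈ V := chain_le V H _ hw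
        have h3 : (⟨⁅u, x⁆, hwV⟩ : V) ^ m = 1 := Subtype.ext h2
        exact congrArg Subtype.val (QuadRing.eq_one_of_pow_eq_one (hH.to_le hVH) hcop h3)
      · have e1 : n - (j + 1) = n - j := by omega
        rw [e1] at hx
        exact ih x hx
  rw [mem_centralizer_iff_commutator]
  intro x hx
  refine key n x ?_
  rwa [Nat.sub_self, chain_zero]

theorem pow_relIndex_mem {H A : Subgroup G} [H.Normal] {y : G} (hy : y ∈ A) :
    y ^ H.relIndex A ∈ H :=
  Subgroup.mem_subgroupOf.1 (Subgroup.pow_index_mem (H.subgroupOf A) (⟨y, hy⟩ : A))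

/-- `p`-stability when `A / H` is an abelian `p'`-group, `H` a `p`-group and `G / A` a `p`-group. -/
theorem isPStableOn_of_abelian [Finite G] {p : ℕ} [Fact p.Prime] (hp : p ≠ 2) (P : Sylow p G)
    (H A : Subgroup G) [H.Normal] [A.Normal] (hH : IsPGroup p H) (hHA : H ≤ A)
    (hab : ⁅A, A⁆ ≤ H) (hcop : (H.relIndex A).Coprime p) (htop : A ⊔ (P : Subgroup G) = ⊤)
    (V : Subgroup G) [V.Normal] (hVH : V ≤ H) : IsPStableOn p V := by
  intro a hq
  have hV : IsPGroup p V := hH.to_le hVH
  have hp2 : Nat.Coprime 2 p :=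
    (Nat.coprime_primes Nat.prime_two Fact.out).2 (Ne.symm hp)
  -- the quadratic condition elementwise
  have ha : ∀ x ∈ V, ⁅a, ⁅a, x⁆⁆ = 1 := by
    intro x hx
    have h1 : ⁅x, a⁆ ∈ ⁅V, Subgroup.zpowers a⁆ :=
      Subgroup.commutator_mem_commutator hx (Subgroup.mem_zpowers a)
    have h2 : ⁅a, x⁆ ∈ ⁅V, Subgroup.zpowers a⁆ := by
      rw [← commutatorElement_inv]; exact Subgroup.inv_mem _ h1
    have h3 : ⁅⁅a, x⁆, a⁆ ∈ ⁅⁅V, Subgroup.zpowers a⁆, Subgroup.zpowers a⁆ :=
      Subgroup.commutator_mem_commutator h2 (Subgroup.mem_zpowers a)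
    rw [hq, Subgroup.mem_bot] at h3
    rw [← commutatorElement_inv, h3, inv_one]
  have hn : ∀ i, (chain V H i).Normal := chain_normal V H
  -- the stabilizer of the chain
  set K : Subgroup G := ⨅ i, sectionKernel (chain V H i) (chain V H (i + 1)) with hK
  have hKn : K.Normal := by
    haveI : ∀ i, (sectionKernel (chain V H i) (chain V H (i + 1))).Normal :=
      fun i => sectionKernel_normal _ _
    exact Subgroup.normal_iInf_normal (fun i => this i)
  have hKmem : ∀ g : G, g ∈ K ↔ ∀ i, ∀ x ∈ chain V H i, ⁅g, x⁆ ∈ chain V H (i + 1) := by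
    intro g
    rw [hK, Subgroup.mem_iInf]
    exact forall_congr' fun i => mem_sectionKernel
  have hHK : H ≤ K := by
    intro h hh
    rw [hKmem]
    intro i x hx
    rw [← commutatorElement_inv, chain_succ]
    exact Subgroup.inv_mem _ (Subgroup.commutator_mem_commutator hx hh)
  have hCK : Subgroup.centralizer (V : Set G) ≤ K := by
    intro g hg
    rw [hKmem]
    intro i x hx
    rw [mem_centralizer_iff_commutator.1 hg x (chain_le V H i hx)]
    exact Subgroup.one_mem _
  have hAA : ∀ x ∈ A, ∀ y ∈ A, ⁅x, y⁆ ∈ H := fun x hx y hy =>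
    hab (Subgroup.commutator_mem_commutator hx hy)
  have hm0 : H.relIndex A ≠ 0 := Subgroup.index_ne_zero_of_finite (H := H.subgroupOf A)
  have hAa : ∀ y ∈ A, ⁅y, a⁆ ∈ K := by
    intro y hy
    rw [hKmem]
    intro i
    refine QuadRing.section_commutator_mem hp2 hcop hm0 (chain V H i) (chain V H (i + 1))
      (hV.to_le (chain_le V H i)) ?_ a y ?_ ?_ ?_ ?_
    · intro x hx z hz
      exact Subgroup.commutator_mem_commutator hx (hVH (chain_le V H i hz))
    · intro x hx
      rw [ha x (chain_le V H i hx)]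
      exact Subgroup.one_mem _
    · exact (hKmem _).1 (hHK (pow_relIndex_mem hy)) i
    · refine (hKmem _).1 (hHK (hAA y hy _ ?_)) i
      have := ‹A.Normal›.conj_mem y hy a⁻¹
      rwa [inv_inv] at this
    · exact (hKmem _).1 (hHK (hAA y hy _ (‹A.Normal›.conj_mem y hy a))) i
  -- the centralizer of `A` modulo `K`
  set D : Subgroup G := sectionKernel A K with hD
  have hDn : D.Normal := sectionKernel_normal A K
  have hDmem : ∀ g : G, g ∈ D ↔ ∀ y ∈ A, ⁅y, g⁆ ∈ K := by
    intro g
    rw [hD, mem_sectionKernel]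
    refine forall₂_congr fun y _ => ?_
    rw [← commutatorElement_inv, Subgroup.inv_mem_iff]
  have haD : a ∈ D := (hDmem a).2 hAa
  have hAD : A ≤ D := fun y hy => (hDmem y).2 fun z hz => hHK (hAA z hz y hy)
  -- the normal subgroup acting as a `p`-group on `V`
  set T : Subgroup G := K ⊔ (D ⊓ (P : Subgroup G)) with hT
  have hTmem : ∀ g : G, g ∈ T ↔ ∃ k ∈ K, ∃ s ∈ D ⊓ (P : Subgroup G), k * s = g := fun g =>
    Subgroup.mem_sup_of_normal_left
  have hTn : T.Normal := by
    rw [← Subgroup.normalizer_eq_top_iff, eq_top_iff, ← htop, sup_le_iff]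
    have aux : ∀ L : Subgroup G, (∀ y ∈ L, ∀ s ∈ D ⊓ (P : Subgroup G), y * s * y⁻¹ ∈ T) →
        L ≤ Subgroup.normalizer (T : Set G) := by
      intro L hL
      have h1 : ∀ y ∈ L, ∀ t ∈ T, y * t * y⁻¹ ∈ T := by
        intro y hy t ht
        obtain ⟨k, hk, s, hs, rfl⟩ := (hTmem t).1 ht
        have : y * (k * s) * y⁻¹ = (y * k * y⁻¹) * (y * s * y⁻¹) := by group
        rw [this]
        exact T.mul_mem (le_sup_left (a := K) (hKn.conj_mem k hk y)) (hL y hy s hs)
      intro y hy
      rw [Subgroup.mem_normalizer_iff]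
      intro t
      refine ⟨h1 y hy t, fun ht => ?_⟩
      have := h1 y⁻¹ (L.inv_mem hy) _ ht
      simpa [mul_assoc] using this
    constructor
    · refine aux A fun y hy s hs => ?_
      have h1 : y * s * y⁻¹ = ⁅y, s⁆ * s := by rw [commutatorElement_def]; group
      rw [h1]
      exact T.mul_mem (le_sup_left (a := K) ((hDmem s).1 hs.1 y hy)) (le_sup_right (a := K) hs)
    · refine aux P fun y hy s hs => le_sup_right (a := K) ⟨hDn.conj_mem s hs.1 y, ?_⟩
      exact (P : Subgroup G).mul_mem ((P : Subgroup G).mul_mem hy hs.2)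
        ((P : Subgroup G).inv_mem hy)
  have hTp : ∀ t ∈ T, ∃ k, t ^ p ^ k ∈ Subgroup.centralizer (V : Set G) := by
    intro t ht
    obtain ⟨k, hk, s, hs, rfl⟩ := (hTmem t).1 ht
    obtain ⟨j, hj⟩ := P.isPGroup' (⟨s, hs.2⟩ : (P : Subgroup G))
    have hj' : s ^ p ^ j = 1 := congrArg Subtype.val hj
    have h1 : (k * s) ^ p ^ j ∈ K := by
      haveI := hKn
      rw [← QuotientGroup.eq_one_iff, QuotientGroup.mk_pow, QuotientGroup.mk_mul,
        (QuotientGroup.eq_one_iff k).2 hk, one_mul, ← QuotientGroup.mk_pow, hj',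
        QuotientGroup.mk_one]
    obtain ⟨i, hi⟩ := exists_pow_mem_centralizer_of_chain V H hVH hH _ ((hKmem _).1 h1)
    refine ⟨j + i, ?_⟩
    rw [pow_add, pow_mul]
    exact hi
  have haT : a ∈ T := by
    obtain ⟨k, hk⟩ := exists_pow_mem_centralizer V hV a ha
    have h1 : a ^ p ^ k ∈ T := le_sup_left (a := K) (hCK hk)
    have h2 : a ^ H.relIndex A ∈ T := by
      have haG : a ∈ A ⊔ (P : Subgroup G) := by rw [htop]; exact Subgroup.mem_top a
      obtain ⟨y, hy, s, hs, rfl⟩ := Subgroup.mem_sup_of_normal_left.1 haG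
      have hsD : s ∈ D := by
        have := D.mul_mem (D.inv_mem (hAD hy)) haD
        rwa [inv_mul_cancel_left] at this
      have hsT : s ∈ T := le_sup_right (a := K) ⟨hsD, hs⟩
      rw [← QuotientGroup.eq_one_iff, QuotientGroup.mk_pow, QuotientGroup.mk_mul,
        (QuotientGroup.eq_one_iff s).2 hsT, mul_one, ← QuotientGroup.mk_pow,
        QuotientGroup.eq_one_iff]
      exact le_sup_left (a := K) (hHK (pow_relIndex_mem hy))
    rw [← QuotientGroup.eq_one_iff, QuotientGroup.mk_pow] at h1 h2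
    rw [← QuotientGroup.eq_one_iff]
    have h3 := orderOf_dvd_of_pow_eq_one h1
    have h4 := orderOf_dvd_of_pow_eq_one h2
    have h5 := Nat.dvd_gcd h4 h3
    rw [Nat.Coprime.pow_right k hcop] at h5
    exact orderOf_eq_one_iff.1 (Nat.dvd_one.1 h5)
  -- conclusion
  have hle : T.map (QuotientGroup.mk' (Subgroup.centralizer (V : Set G))) ≤
      pCore p (G ⧸ Subgroup.centralizer (V : Set G)) := by
    refine Lib.Cores.le_pCore (hTn.map _ (QuotientGroup.mk'_surjective _)) ?_
    rintro ⟨_, t, ht, rfl⟩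
    obtain ⟨k, hk⟩ := hTp t ht
    refine ⟨k, Subtype.ext ?_⟩
    show ((t : G ⧸ Subgroup.centralizer (V : Set G))) ^ p ^ k = 1
    rw [← QuotientGroup.mk_pow]
    exact (QuotientGroup.eq_one_iff _).2 hk
  exact hle ⟨a, haT, rfl⟩

end Cfsg.Agent.PLocal.AbelianStable
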