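import Mathlib
import Cfsg.Prelude.Def_Solvable
import Cfsg.Prelude.Def_Transfer
import Cfsg.Agent.Lib.Cores
import Cfsg.Agent.PLocal.Constrained
import Cfsg.Agent.PLocal.ConjFunctor
import Cfsg.Agent.PLocal.CoprimeLift
import Cfsg.Agent.Transfer.NormalPComplement
import Cfsg.Agent.S0072

/-!
# Reduction of the normal `p`-complement theorems of Thompson and Glauberman

`hasNormalPComplement_of_functor`: let `Φ` be a conjugacy functor on `p`-subgroups of finite groups. If
in the minimal configuration (`G = A P`, `A / O_p(G)` an abelian `p'`-group, `C_G(O_p(G)) ≤ O_p(G)`, `P` maximal)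
a normal `p`-complement of `N_G(Φ(P))` implies one of `G`, then this is so in every finite group.
-/

set_option autoImplicit false

universe u

namespace Cfsg.Agent.PLocal.ComplementReduction

open Cfsg
open scoped Pointwise commutatorElement

section functor

variable {p : ℕ} [hp : Fact p.Prime] (Φ : ∀ (G : Type u) [Group G], Subgroup G → Subgroup G)

/-- A normal `p`-complement of the normalizer of `Φ` is inherited along injective maps. -/
theorem npc_of_map
    (hΦmap : ∀ (G G' : Type u) [Group G] [Group G'] [Finite G] [Finite G'] (f : G →* G')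
      (P : Subgroup G), Set.InjOn f P → IsPGroup p P → (Φ G P).map f = Φ G' (P.map f))
    {L G : Type u} [Group L] [Group G] [Finite L] [Finite G] (f : L →* G)
    (hf : Function.Injective f) (Q : Subgroup L) (hQ : IsPGroup p Q)
    (h : Cfsg.HasNormalPComplement p (Subgroup.normalizer (Φ G (Q.map f) : Set G))) :
    Cfsg.HasNormalPComplement p (Subgroup.normalizer (Φ L Q : Set L)) := by
  have h1 := hΦmap L G f Q hf.injOn hQ
  rw [← h1] at h
  let g : Subgroup.normalizer (Φ L Q : Set L) →*
      Subgroup.normalizer ((Φ L Q).map f : Set G) :=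
    (f.comp (Subgroup.subtype _)).codRestrict _
      (fun x => Subgroup.le_normalizer_map f ⟨x, x.2, rfl⟩)
  exact Transfer.NormalPComplement.of_injective g
    (fun a b hab => Subtype.ext (hf (congrArg Subtype.val hab))) h

omit hp in
/-- The normalizer of `Q` normalizes `Φ(Q)`. -/
theorem normalizer_le
    (hΦmap : ∀ (G G' : Type u) [Group G] [Group G'] [Finite G] [Finite G'] (f : G →* G')
      (P : Subgroup G), Set.InjOn f P → IsPGroup p P → (Φ G P).map f = Φ G' (P.map f))
    (G : Type u) [Group G] [Finite G] (Q : Subgroup G) (hQ : IsPGroup p Q) :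
    Subgroup.normalizer (Q : Set G) ≤ Subgroup.normalizer (Φ G Q : Set G) := by
  intro g hg
  rw [Subgroup.mem_normalizer_iff_map_conj_eq] at hg ⊢
  have h1 := hΦmap G G (MulAut.conj g : G →* G) Q (MulAut.conj g).injective.injOn hQ
  rw [hg] at h1
  exact h1

/-- Conjugation invariance of the hypothesis. -/
theorem npc_conj
    (hΦmap : ∀ (G G' : Type u) [Group G] [Group G'] [Finite G] [Finite G'] (f : G →* G')
      (P : Subgroup G), Set.InjOn f P → IsPGroup p P → (Φ G P).map f = Φ G' (P.map f))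
    (G : Type u) [Group G] [Finite G] (P P' : Sylow p G)
    (h : Cfsg.HasNormalPComplement p (Subgroup.normalizer (Φ G (P : Subgroup G) : Set G))) :
    Cfsg.HasNormalPComplement p (Subgroup.normalizer (Φ G (P' : Subgroup G) : Set G)) := by
  obtain ⟨g, hg⟩ := MulAction.exists_smul_eq G P' P
  have h1 := ConjFunctor.map_conj_smul_sylow P' g
  rw [hg] at h1
  rw [h1] at h
  exact npc_of_map Φ hΦmap (MulAut.conj g).toMonoidHom (MulAut.conj g).injective _ P'.isPGroup' h

/-- Restriction to a proper subgroup. -/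
theorem npc_subgroup
    (hΦmap : ∀ (G G' : Type u) [Group G] [Group G'] [Finite G] [Finite G'] (f : G →* G')
      (P : Subgroup G), Set.InjOn f P → IsPGroup p P → (Φ G P).map f = Φ G' (P.map f))
    (G : Type u) [Group G] [Finite G]
    (IH : ∀ (L : Type u) [Group L] [Finite L], Nat.card L < Nat.card G → ∀ Q : Sylow p L,
      Cfsg.HasNormalPComplement p (Subgroup.normalizer (Φ L (Q : Subgroup L) : Set L)) →
      Cfsg.HasNormalPComplement p L)
    (L : Subgroup G) (hL : L ≠ ⊤) (Q : Sylow p L)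
    (h : Cfsg.HasNormalPComplement p
      (Subgroup.normalizer (Φ G ((Q : Subgroup L).map L.subtype) : Set G))) :
    Cfsg.HasNormalPComplement p L := by
  refine IH L ?_ Q (npc_of_map Φ hΦmap L.subtype L.subtype_injective _ Q.isPGroup' h)
  have := ConjFunctor.card_lt_card_of_lt (lt_top_iff_ne_top.mpr hL)
  rwa [Subgroup.card_top] at this

/-- Restriction to a proper subgroup containing the Sylow subgroup `P`. -/
theorem npc_overgroup
    (hΦmap : ∀ (G G' : Type u) [Group G] [Group G'] [Finite G] [Finite G'] (f : G →* G')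
      (P : Subgroup G), Set.InjOn f P → IsPGroup p P → (Φ G P).map f = Φ G' (P.map f))
    (G : Type u) [Group G] [Finite G]
    (IH : ∀ (L : Type u) [Group L] [Finite L], Nat.card L < Nat.card G → ∀ Q : Sylow p L,
      Cfsg.HasNormalPComplement p (Subgroup.normalizer (Φ L (Q : Subgroup L) : Set L)) →
      Cfsg.HasNormalPComplement p L)
    (P : Sylow p G)
    (h : Cfsg.HasNormalPComplement p (Subgroup.normalizer (Φ G (P : Subgroup G) : Set G)))
    (L : Subgroup G) (hL : L ≠ ⊤) (hPL : (P : Subgroup G) ≤ L) :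
    Cfsg.HasNormalPComplement p L := by
  refine npc_subgroup Φ hΦmap G IH L hL (P.subtype hPL) ?_
  rw [Sylow.coe_subtype, Subgroup.subgroupOf_map_subtype, inf_eq_left.mpr hPL]
  exact h

/-- The local step: a minimal counterexample has a nontrivial normal `p`-subgroup. -/
theorem pCore_ne_bot
    (hΦmap : ∀ (G G' : Type u) [Group G] [Group G'] [Finite G] [Finite G'] (f : G →* G')
      (P : Subgroup G), Set.InjOn f P → IsPGroup p P → (Φ G P).map f = Φ G' (P.map f))
    (hΦle : ∀ (G : Type u) [Group G] [Finite G] (P : Subgroup G), IsPGroup p P → Φ G P ≤ P)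
    (hΦne : ∀ (G : Type u) [Group G] [Finite G] (P : Subgroup G), IsPGroup p P → P ≠ ⊥ →
      Φ G P ≠ ⊥)
    (G : Type u) [Group G] [Finite G]
    (IH : ∀ (L : Type u) [Group L] [Finite L], Nat.card L < Nat.card G → ∀ Q : Sylow p L,
      Cfsg.HasNormalPComplement p (Subgroup.normalizer (Φ L (Q : Subgroup L) : Set L)) →
      Cfsg.HasNormalPComplement p L)
    (P : Sylow p G)
    (h : Cfsg.HasNormalPComplement p (Subgroup.normalizer (Φ G (P : Subgroup G) : Set G)))
    (hG : ¬ Cfsg.HasNormalPComplement p G) : Cfsg.pCore p G ≠ ⊥ := by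
  classical
  -- the `p`-part of the normalizer
  let m : Subgroup G → ℕ := fun H =>
    Nat.card ((default : Sylow p ↥(Subgroup.normalizer (H : Set G))) :
      Subgroup ↥(Subgroup.normalizer (H : Set G)))
  let X : Set (Subgroup G) := {H | IsPGroup p H ∧ H ≠ ⊥ ∧
    ¬ Cfsg.HasNormalPComplement p (Subgroup.normalizer (H : Set G))}
  have hXne : X.Nonempty := by
    by_contra hne
    rw [Set.not_nonempty_iff_eq_empty] at hne
    apply hG
    rw [Cfsg.Agent.S0072.result p]
    intro Q hQ hQ1
    by_contra hc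
    have : Q ∈ X := ⟨hQ, hQ1, hc⟩
    rw [hne] at this
    exact this
  obtain ⟨H, hHX, hHmax⟩ := Set.exists_max_image X m (Set.toFinite X) hXne
  obtain ⟨hHp, hH1, hHn⟩ := hHX
  have hNtop : Subgroup.normalizer (H : Set G) = ⊤ := by
    by_contra hne
    apply hHn
    let Q : Sylow p ↥(Subgroup.normalizer (H : Set G)) := default
    have hmH : m H = Nat.card (Q : Subgroup ↥(Subgroup.normalizer (H : Set G))) := rfl
    refine npc_subgroup Φ hΦmap G IH _ hne Q ?_
    have hHQ := ConjFunctor.le_map_sylow_normalizer hHp Q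
    have hQp := ConjFunctor.isPGroup_map_sylow Q
    have hQc := ConjFunctor.card_map_sylow Q
    obtain ⟨Q', hQ'⟩ : ∃ Q' : Subgroup G, Q' = (Q : Subgroup ↥(Subgroup.normalizer (H : Set G))).map
      (Subgroup.subtype _) := ⟨_, rfl⟩
    rw [← hQ'] at hHQ hQp hQc ⊢
    obtain ⟨P', hP'⟩ := hQp.exists_le_sylow
    by_cases hQP : Q' = P'
    · rw [hQP]
      exact npc_conj Φ hΦmap G P P' h
    · have hlt : Q' < P' := lt_of_le_of_ne hP' hQP
      have hR := ConjFunctor.lt_inf_normalizer P'.isPGroup' hlt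
      have hQ'1 : Q' ≠ ⊥ := fun h0 => hH1 (le_bot_iff.mp (h0 ▸ hHQ))
      by_contra hcon
      have hmem : Φ G Q' ∈ X := ⟨hQp.to_le (hΦle G Q' hQp), hΦne G Q' hQp hQ'1, hcon⟩
      have hle := hHmax _ hmem
      have h3 : (P' : Subgroup G) ⊓ Subgroup.normalizer (Q' : Set G) ≤
          Subgroup.normalizer (Φ G Q' : Set G) :=
        inf_le_right.trans (normalizer_le Φ hΦmap G Q' hQp)
      have h4 : IsPGroup p ((P' : Subgroup G) ⊓ Subgroup.normalizer (Q' : Set G) : Subgroup G) :=
        P'.isPGroup'.to_le inf_le_left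
      obtain ⟨S, hS⟩ := ConjFunctor.exists_sylow_of_le h4 h3
      have h5 : Nat.card Q' < Nat.card ((S : Subgroup
          ↥(Subgroup.normalizer (Φ G Q' : Set G))).map (Subgroup.subtype _)) :=
        ConjFunctor.card_lt_card_of_lt (lt_of_lt_of_le hR hS)
      rw [ConjFunctor.card_map_sylow] at h5
      have h6 : Nat.card (S : Subgroup ↥(Subgroup.normalizer (Φ G Q' : Set G))) = m (Φ G Q') := by
        change _ = Nat.card ((default : Sylow p ↥(Subgroup.normalizer (Φ G Q' : Set G))) :
          Subgroup ↥(Subgroup.normalizer (Φ G Q' : Set G)))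
        rw [S.card_eq_multiplicity, Sylow.card_eq_multiplicity]
      omega
  intro h0
  apply hH1
  rw [← le_bot_iff, ← h0]
  exact Lib.Cores.le_pCore (Subgroup.normalizer_eq_top_iff.mp hNtop) hHp

/-- A minimal counterexample has no nontrivial normal `p'`-subgroup. -/
theorem pPrimeCore_eq_bot
    (hΦmap : ∀ (G G' : Type u) [Group G] [Group G'] [Finite G] [Finite G'] (f : G →* G')
      (P : Subgroup G), Set.InjOn f P → IsPGroup p P → (Φ G P).map f = Φ G' (P.map f))
    (hΦle : ∀ (G : Type u) [Group G] [Finite G] (P : Subgroup G), IsPGroup p P → Φ G P ≤ P)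
    (G : Type u) [Group G] [Finite G]
    (IH : ∀ (L : Type u) [Group L] [Finite L], Nat.card L < Nat.card G → ∀ Q : Sylow p L,
      Cfsg.HasNormalPComplement p (Subgroup.normalizer (Φ L (Q : Subgroup L) : Set L)) →
      Cfsg.HasNormalPComplement p L)
    (P : Sylow p G)
    (h : Cfsg.HasNormalPComplement p (Subgroup.normalizer (Φ G (P : Subgroup G) : Set G)))
    (hG : ¬ Cfsg.HasNormalPComplement p G) : Cfsg.pPrimeCore p G = ⊥ := by
  by_contra hne
  obtain ⟨M, hM⟩ : ∃ M : Subgroup G, M = Cfsg.pPrimeCore p G := ⟨_, rfl⟩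
  have hMn : M.Normal := by rw [hM]; exact Lib.Cores.pPrimeCore_normal p
  have hMc : (Nat.card M).Coprime p := by rw [hM]; exact Lib.Cores.pPrimeCore_coprime p
  rw [← hM] at hne
  apply hG
  refine Transfer.NormalPComplement.of_quotient M hMc ?_
  have hs := QuotientGroup.mk'_surjective M
  refine IH (G ⧸ M) ?_ (P.mapSurjective hs) ?_
  · have h1 := M.card_mul_index
    have h2 : Nat.card M ≠ 1 := fun h0 => hne (Subgroup.card_eq_one.mp h0)
    have h3 : 0 < Nat.card M := Nat.card_pos
    have h4 : 0 < M.index := Nat.pos_of_ne_zero M.index_ne_zero_of_finite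
    rw [Subgroup.index_eq_card] at h1 h4
    have h5 : 2 ≤ Nat.card M := by omega
    calc Nat.card (G ⧸ M) < 2 * Nat.card (G ⧸ M) := by omega
      _ ≤ Nat.card M * Nat.card (G ⧸ M) := Nat.mul_le_mul_right _ h5
      _ = Nat.card G := h1
  · rw [Sylow.coe_mapSurjective]
    have hdisj : (P : Subgroup G) ⊓ M = ⊥ := by
      obtain ⟨k, hk⟩ := IsPGroup.iff_card.mp P.isPGroup'
      exact (Subgroup.disjoint_of_coprime_natCard (by
        rw [hk]; exact (Nat.Coprime.pow_right k hMc).symm)).eq_bot
    have hinj : Set.InjOn (QuotientGroup.mk' M) (P : Subgroup G) := by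
      intro x hx y hy hxy
      have h1 : x⁻¹ * y ∈ (P : Subgroup G) ⊓ M :=
        Subgroup.mem_inf.mpr ⟨mul_mem (inv_mem hx) hy, QuotientGroup.eq.mp hxy⟩
      rw [hdisj, Subgroup.mem_bot] at h1
      exact (inv_mul_eq_one.mp h1)
    have h1 := hΦmap G (G ⧸ M) (QuotientGroup.mk' M) P hinj P.isPGroup'
    rw [← h1, ← CoprimeLift.map_normalizer_mk M _ hMc (P.isPGroup'.to_le (hΦle G P P.isPGroup'))]
    exact Transfer.NormalPComplement.of_surjective
      ((QuotientGroup.mk' M).subgroupMap _) ((QuotientGroup.mk' M).subgroupMap_surjective _) h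

/-- In a minimal counterexample the quotient by `O_p(G)` has a normal `p`-complement. -/
theorem quotient_npc
    (hΦmap : ∀ (G G' : Type u) [Group G] [Group G'] [Finite G] [Finite G'] (f : G →* G')
      (P : Subgroup G), Set.InjOn f P → IsPGroup p P → (Φ G P).map f = Φ G' (P.map f))
    (hΦle : ∀ (G : Type u) [Group G] [Finite G] (P : Subgroup G), IsPGroup p P → Φ G P ≤ P)
    (hΦne : ∀ (G : Type u) [Group G] [Finite G] (P : Subgroup G), IsPGroup p P → P ≠ ⊥ →
      Φ G P ≠ ⊥)
    (G : Type u) [Group G] [Finite G]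
    (IH : ∀ (L : Type u) [Group L] [Finite L], Nat.card L < Nat.card G → ∀ Q : Sylow p L,
      Cfsg.HasNormalPComplement p (Subgroup.normalizer (Φ L (Q : Subgroup L) : Set L)) →
      Cfsg.HasNormalPComplement p L)
    (P : Sylow p G)
    (h : Cfsg.HasNormalPComplement p (Subgroup.normalizer (Φ G (P : Subgroup G) : Set G)))
    (hR1 : Cfsg.pCore p G ≠ ⊥) (hRP : (P : Subgroup G) ≠ Cfsg.pCore p G) :
    Cfsg.HasNormalPComplement p (G ⧸ Cfsg.pCore p G) := by
  obtain ⟨R, hR⟩ : ∃ R : Subgroup G, R = Cfsg.pCore p G := ⟨_, rfl⟩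
  have hRn : R.Normal := by rw [hR]; exact Lib.Cores.pCore_normal p
  have hRp : IsPGroup p R := by rw [hR]; exact Lib.Cores.pCore_isPGroup p
  have hRle : R ≤ P := by rw [hR]; exact Lib.Cores.pCore_le_sylow P
  have hRmax : ∀ N : Subgroup G, N.Normal → IsPGroup p N → N ≤ R := by
    intro N h1 h2; rw [hR]; exact Lib.Cores.le_pCore h1 h2
  have key : Cfsg.HasNormalPComplement p (G ⧸ R) := by
    rw [← hR] at hR1 hRP
    have hs := QuotientGroup.mk'_surjective R
    have hP1 : (P : Subgroup G).map (QuotientGroup.mk' R) ≠ ⊥ := by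
      intro h0
      rw [Subgroup.map_eq_bot_iff, QuotientGroup.ker_mk'] at h0
      exact hRP (le_antisymm h0 hRle)
    have hPbp : IsPGroup p ((P : Subgroup G).map (QuotientGroup.mk' R)) := P.isPGroup'.map _
    refine IH (G ⧸ R) ?_ (P.mapSurjective hs) ?_
    · have h1 := R.card_mul_index
      have h2 : Nat.card R ≠ 1 := fun h0 => hR1 (Subgroup.card_eq_one.mp h0)
      have h3 : 0 < Nat.card R := Nat.card_pos
      have h4 : 0 < R.index := Nat.pos_of_ne_zero R.index_ne_zero_of_finite
      rw [Subgroup.index_eq_card] at h1 h4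
      have h5 : 2 ≤ Nat.card R := by omega
      calc Nat.card (G ⧸ R) < 2 * Nat.card (G ⧸ R) := by omega
        _ ≤ Nat.card R * Nat.card (G ⧸ R) := Nat.mul_le_mul_right _ h5
        _ = Nat.card G := h1
    · rw [Sylow.coe_mapSurjective]
      obtain ⟨W, hW⟩ : ∃ W : Subgroup (G ⧸ R),
        W = Φ (G ⧸ R) ((P : Subgroup G).map (QuotientGroup.mk' R)) := ⟨_, rfl⟩
      have hWne : W ≠ ⊥ := by rw [hW]; exact hΦne _ _ hPbp hP1
      have hWp : IsPGroup p W := by rw [hW]; exact hPbp.to_le (hΦle _ _ hPbp)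
      have hPW : (P : Subgroup G).map (QuotientGroup.mk' R) ≤ Subgroup.normalizer (W : Set (G ⧸ R)) := by
        rw [hW]
        exact Subgroup.le_normalizer.trans (normalizer_le Φ hΦmap _ _ hPbp)
      rw [← hW]
      let K : Subgroup G := W.comap (QuotientGroup.mk' R)
      have hKn : (Subgroup.normalizer (W : Set (G ⧸ R))).comap (QuotientGroup.mk' R) =
          Subgroup.normalizer (K : Set G) := by
        apply Subgroup.comap_normalizer_eq_of_le_range
        rw [MonoidHom.range_eq_top.mpr hs]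
        exact le_top
      have hKp : IsPGroup p K := by
        apply hWp.comap_of_ker_isPGroup
        rw [QuotientGroup.ker_mk']; exact hRp
      have hPK : (P : Subgroup G) ≤ Subgroup.normalizer (K : Set G) := by
        rw [← hKn, ← Subgroup.map_le_iff_le_comap]
        exact hPW
      have hKtop : Subgroup.normalizer (K : Set G) ≠ ⊤ := by
        intro h0
        have h1 := hRmax K (Subgroup.normalizer_eq_top_iff.mp h0) hKp
        apply hWne
        rw [← Subgroup.map_comap_eq_self_of_surjective hs W, Subgroup.map_eq_bot_iff,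
          QuotientGroup.ker_mk']
        exact h1
      have h1 := npc_overgroup Φ hΦmap G IH P h _ hKtop hPK
      rw [← hKn] at h1
      exact Transfer.NormalPComplement.of_surjective
        ((QuotientGroup.mk' R).subgroupComap _)
        ((QuotientGroup.mk' R).subgroupComap_surjective_of_surjective _ hs) h1
  subst hR
  exact key

end functor

section structure_

variable {G : Type u} [Group G] [Finite G] {p : ℕ} [hp : Fact p.Prime]

/-- A `p`-group extended by a group with a normal `p`-complement is `p`-solvable. -/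
theorem isPSolvable_of_quotient_npc (R : Subgroup G) [R.Normal] (hR : IsPGroup p R)
    (h : Cfsg.HasNormalPComplement p (G ⧸ R)) : Cfsg.IsPSolvable p G := by
  obtain ⟨N, hN, h1, h2⟩ := Transfer.NormalPComplement.hasNormalPComplement_iff.mp h
  have hs := QuotientGroup.mk'_surjective R
  obtain ⟨k, hk⟩ := IsPGroup.iff_card.mp hR
  obtain ⟨m, hm⟩ := IsPGroup.iff_card.mp h2
  have hRK : R ≤ N.comap (QuotientGroup.mk' R) := by
    intro x hx
    rw [Subgroup.mem_comap]
    have : QuotientGroup.mk' R x = 1 := (QuotientGroup.eq_one_iff x).mpr hx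
    rw [this]; exact one_mem _
  have hrel : R.relIndex (N.comap (QuotientGroup.mk' R)) = Nat.card N := by
    have h1 := Subgroup.relIndex_ker (K := N.comap (QuotientGroup.mk' R)) (QuotientGroup.mk' R)
    rwa [QuotientGroup.ker_mk', Subgroup.map_comap_eq_self_of_surjective hs] at h1
  have hidx : (N.comap (QuotientGroup.mk' R)).index = p ^ m := by
    rw [Subgroup.index_comap_of_surjective N hs, Subgroup.index_eq_card, hm]
  refine ⟨3, ![⊥, R, N.comap (QuotientGroup.mk' R), ⊤], rfl, rfl, ?_, ?_, ?_⟩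
  · rw [Fin.monotone_iff_le_succ]
    intro i
    fin_cases i
    · exact bot_le
    · exact hRK
    · exact le_top
  · intro i
    fin_cases i
    · exact (inferInstance : (⊥ : Subgroup G).Normal)
    · exact (inferInstance : R.Normal)
    · exact hN.comap _
    · exact (inferInstance : (⊤ : Subgroup G).Normal)
  · intro i
    fin_cases i
    · left
      refine ⟨k, ?_⟩
      change (⊥ : Subgroup G).relIndex R = p ^ k
      rw [Subgroup.relIndex_bot_left, hk]
    · right
      change (R.relIndex (N.comap (QuotientGroup.mk' R))).Coprime p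
      rw [hrel]; exact h1
    · left
      refine ⟨m, ?_⟩
      change (N.comap (QuotientGroup.mk' R)).relIndex ⊤ = p ^ m
      rw [Subgroup.relIndex_top_right, hidx]

/-- If `C_G(O_p(G)) ≤ O_p(G)`, a subgroup `L ≥ P` with a normal `p`-complement is `P`. -/
theorem eq_of_npc (hc : Subgroup.centralizer (Cfsg.pCore p G : Set G) ≤ Cfsg.pCore p G)
    (P : Sylow p G) (L : Subgroup G) (hPL : (P : Subgroup G) ≤ L)
    (h : Cfsg.HasNormalPComplement p L) : L = P := by
  have hRn := Lib.Cores.pCore_normal (G := G) p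
  have hRp := Lib.Cores.pCore_isPGroup (G := G) p
  have hRP : Cfsg.pCore p G ≤ P := Lib.Cores.pCore_le_sylow P
  obtain ⟨D, hDn, hDc⟩ := Transfer.NormalPComplement.exists_of_sylow h (P.subtype hPL)
  have hcop := Transfer.NormalPComplement.coprime_of_isComplement' _ hDc
  have hD'card : Nat.card (D.map L.subtype) = Nat.card D :=
    Subgroup.card_map_of_injective L.subtype_injective
  have hdisj : D.map L.subtype ⊓ Cfsg.pCore p G = ⊥ := by
    obtain ⟨k, hk⟩ := IsPGroup.iff_card.mp hRp
    exact (Subgroup.disjoint_of_coprime_natCard (by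
      rw [hk, hD'card]; exact (Nat.Coprime.pow_right k hcop))).eq_bot
  have hDC : D.map L.subtype ≤ Subgroup.centralizer (Cfsg.pCore p G : Set G) := by
    rintro _ ⟨d, hd, rfl⟩
    rw [Subgroup.mem_centralizer_iff]
    intro r hr
    have hrL : r ∈ L := hPL (hRP hr)
    have h1 : (d : G) * r * (d : G)⁻¹ * r⁻¹ ∈ D.map L.subtype ⊓ Cfsg.pCore p G := by
      refine Subgroup.mem_inf.mpr ⟨?_, ?_⟩
      · refine ⟨d * ((⟨r, hrL⟩ : L) * d⁻¹ * (⟨r, hrL⟩ : L)⁻¹),
          mul_mem hd (hDn.conj_mem _ (inv_mem hd) _), ?_⟩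
        simp [mul_assoc]
      · exact mul_mem (hRn.conj_mem r hr d) (inv_mem hr)
    rw [hdisj, Subgroup.mem_bot] at h1
    change r * (d : G) = d * r
    calc r * (d : G) = ((d : G) * r * (d : G)⁻¹ * r⁻¹)⁻¹ * ((d : G) * r) := by group
      _ = d * r := by rw [h1]; simp
  have hD'bot : D.map L.subtype = ⊥ := by
    rw [← le_bot_iff, ← hdisj]
    exact le_inf le_rfl (hDC.trans hc)
  have hDbot : D = ⊥ :=
    (Subgroup.map_eq_bot_iff_of_injective _ L.subtype_injective).mp hD'bot
  rw [hDbot, Subgroup.isComplement'_bot_left, Sylow.coe_subtype, Subgroup.subgroupOf_eq_top] at hDc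
  exact le_antisymm hDc hPL

/-- A `p`-subgroup normalizing a normal `p'`-subgroup `K` normalizes a Sylow `q`-subgroup of `K`. -/
theorem exists_invariant_sylow {q : ℕ} [Fact q.Prime] (K P : Subgroup G) [K.Normal]
    (hK : (Nat.card K).Coprime p) (hP : IsPGroup p P) :
    ∃ Q : Sylow q K, P ≤ Subgroup.normalizer ((Q : Subgroup K).map K.subtype : Set G) := by
  let φ : P →* MulAut K := (MulAut.conjNormal (H := K)).comp P.subtype
  let _ : MulAction P (Sylow q K) := MulAction.compHom _ φ
  have hnd : ¬ p ∣ Nat.card (Sylow q K) := by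
    intro hd
    have Q : Sylow q K := default
    rw [Q.card_eq_index_normalizer] at hd
    have h2 := hd.trans (Subgroup.index_dvd_card _)
    exact hp.out.one_lt.ne' (Nat.dvd_one.mp (hK ▸ Nat.dvd_gcd h2 (dvd_refl p)))
  obtain ⟨Q, hQ⟩ := hP.nonempty_fixed_point_of_prime_not_dvd_card (Sylow q K) hnd
  refine ⟨Q, ?_⟩
  have key : ∀ x ∈ P, ∀ y ∈ (Q : Subgroup K).map K.subtype,
      x * y * x⁻¹ ∈ (Q : Subgroup K).map K.subtype := by
    rintro x hx _ ⟨y, hy, rfl⟩
    have h1 : (MulAut.conjNormal x : MulAut K) • Q = Q := hQ ⟨x, hx⟩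
    have h2 : (MulAut.conjNormal x : MulAut K) • y ∈ (MulAut.conjNormal x : MulAut K) • (Q : Subgroup K) :=
      Subgroup.smul_mem_pointwise_smul _ _ _ hy
    have h3 : (MulAut.conjNormal x : MulAut K) • (Q : Subgroup K) = (Q : Subgroup K) := by
      rw [← Sylow.pointwise_smul_def, h1]
    rw [h3] at h2
    exact ⟨_, h2, rfl⟩
  rw [Subgroup.le_normalizer_iff]
  exact key

/-- The final step: `A`. -/
theorem exists_abelian (P : Sylow p G) (hRP : (P : Subgroup G) ≠ Cfsg.pCore p G)
    (hmax : ∀ M : Subgroup G, (P : Subgroup G) ≤ M → M = P ∨ M = ⊤)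
    (h : Cfsg.HasNormalPComplement p (G ⧸ Cfsg.pCore p G)) :
    ∃ A : Subgroup G, A.Normal ∧ Cfsg.pCore p G < A ∧ ⁅A, A⁆ ≤ Cfsg.pCore p G ∧
      ((Cfsg.pCore p G).relIndex A).Coprime p ∧ A ⊔ (P : Subgroup G) = ⊤ := by
  obtain ⟨K, hKn, hKc, hKq⟩ := Transfer.NormalPComplement.hasNormalPComplement_iff.mp h
  have hs := QuotientGroup.mk'_surjective (Cfsg.pCore p G)
  have hRp := Lib.Cores.pCore_isPGroup (G := G) p
  have hPbp : IsPGroup p ((P : Subgroup G).map (QuotientGroup.mk' (Cfsg.pCore p G))) :=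
    P.isPGroup'.map _
  have hRP' : Cfsg.pCore p G ≤ P := Lib.Cores.pCore_le_sylow P
  -- a `p'`-subgroup of the image of `P` is trivial
  have hbot : ∀ T : Subgroup (G ⧸ Cfsg.pCore p G), (Nat.card T).Coprime p →
      T ≤ (P : Subgroup G).map (QuotientGroup.mk' (Cfsg.pCore p G)) → T = ⊥ := by
    intro T hT hTP
    obtain ⟨k, hk⟩ := IsPGroup.iff_card.mp (hPbp.to_le hTP)
    rw [← Subgroup.card_eq_one]
    have h1 : (Nat.card T).Coprime (Nat.card T) := by
      conv_rhs => rw [hk]
      exact Nat.Coprime.pow_right k hT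
    exact (Nat.coprime_self _).mp h1
  have hK1 : K ≠ ⊥ := by
    intro h0
    apply hRP
    have h1 : IsPGroup p (G ⧸ Cfsg.pCore p G) := by
      subst h0
      exact hKq.of_equiv QuotientGroup.quotientBot
    have h2 : IsPGroup p G := by
      have h3 : IsPGroup p ((⊤ : Subgroup (G ⧸ Cfsg.pCore p G)).comap
          (QuotientGroup.mk' (Cfsg.pCore p G))) := by
        apply (h1.to_subgroup ⊤).comap_of_ker_isPGroup
        rw [QuotientGroup.ker_mk']; exact hRp
      rw [Subgroup.comap_top] at h3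
      exact h3.of_equiv Subgroup.topEquiv
    have h4 : Cfsg.pCore p G = ⊤ := (Lib.Cores.pCore_eq_top_iff p).mpr h2
    exact le_antisymm (by rw [h4]; exact le_top) hRP'
  obtain ⟨q, hq, hqK⟩ : ∃ q : ℕ, q.Prime ∧ q ∣ Nat.card K :=
    Nat.exists_prime_and_dvd (fun h0 => hK1 (Subgroup.card_eq_one.mp h0))
  have := Fact.mk hq
  obtain ⟨Q, hQ⟩ := exists_invariant_sylow (q := q) K
    ((P : Subgroup G).map (QuotientGroup.mk' (Cfsg.pCore p G))) hKc hPbp
  obtain ⟨Q', hQ'⟩ : ∃ Q' : Subgroup (G ⧸ Cfsg.pCore p G), Q' = (Q : Subgroup K).map K.subtype :=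
    ⟨_, rfl⟩
  have hQ'K : Q' ≤ K := by rw [hQ']; exact Subgroup.map_subtype_le _
  have hQ'q : IsPGroup q Q' := by rw [hQ']; exact Q.isPGroup'.map _
  have hQ'1 : Q' ≠ ⊥ := by
    intro h0
    rw [h0] at hQ'
    exact Q.ne_bot_of_dvd_card hqK
      ((Subgroup.map_eq_bot_iff_of_injective _ K.subtype_injective).mp hQ'.symm)
  have hcopK : ∀ T : Subgroup (G ⧸ Cfsg.pCore p G), T ≤ K → (Nat.card T).Coprime p :=
    fun T hT => Nat.Coprime.coprime_dvd_left (Subgroup.card_dvd_of_le hT) hKc
  rw [← hQ'] at hQ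
  have hQ'n : Q'.Normal := by
    rw [← Subgroup.normalizer_eq_top_iff]
    have h1 := hmax ((Subgroup.normalizer (Q' : Set (G ⧸ Cfsg.pCore p G))).comap
      (QuotientGroup.mk' (Cfsg.pCore p G))) (Subgroup.map_le_iff_le_comap.mp hQ)
    rcases h1 with h1 | h1
    · exfalso
      apply hQ'1
      apply hbot _ (hcopK _ hQ'K)
      rw [← h1, Subgroup.map_comap_eq_self_of_surjective hs]
      exact Subgroup.le_normalizer
    · rw [← Subgroup.map_comap_eq_self_of_surjective hs (Subgroup.normalizer _), h1]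
      exact Subgroup.map_top_of_surjective _ hs
  obtain ⟨Z, hZ⟩ : ∃ Z : Subgroup (G ⧸ Cfsg.pCore p G),
    Z = Q' ⊓ Subgroup.centralizer (Q' : Set (G ⧸ Cfsg.pCore p G)) := ⟨_, rfl⟩
  have hZn : Z.Normal := by rw [hZ]; infer_instance
  have hZQ : Z ≤ Q' := by rw [hZ]; exact inf_le_left
  have hZ1 : Z ≠ ⊥ := by
    have : Nontrivial Q' := (Subgroup.nontrivial_iff_ne_bot Q').mpr hQ'1
    have h1 := hQ'q.center_nontrivial
    obtain ⟨z, hz, hz1⟩ := Subgroup.exists_ne_one_of_nontrivial (Subgroup.center Q')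
    intro h0
    apply hz1
    have h2 : (z : G ⧸ Cfsg.pCore p G) ∈ Z := by
      rw [hZ]
      refine Subgroup.mem_inf.mpr ⟨z.2, ?_⟩
      rw [Subgroup.mem_centralizer_iff]
      intro y hy
      exact congrArg Subtype.val ((Subgroup.mem_center_iff.mp hz) ⟨y, hy⟩)
    rw [h0, Subgroup.mem_bot] at h2
    exact Subtype.ext h2
  have hcent : ∀ x ∈ Z, ∀ y ∈ Z, x * y = y * x := by
    intro x hx y hy
    rw [hZ] at hx hy
    exact ((Subgroup.mem_centralizer_iff.mp (Subgroup.mem_inf.mp hx).2) y
      (Subgroup.mem_inf.mp hy).1).symm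
  have hRA : Cfsg.pCore p G ≤ Z.comap (QuotientGroup.mk' (Cfsg.pCore p G)) := by
    intro x hx
    rw [Subgroup.mem_comap]
    have : QuotientGroup.mk' (Cfsg.pCore p G) x = 1 := (QuotientGroup.eq_one_iff x).mpr hx
    rw [this]; exact one_mem _
  refine ⟨Z.comap (QuotientGroup.mk' (Cfsg.pCore p G)), hZn.comap _, ?_, ?_, ?_, ?_⟩
  · refine lt_of_le_of_ne hRA ?_
    intro h0
    apply hZ1
    rw [← Subgroup.map_comap_eq_self_of_surjective hs Z, ← h0, Subgroup.map_eq_bot_iff,
      QuotientGroup.ker_mk']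
  · rw [Subgroup.commutator_le]
    intro x hx y hy
    rw [← QuotientGroup.eq_one_iff]
    change QuotientGroup.mk' (Cfsg.pCore p G) ⁅x, y⁆ = 1
    rw [map_commutatorElement, commutatorElement_eq_one_iff_mul_comm]
    exact hcent _ hx _ hy
  · have h1 := Subgroup.relIndex_ker (K := Z.comap (QuotientGroup.mk' (Cfsg.pCore p G)))
      (QuotientGroup.mk' (Cfsg.pCore p G))
    rw [QuotientGroup.ker_mk', Subgroup.map_comap_eq_self_of_surjective hs] at h1
    rw [h1]
    exact hcopK _ (hZQ.trans hQ'K)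
  · rcases hmax (Z.comap (QuotientGroup.mk' (Cfsg.pCore p G)) ⊔ (P : Subgroup G)) le_sup_right with h1 | h1
    · exfalso
      apply hZ1
      apply hbot _ (hcopK _ (hZQ.trans hQ'K))
      have h2 : Z.comap (QuotientGroup.mk' (Cfsg.pCore p G)) ≤ P := by
        rw [← h1]; exact le_sup_left
      rw [← Subgroup.map_comap_eq_self_of_surjective hs Z]
      exact Subgroup.map_mono h2
    · exact h1

end structure_

/-- Reduction of the normal `p`-complement theorems to the minimal configuration. -/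
theorem hasNormalPComplement_of_functor {p : ℕ} [hp : Fact p.Prime]
    (Φ : ∀ (G : Type u) [Group G], Subgroup G → Subgroup G)
    (hΦmap : ∀ (G G' : Type u) [Group G] [Group G'] [Finite G] [Finite G'] (f : G →* G')
      (P : Subgroup G), Set.InjOn f P → IsPGroup p P → (Φ G P).map f = Φ G' (P.map f))
    (hΦle : ∀ (G : Type u) [Group G] [Finite G] (P : Subgroup G), IsPGroup p P → Φ G P ≤ P)
    (hΦne : ∀ (G : Type u) [Group G] [Finite G] (P : Subgroup G), IsPGroup p P → P ≠ ⊥ →
      Φ G P ≠ ⊥)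
    (hmin : ∀ (G : Type u) [Group G] [Finite G] (P : Sylow p G) (A : Subgroup G), A.Normal →
      Cfsg.pCore p G < A → ⁅A, A⁆ ≤ Cfsg.pCore p G → ((Cfsg.pCore p G).relIndex A).Coprime p →
      A ⊔ (P : Subgroup G) = ⊤ →
      Subgroup.centralizer (Cfsg.pCore p G : Set G) ≤ Cfsg.pCore p G →
      (∀ M : Subgroup G, (P : Subgroup G) ≤ M → M = P ∨ M = ⊤) →
      Cfsg.HasNormalPComplement p (Subgroup.normalizer (Φ G (P : Subgroup G) : Set G)) →
      Cfsg.HasNormalPComplement p G)
    (G : Type u) [Group G] [Finite G] (P : Sylow p G)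
    (h : Cfsg.HasNormalPComplement p (Subgroup.normalizer (Φ G (P : Subgroup G) : Set G))) :
    Cfsg.HasNormalPComplement p G := by
  obtain ⟨n, hn⟩ : ∃ n, Nat.card G = n := ⟨_, rfl⟩
  induction n using Nat.strong_induction_on generalizing G with
  | _ n ih =>
    have IH : ∀ (L : Type u) [Group L] [Finite L], Nat.card L < Nat.card G → ∀ Q : Sylow p L,
        Cfsg.HasNormalPComplement p (Subgroup.normalizer (Φ L (Q : Subgroup L) : Set L)) →
        Cfsg.HasNormalPComplement p L := by
      intro L _ _ hL Q hQ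
      exact ih (Nat.card L) (by omega) L Q hQ rfl
    by_contra hG
    have h1 := pCore_ne_bot Φ hΦmap hΦle hΦne G IH P h hG
    have h2 := pPrimeCore_eq_bot Φ hΦmap hΦle G IH P h hG
    have h3 : (P : Subgroup G) ≠ Cfsg.pCore p G := by
      intro h0
      apply hG
      have h4 : (P : Subgroup G).Normal := by rw [h0]; exact Lib.Cores.pCore_normal p
      have h5 := normalizer_le Φ hΦmap G P P.isPGroup'
      rw [Subgroup.normalizer_eq_top_iff.mpr h4, top_le_iff] at h5
      rw [h5] at h
      exact (Transfer.NormalPComplement.congr Subgroup.topEquiv).mp h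
    have h4 := quotient_npc Φ hΦmap hΦle hΦne G IH P h h1 h3
    have h5 := isPSolvable_of_quotient_npc _ (Lib.Cores.pCore_isPGroup p) h4
    have h6 := Constrained.centralizer_pCore_le h2 (PSolvable.isPSolvable_subgroup h5 _)
    have h7 : ∀ M : Subgroup G, (P : Subgroup G) ≤ M → M = P ∨ M = ⊤ := by
      intro M hM
      by_cases hMt : M = ⊤
      · exact Or.inr hMt
      · exact Or.inl (eq_of_npc h6 P M hM (npc_overgroup Φ hΦmap G IH P h M hMt hM))
    obtain ⟨A, hA1, hA2, hA3, hA4, hA5⟩ := exists_abelian P h3 h7 h4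
    exact hG (hmin G P A hA1 hA2 hA3 hA4 hA5 h6 h7 h)

end Cfsg.Agent.PLocal.ComplementReduction
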