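import Mathlib
import Cfsg.Prelude.Def_PLocal

/-!
Basics of the abelian version of the Thompson subgroup `thompsonSubgroupAOf` and of `centerThompsonAOf`
(= `Z(J(P))`, `J(P)` generated by the abelian subgroups of `P` of largest order).
-/

set_option autoImplicit false
open Cfsg

namespace Cfsg.Agent.PLocal.ThompsonJA

variable {G H : Type*} [Group G] [Group H]

/-- The abelian subgroups of `G` contained in `P` of largest possible order. -/
def maxAbelianIn (P : Subgroup G) : Set (Subgroup G) :=
  {A | A ≤ P ∧ IsMulCommutative A ∧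
    ∀ B : Subgroup G, B ≤ P → IsMulCommutative B → Nat.card B ≤ Nat.card A}

theorem mem_maxAbelianIn {P A : Subgroup G} : A ∈ maxAbelianIn P ↔ A ≤ P ∧ IsMulCommutative A ∧
    ∀ B : Subgroup G, B ≤ P → IsMulCommutative B → Nat.card B ≤ Nat.card A := Iff.rfl

theorem isMulCommutative_iff (A : Subgroup G) :
    IsMulCommutative A ↔ ∀ x ∈ A, ∀ y ∈ A, x * y = y * x := by
  constructor
  · intro h x hx y hy
    have := h.is_comm.comm (⟨x, hx⟩ : A) ⟨y, hy⟩
    exact congrArg Subtype.val this
  · intro h
    exact ⟨⟨fun a b => Subtype.ext (h a a.2 b b.2)⟩⟩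

theorem isMulCommutative_map (f : G →* H) {A : Subgroup G} (hA : IsMulCommutative A) :
    IsMulCommutative (A.map f) := by
  rw [isMulCommutative_iff] at hA ⊢
  rintro _ ⟨x, hx, rfl⟩ _ ⟨y, hy, rfl⟩
  rw [← map_mul, hA x hx y hy, map_mul]

theorem isMulCommutative_comap (f : G →* H) (hf : Function.Injective f) {A : Subgroup H}
    (hA : IsMulCommutative A) : IsMulCommutative (A.comap f) := by
  rw [isMulCommutative_iff] at hA ⊢
  intro x hx y hy
  exact hf (by rw [map_mul, map_mul]; exact hA _ hx _ hy)

theorem card_map_of_injective (f : G →* H) (hf : Function.Injective f) (A : Subgroup G) :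
    Nat.card (A.map f) = Nat.card A :=
  (Nat.card_congr (A.equivMapOfInjective f hf).toEquiv).symm

theorem thompsonSubgroupAOf_eq_sSup (P : Subgroup G) :
    thompsonSubgroupAOf P = sSup (maxAbelianIn P) := by
  show (sSup (maxAbelianSubgroups P)).map P.subtype = _
  apply le_antisymm
  · rw [Subgroup.map_le_iff_le_comap]
    apply sSup_le
    intro A hA
    rw [← Subgroup.map_le_iff_le_comap]
    apply le_sSup
    refine ⟨?_, isMulCommutative_map _ hA.1, ?_⟩
    · exact Subgroup.map_subtype_le A
    · intro B hB hBc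
      have h1 := hA.2 (B.subgroupOf P) (isMulCommutative_comap _ P.subtype_injective hBc)
      rw [card_map_of_injective _ P.subtype_injective]
      rwa [← card_map_of_injective _ P.subtype_injective, Subgroup.subgroupOf_map_subtype,
        inf_eq_left.mpr hB] at h1
  · apply sSup_le
    intro A hA
    obtain ⟨hAP, hAc, hAm⟩ := hA
    have : A = (A.subgroupOf P).map P.subtype := by
      rw [Subgroup.subgroupOf_map_subtype, inf_eq_left.mpr hAP]
    rw [this]
    apply Subgroup.map_mono
    apply le_sSup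
    refine ⟨isMulCommutative_comap _ P.subtype_injective hAc, ?_⟩
    intro B hB
    have h1 := hAm (B.map P.subtype) (Subgroup.map_subtype_le B) (isMulCommutative_map _ hB)
    rw [card_map_of_injective _ P.subtype_injective] at h1
    rwa [← card_map_of_injective _ P.subtype_injective (A.subgroupOf P),
      Subgroup.subgroupOf_map_subtype, inf_eq_left.mpr hAP]

theorem map_mem_maxAbelianIn (f : G →* H) (hf : Function.Injective f) {P A : Subgroup G}
    (hA : A ∈ maxAbelianIn P) : A.map f ∈ maxAbelianIn (P.map f) := by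
  obtain ⟨hAP, hAc, hAm⟩ := hA
  refine ⟨Subgroup.map_mono hAP, isMulCommutative_map f hAc, ?_⟩
  intro B hB hBc
  have hBf : (B.comap f).map f = B := by
    rw [Subgroup.map_comap_eq, inf_eq_right]
    exact hB.trans (Subgroup.map_le_range f P)
  have h1 := hAm (B.comap f) ?_ (isMulCommutative_comap f hf hBc)
  · rw [card_map_of_injective f hf, ← hBf, card_map_of_injective f hf]
    exact h1
  · intro x hx
    obtain ⟨y, hy, hyx⟩ := hB hx
    rwa [← hf hyx]

theorem maxAbelianIn_map (f : G →* H) (hf : Function.Injective f) (P : Subgroup G) :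
    maxAbelianIn (P.map f) = Subgroup.map f '' maxAbelianIn P := by
  apply Set.Subset.antisymm
  · intro B hB
    have hBf : (B.comap f).map f = B := by
      rw [Subgroup.map_comap_eq, inf_eq_right]
      exact hB.1.trans (Subgroup.map_le_range f P)
    refine ⟨B.comap f, ⟨?_, isMulCommutative_comap f hf hB.2.1, ?_⟩, hBf⟩
    · intro x hx
      obtain ⟨y, hy, hyx⟩ := hB.1 hx
      rwa [← hf hyx]
    · intro A hA hAc
      have := hB.2.2 (A.map f) (Subgroup.map_mono hA) (isMulCommutative_map f hAc)
      rwa [card_map_of_injective f hf, ← hBf, card_map_of_injective f hf] at this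
  · rintro _ ⟨A, hA, rfl⟩
    exact map_mem_maxAbelianIn f hf hA

/-- `J(P)` (abelian version) is equivariant under injective homomorphisms. -/
theorem map_thompsonSubgroupAOf (f : G →* H) (hf : Function.Injective f) (P : Subgroup G) :
    (thompsonSubgroupAOf P).map f = thompsonSubgroupAOf (P.map f) := by
  rw [thompsonSubgroupAOf_eq_sSup, thompsonSubgroupAOf_eq_sSup, maxAbelianIn_map f hf,
    sSup_image, sSup_eq_iSup, Subgroup.map_iSup]
  simp only [Subgroup.map_iSup]

theorem map_inf_centralizer (f : G →* H) (hf : Function.Injective f) (K : Subgroup G) :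
    (K ⊓ Subgroup.centralizer (K : Set G)).map f =
      K.map f ⊓ Subgroup.centralizer ((K.map f : Subgroup H) : Set H) := by
  ext y
  constructor
  · rintro ⟨x, ⟨hxK, hxC⟩, rfl⟩
    refine ⟨⟨x, hxK, rfl⟩, Subgroup.mem_centralizer_iff.mpr ?_⟩
    rintro _ ⟨z, hz, rfl⟩
    rw [← map_mul, ← map_mul, Subgroup.mem_centralizer_iff.mp hxC z hz]
  · rintro ⟨⟨x, hxK, rfl⟩, hxC⟩
    refine ⟨x, ⟨hxK, Subgroup.mem_centralizer_iff.mpr ?_⟩, rfl⟩
    intro z hz
    apply hf
    rw [map_mul, map_mul]
    exact Subgroup.mem_centralizer_iff.mp hxC (f z) ⟨z, hz, rfl⟩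

/-- `Z(J(P))` (abelian version) is equivariant under injective homomorphisms. -/
theorem map_centerThompsonAOf (f : G →* H) (hf : Function.Injective f) (P : Subgroup G) :
    (centerThompsonAOf P).map f = centerThompsonAOf (P.map f) := by
  show (thompsonSubgroupAOf P ⊓ Subgroup.centralizer (thompsonSubgroupAOf P : Set G)).map f =
    thompsonSubgroupAOf (P.map f) ⊓
      Subgroup.centralizer (thompsonSubgroupAOf (P.map f) : Set H)
  rw [map_inf_centralizer f hf, map_thompsonSubgroupAOf f hf]

theorem thompsonSubgroupAOf_le (P : Subgroup G) : thompsonSubgroupAOf P ≤ P :=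
  Subgroup.map_subtype_le _

theorem centerThompsonAOf_le_thompsonSubgroupAOf (P : Subgroup G) :
    centerThompsonAOf P ≤ thompsonSubgroupAOf P := inf_le_left

theorem centerThompsonAOf_le (P : Subgroup G) : centerThompsonAOf P ≤ P :=
  inf_le_left.trans (thompsonSubgroupAOf_le P)

theorem centerThompsonAOf_le_centralizer (P : Subgroup G) :
    centerThompsonAOf P ≤ Subgroup.centralizer (thompsonSubgroupAOf P : Set G) := inf_le_right

theorem isMulCommutative_centerThompsonAOf (P : Subgroup G) :
    IsMulCommutative (centerThompsonAOf P) := by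
  rw [isMulCommutative_iff]
  intro x hx y hy
  exact (Subgroup.mem_centralizer_iff.mp (centerThompsonAOf_le_centralizer P hx) y
    (centerThompsonAOf_le_thompsonSubgroupAOf P hy)).symm

theorem normalizer_le_normalizer_thompsonSubgroupAOf (P : Subgroup G) :
    Subgroup.normalizer (P : Set G) ≤ Subgroup.normalizer (thompsonSubgroupAOf P : Set G) := by
  intro g hg
  rw [Subgroup.mem_normalizer_iff_map_conj_eq] at hg ⊢
  rw [map_thompsonSubgroupAOf _ (MulAut.conj g).injective, hg]

theorem normalizer_le_normalizer_centerThompsonAOf (P : Subgroup G) :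
    Subgroup.normalizer (P : Set G) ≤ Subgroup.normalizer (centerThompsonAOf P : Set G) := by
  intro g hg
  rw [Subgroup.mem_normalizer_iff_map_conj_eq] at hg ⊢
  rw [map_centerThompsonAOf _ (MulAut.conj g).injective, hg]

/-- Conjugation form: `g ∈ N_G(Z(J(P)))` iff `Z(J(P^g)) = Z(J(P))`. -/
theorem mem_normalizer_centerThompsonAOf_iff (P : Subgroup G) (g : G) :
    g ∈ Subgroup.normalizer (centerThompsonAOf P : Set G) ↔
      centerThompsonAOf (P.map (MulAut.conj g).toMonoidHom) = centerThompsonAOf P := by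
  rw [Subgroup.mem_normalizer_iff_map_conj_eq,
    ← map_centerThompsonAOf _ (MulAut.conj g).injective]
  rfl

theorem maxAbelianIn_nonempty [Finite G] (P : Subgroup G) : (maxAbelianIn P).Nonempty := by
  classical
  obtain ⟨A, ⟨hA1, hA2⟩, hA3⟩ := Set.exists_max_image
    {A : Subgroup G | A ≤ P ∧ IsMulCommutative A} (fun A => Nat.card A) (Set.toFinite _)
    ⟨⊥, bot_le, (isMulCommutative_iff _).mpr (by
      intro x hx y hy
      rw [Subgroup.mem_bot] at hx hy
      rw [hx, hy])⟩
  exact ⟨A, hA1, hA2, fun B hB hBc => hA3 B ⟨hB, hBc⟩⟩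

theorem le_thompsonSubgroupAOf {P A : Subgroup G} (hA : A ∈ maxAbelianIn P) :
    A ≤ thompsonSubgroupAOf P := by
  rw [thompsonSubgroupAOf_eq_sSup]
  exact le_sSup hA

/-- Every abelian subgroup of `P` of largest order contains `C_P` of itself. -/
theorem inf_centralizer_le_of_mem_maxAbelianIn [Finite G] {P A : Subgroup G}
    (hA : A ∈ maxAbelianIn P) : P ⊓ Subgroup.centralizer (A : Set G) ≤ A := by
  obtain ⟨hAP, hAc, hAm⟩ := hA
  intro x hx
  have hxA : ∀ a ∈ A, a * x = x * a := Subgroup.mem_centralizer_iff.mp hx.2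
  have hAc' := (isMulCommutative_iff A).mp hAc
  -- the subgroup generated by `A` and `x` is abelian
  set B : Subgroup G := A ⊔ Subgroup.zpowers x with hB
  have hBP : B ≤ P := sup_le hAP (by rw [Subgroup.zpowers_le]; exact hx.1)
  have hBc : IsMulCommutative B := by
    rw [isMulCommutative_iff]
    have h1 : B ≤ Subgroup.centralizer (A : Set G) := by
      refine sup_le ?_ ?_
      · intro a ha
        exact Subgroup.mem_centralizer_iff.mpr fun b hb => hAc' b hb a ha
      · rw [Subgroup.zpowers_le]; exact hx.2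
    have h2 : B ≤ Subgroup.centralizer (B : Set G) := by
      rw [Subgroup.le_centralizer_iff]
      refine sup_le (Subgroup.le_centralizer_iff.mp h1) ?_
      rw [Subgroup.zpowers_le, ← SetLike.mem_coe]
      refine Subgroup.mem_centralizer_iff.mpr ?_
      intro b hb
      have h3 : B ≤ Subgroup.centralizer ({x} : Set G) := by
        refine sup_le ?_ ?_
        · intro a ha
          rw [Subgroup.mem_centralizer_singleton_iff]
          exact (hxA a ha)
        · rw [Subgroup.zpowers_le, Subgroup.mem_centralizer_singleton_iff]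
      exact (Subgroup.mem_centralizer_singleton_iff.mp (h3 hb))
    intro y hy z hz
    exact (Subgroup.mem_centralizer_iff.mp (h2 hy) z hz).symm
  have hcard := hAm B hBP hBc
  have hAB : A = B := Subgroup.eq_of_le_of_card_ge le_sup_left hcard
  rw [hAB]
  exact (le_sup_right : Subgroup.zpowers x ≤ B) (Subgroup.mem_zpowers x)

/-- `C_P(J(P)) = Z(J(P))`. -/
theorem inf_centralizer_thompsonSubgroupAOf_eq [Finite G] (P : Subgroup G) :
    P ⊓ Subgroup.centralizer (thompsonSubgroupAOf P : Set G) = centerThompsonAOf P := by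
  apply le_antisymm
  · obtain ⟨A, hA⟩ := maxAbelianIn_nonempty P
    refine le_inf ?_ inf_le_right
    refine le_trans ?_ ((inf_centralizer_le_of_mem_maxAbelianIn hA).trans
      (le_thompsonSubgroupAOf hA))
    exact inf_le_inf_left _ (Subgroup.centralizer_le (le_thompsonSubgroupAOf hA))
  · exact le_inf (centerThompsonAOf_le P) inf_le_right

/-- The centre of `P` is contained in `Z(J(P))`. -/
theorem inf_centralizer_le_centerThompsonAOf [Finite G] (P : Subgroup G) :
    P ⊓ Subgroup.centralizer (P : Set G) ≤ centerThompsonAOf P := by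
  rw [← inf_centralizer_thompsonSubgroupAOf_eq]
  exact inf_le_inf_left _ (Subgroup.centralizer_le (thompsonSubgroupAOf_le P))

theorem centerThompsonAOf_ne_bot [Finite G] {p : ℕ} [Fact p.Prime] (P : Subgroup G)
    (hP : IsPGroup p P) (hP1 : P ≠ ⊥) : centerThompsonAOf P ≠ ⊥ := by
  intro h
  have h1 : P ⊓ Subgroup.centralizer (P : Set G) = ⊥ := by
    rw [eq_bot_iff, ← h]
    exact inf_centralizer_le_centerThompsonAOf P
  have : Nontrivial P := by
    rw [Subgroup.nontrivial_iff_ne_bot]; exact hP1
  have h2 := hP.bot_lt_center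
  obtain ⟨z, hz, hz1⟩ := SetLike.exists_of_lt h2
  apply hz1
  have : (z : G) ∈ P ⊓ Subgroup.centralizer (P : Set G) := by
    refine ⟨z.2, Subgroup.mem_centralizer_iff.mpr ?_⟩
    intro y hy
    have := Subgroup.mem_center_iff.mp hz ⟨y, hy⟩
    exact congrArg Subtype.val this
  rw [h1, Subgroup.mem_bot] at this
  rw [Subgroup.mem_bot]
  exact Subtype.ext this

/-- If `J(P) ≤ Q ≤ P` then `J(Q) = J(P)`. -/
theorem thompsonSubgroupAOf_eq_of_le [Finite G] {P Q : Subgroup G}
    (h1 : thompsonSubgroupAOf P ≤ Q) (h2 : Q ≤ P) :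
    thompsonSubgroupAOf Q = thompsonSubgroupAOf P := by
  rw [thompsonSubgroupAOf_eq_sSup, thompsonSubgroupAOf_eq_sSup]
  congr 1
  obtain ⟨A, hA⟩ := maxAbelianIn_nonempty P
  have hAQ : A ≤ Q := (le_thompsonSubgroupAOf hA).trans h1
  ext B
  constructor
  · rintro ⟨hB1, hB2, hB3⟩
    refine ⟨hB1.trans h2, hB2, fun C hC hCc => ?_⟩
    exact (hA.2.2 C hC hCc).trans (hB3 A hAQ hA.2.1)
  · intro hB
    refine ⟨(le_thompsonSubgroupAOf hB).trans h1, hB.2.1, fun C hC hCc => hB.2.2 C (hC.trans h2) hCc⟩

/-- If `J(P) ≤ Q ≤ P` then `Z(J(Q)) = Z(J(P))`. -/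
theorem centerThompsonAOf_eq_of_le [Finite G] {P Q : Subgroup G}
    (h1 : thompsonSubgroupAOf P ≤ Q) (h2 : Q ≤ P) :
    centerThompsonAOf Q = centerThompsonAOf P := by
  show thompsonSubgroupAOf Q ⊓ Subgroup.centralizer (thompsonSubgroupAOf Q : Set G) =
    thompsonSubgroupAOf P ⊓ Subgroup.centralizer (thompsonSubgroupAOf P : Set G)
  rw [thompsonSubgroupAOf_eq_of_le h1 h2]

end Cfsg.Agent.PLocal.ThompsonJA
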