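import Mathlib
import Cfsg.Prelude.Def_PLocal
import Cfsg.Agent.Lib.Cores
import Cfsg.Agent.PLocal.Replacement

set_option autoImplicit false

/-!
# Glauberman's ZJ theorem

`maxAb e S` is the set of the elementary abelian `e`-subgroups of largest order of the subgroup `S`
(for `e = 0`: the abelian subgroups of largest order).  The main result is `inf_sInf_maxAb_normal`:
if `p` is odd, `B` is a normal `p`-subgroup of `G`, and `G` acts `p`-stably on its normal subgroups
contained in `B`, then `B ∩ ⋂ maxAb e S` is normal in `G`.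
-/

namespace Cfsg.Agent.PLocal.ZJ

open Subgroup
open scoped commutatorElement

variable {G : Type*} [Group G]

/-- The elementary abelian `e`-subgroups of largest order of the subgroup `S` (`e = 0`: the abelian
subgroups of largest order). -/
def maxAb (e : ℕ) (S : Subgroup G) : Set (Subgroup G) :=
  {A | A ≤ S ∧ IsElementaryAbelian e A ∧
    ∀ B : Subgroup G, B ≤ S → IsElementaryAbelian e B → Nat.card B ≤ Nat.card A}

theorem mem_maxAb {e : ℕ} {S A : Subgroup G} : A ∈ maxAb e S ↔ A ≤ S ∧ IsElementaryAbelian e A ∧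
    ∀ B : Subgroup G, B ≤ S → IsElementaryAbelian e B → Nat.card B ≤ Nat.card A := Iff.rfl

theorem isElementaryAbelian_def {e : ℕ} {A : Subgroup G} :
    IsElementaryAbelian e A ↔ IsMulCommutative A ∧ ∀ a ∈ A, a ^ e = 1 := Iff.rfl

theorem isElementaryAbelian_of_le {e : ℕ} {A B : Subgroup G} (hB : IsElementaryAbelian e B)
    (hAB : A ≤ B) : IsElementaryAbelian e A := by
  refine ⟨⟨⟨fun x y => ?_⟩⟩, fun a ha => hB.2 a (hAB ha)⟩
  exact Subtype.ext (Replacement.mul_comm_of_isMulCommutative hB.1 (hAB x.2) (hAB y.2))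

theorem isElementaryAbelian_map {H : Type*} [Group H] (f : G →* H) {e : ℕ} {A : Subgroup G}
    (hA : IsElementaryAbelian e A) : IsElementaryAbelian e (A.map f) := by
  refine ⟨⟨⟨?_⟩⟩, ?_⟩
  · rintro ⟨_, x, hx, rfl⟩ ⟨_, y, hy, rfl⟩
    apply Subtype.ext
    change f x * f y = f y * f x
    rw [← map_mul, ← map_mul, Replacement.mul_comm_of_isMulCommutative hA.1 hx hy]
  · rintro _ ⟨x, hx, rfl⟩
    rw [← map_pow, hA.2 x hx, map_one]

theorem isElementaryAbelian_bot (e : ℕ) : IsElementaryAbelian e (⊥ : Subgroup G) := by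
  refine ⟨⟨⟨fun x y => Subsingleton.elim _ _⟩⟩, fun a ha => ?_⟩
  rw [Subgroup.mem_bot.mp ha, one_pow]

theorem maxAb_nonempty [Finite G] (e : ℕ) (S : Subgroup G) : (maxAb e S).Nonempty := by
  obtain ⟨A, hA, hmax⟩ := Set.exists_max_image {A : Subgroup G | A ≤ S ∧ IsElementaryAbelian e A}
    (fun A => Nat.card A) (Set.toFinite _) ⟨⊥, bot_le, isElementaryAbelian_bot e⟩
  exact ⟨A, hA.1, hA.2, fun B hB hBe => hmax B ⟨hB, hBe⟩⟩

theorem card_map_equiv {H : Type*} [Group H] (f : G ≃* H) (A : Subgroup G) :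
    Nat.card (A.map f.toMonoidHom) = Nat.card A :=
  (Nat.card_congr (Subgroup.equivMapOfInjective A _ f.injective).toEquiv).symm

theorem map_symm_map {H : Type*} [Group H] (f : G ≃* H) (A : Subgroup G) :
    (A.map f.toMonoidHom).map f.symm.toMonoidHom = A := by
  rw [Subgroup.map_map]
  have : f.symm.toMonoidHom.comp f.toMonoidHom = MonoidHom.id G := by ext x; simp
  rw [this, Subgroup.map_id]

theorem map_mem_maxAb {H : Type*} [Group H] (f : G ≃* H) {e : ℕ} {S A : Subgroup G}
    (hA : A ∈ maxAb e S) : A.map f.toMonoidHom ∈ maxAb e (S.map f.toMonoidHom) := by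
  refine ⟨Subgroup.map_mono hA.1, isElementaryAbelian_map _ hA.2.1, fun B hB hBe => ?_⟩
  rw [card_map_equiv f A, ← card_map_equiv f.symm B]
  refine hA.2.2 _ ?_ (isElementaryAbelian_map _ hBe)
  rw [← map_symm_map f S]
  exact Subgroup.map_mono hB

/-- The intersection of the members of `maxAb e S` is carried along by isomorphisms. -/
theorem map_sInf_maxAb {H : Type*} [Group H] (f : G ≃* H) (e : ℕ) (S : Subgroup G) :
    (sInf (maxAb e S)).map f.toMonoidHom = sInf (maxAb e (S.map f.toMonoidHom)) := by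
  apply le_antisymm
  · refine le_sInf fun A hA => ?_
    have h1 := map_mem_maxAb f.symm hA
    rw [map_symm_map] at h1
    have h2 := Subgroup.map_mono (f := f.toMonoidHom) (sInf_le h1)
    have h3 := map_symm_map f.symm A
    rw [MulEquiv.symm_symm] at h3
    rwa [h3] at h2
  · have key : (sInf (maxAb e (S.map f.toMonoidHom))).map f.symm.toMonoidHom ≤
        sInf (maxAb e S) := by
      refine le_sInf fun A hA => ?_
      have h2 := Subgroup.map_mono (f := f.symm.toMonoidHom) (sInf_le (map_mem_maxAb f hA))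
      rwa [map_symm_map] at h2
    have h4 := Subgroup.map_mono (f := f.toMonoidHom) key
    have h3 := map_symm_map f.symm (sInf (maxAb e (S.map f.toMonoidHom)))
    rw [MulEquiv.symm_symm] at h3
    rwa [h3] at h4

theorem mem_normalizer_iff_map_conj {K : Subgroup G} {g : G} :
    g ∈ normalizer (K : Set G) ↔ K.map (MulAut.conj g).toMonoidHom = K := by
  rw [Subgroup.mem_normalizer_iff]
  constructor
  · intro h
    ext x
    constructor
    · rintro ⟨y, hy, rfl⟩
      exact (h y).mp hy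
    · intro hx
      refine ⟨g⁻¹ * x * g, (h _).mpr ?_, ?_⟩
      · have : g * (g⁻¹ * x * g) * g⁻¹ = x := by group
        rwa [this]
      · simp [mul_assoc]
  · intro h x
    constructor
    · intro hx
      rw [← h]
      exact ⟨x, hx, rfl⟩
    · intro hx
      rw [← h] at hx
      obtain ⟨y, hy, hyx⟩ := hx
      have : y = x := (MulAut.conj g).injective hyx
      rwa [← this]

/-- The normalizer of `S` normalizes `⋂ maxAb e S`. -/
theorem normalizer_le_normalizer_sInf (e : ℕ) (S : Subgroup G) :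
    normalizer (S : Set G) ≤ normalizer ((sInf (maxAb e S) : Subgroup G) : Set G) := by
  intro g hg
  rw [mem_normalizer_iff_map_conj] at hg ⊢
  rw [map_sInf_maxAb, hg]

theorem maxAb_eq_of_le {e : ℕ} {S Q A : Subgroup G} (hQS : Q ≤ S) (hA : A ∈ maxAb e S)
    (hAQ : A ≤ Q) : maxAb e Q = {A' | A' ∈ maxAb e S ∧ A' ≤ Q} := by
  ext A'
  constructor
  · rintro ⟨h1, h2, h3⟩
    refine ⟨⟨h1.trans hQS, h2, fun B hB hBe => ?_⟩, h1⟩
    exact (hA.2.2 B hB hBe).trans (h3 A hAQ hA.2.1)
  · rintro ⟨h1, h2⟩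
    exact ⟨h2, h1.2.1, fun B hB hBe => h1.2.2 B (hB.trans hQS) hBe⟩

/-- Glauberman's replacement theorem for the members of `maxAb e S`. -/
theorem exists_replacement [Finite G] {p : ℕ} [Fact p.Prime] (hp : p ≠ 2) {e : ℕ}
    (he : e = 0 ∨ Odd e) {S A B : Subgroup G} (hS : IsPGroup p S) (hA : A ∈ maxAb e S)
    (hBS : B ≤ S) (hSB : S ≤ normalizer (B : Set G)) (hcl : ⁅⁅B, B⁆, B⁆ = ⊥)
    (hBA : ⁅B, B⁆ ≤ A) (hnot : ¬ B ≤ normalizer (A : Set G)) :
    ∃ A' ∈ maxAb e S, A ⊓ B < A' ⊓ B ∧ A' ≤ normalizer (A : Set G) := by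
  obtain ⟨A', h1, h2, h3, h4, h5, h6⟩ := Replacement.glauberman_replacement hp hS hA.1 hBS
    (hA.1.trans hSB) hA.2.1.1 hcl hBA hnot
  refine ⟨A', ⟨h1.trans (sup_le hA.1 hBS), ⟨h2, ?_⟩, fun C hC hCe => (hA.2.2 C hC hCe).trans h3⟩,
    h4, h5⟩
  rcases he with rfl | he
  · intro a _
    exact pow_zero a
  · exact h6 e he hA.2.1.2

/-- A Frattini argument: `K` normal in `G`, `C ≤ K` normal in `G` with `K/C` a `p`-group. Then
`G = C N_G(K ∩ S)` for a Sylow `p`-subgroup `S`. -/
theorem frattini_sup [Finite G] {p : ℕ} [Fact p.Prime] (S : Sylow p G) (C K : Subgroup G)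
    (hK : K.Normal) {k : ℕ} (hk : C.relIndex K = p ^ k) :
    C ⊔ normalizer ((K ⊓ (S : Subgroup G) : Subgroup G) : Set G) = ⊤ := by
  -- K ⊓ S is a Sylow subgroup of K
  have hpg : IsPGroup p ((S : Subgroup G).subgroupOf K) :=
    S.isPGroup'.comap_of_injective K.subtype K.subtype_injective
  obtain ⟨Q, hQ⟩ := hpg.exists_le_sylow
  have hQS : (Q : Subgroup K).map K.subtype = K ⊓ (S : Subgroup G) := by
    have hle : K ⊓ (S : Subgroup G) ≤ (Q : Subgroup K).map K.subtype := by
      rintro x ⟨hx1, hx2⟩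
      exact ⟨⟨x, hx1⟩, hQ (Subgroup.mem_subgroupOf.mpr hx2), rfl⟩
    refine (Subgroup.eq_of_le_of_card_ge hle ?_).symm
    have hQp : IsPGroup p ((Q : Subgroup K).map K.subtype) := Q.isPGroup'.map _
    obtain ⟨T, hT⟩ := hQp.exists_le_sylow
    obtain ⟨g, hg⟩ := MulAction.exists_smul_eq G T S
    have hQK : (Q : Subgroup K).map K.subtype ≤ K := Subgroup.map_subtype_le _
    have h1 : ((Q : Subgroup K).map K.subtype).map (MulAut.conj g).toMonoidHom ≤
        K ⊓ (S : Subgroup G) := by
      refine le_inf ?_ ?_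
      · rintro _ ⟨y, hy, rfl⟩
        exact hK.conj_mem y (hQK hy) g
      · have h2 : (S : Subgroup G) = (T : Subgroup G).map (MulAut.conj g).toMonoidHom := by
          rw [← hg]; rfl
        rw [h2]
        exact Subgroup.map_mono hT
    rw [← card_map_equiv (MulAut.conj g) ((Q : Subgroup K).map K.subtype)]
    exact Nat.card_le_card_of_injective _ (Subgroup.inclusion_injective h1)
  have hfr := Sylow.normalizer_sup_eq_top Q
  rw [hQS] at hfr
  -- K = C ⊔ (K ⊓ S)
  have hKC : K ≤ C ⊔ (K ⊓ (S : Subgroup G)) := by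
    have h1 : (C ⊔ (K ⊓ (S : Subgroup G))).relIndex K ∣ p ^ k := by
      rw [← hk]
      exact Subgroup.relIndex_dvd_of_le_left K le_sup_left
    have h2 : (C ⊔ (K ⊓ (S : Subgroup G))).relIndex K ∣ (Q : Subgroup K).index := by
      have h3 : (K ⊓ (S : Subgroup G)).relIndex K = (Q : Subgroup K).index := by
        rw [← hQS, Subgroup.relIndex]
        congr 1
        exact Subgroup.comap_map_eq_self_of_injective K.subtype_injective _
      rw [← h3]
      exact Subgroup.relIndex_dvd_of_le_left K le_sup_right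
    have h4 : ¬ p ∣ (Q : Subgroup K).index := Q.not_dvd_index
    have h5 : Nat.Coprime (p ^ k) (Q : Subgroup K).index :=
      Nat.Coprime.pow_left _ ((Nat.Prime.coprime_iff_not_dvd Fact.out).mpr h4)
    have h6 : (C ⊔ (K ⊓ (S : Subgroup G))).relIndex K = 1 :=
      Nat.eq_one_of_dvd_coprimes h5 h1 h2
    exact Subgroup.relIndex_eq_one.mp h6
  rw [eq_top_iff, ← hfr]
  refine sup_le le_sup_right (hKC.trans (sup_le le_sup_left ?_))
  exact Subgroup.le_normalizer.trans le_sup_right

/-- The hypothesis of `p`-stability used below: elements of `S` acting quadratically on `P` lie in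
the preimage of `O_p(G / C_G(P))`. -/
def StableFor (p : ℕ) (S P : Subgroup G) [P.Normal] : Prop :=
  ∀ a ∈ S, ⁅⁅P, zpowers a⁆, zpowers a⁆ = ⊥ →
    (QuotientGroup.mk a : G ⧸ centralizer (P : Set G)) ∈ pCore p (G ⧸ centralizer (P : Set G))

theorem stableFor_of_isPStableOn {p : ℕ} (S P : Subgroup G) [P.Normal] (h : IsPStableOn p P) :
    StableFor p S P := fun a _ => h a

/-- The preimage of `O_p(G/C_G(B))`. -/
def kernelCore (p : ℕ) (B : Subgroup G) [B.Normal] : Subgroup G :=
  (pCore p (G ⧸ centralizer (B : Set G))).comap (QuotientGroup.mk' (centralizer (B : Set G)))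

theorem mem_kernelCore {p : ℕ} {B : Subgroup G} [B.Normal] {a : G} : a ∈ kernelCore p B ↔
    (QuotientGroup.mk a : G ⧸ centralizer (B : Set G)) ∈ pCore p (G ⧸ centralizer (B : Set G)) :=
  Iff.rfl

theorem kernelCore_normal (p : ℕ) (B : Subgroup G) [B.Normal] : (kernelCore p B).Normal :=
  (Cfsg.Agent.Lib.Cores.pCore_normal p).comap _

theorem centralizer_le_kernelCore (p : ℕ) (B : Subgroup G) [B.Normal] :
    centralizer (B : Set G) ≤ kernelCore p B := by
  intro a ha
  rw [mem_kernelCore, (QuotientGroup.eq_one_iff a).mpr ha]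
  exact one_mem _

theorem kernelCore_relIndex [Finite G] (p : ℕ) [Fact p.Prime] (B : Subgroup G) [B.Normal] :
    ∃ k, (centralizer (B : Set G)).relIndex (kernelCore p B) = p ^ k := by
  obtain ⟨k, hk⟩ := (IsPGroup.iff_card (p := p)).mp
    (Cfsg.Agent.Lib.Cores.pCore_isPGroup (G := G ⧸ centralizer (B : Set G)) p)
  refine ⟨k, ?_⟩
  rw [← hk, kernelCore]
  have h1 := Subgroup.relIndex_comap (f := QuotientGroup.mk' (centralizer (B : Set G)))
    (H := (⊥ : Subgroup (G ⧸ centralizer (B : Set G))))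
    (K := (pCore p (G ⧸ centralizer (B : Set G))).comap
      (QuotientGroup.mk' (centralizer (B : Set G))))
  rw [MonoidHom.comap_bot, QuotientGroup.ker_mk',
    Subgroup.map_comap_eq_self_of_surjective (QuotientGroup.mk'_surjective _),
    Subgroup.relIndex_bot_left] at h1
  exact h1

/-- A subgroup `A` normalized by the normal subgroup `B` and abelian, contained in `S`, lies in the
preimage of `O_p(G/C_G(B))`, when `G` is `p`-stable on `B`. -/
theorem le_kernelCore {p : ℕ} {S A B : Subgroup G} [B.Normal] (hst : StableFor p S B)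
    (hAS : A ≤ S) (hA : IsMulCommutative A) (hBA : B ≤ normalizer (A : Set G)) :
    A ≤ kernelCore p B := by
  intro a ha
  rw [mem_kernelCore]
  refine hst a (hAS ha) ?_
  rw [eq_bot_iff]
  have hz : zpowers a ≤ A := by rwa [Subgroup.zpowers_le]
  have h1 : ⁅B, zpowers a⁆ ≤ A := by
    rw [Subgroup.commutator_le]
    intro b hb z hz'
    rw [commutatorElement_def]
    exact A.mul_mem ((Subgroup.mem_normalizer_iff.mp (hBA hb) z).mp (hz hz'))
      (A.inv_mem (hz hz'))
  rw [Subgroup.commutator_le]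
  intro y hy z hz'
  rw [Subgroup.mem_bot, commutatorElement_eq_one_iff_mul_comm]
  exact Replacement.mul_comm_of_isMulCommutative hA (h1 hy) (hz hz')

/-- Commutators with a normal closure. -/
theorem commutator_normalClosure_le {B T : Subgroup G} (hB : B.Normal) (hT : T.Normal) {s : Set G}
    (h : ∀ b ∈ B, ∀ z ∈ s, ⁅b, z⁆ ∈ T) : ⁅B, normalClosure s⁆ ≤ T := by
  let D : Subgroup G :=
    { carrier := {z | ∀ b ∈ B, ⁅b, z⁆ ∈ T}
      one_mem' := by
        intro b _
        rw [commutatorElement_one_right]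
        exact one_mem _
      mul_mem' := by
        intro y z ihy ihz b hb
        have h1 : ⁅b, y * z⁆ = ⁅b, y⁆ * (y * ⁅b, z⁆ * y⁻¹) := by
          simp only [commutatorElement_def]; group
        rw [h1]
        exact T.mul_mem (ihy b hb) (hT.conj_mem _ (ihz b hb) y)
      inv_mem' := by
        intro y ih b hb
        have h1 : ⁅b, y⁻¹⁆ = y⁻¹ * ⁅b, y⁆⁻¹ * y⁻¹⁻¹ := by
          simp only [commutatorElement_def]; group
        rw [h1]
        exact hT.conj_mem _ (T.inv_mem (ih b hb)) _ }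
  have hD : D.Normal := by
    refine ⟨fun z ih g b hb => ?_⟩
    have h1 : ⁅b, g * z * g⁻¹⁆ = g * ⁅g⁻¹ * b * g⁻¹⁻¹, z⁆ * g⁻¹ := by
      simp only [commutatorElement_def]; group
    rw [h1]
    exact hT.conj_mem _ (ih _ (hB.conj_mem b hb g⁻¹)) _
  have hle : normalClosure s ≤ D := by
    refine Subgroup.normalClosure_le_normal ?_
    intro z hz b hb
    exact h b hb z hz
  rw [Subgroup.commutator_le]
  intro b hb z hz
  exact hle hz b hb

/-- **Glauberman's ZJ theorem**, main step. `p` odd, `S` a Sylow `p`-subgroup of `G`, `B` a normal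
`p`-subgroup of `G` such that `G` acts `p`-stably on the normal subgroups of `G` inside `B`. Then
`B ∩ Z` is normal in `G`, where `Z` is the intersection of the elementary abelian `e`-subgroups of
largest order of `S` (`e` odd), or of the abelian subgroups of largest order of `S` (`e = 0`). -/
theorem inf_sInf_maxAb_normal [Finite G] {p : ℕ} [Fact p.Prime] (hp : p ≠ 2) {e : ℕ}
    (he : e = 0 ∨ Odd e) (S : Sylow p G) (B : Subgroup G) (hBn : B.Normal) (hB : IsPGroup p B)
    (hst : ∀ (P : Subgroup G) [P.Normal], P ≤ B → StableFor p (S : Subgroup G) P) :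
    (B ⊓ sInf (maxAb e (S : Subgroup G))).Normal := by
  induction hn : Nat.card B using Nat.strong_induction_on generalizing B with
  | _ n ih =>
  subst hn
  set Z : Subgroup G := sInf (maxAb e (S : Subgroup G)) with hZdef
  have hSp : IsPGroup p (S : Subgroup G) := S.isPGroup'
  have hBS : B ≤ (S : Subgroup G) := hB.le_sylow_of_normal S
  have hZA : ∀ A ∈ maxAb e (S : Subgroup G), Z ≤ A := fun A hA => sInf_le hA
  obtain ⟨A00, hA00⟩ := maxAb_nonempty e (S : Subgroup G)
  have hZc : ∀ x ∈ Z, ∀ y ∈ Z, x * y = y * x := fun x hx y hy =>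
    Replacement.mul_comm_of_isMulCommutative hA00.2.1.1 (hZA _ hA00 hx) (hZA _ hA00 hy)
  have hSZ : (S : Subgroup G) ≤ normalizer (Z : Set G) :=
    Subgroup.le_normalizer.trans (normalizer_le_normalizer_sInf e _)
  -- induction hypothesis in usable form
  have ih' : ∀ B' : Subgroup G, B'.Normal → B' < B → (B' ⊓ Z).Normal := by
    intro B' hB'n hlt
    have hcard : Nat.card B' < Nat.card B := by
      refine lt_of_le_of_ne (Nat.card_le_card_of_injective _ (Subgroup.inclusion_injective hlt.le)) ?_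
      intro h
      exact hlt.ne (Subgroup.eq_of_le_of_card_ge hlt.le h.ge)
    exact ih _ hcard B' hB'n (hB.to_le hlt.le) (fun P _ hP => hst P (hP.trans hlt.le)) rfl
  by_contra hcon
  -- step 1: B is the normal closure of B ⊓ Z
  have hB1 : normalClosure ((B ⊓ Z : Subgroup G) : Set G) = B := by
    have hle : normalClosure ((B ⊓ Z : Subgroup G) : Set G) ≤ B :=
      Subgroup.normalClosure_le_normal (fun x hx => hx.1)
    by_contra hne
    have h1 := ih' _ Subgroup.normalClosure_normal (lt_of_le_of_ne hle hne)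
    have h2 : normalClosure ((B ⊓ Z : Subgroup G) : Set G) ⊓ Z = B ⊓ Z := by
      apply le_antisymm
      · exact inf_le_inf_right _ hle
      · exact le_inf Subgroup.le_normalClosure inf_le_right
    rw [h2] at h1
    exact hcon h1
  have hBbot : B ≠ ⊥ := by
    rintro rfl
    apply hcon
    rw [bot_inf_eq]
    infer_instance
  -- step 2: B' < B
  have hBBn : (⁅B, B⁆ : Subgroup G).Normal := Subgroup.commutator_normal B B
  have hBBle : ⁅B, B⁆ ≤ B := Subgroup.commutator_le_left B B
  have hBBlt : ⁅B, B⁆ < B := by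
    refine lt_of_le_of_ne hBBle ?_
    intro h
    have : Group.IsNilpotent B := hB.isNilpotent
    have : Nontrivial B := (Subgroup.nontrivial_iff_ne_bot B).mpr hBbot
    have h1 : commutator B < ⊤ := Group.IsSolvable.commutator_lt_top_of_nontrivial B
    apply h1.ne
    have h2 : (commutator B).map B.subtype = ⁅B, B⁆ := by
      rw [commutator_def, Subgroup.map_commutator, ← MonoidHom.range_eq_map, Subgroup.range_subtype]
    rw [h] at h2
    rw [eq_top_iff]
    intro x _
    have h3 : (x : G) ∈ (commutator B).map B.subtype := by rw [h2]; exact x.2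
    obtain ⟨y, hy, hyx⟩ := h3
    have : y = x := Subtype.ext hyx
    rwa [← this]
  have hT : (⁅B, B⁆ ⊓ Z).Normal := ih' _ hBBn hBBlt
  -- step 3: ⁅B,B⁆ ≤ Z
  have hBZ : ⁅B, B⁆ ≤ ⁅B, B⁆ ⊓ Z := by
    have h1 : ⁅B, normalClosure ((B ⊓ Z : Subgroup G) : Set G)⁆ ≤ ⁅B, B⁆ ⊓ Z := by
      refine commutator_normalClosure_le hBn hT ?_
      intro b hb z hz
      refine ⟨Subgroup.commutator_mem_commutator hb hz.1, ?_⟩
      rw [commutatorElement_def]
      exact Z.mul_mem ((Subgroup.mem_normalizer_iff.mp (hSZ (hBS hb)) z).mp hz.2) (Z.inv_mem hz.2)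
    rwa [hB1] at h1
  have hBZ' : ⁅B, B⁆ ≤ Z := hBZ.trans inf_le_right
  -- step 4: class at most two
  have hcl : ⁅⁅B, B⁆, B⁆ = ⊥ := by
    rw [eq_bot_iff]
    have h1 : ⁅⁅B, B⁆, normalClosure ((B ⊓ Z : Subgroup G) : Set G)⁆ ≤ ⊥ := by
      refine commutator_normalClosure_le hBBn inferInstance ?_
      intro b hb z hz
      rw [Subgroup.mem_bot, commutatorElement_eq_one_iff_mul_comm]
      exact hZc b (hBZ' hb) z hz.2
    rwa [hB1] at h1
  have hSB : (S : Subgroup G) ≤ normalizer (B : Set G) := by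
    rw [Subgroup.normalizer_eq_top]
    exact le_top
  -- stability
  set K : Subgroup G := kernelCore p B with hKdef
  have hstK : ∀ A ∈ maxAb e (S : Subgroup G), B ≤ normalizer (A : Set G) → A ≤ K :=
    fun A hA h => le_kernelCore (hst B le_rfl) hA.1 hA.2.1.1 h
  -- step 5: choose A with |A ∩ B| maximal
  obtain ⟨A, hA, hAmax⟩ := Set.exists_max_image (maxAb e (S : Subgroup G))
    (fun A => Nat.card (A ⊓ B : Subgroup G)) (Set.toFinite _) ⟨A00, hA00⟩
  have card_lt : ∀ {X Y : Subgroup G}, X < Y → Nat.card X < Nat.card Y := by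
    intro X Y hXY
    refine lt_of_le_of_ne (Nat.card_le_card_of_injective _ (Subgroup.inclusion_injective hXY.le)) ?_
    intro h
    exact hXY.ne (Subgroup.eq_of_le_of_card_ge hXY.le h.ge)
  have hAN : B ≤ normalizer (A : Set G) := by
    by_contra hnot
    obtain ⟨A', hA', hlt, _⟩ := exists_replacement hp he hSp hA hBS hSB hcl
      (hBZ'.trans (hZA A hA)) hnot
    exact absurd (hAmax A' hA') (not_le.mpr (card_lt hlt))
  have hAK : A ≤ K := hstK A hA hAN
  have hAQ : A ≤ K ⊓ (S : Subgroup G) := le_inf hAK hA.1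
  have hmaxQ := maxAb_eq_of_le (S := (S : Subgroup G)) (Q := K ⊓ (S : Subgroup G)) inf_le_right hA hAQ
  -- Frattini
  obtain ⟨k, hk⟩ := kernelCore_relIndex p B
  have hfr := frattini_sup S (centralizer (B : Set G)) K (kernelCore_normal p B) hk
  -- B ⊓ ZQ normal
  set ZQ : Subgroup G := sInf (maxAb e (K ⊓ (S : Subgroup G))) with hZQ
  have hZQn : (B ⊓ ZQ).Normal := by
    rw [← Subgroup.normalizer_eq_top_iff, eq_top_iff, ← hfr]
    refine sup_le ?_ ?_
    · intro g hg
      rw [Subgroup.mem_normalizer_iff]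
      have hcent : ∀ b ∈ B, g * b * g⁻¹ = b := by
        intro b hb
        rw [← Subgroup.mem_centralizer_iff.mp hg b hb, mul_inv_cancel_right]
      intro b
      constructor
      · intro hb
        rw [hcent b hb.1]
        exact hb
      · intro hb
        have hb' : b ∈ B := by
          have := hBn.conj_mem _ hb.1 g⁻¹
          simpa [mul_assoc] using this
        rwa [hcent b hb'] at hb
    · intro g hg
      have h1 := normalizer_le_normalizer_sInf e _ hg
      rw [Subgroup.mem_normalizer_iff] at h1 ⊢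
      intro b
      constructor
      · intro hb
        exact ⟨hBn.conj_mem _ hb.1 g, (h1 b).mp hb.2⟩
      · intro hb
        refine ⟨?_, (h1 b).mpr hb.2⟩
        have := hBn.conj_mem _ hb.1 g⁻¹
        simpa [mul_assoc] using this
  have hZZQ : Z ≤ ZQ := by
    refine le_sInf fun A' hA' => ?_
    rw [hmaxQ] at hA'
    exact hZA A' hA'.1
  have hBZQ : B ≤ ZQ := by
    have h1 : normalClosure ((B ⊓ Z : Subgroup G) : Set G) ≤ B ⊓ ZQ :=
      Subgroup.normalClosure_le_normal (fun x hx => ⟨hx.1, hZZQ hx.2⟩)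
    rw [hB1] at h1
    exact h1.trans inf_le_right
  -- step 6
  by_cases hall : ∀ A' ∈ maxAb e (S : Subgroup G), A' ≤ K
  · have h1 : maxAb e (K ⊓ (S : Subgroup G)) = maxAb e (S : Subgroup G) := by
      rw [hmaxQ]
      ext A'
      exact ⟨fun h => h.1, fun h => ⟨h, le_inf (hall A' h) h.1⟩⟩
    rw [hZQ, h1] at hZQn
    exact hcon hZQn
  · push Not at hall
    obtain ⟨A1, ⟨hA1, hA1K⟩, hA1max⟩ := Set.exists_max_image
      {A' | A' ∈ maxAb e (S : Subgroup G) ∧ ¬ A' ≤ K}
      (fun A => Nat.card (A ⊓ B : Subgroup G)) (Set.toFinite _)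
      (by obtain ⟨A1, h1, h2⟩ := hall; exact ⟨A1, h1, h2⟩)
    have hnot : ¬ B ≤ normalizer (A1 : Set G) := fun h => hA1K (hstK A1 hA1 h)
    obtain ⟨A', hA', hlt, hnorm⟩ := exists_replacement hp he hSp hA1 hBS hSB hcl
      (hBZ'.trans (hZA A1 hA1)) hnot
    have hA'K : A' ≤ K := by
      by_contra h
      exact absurd (hA1max A' ⟨hA', h⟩) (not_le.mpr (card_lt hlt))
    have hA'Q : A' ∈ maxAb e (K ⊓ (S : Subgroup G)) := by
      rw [hmaxQ]
      exact ⟨hA', le_inf hA'K hA'.1⟩
    exact hnot ((hBZQ.trans (sInf_le hA'Q)).trans hnorm)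

/-! ### The intersection `⋂ maxAb e S` and the centre of the Thompson subgroup -/

theorem isElementaryAbelian_sup_zpowers {e : ℕ} {A : Subgroup G} {z : G}
    (hA : IsElementaryAbelian e A) (hz : z ^ e = 1) (hc : ∀ a ∈ A, a * z = z * a) :
    IsElementaryAbelian e (A ⊔ zpowers z) := by
  have heq : A ⊔ zpowers z = Subgroup.closure ((A : Set G) ∪ {z}) := by
    rw [Subgroup.closure_union, Subgroup.closure_eq, Subgroup.zpowers_eq_closure]
  have hcomm : IsMulCommutative (Subgroup.closure ((A : Set G) ∪ {z})) := by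
    refine Subgroup.isMulCommutative_closure ?_
    rintro x (hx | hx) y (hy | hy)
    · exact Replacement.mul_comm_of_isMulCommutative hA.1 hx hy
    · rw [Set.mem_singleton_iff] at hy
      rw [hy]; exact hc x hx
    · rw [Set.mem_singleton_iff] at hx
      rw [hx]; exact (hc y hy).symm
    · rw [Set.mem_singleton_iff] at hx hy
      rw [hx, hy]
  rw [heq]
  refine ⟨hcomm, fun a ha => ?_⟩
  refine Subgroup.closure_induction (p := fun y _ => y ^ e = 1) ?_ (one_pow e) ?_ ?_ ha
  · rintro x (hx | hx)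
    · exact hA.2 x hx
    · rw [Set.mem_singleton_iff] at hx
      rw [hx]; exact hz
  · intro y z hy hz h1 h2
    have hyz : Commute y z := Replacement.mul_comm_of_isMulCommutative hcomm hy hz
    rw [hyz.mul_pow, h1, h2, one_mul]
  · intro y hy h1
    rw [inv_pow, h1, inv_one]

/-- The elements of `⋂ maxAb e S`: the elements of `S` centralizing the Thompson subgroup and with
trivial `e`-th power. -/
theorem mem_sInf_maxAb_iff [Finite G] {e : ℕ} {S : Subgroup G} {z : G} :
    z ∈ sInf (maxAb e S) ↔ z ∈ S ∧ z ∈ centralizer ((sSup (maxAb e S) : Subgroup G) : Set G) ∧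
      z ^ e = 1 := by
  constructor
  · intro hz
    obtain ⟨A0, hA0⟩ := maxAb_nonempty e S
    have hz' : ∀ A ∈ maxAb e S, z ∈ A := fun A hA => (sInf_le hA) hz
    refine ⟨hA0.1 (hz' A0 hA0), ?_, hA0.2.1.2 z (hz' A0 hA0)⟩
    rw [Subgroup.mem_centralizer_iff]
    intro y hy
    have hle : sSup (maxAb e S) ≤ centralizer {z} := by
      refine sSup_le fun A hA a ha => ?_
      rw [Subgroup.mem_centralizer_iff]
      intro w hw
      rw [Set.mem_singleton_iff] at hw
      rw [hw]
      exact Replacement.mul_comm_of_isMulCommutative hA.2.1.1 (hz' A hA) ha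
    have := Subgroup.mem_centralizer_iff.mp (hle hy) z rfl
    exact this.symm
  · rintro ⟨hzS, hzc, hze⟩
    rw [Subgroup.mem_sInf]
    intro A hA
    have hc : ∀ a ∈ A, a * z = z * a := fun a ha =>
      Subgroup.mem_centralizer_iff.mp hzc a ((le_sSup hA : A ≤ _) ha)
    have h1 := hA.2.2 (A ⊔ zpowers z) (sup_le hA.1 (by rwa [Subgroup.zpowers_le]))
      (isElementaryAbelian_sup_zpowers hA.2.1 hze hc)
    have h2 : A = A ⊔ zpowers z := Subgroup.eq_of_le_of_card_ge le_sup_left h1
    rw [h2]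
    exact le_sup_right (a := A) (Subgroup.mem_zpowers z)

theorem sInf_maxAb_le_sSup [Finite G] (e : ℕ) (S : Subgroup G) :
    sInf (maxAb e S) ≤ sSup (maxAb e S) := by
  obtain ⟨A0, hA0⟩ := maxAb_nonempty e S
  exact (sInf_le hA0).trans (le_sSup hA0)

/-- `⋂ maxAb e S = Ω_e(Z(J))` with `J = ⟨maxAb e S⟩`. -/
theorem sInf_maxAb_eq_omegaOne [Finite G] (e : ℕ) (S : Subgroup G) :
    sInf (maxAb e S) = omegaOne e (sSup (maxAb e S) ⊓
      centralizer ((sSup (maxAb e S) : Subgroup G) : Set G)) := by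
  apply le_antisymm
  · intro z hz
    have h1 := mem_sInf_maxAb_iff.mp hz
    exact Subgroup.subset_closure ⟨⟨sInf_maxAb_le_sSup e S hz, h1.2.1⟩, h1.2.2⟩
  · have hSS : sSup (maxAb e S) ≤ S := sSup_le fun A hA => hA.1
    refine (Subgroup.closure_le _).mpr ?_
    rintro z ⟨⟨h1, h2⟩, h3⟩
    exact mem_sInf_maxAb_iff.mpr ⟨hSS h1, h2, h3⟩

/-- `⋂ maxAb 0 S = Z(J)` with `J = ⟨maxAb 0 S⟩`. -/
theorem sInf_maxAb_zero_eq [Finite G] (S : Subgroup G) :
    sInf (maxAb 0 S) = sSup (maxAb 0 S) ⊓
      centralizer ((sSup (maxAb 0 S) : Subgroup G) : Set G) := by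
  have hSS : sSup (maxAb 0 S) ≤ S := sSup_le fun A hA => hA.1
  apply le_antisymm
  · intro z hz
    have h1 := mem_sInf_maxAb_iff.mp hz
    exact ⟨sInf_maxAb_le_sSup 0 S hz, h1.2.1⟩
  · rintro z ⟨h1, h2⟩
    exact mem_sInf_maxAb_iff.mpr ⟨hSS h1, h2, pow_zero z⟩

theorem map_maxAb_of_injective {H : Type*} [Group H] {f : H →* G} (hf : Function.Injective f)
    (e : ℕ) (U : Subgroup H) : maxAb e (U.map f) = (fun A : Subgroup H => A.map f) '' maxAb e U := by
  have hcard : ∀ A : Subgroup H, Nat.card (A.map f) = Nat.card A := fun A =>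
    (Nat.card_congr (Subgroup.equivMapOfInjective A f hf).toEquiv).symm
  have hback : ∀ B : Subgroup G, B ≤ U.map f → IsElementaryAbelian e B →
      ∃ A : Subgroup H, A ≤ U ∧ IsElementaryAbelian e A ∧ A.map f = B := by
    intro B hB hBe
    refine ⟨B.comap f, ?_, ⟨⟨⟨?_⟩⟩, ?_⟩, ?_⟩
    · intro x hx
      obtain ⟨y, hy, hyx⟩ := hB hx
      rwa [← hf hyx]
    · intro x y
      apply Subtype.ext
      apply hf
      change f (x * y) = f (y * x)
      rw [map_mul, map_mul]
      exact Replacement.mul_comm_of_isMulCommutative hBe.1 x.2 y.2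
    · intro a ha
      apply hf
      rw [map_pow, map_one]
      exact hBe.2 _ ha
    · rw [Subgroup.map_comap_eq_self]
      intro b hb
      obtain ⟨y, _, hy⟩ := hB hb
      exact ⟨y, hy⟩
  ext B
  constructor
  · rintro ⟨h1, h2, h3⟩
    obtain ⟨A, hA1, hA2, rfl⟩ := hback B h1 h2
    refine ⟨A, ⟨hA1, hA2, fun C hC hCe => ?_⟩, rfl⟩
    rw [← hcard A, ← hcard C]
    exact h3 _ (Subgroup.map_mono hC) (isElementaryAbelian_map f hCe)
  · rintro ⟨A, ⟨h1, h2, h3⟩, rfl⟩
    refine ⟨Subgroup.map_mono h1, isElementaryAbelian_map f h2, fun C hC hCe => ?_⟩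
    obtain ⟨D, hD1, hD2, rfl⟩ := hback C hC hCe
    change Nat.card (D.map f) ≤ Nat.card (A.map f)
    rw [hcard, hcard]
    exact h3 D hD1 hD2

theorem map_sInf_maxAb_of_injective [Finite G] {H : Type*} [Group H] {f : H →* G}
    (hf : Function.Injective f) (e : ℕ) (U : Subgroup H) :
    (sInf (maxAb e U)).map f = sInf (maxAb e (U.map f)) := by
  have : Finite H := Finite.of_injective f hf
  rw [map_maxAb_of_injective hf]
  apply le_antisymm
  · refine le_sInf ?_
    rintro _ ⟨A, hA, rfl⟩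
    exact Subgroup.map_mono (sInf_le hA)
  · intro x hx
    obtain ⟨A0, hA0⟩ := maxAb_nonempty e U
    have h1 : x ∈ A0.map f := (sInf_le (⟨A0, hA0, rfl⟩ :
      A0.map f ∈ (fun A : Subgroup H => A.map f) '' maxAb e U) : _ ≤ A0.map f) hx
    obtain ⟨y, hy, rfl⟩ := h1
    refine ⟨y, ?_, rfl⟩
    rw [SetLike.mem_coe, Subgroup.mem_sInf]
    intro A hA
    have h2 : f y ∈ A.map f := (sInf_le (⟨A, hA, rfl⟩ :
      A.map f ∈ (fun A : Subgroup H => A.map f) '' maxAb e U) : _ ≤ A.map f) hx
    obtain ⟨z, hz, hzy⟩ := h2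
    rwa [← hf hzy]

theorem map_sSup_maxAb_of_injective {H : Type*} [Group H] {f : H →* G}
    (hf : Function.Injective f) (e : ℕ) (U : Subgroup H) :
    (sSup (maxAb e U)).map f = sSup (maxAb e (U.map f)) := by
  rw [map_maxAb_of_injective hf, sSup_image, sSup_eq_iSup, Subgroup.map_iSup]
  congr 1
  ext1 A
  rw [Subgroup.map_iSup]

theorem maxElementaryAbelianSubgroups_eq (p : ℕ) (P : Type*) [Group P] :
    maxElementaryAbelianSubgroups p P = maxAb p (⊤ : Subgroup P) := by
  ext A
  constructor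
  · rintro ⟨h1, h2⟩
    exact ⟨le_top, h1, fun B _ hB => h2 B hB⟩
  · rintro ⟨_, h1, h2⟩
    exact ⟨h1, fun B hB => h2 B le_top hB⟩

theorem maxAbelianSubgroups_eq (P : Type*) [Group P] :
    maxAbelianSubgroups P = maxAb 0 (⊤ : Subgroup P) := by
  ext A
  constructor
  · rintro ⟨h1, h2⟩
    exact ⟨le_top, ⟨h1, fun a _ => pow_zero a⟩, fun B _ hB => h2 B hB.1⟩
  · rintro ⟨_, h1, h2⟩
    exact ⟨h1.1, fun B hB => h2 B le_top ⟨hB, fun a _ => pow_zero a⟩⟩

theorem thompsonSubgroupOf_eq (p : ℕ) (S : Subgroup G) :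
    thompsonSubgroupOf p S = sSup (maxAb p S) := by
  change (sSup (maxElementaryAbelianSubgroups p S)).map S.subtype = _
  rw [maxElementaryAbelianSubgroups_eq, map_sSup_maxAb_of_injective S.subtype_injective,
    ← MonoidHom.range_eq_map, Subgroup.range_subtype]

theorem thompsonSubgroupAOf_eq (S : Subgroup G) :
    thompsonSubgroupAOf S = sSup (maxAb 0 S) := by
  change (sSup (maxAbelianSubgroups S)).map S.subtype = _
  rw [maxAbelianSubgroups_eq, map_sSup_maxAb_of_injective S.subtype_injective,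
    ← MonoidHom.range_eq_map, Subgroup.range_subtype]

/-- `Z(J(S))` (abelian version) is the intersection of the abelian subgroups of largest order. -/
theorem centerThompsonAOf_eq [Finite G] (S : Subgroup G) :
    centerThompsonAOf S = sInf (maxAb 0 S) := by
  change thompsonSubgroupAOf S ⊓ centralizer (thompsonSubgroupAOf S : Set G) = _
  rw [thompsonSubgroupAOf_eq, sInf_maxAb_zero_eq]

/-- `Ω₁(Z(J_e(P)))` is the intersection of the elementary abelian subgroups of largest order. -/
theorem omegaCenterThompson_eq (p : ℕ) (P : Type*) [Group P] [Finite P] :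
    omegaCenterThompson p P = sInf (maxAb p (⊤ : Subgroup P)) := by
  change omegaOne p (sSup (maxElementaryAbelianSubgroups p P) ⊓
    centralizer ((sSup (maxElementaryAbelianSubgroups p P) : Subgroup P) : Set P)) = _
  rw [maxElementaryAbelianSubgroups_eq, sInf_maxAb_eq_omegaOne]

theorem map_omegaCenterThompson_eq [Finite G] (p : ℕ) (S : Subgroup G) :
    (omegaCenterThompson p S).map S.subtype = sInf (maxAb p S) := by
  rw [omegaCenterThompson_eq, map_sInf_maxAb_of_injective S.subtype_injective,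
    ← MonoidHom.range_eq_map, Subgroup.range_subtype]

/-! ### The ZJ theorem -/

/-- If `C_G(O_p(G)) ≤ O_p(G)` and `G` acts `p`-stably on the normal subgroups contained in `O_p(G)`
(`p` odd), then `Z = ⋂ maxAb e S` is characteristic in `G`. -/
theorem sInf_maxAb_characteristic [Finite G] {p : ℕ} [Fact p.Prime] (hp : p ≠ 2) {e : ℕ}
    (he : e = 0 ∨ Odd e) (hc : centralizer (pCore p G : Set G) ≤ pCore p G)
    (S : Sylow p G)
    (hst : ∀ (P : Subgroup G) [P.Normal], IsPGroup p P → StableFor p (S : Subgroup G) P) :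
    (sInf (maxAb e (S : Subgroup G))).Characteristic := by
  set Z : Subgroup G := sInf (maxAb e (S : Subgroup G)) with hZdef
  have hO : (pCore p G).Normal := Cfsg.Agent.Lib.Cores.pCore_normal p
  have hOp : IsPGroup p (pCore p G) := Cfsg.Agent.Lib.Cores.pCore_isPGroup p
  have hOS : pCore p G ≤ (S : Subgroup G) := hOp.le_sylow_of_normal S
  obtain ⟨A0, hA0⟩ := maxAb_nonempty e (S : Subgroup G)
  have hZA0 : Z ≤ A0 := sInf_le hA0
  have hSZ : (S : Subgroup G) ≤ normalizer (Z : Set G) :=
    Subgroup.le_normalizer.trans (normalizer_le_normalizer_sInf e _)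
  have hZK : Z ≤ kernelCore p (pCore p G) :=
    le_kernelCore (hst _ hOp) (hZA0.trans hA0.1)
      (isElementaryAbelian_of_le hA0.2.1 hZA0).1 (hOS.trans hSZ)
  have hKp : IsPGroup p (kernelCore p (pCore p G)) := by
    refine IsPGroup.comap_of_ker_isPGroup (Cfsg.Agent.Lib.Cores.pCore_isPGroup p) _ ?_
    rw [QuotientGroup.ker_mk']
    exact hOp.to_le hc
  have hKO : kernelCore p (pCore p G) ≤ pCore p G :=
    Cfsg.Agent.Lib.Cores.le_pCore (kernelCore_normal p _) hKp
  have hZn : Z.Normal := by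
    have h1 := inf_sInf_maxAb_normal hp he S (pCore p G) hO hOp
      (fun P _ hP => hst P (hOp.to_le hP))
    rwa [inf_eq_right.mpr (hZK.trans hKO)] at h1
  rw [Subgroup.characteristic_iff_map_eq]
  intro φ
  obtain ⟨g, hg⟩ := MulAction.exists_smul_eq G S (φ • S : Sylow p G)
  have h1 : (S : Subgroup G).map (MulAut.conj g).toMonoidHom =
      (S : Subgroup G).map φ.toMonoidHom := by
    have h2 := congrArg (fun T : Sylow p G => (T : Subgroup G)) hg
    exact h2
  rw [hZdef, map_sInf_maxAb φ, ← h1, ← map_sInf_maxAb]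
  refine mem_normalizer_iff_map_conj.mp ?_
  rw [Subgroup.normalizer_eq_top]
  exact Subgroup.mem_top g

end Cfsg.Agent.PLocal.ZJ
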