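import Mathlib.GroupTheory.SemidirectProduct
import Mathlib.GroupTheory.Sylow
import Mathlib.LinearAlgebra.Matrix.SpecialLinearGroup
import Mathlib.LinearAlgebra.Matrix.Determinant.Basic
import Mathlib.Tactic
import Cfsg.Prelude.Def_PLocal
import Cfsg.Agent.Lib.Involves

/-!
From a section on which a subgroup acts as the full `SL(2,p)` on its natural module to a section isomorphic to
`Qd(p)`: the extension is split by a Frattini argument with a Sylow 2-subgroup above the central involution.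
-/

set_option autoImplicit false

namespace Cfsg.Agent.PLocal.QdSection

open Matrix Cfsg.Agent.Lib.Involves

/-- The natural module, written multiplicatively. -/
abbrev V (p : ℕ) : Type := Multiplicative (Fin 2 → ZMod p)

/-- The special linear group of degree two over the prime field. -/
abbrev S2 (p : ℕ) : Type := Matrix.SpecialLinearGroup (Fin 2) (ZMod p)

/-- The natural action on the natural module. -/
def act {p : ℕ} (A : S2 p) (v : V p) : V p :=
  Multiplicative.ofAdd ((A : Matrix (Fin 2) (Fin 2) (ZMod p)).mulVec (Multiplicative.toAdd v))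

theorem act_one {p : ℕ} (v : V p) : act (1 : S2 p) v = v := by
  simp [act]

theorem act_mul {p : ℕ} (A B : S2 p) (v : V p) : act (A * B) v = act A (act B v) := by
  simp only [act, Matrix.SpecialLinearGroup.coe_mul, toAdd_ofAdd, Matrix.mulVec_mulVec]

theorem act_map_mul {p : ℕ} (A : S2 p) (v w : V p) : act A (v * w) = act A v * act A w := by
  simp only [act, toAdd_mul, Matrix.mulVec_add, ofAdd_add]

theorem act_neg_one {p : ℕ} (v : V p) : act (-1 : S2 p) v = v⁻¹ := by
  simp [act, Matrix.neg_mulVec, ofAdd_neg]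

theorem act_inv_eq {p : ℕ} (A : S2 p) {v w : V p} (h : v = act A w) : w = act A⁻¹ v := by
  rw [h, ← act_mul, inv_mul_cancel, act_one]

theorem eq_one_of_act {p : ℕ} (A : S2 p) (h : ∀ v : V p, act A v = v) : A = 1 := by
  have h0 := congrArg Multiplicative.toAdd (h (Multiplicative.ofAdd ![1, 0]))
  have h1 := congrArg Multiplicative.toAdd (h (Multiplicative.ofAdd ![0, 1]))
  simp only [act, toAdd_ofAdd] at h0 h1
  have h00 := congrFun h0 0
  have h01 := congrFun h0 1
  have h10 := congrFun h1 0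
  have h11 := congrFun h1 1
  simp [Matrix.mulVec, dotProduct, Fin.sum_univ_two] at h00 h01 h10 h11
  ext i j
  fin_cases i <;> fin_cases j <;> simp [h00, h01, h10, h11]

/-- Translations. -/
def transl {p : ℕ} : V p →* Matrix.SpecialLinearGroup (Fin 3) (ZMod p) where
  toFun v := ⟨!![1, 0, (Multiplicative.toAdd v) 0; 0, 1, (Multiplicative.toAdd v) 1; 0, 0, 1], by
    simp [Matrix.det_fin_three]⟩
  map_one' := by
    ext i j
    fin_cases i <;> fin_cases j <;> simp
  map_mul' v w := by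
    apply Subtype.ext
    change !![1, 0, (Multiplicative.toAdd v + Multiplicative.toAdd w) 0;
      0, 1, (Multiplicative.toAdd v + Multiplicative.toAdd w) 1; 0, 0, 1] =
      (!![1, 0, (Multiplicative.toAdd v) 0; 0, 1, (Multiplicative.toAdd v) 1; 0, 0, 1] :
        Matrix (Fin 3) (Fin 3) (ZMod p)) *
      !![1, 0, (Multiplicative.toAdd w) 0; 0, 1, (Multiplicative.toAdd w) 1; 0, 0, 1]
    ext i j
    fin_cases i <;> fin_cases j <;>
      simp [Matrix.mul_apply, Fin.sum_univ_three, add_comm]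

/-- The block embedding. -/
def diag {p : ℕ} : S2 p →* Matrix.SpecialLinearGroup (Fin 3) (ZMod p) where
  toFun A := ⟨!![A 0 0, A 0 1, 0; A 1 0, A 1 1, 0; 0, 0, 1], by
    have := A.det_coe
    rw [Matrix.det_fin_two] at this
    simp [Matrix.det_fin_three]
    linear_combination this⟩
  map_one' := by
    ext i j
    fin_cases i <;> fin_cases j <;> simp
  map_mul' A B := by
    apply Subtype.ext
    change !![(A * B) 0 0, (A * B) 0 1, 0; (A * B) 1 0, (A * B) 1 1, 0; 0, 0, 1] =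
      (!![A 0 0, A 0 1, 0; A 1 0, A 1 1, 0; 0, 0, 1] : Matrix (Fin 3) (Fin 3) (ZMod p)) *
      !![B 0 0, B 0 1, 0; B 1 0, B 1 1, 0; 0, 0, 1]
    ext i j
    fin_cases i <;> fin_cases j <;>
      simp [Matrix.mul_apply, Fin.sum_univ_three, Fin.sum_univ_two]

theorem transl_apply {p : ℕ} (v : V p) :
    ((transl v : Matrix.SpecialLinearGroup (Fin 3) (ZMod p)) : Matrix (Fin 3) (Fin 3) (ZMod p)) =
      !![1, 0, (Multiplicative.toAdd v) 0; 0, 1, (Multiplicative.toAdd v) 1; 0, 0, 1] := rfl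

theorem diag_apply {p : ℕ} (A : S2 p) :
    ((diag A : Matrix.SpecialLinearGroup (Fin 3) (ZMod p)) : Matrix (Fin 3) (Fin 3) (ZMod p)) =
      !![A 0 0, A 0 1, 0; A 1 0, A 1 1, 0; 0, 0, 1] := rfl

theorem diag_mul_transl {p : ℕ} (A : S2 p) (v : V p) :
    diag A * transl v = transl (act A v) * diag A := by
  ext i j
  fin_cases i <;> fin_cases j <;>
    simp [transl_apply, diag_apply, act, Matrix.mul_apply, Fin.sum_univ_three]

theorem transl_mem_qd {p : ℕ} (v : V p) : transl v ∈ Cfsg.qd p :=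
  Subgroup.subset_closure ⟨by simp [transl_apply], by simp [transl_apply], by simp [transl_apply]⟩

theorem diag_mem_qd {p : ℕ} (A : S2 p) : diag A ∈ Cfsg.qd p :=
  Subgroup.subset_closure ⟨by simp [diag_apply], by simp [diag_apply], by simp [diag_apply]⟩

theorem exists_of_row {p : ℕ} (M : Matrix.SpecialLinearGroup (Fin 3) (ZMod p))
    (h0 : (M : Matrix (Fin 3) (Fin 3) (ZMod p)) 2 0 = 0)
    (h1 : (M : Matrix (Fin 3) (Fin 3) (ZMod p)) 2 1 = 0)
    (h2 : (M : Matrix (Fin 3) (Fin 3) (ZMod p)) 2 2 = 1) :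
    ∃ (v : V p) (A : S2 p), M = transl v * diag A := by
  have hdet := M.det_coe
  rw [Matrix.det_fin_three, h0, h1, h2] at hdet
  refine ⟨Multiplicative.ofAdd ![M 0 2, M 1 2], ⟨!![M 0 0, M 0 1; M 1 0, M 1 1], ?_⟩, ?_⟩
  · rw [Matrix.det_fin_two_of]
    linear_combination hdet
  · apply Subtype.ext
    change (M : Matrix (Fin 3) (Fin 3) (ZMod p)) = !![1, 0, M 0 2; 0, 1, M 1 2; 0, 0, 1] *
      !![M 0 0, M 0 1, 0; M 1 0, M 1 1, 0; 0, 0, 1]
    ext i j
    fin_cases i <;> fin_cases j <;>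
      simp [Matrix.mul_apply, Fin.sum_univ_three, h0, h1, h2]

/-- The splitting step, for a normal `p`-subgroup `N` of `Γ` with a natural section. -/
theorem qd_of_normal {p : ℕ} [Fact p.Prime] (hp : p ≠ 2) {Γ : Type*} [Group Γ] [Finite Γ]
    (N : Subgroup Γ) [N.Normal] (hN : IsPGroup p N) (e : N →* V p) (he : Function.Surjective e)
    (ρ : Γ →* S2 p) (hρ : Function.Surjective ρ)
    (hc : ∀ (t : Γ) (n : N), e (MulAut.conjNormal t n) = act (ρ t) (e n)) :
    Involves Γ (Cfsg.qd p) := by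
  classical
  have hp' : p.Prime := Fact.out
  -- `N` acts trivially
  have hNρ : ∀ n : N, ρ n = 1 := by
    intro n
    apply eq_one_of_act
    intro v
    obtain ⟨m, rfl⟩ := he v
    rw [← hc]
    have : (MulAut.conjNormal (n : Γ) m : N) = n * m * n⁻¹ := by
      apply Subtype.ext
      simp [MulAut.conjNormal_apply]
    rw [this, map_mul, map_mul, map_inv, mul_comm (e n) (e m), mul_assoc, mul_inv_cancel, mul_one]
  -- a 2-element above the central involution
  obtain ⟨z, hz, k, hzk⟩ : ∃ z : Γ, ρ z = -1 ∧ ∃ k : ℕ, orderOf z = 2 ^ k := by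
    obtain ⟨z₀, hz₀⟩ := hρ (-1)
    obtain ⟨k, m, hm, hkm⟩ := Nat.exists_eq_two_pow_mul_odd (orderOf_pos z₀).ne'
    refine ⟨z₀ ^ m, ?_, k, ?_⟩
    · rw [map_pow, hz₀, hm.neg_one_pow]
    · rw [orderOf_pow, hkm, Nat.gcd_eq_right (Dvd.intro_left _ rfl),
        Nat.mul_div_cancel _ hm.pos]
  set D : Subgroup Γ := (Subgroup.zpowers (-1 : S2 p)).comap ρ with hD
  have hcentral : (Subgroup.zpowers (-1 : S2 p)).Normal := by
    refine ⟨fun a ha g => ?_⟩
    obtain ⟨i, rfl⟩ := Subgroup.mem_zpowers_iff.1 ha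
    have hcomm : Commute g (-1 : S2 p) := by
      rw [Commute, SemiconjBy, mul_neg, mul_one, neg_mul, one_mul]
    have : g * (-1 : S2 p) ^ i * g⁻¹ = (-1) ^ i := by
      rw [(hcomm.zpow_right i).eq, mul_assoc, mul_inv_cancel, mul_one]
    rw [this]
    exact Subgroup.zpow_mem_zpowers _ _
  have hDn : D.Normal := hcentral.comap ρ
  have hzD : z ∈ D := by
    rw [hD, Subgroup.mem_comap, hz]
    exact Subgroup.mem_zpowers _
  have : Fact (Nat.Prime 2) := ⟨Nat.prime_two⟩
  have hzp : IsPGroup 2 (Subgroup.zpowers (⟨z, hzD⟩ : D)) := by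
    apply IsPGroup.of_card (n := k)
    rw [Nat.card_zpowers, ← hzk]
    exact orderOf_injective D.subtype D.subtype_injective ⟨z, hzD⟩ |>.symm
  obtain ⟨Q, hQ⟩ := hzp.exists_le_sylow
  set Q' : Subgroup Γ := (Q : Subgroup D).map D.subtype with hQ'
  have hzQ : z ∈ Q' :=
    ⟨⟨z, hzD⟩, hQ (Subgroup.mem_zpowers _), rfl⟩
  have hQ'p : IsPGroup 2 Q' := Q.isPGroup'.map D.subtype
  set R : Subgroup Γ := Subgroup.normalizer (Q' : Set Γ) with hR
  have hF : R ⊔ D = ⊤ := Sylow.normalizer_sup_eq_top Q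
  have hRρ : ∀ A : S2 p, ∃ r : R, ρ r = A := by
    intro A
    obtain ⟨t, rfl⟩ := hρ A
    have ht : t ∈ R ⊔ D := by rw [hF]; trivial
    obtain ⟨r, hr, d, hd, rfl⟩ := Subgroup.mem_sup_of_normal_right.1 ht
    obtain ⟨i, hi⟩ := Subgroup.mem_zpowers_iff.1 (Subgroup.mem_comap.1 hd)
    refine ⟨⟨r * z ^ i, R.mul_mem hr (R.zpow_mem (Subgroup.le_normalizer hzQ) i)⟩, ?_⟩
    change ρ (r * z ^ i) = _
    rw [map_mul, map_mul, map_zpow, hz, hi]
  have hNR : ∀ n : N, (n : Γ) ∈ R → e n = 1 := by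
    intro n hn
    have h1 : (n : Γ) * z * (n : Γ)⁻¹ ∈ Q' := (Subgroup.mem_normalizer_iff.1 hn z).1 hzQ
    have h2 : (n : Γ) * z * (n : Γ)⁻¹ * z⁻¹ ∈ Q' := Q'.mul_mem h1 (Q'.inv_mem hzQ)
    have h3 : (n : Γ) * (z * (n : Γ)⁻¹ * z⁻¹) ∈ N :=
      N.mul_mem n.2 (‹N.Normal›.conj_mem _ (N.inv_mem n.2) z)
    have h4 : (n : Γ) * z * (n : Γ)⁻¹ * z⁻¹ = (n : Γ) * (z * (n : Γ)⁻¹ * z⁻¹) := by group
    have hdisj : Disjoint N Q' := IsPGroup.disjoint_of_ne p 2 hp N Q' hN hQ'p
    have h5 : (n : Γ) * (z * (n : Γ)⁻¹ * z⁻¹) = 1 := by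
      have := Subgroup.disjoint_def.1 hdisj h3 (h4 ▸ h2)
      exact this
    have h6 : MulAut.conjNormal z n = n := by
      apply Subtype.ext
      rw [MulAut.conjNormal_apply]
      have h7 : (z * (n : Γ)⁻¹ * z⁻¹) = (n : Γ)⁻¹ := by
        rw [← mul_right_inj (n : Γ), h5, mul_inv_cancel]
      have h8 := congrArg (·⁻¹) h7
      simpa [mul_assoc] using h8
    have h7 := hc z n
    rw [h6, hz, act_neg_one] at h7
    have h8 : (e n) ^ 2 = 1 := by
      rw [pow_two]
      nth_rewrite 1 [h7]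
      exact inv_mul_cancel _
    have h9 : (2 : ZMod p) ≠ 0 := by
      intro h
      have : ((2 : ℕ) : ZMod p) = 0 := by exact_mod_cast h
      rw [ZMod.natCast_eq_zero_iff] at this
      exact hp ((Nat.prime_dvd_prime_iff_eq hp' Nat.prime_two).1 this)
    apply Multiplicative.toAdd.injective
    have h10 := congrArg Multiplicative.toAdd h8
    rw [toAdd_pow, toAdd_one] at h10
    rw [toAdd_one]
    ext i
    have h11 := congrFun h10 i
    simp only [nsmul_eq_mul, Nat.cast_ofNat, Pi.mul_apply, Pi.zero_apply] at h11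
    rcases mul_eq_zero.1 h11 with h | h
    · exact absurd h (by simpa using h9)
    · exact h
  -- the semidirect product
  let φ : R →* MulAut N := (MulAut.conjNormal (H := N)).comp R.subtype
  let f : N ⋊[φ] R →* Γ := SemidirectProduct.lift N.subtype R.subtype (by
    intro r
    ext n
    simp [φ, MulAut.conjNormal_apply])
  let g : N ⋊[φ] R →* Matrix.SpecialLinearGroup (Fin 3) (ZMod p) :=
    SemidirectProduct.lift (transl.comp e) (diag.comp (ρ.comp R.subtype)) (by
    intro r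
    refine MonoidHom.ext fun n => ?_
    have h1 : diag (ρ r) * transl (e n) = transl (act (ρ r) (e n)) * diag (ρ r) :=
      diag_mul_transl _ _
    have h2 : e (MulAut.conjNormal (r : Γ) n) = act (ρ r) (e n) := hc r n
    change transl (e (MulAut.conjNormal (r : Γ) n)) =
      diag (ρ r) * transl (e n) * (diag (ρ r))⁻¹
    rw [h2, h1, mul_assoc, mul_inv_cancel, mul_one])
  have hgr : ∀ x, g x ∈ Cfsg.qd p := by
    intro x
    exact Subgroup.mul_mem _ (transl_mem_qd _) (diag_mem_qd _)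
  let g' : N ⋊[φ] R →* Cfsg.qd p := g.codRestrict (Cfsg.qd p) hgr
  have hg' : Function.Surjective g' := by
    have hle : Cfsg.qd p ≤ g.range := by
      refine (Subgroup.closure_le _).2 ?_
      rintro M ⟨h0, h1, h2⟩
      obtain ⟨v, A, rfl⟩ := exists_of_row M h0 h1 h2
      obtain ⟨n, rfl⟩ := he v
      obtain ⟨r, rfl⟩ := hRρ A
      exact ⟨⟨n, r⟩, rfl⟩
    rintro ⟨M, hM⟩
    obtain ⟨x, hx⟩ := hle hM
    exact ⟨x, Subtype.ext hx⟩
  refine of_ker_le f g' hg' ?_
  intro x hx
  have hx1 : (x.left : Γ) * (x.right : Γ) = 1 := hx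
  have hx2 : (x.left : Γ) = (x.right : Γ)⁻¹ := eq_inv_of_mul_eq_one_left hx1
  have hx3 : e x.left = 1 := hNR x.left (by rw [hx2]; exact R.inv_mem x.right.2)
  have hx4 : ρ x.right = 1 := by
    have : (x.right : Γ) = ((x.left)⁻¹ : N) := by
      rw [eq_comm, Subgroup.coe_inv, hx2, inv_inv]
    rw [this]
    exact hNρ _
  rw [MonoidHom.mem_ker]
  apply Subtype.ext
  change transl (e x.left) * diag (ρ x.right) = 1
  rw [hx3, hx4, map_one, map_one, mul_one]

/-- **Natural section to `Qd(p)`-section.** -/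
theorem exists_qd_section {p : ℕ} [Fact p.Prime] (hp : p ≠ 2) {T W K : Type*} [Group T] [Finite T]
    [Group W] [Group K] (i : W →* T) (hi : Function.Injective i) (hW : IsPGroup p W) (j : K →* T)
    (a : K → W → W) (ha : ∀ k w, i (a k w) = j k * i w * (j k)⁻¹) (e : W →* V p)
    (he : Function.Surjective e) (σ : K →* S2 p) (hσ : Function.Surjective σ)
    (hc : ∀ k w, e (a k w) = act (σ k) (e w)) : Involves T (Cfsg.qd p) := by
  have hp' : p.Prime := Fact.out
  -- the graph
  let Γ : Subgroup (T × S2 p) :=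
    { carrier := {g | g.1 ∈ Subgroup.normalizer (i.range : Set T) ∧
        ∀ w w' : W, i w' = g.1 * i w * g.1⁻¹ → e w' = act g.2 (e w)}
      mul_mem' := by
        rintro ⟨t₁, A₁⟩ ⟨t₂, A₂⟩ ⟨h1, h1'⟩ ⟨h2, h2'⟩
        refine ⟨Subgroup.mul_mem _ h1 h2, ?_⟩
        intro w w' hw
        obtain ⟨w'', hw''⟩ : t₂ * i w * t₂⁻¹ ∈ i.range :=
          (Subgroup.mem_normalizer_iff.1 h2 (i w)).1 ⟨w, rfl⟩
        change i w' = (t₁ * t₂) * i w * (t₁ * t₂)⁻¹ at hw
        change e w' = act (A₁ * A₂) (e w)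
        rw [act_mul, ← h2' w w'' hw'']
        apply h1' w'' w'
        change i w' = t₁ * i w'' * t₁⁻¹
        rw [hw, hw'']
        group
      one_mem' := by
        refine ⟨Subgroup.one_mem _, ?_⟩
        intro w w' hw
        change i w' = 1 * i w * 1⁻¹ at hw
        change e w' = act 1 (e w)
        rw [one_mul, inv_one, mul_one] at hw
        rw [hi hw, act_one]
      inv_mem' := by
        rintro ⟨t, A⟩ ⟨h1, h1'⟩
        refine ⟨Subgroup.inv_mem _ h1, ?_⟩
        intro w w' hw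
        change i w' = t⁻¹ * i w * t⁻¹⁻¹ at hw
        change e w' = act A⁻¹ (e w)
        apply act_inv_eq
        apply h1' w' w
        change i w = t * i w' * t⁻¹
        rw [hw]
        group }
  have hmem : ∀ g : T × S2 p, g ∈ Γ ↔ (g.1 ∈ Subgroup.normalizer (i.range : Set T) ∧
        ∀ w w' : W, i w' = g.1 * i w * g.1⁻¹ → e w' = act g.2 (e w)) := fun g => Iff.rfl
  let pr : Γ →* T := (MonoidHom.fst T (S2 p)).comp Γ.subtype
  let ρ : Γ →* S2 p := (MonoidHom.snd T (S2 p)).comp Γ.subtype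
  have hpr : Function.Injective pr := by
    rw [injective_iff_map_eq_one]
    rintro ⟨⟨t, A⟩, h1, h2⟩ ht
    change t = 1 at ht
    subst ht
    have hA : A = 1 := by
      apply eq_one_of_act
      intro v
      obtain ⟨w, rfl⟩ := he v
      exact (h2 w w (by simp)).symm
    subst hA
    rfl
  have : Finite Γ := Finite.of_injective pr hpr
  have hρ : Function.Surjective ρ := by
    intro A
    obtain ⟨k, rfl⟩ := hσ A
    refine ⟨⟨(j k, σ k), ?_, ?_⟩, rfl⟩
    · rw [Subgroup.mem_normalizer_iff]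
      intro x
      constructor
      · rintro ⟨w, rfl⟩
        exact ⟨a k w, ha k w⟩
      · rintro ⟨w, hw⟩
        refine ⟨a k⁻¹ w, ?_⟩
        rw [ha, map_inv, hw]
        group
    · intro w w' hw
      change i w' = j k * i w * (j k)⁻¹ at hw
      rw [← ha] at hw
      rw [hi hw]
      exact hc k w
  have hι : ∀ w : W, (i w, (1 : S2 p)) ∈ Γ := by
    intro w
    refine ⟨Subgroup.le_normalizer ⟨w, rfl⟩, ?_⟩
    intro w₁ w' hw
    change i w' = i w * i w₁ * (i w)⁻¹ at hw
    rw [← map_mul, ← map_inv, ← map_mul] at hw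
    change e w' = act 1 (e w₁)
    rw [hi hw, act_one, map_mul, map_mul, map_inv, mul_comm (e w), mul_assoc, mul_inv_cancel,
      mul_one]
  let ι : W →* Γ :=
    { toFun := fun w => ⟨(i w, 1), hι w⟩
      map_one' := by
        apply Subtype.ext
        change (i 1, (1 : S2 p)) = 1
        rw [map_one]
        rfl
      map_mul' := fun w₁ w₂ => by
        apply Subtype.ext
        change (i (w₁ * w₂), (1 : S2 p)) = (i w₁ * i w₂, 1 * 1)
        rw [map_mul, one_mul] }
  have hιinj : Function.Injective ι := by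
    intro w₁ w₂ h
    apply hi
    exact congrArg (fun x : Γ => x.1.1) h
  have hconj : ∀ (t : Γ) (w : W), ∃ w' : W, ι w' = t * ι w * t⁻¹ ∧ e w' = act (ρ t) (e w) := by
    rintro ⟨⟨t, A⟩, h1, h2⟩ w
    obtain ⟨w', hw'⟩ : t * i w * t⁻¹ ∈ i.range :=
      (Subgroup.mem_normalizer_iff.1 h1 (i w)).1 ⟨w, rfl⟩
    refine ⟨w', ?_, h2 w w' hw'⟩
    apply Subtype.ext
    change (i w', (1 : S2 p)) = (t * i w * t⁻¹, A * 1 * A⁻¹)
    rw [hw', mul_one, mul_inv_cancel]
  have hn : ι.range.Normal := by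
    refine ⟨?_⟩
    rintro _ ⟨w, rfl⟩ t
    obtain ⟨w', hw', -⟩ := hconj t w
    exact ⟨w', hw'⟩
  let ε : W ≃* ι.range := MonoidHom.ofInjective hιinj
  have hε : ∀ w, ((ε w : ι.range) : Γ) = ι w := fun w => rfl
  refine trans (of_injective pr hpr)
    (qd_of_normal hp ι.range (hW.of_surjective ε.toMonoidHom ε.surjective)
      (e.comp ε.symm.toMonoidHom) (he.comp ε.symm.surjective) ρ hρ ?_)
  intro t n
  obtain ⟨w, rfl⟩ := ε.surjective n
  obtain ⟨w', hw', hw2⟩ := hconj t w
  have h1 : MulAut.conjNormal t (ε w) = ε w' := by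
    apply Subtype.ext
    rw [MulAut.conjNormal_apply, hε, hε, hw']
  rw [h1]
  change e (ε.symm (ε w')) = act (ρ t) (e (ε.symm (ε w)))
  rw [MulEquiv.symm_apply_apply, MulEquiv.symm_apply_apply, hw2]

end Cfsg.Agent.PLocal.QdSection
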