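import Cfsg.Prelude.Def_PLocal
import Cfsg.Agent.Involutions.BaerSuzuki
import Cfsg.Agent.PLocal.QdSection

/-!
A group acting non-`p`-stably on one of its normal `p`-subgroups involves `Qd(p)`.
-/

set_option autoImplicit false

namespace Cfsg.Agent.PLocal.QdFree

universe u

open Matrix Cfsg.Agent.Lib.Involves Cfsg.Agent.PLocal.QdSection
open scoped commutatorElement

/-- The conclusion of the natural section theorem for the prime `p`, as a hypothesis. -/
def NaturalSection (p : ℕ) : Prop :=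
  ∀ (K P : Type*) [Group K] [Group P] [Finite P], IsPGroup p P → ∀ (α : K →* MulAut P) (a b : K),
    Subgroup.closure {a, b} = ⊤ → (∀ x, α a (x⁻¹ * α a x) = x⁻¹ * α a x) →
    (∀ x, α b (x⁻¹ * α b x) = x⁻¹ * α b x) → (¬ ∀ k, ∃ n : ℕ, (α k) ^ (p ^ n) = 1) →
    ∃ (W : Subgroup P) (e : W →* Multiplicative (Fin 2 → ZMod p)) (K1 : Subgroup K)
      (σ : K1 →* Matrix.SpecialLinearGroup (Fin 2) (ZMod p)),
      Function.Surjective e ∧ Function.Surjective σ ∧
      ∀ (k : K1) (w : W), ∃ h : α k w ∈ W, Multiplicative.toAdd (e ⟨α k w, h⟩) =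
        (σ k : Matrix (Fin 2) (Fin 2) (ZMod p)) *ᵥ Multiplicative.toAdd (e w)

/-- Quadratic action of an element, in terms of the conjugation automorphism. -/
theorem conj_quadratic {G : Type*} [Group G] {P : Subgroup G} [P.Normal] {a : G}
    (h : ⁅⁅P, Subgroup.zpowers a⁆, Subgroup.zpowers a⁆ = ⊥) (x : P) :
    (MulAut.conjNormal a : MulAut P) (x⁻¹ * (MulAut.conjNormal a : MulAut P) x) =
      x⁻¹ * (MulAut.conjNormal a : MulAut P) x := by
  have h1 : ⁅((x : G))⁻¹, a⁆ ∈ ⁅P, Subgroup.zpowers a⁆ :=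
    Subgroup.commutator_mem_commutator (P.inv_mem x.2) (Subgroup.mem_zpowers a)
  have h2 : ⁅⁅((x : G))⁻¹, a⁆, a⁆ ∈ ⁅⁅P, Subgroup.zpowers a⁆, Subgroup.zpowers a⁆ :=
    Subgroup.commutator_mem_commutator h1 (Subgroup.mem_zpowers a)
  rw [h, Subgroup.mem_bot, commutatorElement_eq_one_iff_mul_comm] at h2
  apply Subtype.ext
  have h3 : ((x⁻¹ * (MulAut.conjNormal a : MulAut P) x : P) : G) = ⁅((x : G))⁻¹, a⁆ := by
    simp [commutatorElement_def, MulAut.conjNormal_apply, mul_assoc]
  rw [MulAut.conjNormal_apply, h3, ← h2, mul_assoc, mul_inv_cancel, mul_one]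

theorem conj_quadratic_conj {G : Type*} [Group G] {P : Subgroup G} [P.Normal] {a : G}
    (h : ∀ x : P, (MulAut.conjNormal a : MulAut P) (x⁻¹ * (MulAut.conjNormal a : MulAut P) x) =
      x⁻¹ * (MulAut.conjNormal a : MulAut P) x) (g : G) (x : P) :
    (MulAut.conjNormal (g * a * g⁻¹) : MulAut P)
      (x⁻¹ * (MulAut.conjNormal (g * a * g⁻¹) : MulAut P) x) =
      x⁻¹ * (MulAut.conjNormal (g * a * g⁻¹) : MulAut P) x := by
  set c : MulAut P := MulAut.conjNormal g
  set A : MulAut P := MulAut.conjNormal a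
  have h1 : (MulAut.conjNormal (g * a * g⁻¹) : MulAut P) = c * A * c⁻¹ := by
    rw [map_mul, map_mul, map_inv]
  obtain ⟨y, rfl⟩ := c.surjective x
  have h2 : ∀ z : P, (c * A * c⁻¹) (c z) = c (A z) := by
    intro z
    rw [MulAut.mul_apply, MulAut.mul_apply, MulAut.inv_apply_self]
  have h3 : (c y)⁻¹ * c (A y) = c (y⁻¹ * A y) := by rw [map_mul c, map_inv c]
  rw [h1, h2, h3, h2, h y]

/-- Non-`p`-stable action on a normal `p`-subgroup gives a section isomorphic to `Qd(p)`. -/
theorem involves_qd_of_not_stable {p : ℕ} [Fact p.Prime] (hp : p ≠ 2)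
    (hnat : NaturalSection.{u, u} p) {G : Type u} [Group G] [Finite G] (P : Subgroup G) [P.Normal]
    (hP : IsPGroup p P) (hns : ¬ Cfsg.IsPStableOn p P) : Involves G (Cfsg.qd p) := by
  classical
  unfold Cfsg.IsPStableOn at hns
  push Not at hns
  obtain ⟨a, hq, ha⟩ := hns
  -- a conjugate generating with `a` a non-`p`-group modulo the centralizer
  obtain ⟨gbar, hg⟩ : ∃ g : G ⧸ Subgroup.centralizer (P : Set G), ¬ IsPGroup p
      (Subgroup.closure {(QuotientGroup.mk a : G ⧸ Subgroup.centralizer (P : Set G)),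
        g * QuotientGroup.mk a * g⁻¹} : Subgroup (G ⧸ Subgroup.centralizer (P : Set G))) := by
    by_contra hcon
    push Not at hcon
    exact ha (Cfsg.Agent.Involutions.BaerSuzuki.mem_pCore_of_conj_pairs _ hcon)
  obtain ⟨g, rfl⟩ := QuotientGroup.mk_surjective gbar
  set b : G := g * a * g⁻¹ with hb
  set K : Subgroup G := Subgroup.closure {a, b} with hK
  have haK : a ∈ K := Subgroup.subset_closure (by simp)
  have hbK : b ∈ K := Subgroup.subset_closure (by simp)
  let α : K →* MulAut P := (MulAut.conjNormal (H := P)).comp K.subtype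
  have hcl : Subgroup.closure {(⟨a, haK⟩ : K), ⟨b, hbK⟩} = ⊤ := by
    have h1 := Subgroup.closure_closure_coe_preimage (k := ({a, b} : Set G))
    rw [← h1]
    congr 1
    ext x
    simp only [Set.mem_insert_iff, Set.mem_singleton_iff, Set.mem_preimage]
    constructor
    · rintro (rfl | rfl) <;> simp
    · rintro (h | h)
      · left; exact Subtype.ext h
      · right; exact Subtype.ext h
  have hqa := conj_quadratic hq
  have hqb := conj_quadratic_conj hqa g
  have hnp : ¬ ∀ k : K, ∃ n : ℕ, (α k) ^ (p ^ n) = 1 := by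
    intro hall
    apply hg
    rintro ⟨y, hy⟩
    have hmap : (Subgroup.closure {(QuotientGroup.mk a : G ⧸ Subgroup.centralizer (P : Set G)),
        QuotientGroup.mk g * QuotientGroup.mk a * (QuotientGroup.mk g)⁻¹} :
          Subgroup (G ⧸ Subgroup.centralizer (P : Set G))) =
        K.map (QuotientGroup.mk' (Subgroup.centralizer (P : Set G))) := by
      rw [hK, MonoidHom.map_closure, Set.image_pair]
      rfl
    have hy' := hy
    rw [hmap] at hy'
    obtain ⟨k, hk, rfl⟩ := hy'
    obtain ⟨n, hn⟩ := hall ⟨k, hk⟩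
    refine ⟨n, ?_⟩
    apply Subtype.ext
    change ((QuotientGroup.mk' (Subgroup.centralizer (P : Set G))) k) ^ (p ^ n) = 1
    rw [← map_pow]
    refine (QuotientGroup.eq_one_iff _).2 ?_
    rw [Subgroup.mem_centralizer_iff]
    intro x hx
    rw [← map_pow] at hn
    have h1 := congrArg (fun f : MulAut P => ((f ⟨x, hx⟩ : P) : G)) hn
    change (k ^ (p ^ n)) * x * (k ^ (p ^ n))⁻¹ = x at h1
    rw [mul_inv_eq_iff_eq_mul] at h1
    exact h1.symm
  obtain ⟨W, e, K1, σ, he, hσ, hc⟩ := hnat K P hP α ⟨a, haK⟩ ⟨b, hbK⟩ hcl hqa hqb hnp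
  choose h hc' using hc
  refine exists_qd_section hp (P.subtype.comp W.subtype)
    (P.subtype_injective.comp W.subtype_injective) (hP.to_subgroup W)
    (K.subtype.comp K1.subtype) (fun k w => ⟨α k w, h k w⟩) ?_ e he σ hσ ?_
  · intro k w
    rfl
  · intro k w
    apply Multiplicative.toAdd.injective
    rw [hc' k w]
    rfl

end Cfsg.Agent.PLocal.QdFree
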