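import Mathlib
import Cfsg.Prelude.Def_PLocal
import Cfsg.Agent.Lib.CoprimeCommutator

/-!
# The kernel of the action on `Q / Φ(Q)`

If `Q` is a normal `p`-subgroup of the finite group `G` with `C_G(Q) ≤ Q`, then the kernel of the
action of `G` on `Q / Φ(Q)` is a `p`-group, and so is every normal `D` containing it with
`p`-power index over it.
-/

set_option autoImplicit false

namespace Cfsg.Agent.PLocal.SectionFrattini

open Cfsg
open scoped commutatorElement

theorem mem_sectionKernel {G : Type*} [Group G] {K N : Subgroup G} [N.Normal] {g : G} :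
    g ∈ sectionKernel K N ↔ ∀ k ∈ K, ⁅k, g⁆ ∈ N := by
  change (QuotientGroup.mk' N g) ∈ Subgroup.centralizer
    ((K.map (QuotientGroup.mk' N) : Subgroup (G ⧸ N)) : Set (G ⧸ N)) ↔ _
  rw [Subgroup.mem_centralizer_iff]
  have key : ∀ k : G, ((QuotientGroup.mk' N k) * (QuotientGroup.mk' N g) =
      (QuotientGroup.mk' N g) * (QuotientGroup.mk' N k)) ↔ ⁅k, g⁆ ∈ N := by
    intro k
    have h1 : ⁅k, g⁆ ∈ N ↔ QuotientGroup.mk' N ⁅k, g⁆ = 1 := by
      rw [← MonoidHom.mem_ker, QuotientGroup.ker_mk']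
    rw [h1, map_commutatorElement, commutatorElement_eq_one_iff_mul_comm]
  constructor
  · intro h k hk
    exact (key k).1 (h _ ⟨k, hk, rfl⟩)
  · rintro h _ ⟨k, hk, rfl⟩
    exact (key k).2 (h k hk)

/-- A normal `p`-subgroup `Q` with `C_G(Q) ≤ Q`: the kernel of the action on `Q / Φ(Q)` is a
`p`-group (Burnside). -/
theorem isPGroup_sectionKernel_frattini {G : Type*} [Group G] [Finite G] {p : ℕ} [Fact p.Prime]
    (Q : Subgroup G) [Q.Normal] (hQ : IsPGroup p Q)
    (hc : Subgroup.centralizer (Q : Set G) ≤ Q) :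
    IsPGroup p (sectionKernel Q ((frattini Q).map Q.subtype)) := by
  classical
  set K := sectionKernel Q ((frattini Q).map Q.subtype) with hK
  have hprime : ∀ q : ℕ, q.Prime → q ∣ Nat.card K → q = p := by
    intro q hq hdvd
    by_contra hqp
    haveI : Fact q.Prime := ⟨hq⟩
    obtain ⟨g, hg⟩ := exists_prime_orderOf_dvd_card' q hdvd
    have hgo : orderOf (g : G) = q := by rw [Subgroup.orderOf_coe, hg]
    have hPq : IsPGroup q (Subgroup.zpowers (g : G)) :=
      IsPGroup.of_card (n := 1) (by rw [Nat.card_zpowers, hgo, pow_one])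
    have hnQ : ¬ q ∣ Nat.card Q := by
      obtain ⟨n, hn⟩ := IsPGroup.iff_card.mp hQ
      rw [hn]
      intro h
      exact hqp ((Nat.prime_dvd_prime_iff_eq hq Fact.out).1 (hq.dvd_of_dvd_pow h))
    have hPQ : Subgroup.zpowers (g : G) ≤ Subgroup.normalizer (Q : Set G) := by
      rw [Subgroup.normalizer_eq_top]
      exact le_top
    have hcomm : ⁅Q, Subgroup.zpowers (g : G)⁆ ≤ (frattini Q).map Q.subtype := by
      rw [Subgroup.commutator_le]
      intro k hk a ha
      have haK : a ∈ K := (Subgroup.zpowers_le.2 g.2) ha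
      exact (mem_sectionKernel.1 haK) k hk
    have htop : (Subgroup.centralizer (Subgroup.zpowers (g : G) : Set G)).subgroupOf Q ⊔
        frattini Q = ⊤ := by
      rw [eq_top_iff]
      rintro ⟨k, hk⟩ -
      obtain ⟨m, hm, c, hcc, hkmc⟩ :=
        Cfsg.Agent.Lib.CoprimeCommutator.exists_commutator_mul_fixed_of_isPGroup q
          (Subgroup.zpowers (g : G)) Q hPq hPQ hnQ k hk
      obtain ⟨m', hm', rfl⟩ := hcomm hm
      have hkeq : (⟨k, hk⟩ : Q) = m' * ⟨c, hcc.1⟩ := Subtype.ext hkmc
      rw [hkeq]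
      refine Subgroup.mul_mem _ (Subgroup.mem_sup_right hm') (Subgroup.mem_sup_left ?_)
      exact hcc.2
    have htop2 := frattini_nongenerating htop
    have hQc : Q ≤ Subgroup.centralizer (Subgroup.zpowers (g : G) : Set G) :=
      Subgroup.subgroupOf_eq_top.1 htop2
    have hgQ : (g : G) ∈ Q := by
      apply hc
      exact (Subgroup.le_centralizer_iff.1 hQc) (Subgroup.mem_zpowers _)
    apply hnQ
    have := orderOf_dvd_natCard (⟨(g : G), hgQ⟩ : Q)
    rwa [Subgroup.orderOf_mk, hgo] at this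
  exact IsPGroup.of_card (Nat.eq_prime_pow_of_unique_prime_dvd Nat.card_pos.ne'
    (fun {d} hd hdvd => hprime d hd hdvd))

/-- If `G` acts `p`-stably on `Q / Φ(Q)`, `Q` a normal `p`-subgroup with `C_G(Q) ≤ Q`, then every
element acting quadratically on `Q / Φ(Q)` lies in `O_p(G)`. -/
theorem mem_pCore_of_quadratic {G : Type*} [Group G] [Finite G] {p : ℕ} [Fact p.Prime]
    (Q : Subgroup G) [Q.Normal] (hQ : IsPGroup p Q)
    (hc : Subgroup.centralizer (Q : Set G) ≤ Q)
    (hst : IsPStableOnSection p Q ((frattini Q).map Q.subtype)) {a : G}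
    (ha : ⁅⁅Q, Subgroup.zpowers a⁆, Subgroup.zpowers a⁆ ≤ (frattini Q).map Q.subtype) :
    a ∈ pCore p G := by
  obtain ⟨D, hD, hKD, ⟨k, hk⟩, haD⟩ := hst a ha
  have hKp := isPGroup_sectionKernel_frattini Q hQ hc
  obtain ⟨n, hn⟩ := IsPGroup.iff_card.mp hKp
  have hcard : Nat.card D = p ^ (n + k) := by
    have := Subgroup.card_mul_index ((sectionKernel Q ((frattini Q).map Q.subtype)).subgroupOf D)
    have h2 : Nat.card ((sectionKernel Q ((frattini Q).map Q.subtype)).subgroupOf D) = p ^ n := by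
      rw [← hn]
      exact Nat.card_congr (Subgroup.subgroupOfEquivOfLe hKD).toEquiv
    have h3 : ((sectionKernel Q ((frattini Q).map Q.subtype)).subgroupOf D).index = p ^ k := hk
    rw [h2, h3] at this
    rw [← this, pow_add]
  exact (le_sSup (a := D) ⟨hD, IsPGroup.of_card hcard⟩ : D ≤ pCore p G) haD

end Cfsg.Agent.PLocal.SectionFrattini
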