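import Mathlib
import Cfsg.Agent.PLocal.ThompsonJ
import Cfsg.Agent.Lib.ProductSet

/-!
# Thompson replacement

`V` a normal elementary abelian `p`-subgroup of the finite group `G`, `A` an elementary abelian
`p`-subgroup of largest order with `[V, A] ≠ 1`. Then some subgroup `B ≤ A V`, again elementary
abelian of largest order, has `[V, B] ≠ 1` and `[V, B] ≤ B`; in particular it acts quadratically.
-/

set_option autoImplicit false

namespace Cfsg.Agent.PLocal.ThompsonReplacement

open Cfsg Cfsg.Agent.PLocal.ThompsonJ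
open scoped commutatorElement Pointwise

universe u

/-- If `X ≤ ⁅X, P⁆` with `X ≤ P`, `P` nilpotent, then `X = ⊥`. -/
theorem eq_bot_of_le_commutator {G : Type u} [Group G] {X P : Subgroup G}
    (hP : Group.IsNilpotent P) (hXP : X ≤ P) (h : X ≤ ⁅X, P⁆) : X = ⊥ := by
  obtain ⟨n, hn⟩ := (Subgroup.isNilpotent_iff_lowerCentralSeries P).1 hP
  have key : ∀ m : ℕ, X ≤ P.lowerCentralSeries m := by
    intro m
    induction m with
    | zero => exact hXP
    | succ m ih => exact h.trans (Subgroup.commutator_mono ih le_rfl)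
  rw [eq_bot_iff, ← hn]
  exact key n

/-- The subgroup generated by the commutators of the single element `v` with the elements of
`A`. -/
def elemComm {G : Type u} [Group G] (v : G) (A : Subgroup G) : Subgroup G :=
  Subgroup.closure {x | ∃ a ∈ A, ⁅v, a⁆ = x}

theorem mem_elemComm {G : Type u} [Group G] (v : G) (A : Subgroup G) {a : G} (ha : a ∈ A) :
    ⁅v, a⁆ ∈ elemComm v A :=
  Subgroup.subset_closure ⟨a, ha, rfl⟩

theorem elemComm_le_iff {G : Type u} [Group G] (v : G) (A K : Subgroup G) :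
    elemComm v A ≤ K ↔ ∀ a ∈ A, ⁅v, a⁆ ∈ K := by
  rw [elemComm, Subgroup.closure_le]
  constructor
  · intro h a ha
    exact h ⟨a, ha, rfl⟩
  · rintro h _ ⟨a, ha, rfl⟩
    exact h a ha

theorem mem_centralizer_elemComm_iff {G : Type u} [Group G] (v : G) (A : Subgroup G) (c : G) :
    c ∈ Subgroup.centralizer (elemComm v A : Set G) ↔ ∀ a ∈ A, ⁅v, a⁆ * c = c * ⁅v, a⁆ := by
  constructor
  · intro h a ha
    exact Subgroup.mem_centralizer_iff.1 h _ (mem_elemComm v A ha)
  · intro h
    have : elemComm v A ≤ Subgroup.centralizer ({c} : Set G) := by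
      rw [elemComm_le_iff]
      intro a ha
      rw [Subgroup.mem_centralizer_singleton_iff]
      exact h a ha
    rw [Subgroup.mem_centralizer_iff]
    intro x hx
    have h2 := this hx
    rw [Subgroup.mem_centralizer_singleton_iff] at h2
    exact h2

/-- `[v,c,d] = [v,d,c]` for `v` in an abelian group normalized by the commuting elements
`c`, `d`. -/
theorem commutator_swap {G : Type u} [Group G] {V : Subgroup G}
    (hV : ∀ x ∈ V, ∀ y ∈ V, x * y = y * x) {v c d : G} (hv : v ∈ V)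
    (hc : ∀ x ∈ V, c * x * c⁻¹ ∈ V) (hd : ∀ x ∈ V, d * x * d⁻¹ ∈ V) (hcd : c * d = d * c) :
    ⁅⁅v, c⁆, d⁆ = ⁅⁅v, d⁆, c⁆ := by
  have hy : c * v⁻¹ * c⁻¹ ∈ V := hc _ (V.inv_mem hv)
  have hz : d * v⁻¹ * d⁻¹ ∈ V := hd _ (V.inv_mem hv)
  have ht : c * (d * v * d⁻¹) * c⁻¹ ∈ V := hc _ (hd _ hv)
  have e1 : ⁅⁅v, c⁆, d⁆ =
      v * (c * v⁻¹ * c⁻¹) * ((d * c) * v * (d * c)⁻¹) * (d * v⁻¹ * d⁻¹) := by
    simp only [commutatorElement_def]
    group
  have e2 : ⁅⁅v, d⁆, c⁆ =
      v * (d * v⁻¹ * d⁻¹) * ((c * d) * v * (c * d)⁻¹) * (c * v⁻¹ * c⁻¹) := by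
    simp only [commutatorElement_def]
    group
  rw [e1, e2, ← hcd]
  have e3 : (c * d) * v * (c * d)⁻¹ = c * (d * v * d⁻¹) * c⁻¹ := by group
  rw [e3]
  generalize c * v⁻¹ * c⁻¹ = y at *
  generalize d * v⁻¹ * d⁻¹ = z at *
  generalize c * (d * v * d⁻¹) * c⁻¹ = t at *
  calc v * y * t * z = v * (y * (t * z)) := by group
    _ = v * ((t * z) * y) := by rw [hV y hy (t * z) (V.mul_mem ht hz)]
    _ = v * ((z * t) * y) := by rw [hV t ht z hz]
    _ = v * z * t * y := by group

/-- The counting part: `|A : C_A(M)| ≤ |M : C_M(A)|` for `M = [v, A]`. -/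
theorem relIndex_le {G : Type u} [Group G] [Finite G] {V A : Subgroup G}
    (hV : ∀ x ∈ V, ∀ y ∈ V, x * y = y * x) (hA : ∀ x ∈ A, ∀ y ∈ A, x * y = y * x)
    (hAV : ∀ a ∈ A, ∀ x ∈ V, a * x * a⁻¹ ∈ V) {v : G} (hv : v ∈ V) :
    (Subgroup.centralizer (elemComm v A : Set G)).relIndex A ≤
      (Subgroup.centralizer (A : Set G)).relIndex (elemComm v A) := by
  classical
  set M := elemComm v A with hM
  let f : A ⧸ (Subgroup.centralizer (M : Set G)).subgroupOf A →
      M ⧸ (Subgroup.centralizer (A : Set G)).subgroupOf M :=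
    fun q => QuotientGroup.mk ⟨⁅v, (q.out : G)⁆, mem_elemComm v A q.out.2⟩
  have hf : Function.Injective f := by
    intro q q' h
    have h1 := QuotientGroup.eq.1 h
    rw [Subgroup.mem_subgroupOf] at h1
    simp only [InvMemClass.coe_inv, Subgroup.coe_mul] at h1
    rw [← Quotient.out_eq' q, ← Quotient.out_eq' q']
    refine QuotientGroup.eq.2 ?_
    rw [Subgroup.mem_subgroupOf]
    generalize hga : q.out = a at *
    generalize hgb : q'.out = b at *
    obtain ⟨a, ha⟩ := a
    obtain ⟨b, hb⟩ := b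
    simp only [InvMemClass.coe_inv, Subgroup.coe_mul] at h1 ⊢
    have hc : a⁻¹ * b ∈ A := A.mul_mem (A.inv_mem ha) hb
    have e1 : ⁅v, a⁆⁻¹ * ⁅v, b⁆ = a * ⁅v, a⁻¹ * b⁆ * a⁻¹ := by
      simp only [commutatorElement_def]
      group
    rw [e1] at h1
    generalize a⁻¹ * b = c at *
    rw [mem_centralizer_elemComm_iff]
    intro d hd
    -- `[v, c]` commutes with `d`
    have h2 : d * ⁅v, c⁆ = ⁅v, c⁆ * d := by
      have h3 := Subgroup.mem_centralizer_iff.1 h1 d hd
      have h4 : d * a = a * d := hA d hd a ha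
      have h5 : a⁻¹ * d = d * a⁻¹ := by
        rw [inv_mul_eq_iff_eq_mul, ← mul_assoc, ← h4, mul_inv_cancel_right]
      have h6 : a * (d * ⁅v, c⁆) * a⁻¹ = a * (⁅v, c⁆ * d) * a⁻¹ := by
        calc a * (d * ⁅v, c⁆) * a⁻¹ = (a * d) * ⁅v, c⁆ * a⁻¹ := by group
          _ = (d * a) * ⁅v, c⁆ * a⁻¹ := by rw [h4]
          _ = d * (a * ⁅v, c⁆ * a⁻¹) := by group
          _ = (a * ⁅v, c⁆ * a⁻¹) * d := h3
          _ = a * ⁅v, c⁆ * (a⁻¹ * d) := by group
          _ = a * ⁅v, c⁆ * (d * a⁻¹) := by rw [h5]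
          _ = a * (⁅v, c⁆ * d) * a⁻¹ := by group
      exact mul_left_cancel (mul_right_cancel h6)
    have h7 : ⁅⁅v, c⁆, d⁆ = 1 := commutatorElement_eq_one_iff_mul_comm.2 h2.symm
    rw [commutator_swap hV hv (hAV c hc) (hAV d hd) (hA c hc d hd)] at h7
    exact commutatorElement_eq_one_iff_mul_comm.1 h7
  exact Nat.card_le_card_of_injective f hf

theorem card_inf_mul_relIndex {G : Type u} [Group G] (H K : Subgroup G) :
    Nat.card (H ⊓ K : Subgroup G) * K.relIndex H = Nat.card H := by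
  have h1 := Subgroup.card_mul_index (K.subgroupOf H)
  have h2 : Nat.card (K.subgroupOf H) = Nat.card (H ⊓ K : Subgroup G) := by
    rw [← card_map_injective (K.subgroupOf H) H.subtype_injective,
      Subgroup.subgroupOf_map_subtype, inf_comm]
  rw [← h1, h2]
  rfl

/-- Thompson replacement, order of the new subgroup. -/
theorem card_le_card_replacement {G : Type u} [Group G] [Finite G] {V A : Subgroup G}
    (hV : ∀ x ∈ V, ∀ y ∈ V, x * y = y * x) (hA : ∀ x ∈ A, ∀ y ∈ A, x * y = y * x)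
    (hAV : ∀ a ∈ A, ∀ x ∈ V, a * x * a⁻¹ ∈ V) {v : G} (hv : v ∈ V) :
    Nat.card A ≤ Nat.card ((A ⊓ Subgroup.centralizer (elemComm v A : Set G)) ⊔ elemComm v A :
      Subgroup G) := by
  have hr := relIndex_le hV hA hAV hv
  set M := elemComm v A with hM
  set C := A ⊓ Subgroup.centralizer (M : Set G) with hC
  have h1 := Cfsg.Agent.Lib.ProductSet.card_mul_card_inf C M
  have h2 : Nat.card ((C : Set G) * (M : Set G) : Set G) ≤ Nat.card (C ⊔ M : Subgroup G) := by
    refine Nat.card_mono (Set.toFinite _) ?_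
    rintro _ ⟨c, hc, m, hm, rfl⟩
    exact Subgroup.mul_mem _ (Subgroup.mem_sup_left hc) (Subgroup.mem_sup_right hm)
  have h3 : Nat.card (C ⊓ M : Subgroup G) ≤
      Nat.card (M ⊓ Subgroup.centralizer (A : Set G) : Subgroup G) := by
    refine Subgroup.card_le_of_le ?_
    refine le_inf inf_le_right ?_
    intro x hx
    rw [Subgroup.mem_centralizer_iff]
    intro a ha
    exact hA a ha x hx.1.1
  have h4 := card_inf_mul_relIndex A (Subgroup.centralizer (M : Set G))
  have h5 := card_inf_mul_relIndex M (Subgroup.centralizer (A : Set G))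
  rw [← hC] at h4
  refine le_trans ?_ h2
  have hpos : 0 < Nat.card (C ⊓ M : Subgroup G) := Nat.card_pos
  refine Nat.le_of_mul_le_mul_right (c := Nat.card (C ⊓ M : Subgroup G)) ?_ hpos
  rw [h1]
  calc Nat.card A * Nat.card (C ⊓ M : Subgroup G)
      = Nat.card C * (Nat.card (C ⊓ M : Subgroup G) *
          (Subgroup.centralizer (M : Set G)).relIndex A) := by rw [← h4]; ring
    _ ≤ Nat.card C * (Nat.card (M ⊓ Subgroup.centralizer (A : Set G) : Subgroup G) *
          (Subgroup.centralizer (A : Set G)).relIndex M) :=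
        Nat.mul_le_mul_left _ (Nat.mul_le_mul h3 hr)
    _ = Nat.card C * Nat.card M := by rw [h5]

/-- Two elementary abelian subgroups centralizing each other generate an elementary abelian
subgroup. -/
theorem isElementaryAbelian_sup {G : Type u} [Group G] {p : ℕ} {C M : Subgroup G}
    (hC : IsElementaryAbelian p C) (hM : IsElementaryAbelian p M)
    (hCM : ∀ c ∈ C, ∀ m ∈ M, c * m = m * c) : IsElementaryAbelian p (C ⊔ M) := by
  obtain ⟨hC1, hC2⟩ := isElementaryAbelian_iff.1 hC
  obtain ⟨hM1, hM2⟩ := isElementaryAbelian_iff.1 hM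
  have hnorm : C ≤ Subgroup.normalizer (M : Set G) := by
    refine le_trans ?_ (Subgroup.centralizer_le_normalizer (M : Set G))
    intro c hc
    rw [Subgroup.mem_centralizer_iff]
    intro m hm
    exact (hCM c hc m hm).symm
  have hform : ∀ x ∈ C ⊔ M, ∃ c ∈ C, ∃ m ∈ M, c * m = x := by
    intro x hx
    have h1 : x ∈ ((C ⊔ M : Subgroup G) : Set G) := hx
    rw [Subgroup.coe_mul_of_left_le_normalizer_right C M hnorm] at h1
    exact h1
  rw [isElementaryAbelian_iff]
  constructor
  · intro x hx y hy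
    obtain ⟨c, hc, m, hm, rfl⟩ := hform x hx
    obtain ⟨c', hc', m', hm', rfl⟩ := hform y hy
    calc c * m * (c' * m') = c * (m * c') * m' := by group
      _ = c * (c' * m) * m' := by rw [hCM c' hc' m hm]
      _ = (c * c') * (m * m') := by group
      _ = (c' * c) * (m' * m) := by rw [hC1 c hc c' hc', hM1 m hm m' hm']
      _ = c' * (c * m') * m := by group
      _ = c' * (m' * c) * m := by rw [hCM c hc m' hm']
      _ = c' * m' * (c * m) := by group
  · intro x hx
    obtain ⟨c, hc, m, hm, rfl⟩ := hform x hx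
    have : Commute c m := hCM c hc m hm
    rw [this.mul_pow, hC2 c hc, hM2 m hm, one_mul]

theorem exists_mul_of_mem_sup {G : Type u} [Group G] {C M : Subgroup G}
    (hCM : C ≤ Subgroup.centralizer (M : Set G)) {x : G} (hx : x ∈ C ⊔ M) :
    ∃ c ∈ C, ∃ m ∈ M, c * m = x := by
  have h1 : x ∈ ((C ⊔ M : Subgroup G) : Set G) := hx
  rw [Subgroup.coe_mul_of_left_le_normalizer_right C M
    (hCM.trans (Subgroup.centralizer_le_normalizer (M : Set G)))] at h1
  exact h1

theorem elemComm_le {G : Type u} [Group G] {V A : Subgroup G}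
    (hAV : ∀ a ∈ A, ∀ x ∈ V, a * x * a⁻¹ ∈ V) {v : G} (hv : v ∈ V) : elemComm v A ≤ V := by
  rw [elemComm_le_iff]
  intro a ha
  have : ⁅v, a⁆ = v * (a * v⁻¹ * a⁻¹) := by rw [commutatorElement_def]; group
  rw [this]
  exact V.mul_mem hv (hAV a ha _ (V.inv_mem hv))

/-- Thompson replacement: if `A` is elementary abelian of largest order and normalizes the
elementary abelian subgroup `V`, and `v ∈ V`, then `C_A([v,A]) [v,A]` is elementary abelian of
largest order. -/
theorem replacement_mem_max {G : Type u} [Group G] [Finite G] {p : ℕ} {V A : Subgroup G}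
    (hV : IsElementaryAbelian p V) (hA : A ∈ maxElementaryAbelianSubgroups p G)
    (hAV : ∀ a ∈ A, ∀ x ∈ V, a * x * a⁻¹ ∈ V) {v : G} (hv : v ∈ V) :
    (A ⊓ Subgroup.centralizer (elemComm v A : Set G)) ⊔ elemComm v A ∈
      maxElementaryAbelianSubgroups p G := by
  obtain ⟨hV1, hV2⟩ := isElementaryAbelian_iff.1 hV
  obtain ⟨hA1, hA2⟩ := isElementaryAbelian_iff.1 hA.1
  have hMV : elemComm v A ≤ V := elemComm_le hAV hv
  refine mem_max_of_card_eq hA ?_ (card_le_card_replacement hV1 hA1 hAV hv)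
  refine isElementaryAbelian_sup (isElementaryAbelian_mono hA.1 inf_le_left)
    (isElementaryAbelian_mono hV hMV) ?_
  intro c hc m hm
  exact (Subgroup.mem_centralizer_iff.1 hc.2 m hm).symm

/-- Thompson replacement theorem. `V` a normal elementary abelian `p`-subgroup of the finite group
`G`, `A` an elementary abelian `p`-subgroup of largest order with `[V, A] ≠ 1`. Then some
`B ≤ A V` of largest order has `1 ≠ [V, B] ≤ B`. -/
theorem exists_max_commutator_le {G : Type u} [Group G] [Finite G] {p : ℕ} [Fact p.Prime]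
    (V : Subgroup G) [V.Normal] (hV : IsElementaryAbelian p V) {A : Subgroup G}
    (hA : A ∈ maxElementaryAbelianSubgroups p G) (hVA : ⁅V, A⁆ ≠ ⊥) :
    ∃ B ∈ maxElementaryAbelianSubgroups p G, B ≤ A ⊔ V ∧ ⁅V, B⁆ ≤ B ∧ ⁅V, B⁆ ≠ ⊥ := by
  classical
  obtain ⟨hV1, hV2⟩ := isElementaryAbelian_iff.1 hV
  have hPp : IsPGroup p (A ⊔ V : Subgroup G) :=
    (isPGroup_of_isElementaryAbelian hA.1).to_sup_of_normal_right
      (isPGroup_of_isElementaryAbelian hV)
  have hPn : Group.IsNilpotent (A ⊔ V : Subgroup G) := hPp.isNilpotent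
  obtain ⟨B, ⟨hB, hBP, hVB⟩, hmax⟩ := Set.exists_max_image
    {B : Subgroup G | B ∈ maxElementaryAbelianSubgroups p G ∧ B ≤ A ⊔ V ∧ ⁅V, B⁆ ≠ ⊥}
    (fun B => Nat.card (B ⊓ V : Subgroup G)) (Set.toFinite _) ⟨A, hA, le_sup_left, hVA⟩
  refine ⟨B, hB, hBP, ?_, hVB⟩
  obtain ⟨hB1, hB2⟩ := isElementaryAbelian_iff.1 hB.1
  have hBV : ∀ b ∈ B, ∀ x ∈ V, b * x * b⁻¹ ∈ V := fun b _ x hx =>
    (inferInstance : V.Normal).conj_mem x hx b
  suffices h : ∀ v ∈ V, elemComm v B ≤ B by
    rw [Subgroup.commutator_le]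
    intro v hv b hb
    exact h v hv (mem_elemComm v B hb)
  intro v hv
  have hMV : elemComm v B ≤ V := elemComm_le hBV hv
  have hmem := replacement_mem_max hV hB hBV hv
  set M := elemComm v B with hM
  have hMle : M ≤ ⁅V, B⁆ := by
    rw [hM, elemComm_le_iff]
    intro b hb
    exact Subgroup.commutator_mem_commutator hv hb
  set B' := (B ⊓ Subgroup.centralizer (M : Set G)) ⊔ M with hB'
  have hB'P : B' ≤ A ⊔ V :=
    sup_le (inf_le_left.trans hBP) (hMV.trans le_sup_right)
  have hVB' : ⁅V, B'⁆ ≠ ⊥ := by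
    intro hbot
    have hcent : V ≤ Subgroup.centralizer (B' : Set G) :=
      Subgroup.commutator_eq_bot_iff_le_centralizer.1 hbot
    have hsup : IsElementaryAbelian p (B' ⊔ V) := by
      refine isElementaryAbelian_sup hmem.1 hV ?_
      intro b hb w hw
      exact Subgroup.mem_centralizer_iff.1 (hcent hw) b hb
    have heq : B' = B' ⊔ V := eq_of_le_of_mem_max hmem hsup le_sup_left
    have hVle : V ≤ B' := by rw [heq]; exact le_sup_right
    apply hVB
    refine eq_bot_of_le_commutator (P := A ⊔ V) hPn ?_ ?_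
    · refine (Subgroup.commutator_le_left V B).trans le_sup_right
    · refine le_trans ?_ (Subgroup.commutator_mono (le_refl ⁅V, B⁆) hBP)
      rw [Subgroup.commutator_le]
      intro w hw b hb
      obtain ⟨c, hc, m, hm, rfl⟩ := exists_mul_of_mem_sup inf_le_right (hVle hw)
      have hcV : c ∈ V := by
        have : c = c * m * m⁻¹ := by group
        rw [this]
        exact V.mul_mem hw (V.inv_mem (hMV hm))
      have hcb : c * b = b * c := hB1 c hc.1 b hb
      have hmbV : ⁅m, b⁆ ∈ V := Subgroup.commutator_le_left V B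
        (Subgroup.commutator_mem_commutator (hMV hm) hb)
      have e1 : ⁅c * m, b⁆ = c * ⁅m, b⁆ * c⁻¹ * ⁅c, b⁆ := by
        simp only [commutatorElement_def]; group
      rw [e1, commutatorElement_eq_one_iff_mul_comm.2 hcb, mul_one, hV1 c hcV _ hmbV,
        mul_inv_cancel_right]
      exact Subgroup.commutator_mem_commutator (hMle hm) hb
  have hle : B ⊓ V ≤ B' ⊓ V := by
    refine le_inf ?_ inf_le_right
    refine le_trans ?_ le_sup_left
    refine le_inf inf_le_left ?_
    intro x hx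
    rw [Subgroup.mem_centralizer_iff]
    intro m hm
    exact hV1 m (hMV hm) x hx.2
  have hcard := hmax B' ⟨hmem, hB'P, hVB'⟩
  have heq : B ⊓ V = B' ⊓ V := Subgroup.eq_of_le_of_card_ge hle hcard
  have h2 : M ≤ B' ⊓ V := le_inf le_sup_right hMV
  rw [← heq] at h2
  exact h2.trans inf_le_left

/-- If no element of `A V` acts quadratically and nontrivially on `V`, then `A` centralizes
`V`. -/
theorem commutator_eq_bot_of_no_quadratic {G : Type u} [Group G] [Finite G] {p : ℕ}
    [Fact p.Prime] (V : Subgroup G) [V.Normal] (hV : IsElementaryAbelian p V) {A : Subgroup G}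
    (hA : A ∈ maxElementaryAbelianSubgroups p G)
    (h : ∀ x ∈ A ⊔ V, ⁅⁅V, Subgroup.zpowers x⁆, Subgroup.zpowers x⁆ = ⊥ →
      ⁅V, Subgroup.zpowers x⁆ = ⊥) : ⁅V, A⁆ = ⊥ := by
  by_contra hne
  obtain ⟨B, hB, hBP, hle, hneB⟩ := exists_max_commutator_le V hV hA hne
  apply hneB
  rw [eq_bot_iff, Subgroup.commutator_le]
  intro v hv x hx
  have hxB : Subgroup.zpowers x ≤ B := Subgroup.zpowers_le.2 hx
  have h1 : ⁅⁅V, Subgroup.zpowers x⁆, Subgroup.zpowers x⁆ = ⊥ := by
    rw [eq_bot_iff]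
    have h2 : ⁅B, B⁆ = ⊥ := by
      rw [eq_bot_iff, Subgroup.commutator_le]
      intro a ha b hb
      rw [Subgroup.mem_bot, commutatorElement_eq_one_iff_mul_comm]
      exact isElementaryAbelian_comm hB.1 ha hb
    rw [← h2]
    exact Subgroup.commutator_mono
      ((Subgroup.commutator_mono le_rfl hxB).trans hle) hxB
  have h3 := h x (hBP hx) h1
  rw [← h3]
  exact Subgroup.commutator_mem_commutator hv (Subgroup.mem_zpowers x)

end Cfsg.Agent.PLocal.ThompsonReplacement
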