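import Mathlib
import Cfsg.Prelude.Def_PLocal
import Cfsg.Agent.PLocal.StableClosure
import Cfsg.Agent.PLocal.SectionFrattini
import Cfsg.Agent.PLocal.ThompsonReplacement
import Cfsg.Agent.PLocal.SylowFixed

/-!
# `W(S)` is normal in action-`p`-stable groups with `C_G(O_p(G)) ≤ O_p(G)`

Main result: `map_stableNormalClosure_normal`.

* `sylow_frattini` : `G = N_G(S ∩ N) N` for `N` normal, `S` a Sylow `p`-subgroup.
* `isStableEmbedding_normalizer` : `S → N_G(J(S))` is a stable embedding.
* `normalClosure_isElementaryAbelian`, `no_quadratic` : the normal closure `V` of `W(S)` is elementary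
  abelian and no element of `S` acts quadratically and nontrivially on it.
-/

set_option autoImplicit false

namespace Cfsg.Agent.PLocal.StableNormal

open Cfsg Cfsg.Agent.PLocal.ThompsonJ Cfsg.Agent.PLocal.StableClosure
open scoped commutatorElement

universe u

/-- The index of `P ∩ N` in the normal subgroup `N` is prime to `p` for `P` a Sylow
`p`-subgroup. -/
theorem not_dvd_relIndex {G : Type u} [Group G] [Finite G] {p : ℕ} [Fact p.Prime] (P : Sylow p G)
    (N : Subgroup G) [N.Normal] : ¬ p ∣ (P : Subgroup G).relIndex N := by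
  have h1 := Subgroup.relIndex_mul_relIndex ((P : Subgroup G) ⊓ N) N ((P : Subgroup G) ⊔ N)
    inf_le_right le_sup_right
  have h2 := Subgroup.relIndex_mul_relIndex ((P : Subgroup G) ⊓ N) P ((P : Subgroup G) ⊔ N)
    inf_le_left le_sup_left
  rw [Subgroup.inf_relIndex_left, ← Subgroup.relIndex_sup_right (H := (P : Subgroup G)) (K := N),
    ← h1, Subgroup.inf_relIndex_right, mul_comm] at h2
  have h3 : (N.relIndex ((P : Subgroup G) ⊔ N)) ≠ 0 := Subgroup.index_ne_zero_of_finite
  have h4 := Nat.eq_of_mul_eq_mul_right (Nat.pos_of_ne_zero h3) h2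
  rw [← h4]
  intro h5
  exact P.not_dvd_index (h5.trans (Subgroup.relIndex_dvd_index_of_le le_sup_left))

/-- Frattini argument: `G = N_G(P ∩ N) N`. -/
theorem sylow_frattini {G : Type u} [Group G] [Finite G] {p : ℕ} [Fact p.Prime] (P : Sylow p G)
    (N : Subgroup G) [N.Normal] :
    Subgroup.normalizer (((P : Subgroup G) ⊓ N : Subgroup G) : Set G) ⊔ N = ⊤ := by
  let Q : Sylow p N := (P.2.comap_subtype (K := N)).toSylow (not_dvd_relIndex P N)
  have h1 := Sylow.normalizer_sup_eq_top Q
  have h2 : (Q : Subgroup N).map N.subtype = (P : Subgroup G) ⊓ N :=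
    Subgroup.subgroupOf_map_subtype _ _
  rw [h2] at h1
  exact h1

/-- A subgroup normalizes the image of each of its own normal subgroups. -/
theorem le_normalizer_map_subtype {G : Type u} [Group G] {S : Subgroup G} {K : Subgroup S}
    (hK : K.Normal) : S ≤ Subgroup.normalizer ((K.map S.subtype : Subgroup G) : Set G) := by
  have h1 := Subgroup.le_normalizer_map (H := K) S.subtype
  have h2 : Subgroup.normalizer (K : Set S) = ⊤ := Subgroup.normalizer_eq_top K
  rw [h2, ← MonoidHom.range_eq_map, Subgroup.range_subtype] at h1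
  exact h1

theorem sylow_le_normalizer_thompson {G : Type u} [Group G] {p : ℕ} (S : Sylow p G) :
    (S : Subgroup G) ≤
      Subgroup.normalizer (thompsonSubgroupOf p (S : Subgroup G) : Set G) :=
  le_normalizer_map_subtype (thompsonSubgroup_normal p _)

/-- The inclusion of a Sylow `p`-subgroup `S` into `N_G(J(S))` is a stable embedding. -/
theorem isStableEmbedding_normalizer {G : Type u} [Group G] [Finite G] {p : ℕ} [Fact p.Prime]
    (hst : IsActionPStable p G)
    (hc : Subgroup.centralizer (pCore p G : Set G) ≤ pCore p G) (S : Sylow p G) :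
    IsStableEmbedding p (Subgroup.inclusion (sylow_le_normalizer_thompson S)) := by
  set L := Subgroup.normalizer (thompsonSubgroupOf p (S : Subgroup G) : Set G) with hL
  have hSL : (S : Subgroup G) ≤ L := sylow_le_normalizer_thompson S
  have hcomp : L.subtype.comp (Subgroup.inclusion hSL) = (S : Subgroup G).subtype := by
    ext x
    rfl
  refine ⟨Subgroup.inclusion_injective hSL, inferInstance, ⟨S.subtype hSL, ?_⟩, ?_, ?_, ?_⟩
  · rw [Sylow.coe_subtype, Subgroup.inclusion_range]
  · have hQL : pCore p G ≤ L := (Cfsg.Agent.Lib.Cores.pCore_le_sylow S).trans hSL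
    have hQle : (pCore p G).subgroupOf L ≤ pCore p L :=
      Cfsg.Agent.Lib.Cores.le_pCore inferInstance
        ((Cfsg.Agent.Lib.Cores.pCore_isPGroup p).comap_subtype)
    intro x hx
    apply hQle
    rw [Subgroup.mem_subgroupOf]
    apply hc
    rw [Subgroup.mem_centralizer_iff] at hx ⊢
    intro q hq
    have := hx ⟨q, hQL hq⟩ (hQle hq)
    exact congrArg Subtype.val this
  · have h1 : ((thompsonSubgroup p (S : Subgroup G)).map (Subgroup.inclusion hSL)).map L.subtype =
        thompsonSubgroupOf p (S : Subgroup G) := by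
      rw [Subgroup.map_map, hcomp]
      rfl
    have h2 : (thompsonSubgroup p (S : Subgroup G)).map (Subgroup.inclusion hSL) =
        (thompsonSubgroupOf p (S : Subgroup G)).subgroupOf L := by
      rw [← h1, Subgroup.subgroupOf, Subgroup.comap_map_eq_self_of_injective L.subtype_injective]
    rw [h2]
    exact Subgroup.normal_in_normalizer
  · intro V hV hVle
    refine hst.2.2 S V ?_
    have h1 := Subgroup.map_mono (f := L.subtype) hVle
    rw [Subgroup.map_map, hcomp] at h1
    exact h1

/-- `N_G(J(S))` normalizes `W(S)`. -/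
theorem normalizer_thompson_le {G : Type u} [Group G] [Finite G] {p : ℕ} [Fact p.Prime]
    (hst : IsActionPStable p G)
    (hc : Subgroup.centralizer (pCore p G : Set G) ≤ pCore p G) (S : Sylow p G) :
    Subgroup.normalizer (thompsonSubgroupOf p (S : Subgroup G) : Set G) ≤
      Subgroup.normalizer
        (((stableNormalClosure p (S : Subgroup G)).map (S : Subgroup G).subtype : Subgroup G) :
          Set G) := by
  have h1 := stableNormalClosure_map_normal (isStableEmbedding_normalizer hst hc S)
  have h2 := le_normalizer_map_subtype h1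
  rw [Subgroup.map_map] at h2
  exact h2

/-- `W(S)` seen inside `G`. -/
abbrev WOf {G : Type u} [Group G] {p : ℕ} (S : Sylow p G) : Subgroup G :=
  (stableNormalClosure p (S : Subgroup G)).map (S : Subgroup G).subtype

theorem WOf_le {G : Type u} [Group G] {p : ℕ} (S : Sylow p G) : WOf S ≤ (S : Subgroup G) :=
  Subgroup.map_subtype_le _

theorem WOf_isElementaryAbelian {G : Type u} [Group G] [Finite G] {p : ℕ} (S : Sylow p G) :
    IsElementaryAbelian p (WOf S) :=
  isElementaryAbelian_map (stableNormalClosure_isElementaryAbelian p _) _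

theorem sylow_le_normalizer_WOf {G : Type u} [Group G] {p : ℕ} (S : Sylow p G) :
    (S : Subgroup G) ≤ Subgroup.normalizer (WOf S : Set G) := by
  have h := stableNormalClosure_characteristic p (S : Subgroup G)
  exact le_normalizer_map_subtype inferInstance

/-- An abelian normal subgroup `W` of `S` lies in `O_p(G)`. -/
theorem le_pCore {G : Type u} [Group G] [Finite G] {p : ℕ} [Fact p.Prime]
    (hst : IsActionPStable p G)
    (hc : Subgroup.centralizer (pCore p G : Set G) ≤ pCore p G) {W : Subgroup G}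
    (hW : ∀ x ∈ W, ∀ y ∈ W, x * y = y * x)
    (hQW : pCore p G ≤ Subgroup.normalizer (W : Set G)) : W ≤ pCore p G := by
  intro a ha
  refine Cfsg.Agent.PLocal.SectionFrattini.mem_pCore_of_quadratic (pCore p G)
    (Cfsg.Agent.Lib.Cores.pCore_isPGroup p) hc hst.2.1 ?_
  have h1 : Subgroup.zpowers a ≤ W := Subgroup.zpowers_le.2 ha
  have h2 : ⁅pCore p G, W⁆ ≤ W := Subgroup.le_normalizer_iff_commutator_le_right.1 hQW
  have h3 : ⁅W, W⁆ = ⊥ := by
    rw [eq_bot_iff, Subgroup.commutator_le]
    intro x hx y hy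
    rw [Subgroup.mem_bot, commutatorElement_eq_one_iff_mul_comm]
    exact hW x hx y hy
  calc ⁅⁅pCore p G, Subgroup.zpowers a⁆, Subgroup.zpowers a⁆ ≤ ⁅W, W⁆ :=
        Subgroup.commutator_mono ((Subgroup.commutator_mono le_rfl h1).trans h2) h1
    _ = ⊥ := h3
    _ ≤ _ := bot_le

theorem WOf_le_pCore {G : Type u} [Group G] [Finite G] {p : ℕ} [Fact p.Prime]
    (hst : IsActionPStable p G)
    (hc : Subgroup.centralizer (pCore p G : Set G) ≤ pCore p G) (S : Sylow p G) :
    WOf S ≤ pCore p G :=
  le_pCore hst hc (isElementaryAbelian_iff.1 (WOf_isElementaryAbelian S)).1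
    ((Cfsg.Agent.Lib.Cores.pCore_le_sylow S).trans (sylow_le_normalizer_WOf S))

/-- An element of `S` acting quadratically on `W(S)` centralizes it. -/
theorem comm_of_quadratic {G : Type u} [Group G] [Finite G] {p : ℕ} [Fact p.Prime] (S : Sylow p G)
    {y : G} (hy : y ∈ (S : Subgroup G))
    (hq : ⁅⁅WOf S, Subgroup.zpowers y⁆, Subgroup.zpowers y⁆ = ⊥) :
    ∀ w ∈ WOf S, w * y = y * w := by
  have h1 := (quadratic_map_iff (τ := (S : Subgroup G).subtype) (S : Subgroup G).subtype_injective
    (W := stableNormalClosure p (S : Subgroup G)) (x := ⟨y, hy⟩)).1 hq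
  have h2 := commutator_eq_bot_of_quadratic _ h1
  rintro _ ⟨w, hw, rfl⟩
  have h3 : ⁅w, (⟨y, hy⟩ : (S : Subgroup G))⁆ ∈ (⊥ : Subgroup (S : Subgroup G)) := by
    rw [← h2]
    exact Subgroup.commutator_mem_commutator hw (Subgroup.mem_zpowers _)
  rw [Subgroup.mem_bot, commutatorElement_eq_one_iff_mul_comm] at h3
  exact congrArg Subtype.val h3

/-- `W(S)` commutes with its conjugates. -/
theorem comm_conj {G : Type u} [Group G] [Finite G] {p : ℕ} [Fact p.Prime]
    (hst : IsActionPStable p G)
    (hc : Subgroup.centralizer (pCore p G : Set G) ≤ pCore p G) (S : Sylow p G) (k : G) :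
    ∀ w ∈ WOf S, ∀ w' ∈ WOf S, w * (k * w' * k⁻¹) = (k * w' * k⁻¹) * w := by
  intro w hw w' hw'
  have hWQ := WOf_le_pCore hst hc S
  have hQS := Cfsg.Agent.Lib.Cores.pCore_le_sylow (p := p) S
  have hQn : (pCore p G).Normal := inferInstance
  have hyQ : k * w' * k⁻¹ ∈ pCore p G := hQn.conj_mem _ (hWQ hw') k
  refine comm_of_quadratic S (hQS hyQ) ?_ w hw
  set W' := (WOf S).map (MulAut.conj k).toMonoidHom with hW'
  have hyW' : Subgroup.zpowers (k * w' * k⁻¹) ≤ W' :=
    Subgroup.zpowers_le.2 ⟨w', hw', rfl⟩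
  have hnorm : pCore p G ≤ Subgroup.normalizer (W' : Set G) := by
    have h1 := Subgroup.le_normalizer_map (H := WOf S) (MulAut.conj k).toMonoidHom
    refine le_trans ?_ h1
    have h2 : pCore p G = (pCore p G).map (MulAut.conj k).toMonoidHom :=
      (map_conj_eq_of_normal hQn k).symm
    rw [h2]
    exact Subgroup.map_mono (hQS.trans (sylow_le_normalizer_WOf S))
  have h3 : ⁅WOf S, W'⁆ ≤ W' :=
    (Subgroup.commutator_mono hWQ le_rfl).trans
      (Subgroup.le_normalizer_iff_commutator_le_right.1 hnorm)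
  have h4 : ⁅W', W'⁆ = ⊥ := by
    rw [eq_bot_iff, Subgroup.commutator_le]
    intro x hx y hy
    rw [Subgroup.mem_bot, commutatorElement_eq_one_iff_mul_comm]
    exact isElementaryAbelian_comm (isElementaryAbelian_map (WOf_isElementaryAbelian S) _) hx hy
  rw [eq_bot_iff, ← h4]
  exact Subgroup.commutator_mono ((Subgroup.commutator_mono le_rfl hyW').trans h3) hyW'

/-- The normal closure of `W(S)` is elementary abelian. -/
theorem normalClosure_isElementaryAbelian {G : Type u} [Group G] [Finite G] {p : ℕ}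
    [Fact p.Prime] (hst : IsActionPStable p G)
    (hc : Subgroup.centralizer (pCore p G : Set G) ≤ pCore p G) (S : Sylow p G) :
    IsElementaryAbelian p (Subgroup.normalClosure (WOf S : Set G)) := by
  have hconj : ∀ x ∈ Group.conjugatesOfSet (WOf S : Set G), ∃ g : G, ∃ w ∈ WOf S,
      g * w * g⁻¹ = x := by
    intro x hx
    rw [Group.mem_conjugatesOfSet_iff] at hx
    obtain ⟨w, hw, hx⟩ := hx
    obtain ⟨g, hg⟩ := isConj_iff.1 hx
    exact ⟨g, w, hw, hg⟩
  have hcomm : ∀ x ∈ Group.conjugatesOfSet (WOf S : Set G),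
      ∀ y ∈ Group.conjugatesOfSet (WOf S : Set G), x * y = y * x := by
    intro x hx y hy
    obtain ⟨g, w, hw, rfl⟩ := hconj x hx
    obtain ⟨h, w', hw', rfl⟩ := hconj y hy
    have h1 := comm_conj hst hc S (g⁻¹ * h) w hw w' hw'
    calc g * w * g⁻¹ * (h * w' * h⁻¹)
        = g * (w * (g⁻¹ * h * w' * (g⁻¹ * h)⁻¹)) * g⁻¹ := by group
      _ = g * ((g⁻¹ * h * w' * (g⁻¹ * h)⁻¹) * w) * g⁻¹ := by rw [h1]
      _ = h * w' * h⁻¹ * (g * w * g⁻¹) := by group
  have hcomm2 : ∀ x ∈ Subgroup.normalClosure (WOf S : Set G),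
      ∀ y ∈ Subgroup.normalClosure (WOf S : Set G), x * y = y * x := by
    intro x hx y hy
    have h1 : Subgroup.normalClosure (WOf S : Set G) ≤
        Subgroup.centralizer (Group.conjugatesOfSet (WOf S : Set G)) := by
      rw [Subgroup.normalClosure, Subgroup.closure_le]
      intro z hz
      rw [SetLike.mem_coe, Subgroup.mem_centralizer_iff]
      intro t ht
      exact hcomm t ht z hz
    have h2 : Subgroup.normalClosure (WOf S : Set G) ≤
        Subgroup.centralizer (Subgroup.normalClosure (WOf S : Set G) : Set G) := by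
      rw [Subgroup.normalClosure, Subgroup.centralizer_closure]
      exact h1
    exact (Subgroup.mem_centralizer_iff.1 (h2 hx) y hy).symm
  rw [isElementaryAbelian_iff]
  refine ⟨hcomm2, ?_⟩
  intro a ha
  have ha' := ha
  rw [Subgroup.normalClosure] at ha
  induction ha using Subgroup.closure_induction with
  | mem x hx =>
    obtain ⟨g, w, hw, rfl⟩ := hconj x hx
    rw [conj_pow, isElementaryAbelian_pow (WOf_isElementaryAbelian S) hw, mul_one,
      mul_inv_cancel]
  | one => exact one_pow p
  | mul x y hx hy hx1 hy1 =>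
    have hxy : Commute x y := hcomm2 x hx y hy
    rw [hxy.mul_pow, hx1 hx, hy1 hy, one_mul]
  | inv x hx hx1 => rw [inv_pow, hx1 hx, inv_one]

/-- No element of `S` acts quadratically and nontrivially on the normal closure of `W(S)`. -/
theorem no_quadratic {G : Type u} [Group G] [Finite G] {p : ℕ}
    [Fact p.Prime] (hst : IsActionPStable p G)
    (hc : Subgroup.centralizer (pCore p G : Set G) ≤ pCore p G) (S : Sylow p G) {x : G}
    (hq : ⁅⁅Subgroup.normalClosure (WOf S : Set G), Subgroup.zpowers x⁆,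
      Subgroup.zpowers x⁆ = ⊥) :
    ⁅Subgroup.normalClosure (WOf S : Set G), Subgroup.zpowers x⁆ = ⊥ := by
  have hV := normalClosure_isElementaryAbelian hst hc S
  set V := Subgroup.normalClosure (WOf S : Set G) with hVdef
  have hWV : WOf S ≤ V := Subgroup.le_normalClosure
  have hmem := hst.1 V hV x hq
  have key : ∀ g : G, ∀ w ∈ WOf S, (g * w * g⁻¹) * x = x * (g * w * g⁻¹) := by
    intro g w hw
    have hn : (pCore p (G ⧸ Subgroup.centralizer (V : Set G))).Normal := inferInstance
    have h1 : (QuotientGroup.mk (g⁻¹ * x * g⁻¹⁻¹) : G ⧸ Subgroup.centralizer (V : Set G)) ∈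
        pCore p (G ⧸ Subgroup.centralizer (V : Set G)) :=
      hn.conj_mem _ hmem (QuotientGroup.mk g⁻¹)
    obtain ⟨s, hs, c, hcc, hsc⟩ := Cfsg.Agent.PLocal.SylowFixed.exists_mul_of_mk_mem
      (Subgroup.centralizer (V : Set G)) _ (Cfsg.Agent.Lib.Cores.pCore_isPGroup p) S h1
    have hq1 := quadratic_conj g⁻¹ hq
    have hmk : (QuotientGroup.mk (g⁻¹ * x * g⁻¹⁻¹) : G ⧸ Subgroup.centralizer (V : Set G)) =
        QuotientGroup.mk s := by
      rw [hsc]
      exact QuotientGroup.mk_mul_of_mem s hcc
    have hq2 := quadratic_of_mk_eq hmk hq1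
    have hq3 : ⁅⁅WOf S, Subgroup.zpowers s⁆, Subgroup.zpowers s⁆ = ⊥ := by
      rw [eq_bot_iff, ← hq2]
      exact Subgroup.commutator_mono (Subgroup.commutator_mono hWV le_rfl) le_rfl
    have h2 : w * s = s * w := comm_of_quadratic S hs hq3 w hw
    have h3 : w * c = c * w := Subgroup.mem_centralizer_iff.1 hcc w (hWV hw)
    have h4 : w * (g⁻¹ * x * g) = (g⁻¹ * x * g) * w := by
      have h5 : g⁻¹ * x * g = s * c := by rw [← hsc, inv_inv]
      rw [h5, ← mul_assoc, h2, mul_assoc, h3, mul_assoc]
    calc g * w * g⁻¹ * x = g * (w * (g⁻¹ * x * g)) * g⁻¹ := by group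
      _ = g * ((g⁻¹ * x * g) * w) * g⁻¹ := by rw [h4]
      _ = x * (g * w * g⁻¹) := by group
  have hle : V ≤ Subgroup.centralizer ({x} : Set G) := by
    rw [hVdef, Subgroup.normalClosure, Subgroup.closure_le]
    intro y hy
    rw [Group.mem_conjugatesOfSet_iff] at hy
    obtain ⟨w, hw, hy⟩ := hy
    obtain ⟨g, rfl⟩ := isConj_iff.1 hy
    rw [SetLike.mem_coe, Subgroup.mem_centralizer_singleton_iff]
    exact key g w hw
  rw [Subgroup.commutator_eq_bot_iff_le_centralizer]
  intro v hv
  have h1 := hle hv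
  rw [Subgroup.mem_centralizer_singleton_iff] at h1
  rw [Subgroup.mem_centralizer_iff]
  rintro _ ⟨n, rfl⟩
  exact ((show Commute x v from h1.symm).zpow_left n).eq

/-- `J(S)` centralizes the normal closure of `W(S)`. -/
theorem thompson_le_centralizer {G : Type u} [Group G] [Finite G] {p : ℕ}
    [Fact p.Prime] (hst : IsActionPStable p G)
    (hc : Subgroup.centralizer (pCore p G : Set G) ≤ pCore p G) (S : Sylow p G) :
    thompsonSubgroupOf p (S : Subgroup G) ≤
      Subgroup.centralizer (Subgroup.normalClosure (WOf S : Set G) : Set G) := by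
  rw [thompsonSubgroupOf_sylow_eq]
  refine sSup_le ?_
  rintro A ⟨hA, hAS⟩
  have h1 := Cfsg.Agent.PLocal.ThompsonReplacement.commutator_eq_bot_of_no_quadratic
    (Subgroup.normalClosure (WOf S : Set G)) (normalClosure_isElementaryAbelian hst hc S) hA
    (fun x _ hq => no_quadratic hst hc S hq)
  rw [Subgroup.commutator_comm] at h1
  exact Subgroup.commutator_eq_bot_iff_le_centralizer.1 h1

/-- If `J(S) ≤ N` then `N_G(S ∩ N) ≤ N_G(J(S))`. -/
theorem normalizer_inf_le {G : Type u} [Group G] [Finite G] {p : ℕ}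
    [Fact p.Prime] (S : Sylow p G) {N : Subgroup G}
    (hJ : thompsonSubgroupOf p (S : Subgroup G) ≤ N) :
    Subgroup.normalizer (((S : Subgroup G) ⊓ N : Subgroup G) : Set G) ≤
      Subgroup.normalizer (thompsonSubgroupOf p (S : Subgroup G) : Set G) := by
  have key : ∀ g ∈ Subgroup.normalizer (((S : Subgroup G) ⊓ N : Subgroup G) : Set G),
      (thompsonSubgroupOf p (S : Subgroup G)).map (MulAut.conj g).toMonoidHom ≤
        thompsonSubgroupOf p (S : Subgroup G) := by
    intro g hg
    rw [Subgroup.map_le_iff_le_comap]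
    conv_lhs => rw [thompsonSubgroupOf_sylow_eq]
    refine sSup_le ?_
    rintro A ⟨hA, hAS⟩
    rw [← Subgroup.map_le_iff_le_comap]
    have hAJ : A ≤ thompsonSubgroupOf p (S : Subgroup G) := by
      rw [thompsonSubgroupOf_sylow_eq]
      exact le_sSup ⟨hA, hAS⟩
    have hAg : A.map (MulAut.conj g).toMonoidHom ≤ (S : Subgroup G) := by
      rintro _ ⟨a, ha, rfl⟩
      have h1 : a ∈ (S : Subgroup G) ⊓ N := ⟨hAS ha, hJ (hAJ ha)⟩
      exact ((Subgroup.mem_normalizer_iff.1 hg a).1 h1).1
    rw [thompsonSubgroupOf_sylow_eq]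
    refine le_sSup ⟨mem_max_of_card_eq hA (isElementaryAbelian_map hA.1 _) ?_, hAg⟩
    rw [card_map_injective _ (MulAut.conj g).injective]
  intro g hg
  rw [Subgroup.mem_normalizer_iff]
  intro x
  constructor
  · intro hx
    exact key g hg ⟨x, hx, rfl⟩
  · intro hx
    have h1 := key g⁻¹ (Subgroup.inv_mem _ hg) ⟨_, hx, rfl⟩
    have h2 : (MulAut.conj g⁻¹).toMonoidHom (g * x * g⁻¹) = x := by
      change g⁻¹ * (g * x * g⁻¹) * g⁻¹⁻¹ = x
      group
    rwa [h2] at h1

/-- `W(S)` is normal in `G` when `G` is `p`-stable in the action sense and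
`C_G(O_p(G)) ≤ O_p(G)`. -/
theorem map_stableNormalClosure_normal {G : Type u} [Group G] [Finite G] {p : ℕ}
    [Fact p.Prime] (hst : IsActionPStable p G)
    (hc : Subgroup.centralizer (pCore p G : Set G) ≤ pCore p G) (S : Sylow p G) :
    ((stableNormalClosure p (S : Subgroup G)).map (S : Subgroup G).subtype).Normal := by
  rw [← Subgroup.normalizer_eq_top_iff, eq_top_iff,
    ← sylow_frattini S (Subgroup.centralizer (Subgroup.normalClosure (WOf S : Set G) : Set G))]
  refine sup_le ?_ ?_
  · exact (normalizer_inf_le S (thompson_le_centralizer hst hc S)).trans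
      (normalizer_thompson_le hst hc S)
  · exact (Subgroup.centralizer_le Subgroup.le_normalClosure).trans
      (Subgroup.centralizer_le_normalizer _)

end Cfsg.Agent.PLocal.StableNormal
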