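import Mathlib

/-!
# Subgroups of `SL(2, k)` normalised by a unipotent element

`k` a field of odd characteristic `p`.  If a `p'`-subgroup `R` of `SL(2, k)` is normalised but not
centralised by a unipotent element `a` and `a` centralises `[R, R]`, then `p = 3` and some `x ∈ R`
generates with `a` a subgroup isomorphic to `SL(2, 3)`.
-/

set_option autoImplicit false

namespace Cfsg.Agent.PLocal.SL2Section

open Matrix

open scoped commutatorElement

variable {k : Type*} [Field k]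

local notation "S2" => Matrix.SpecialLinearGroup (Fin 2)

theorem det_eq (x : S2 k) : x.1 0 0 * x.1 1 1 - x.1 0 1 * x.1 1 0 = 1 := by
  have := x.2
  rwa [Matrix.det_fin_two] at this

theorem inv_coe (x : S2 k) :
    (x⁻¹ : S2 k).1 = (x.1.trace) • (1 : Matrix (Fin 2) (Fin 2) k) - x.1 := by
  have h : (x⁻¹ : S2 k).1 = x.1.adjugate := rfl
  rw [h, Matrix.adjugate_fin_two, Matrix.trace_fin_two]
  ext i j
  fin_cases i <;> fin_cases j <;> simp

theorem sq_coe (x : S2 k) : x.1 * x.1 = (x.1.trace) • x.1 - 1 := by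
  have h := det_eq x
  ext i j
  fin_cases i <;> fin_cases j <;>
    simp [Matrix.mul_apply, Fin.sum_univ_two, Matrix.trace_fin_two]
  · linear_combination -h
  · ring
  · ring
  · linear_combination -h

theorem trace_nil {N : Matrix (Fin 2) (Fin 2) k} (h : N ^ 2 = 0) : N 0 0 + N 1 1 = 0 := by
  have hnil : IsNilpotent N := ⟨2, h⟩
  have htr : N.trace = 0 := (Matrix.isNilpotent_trace_of_isNilpotent hnil).eq_zero
  rwa [Matrix.trace_fin_two] at htr

theorem det_nil {N : Matrix (Fin 2) (Fin 2) k} (h : N ^ 2 = 0) : 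
    N 0 0 * N 1 1 - N 0 1 * N 1 0 = 0 := by
  have hdet0 : N.det = 0 := by
    have : N.det ^ 2 = 0 := by rw [← Matrix.det_pow, h]; simp
    exact pow_eq_zero_iff (two_ne_zero) |>.1 this
  rwa [Matrix.det_fin_two] at hdet0

/-- an element of `SL(2, k)` with trace two is unipotent -/
theorem unip_of_trace {y : S2 k} (h : y.1.trace = 2) : (y.1 - 1) ^ 2 = 0 := by
  have h1 := sq_coe y
  rw [h] at h1
  rw [pow_two, sub_mul, mul_sub, h1]
  simp only [two_smul, mul_one, one_mul]
  abel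

/-- a unipotent element of `SL(2, k)` has trace two -/
theorem trace_of_unip {y : S2 k} (h : (y.1 - 1) ^ 2 = 0) : y.1.trace = 2 := by
  have h1 := trace_nil h
  simp only [Matrix.sub_apply, Matrix.one_apply_eq] at h1
  rw [Matrix.trace_fin_two]
  linear_combination h1

theorem pow_char_of_unip {p : ℕ} [Fact p.Prime] [CharP k p] {y : S2 k} (h : (y.1 - 1) ^ 2 = 0) :
    y ^ p = 1 := by
  have hp := (Fact.out : p.Prime).two_le
  have h1 : (y.1 - 1) ^ p = 0 := by
    rw [← Nat.sub_add_cancel hp, pow_add, h, mul_zero]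
  have h2 := sub_pow_char_of_commute p (Commute.one_right y.1)
  rw [h1, one_pow] at h2
  apply Subtype.ext
  rw [Matrix.SpecialLinearGroup.coe_pow]
  exact (sub_eq_zero.mp h2.symm)

/-- an element of `p'`-order and trace two is trivial -/
theorem eq_one_of_trace {p : ℕ} [Fact p.Prime] [CharP k p] {y : S2 k} (h : y.1.trace = 2)
    {n : ℕ} (hn : n.Coprime p) (hy : y ^ n = 1) : y = 1 := by
  have h1 : y ^ p = 1 := pow_char_of_unip (unip_of_trace h)
  have h2 := Nat.Coprime.eq_one_of_dvd (hn.coprime_dvd_left (orderOf_dvd_of_pow_eq_one hy))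
    (orderOf_dvd_of_pow_eq_one h1)
  exact orderOf_eq_one_iff.mp h2

/-- an element of `p'`-order commuting with a nontrivial unipotent element is `± 1` -/
theorem eq_one_or_of_commute {p : ℕ} [Fact p.Prime] [CharP k p] (hp : p ≠ 2) {a x : S2 k}
    (ha : (a.1 - 1) ^ 2 = 0) (ha1 : a ≠ 1) (hc : Commute a x)
    {n : ℕ} (hn : n.Coprime p) (hx : x ^ n = 1) : x = 1 ∨ x = -1 := by
  have h2 : x.1.trace ^ 2 = 4 := by
    have hN : (a.1 - 1) ≠ 0 := by
      intro h
      apply ha1
      apply Subtype.ext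
      exact sub_eq_zero.mp h
    set N := a.1 - 1 with hNdef
    have ht := trace_nil ha
    have hd := det_nil ha
    have hcom : N * x.1 = x.1 * N := by
      have h3 : a.1 * x.1 = x.1 * a.1 := congrArg Subtype.val hc.eq
      rw [hNdef, sub_mul, mul_sub, h3, one_mul, mul_one]
    have h00 := congrFun (congrFun hcom 0) 0
    have h01 := congrFun (congrFun hcom 0) 1
    have h10 := congrFun (congrFun hcom 1) 0
    have hdx := det_eq x
    simp only [Matrix.mul_apply, Fin.sum_univ_two] at h00 h01 h10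
    rw [Matrix.trace_fin_two]
    have hn22 : N 1 1 = - N 0 0 := by linear_combination ht
    rw [hn22] at h01 h10 hd
    by_cases h12 : N 0 1 = 0
    · by_cases h21 : N 1 0 = 0
      · exfalso
        apply hN
        have h11 : N 0 0 = 0 := by
          rw [h12] at hd
          have : N 0 0 ^ 2 = 0 := by linear_combination -hd
          exact pow_eq_zero_iff (two_ne_zero) |>.1 this
        ext i j
        fin_cases i <;> fin_cases j <;> simp [h12, h21, h11, hn22]
      · have h4 : N 1 0 ^ 2 * ((x.1 0 0 + x.1 1 1) ^ 2 - 4) = 0 := by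
          linear_combination (N 1 0 * (x.1 0 0 - x.1 1 1) + 2 * N 0 0 * x.1 1 0) * h10
            - 4 * N 1 0 * x.1 1 0 * h00 + 4 * N 1 0 ^ 2 * hdx - 4 * x.1 1 0 ^ 2 * hd
        have h5 := (mul_eq_zero.mp h4).resolve_left (pow_ne_zero 2 h21)
        exact sub_eq_zero.mp h5
    · have h4 : N 0 1 ^ 2 * ((x.1 0 0 + x.1 1 1) ^ 2 - 4) = 0 := by
        linear_combination (N 0 1 * (x.1 1 1 - x.1 0 0) - 2 * N 0 0 * x.1 0 1) * h01
          + 4 * N 0 1 * x.1 0 1 * h00 + 4 * N 0 1 ^ 2 * hdx - 4 * x.1 0 1 ^ 2 * hd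
      have h5 := (mul_eq_zero.mp h4).resolve_left (pow_ne_zero 2 h12)
      exact sub_eq_zero.mp h5
  have h3 : (x.1.trace - 2) * (x.1.trace + 2) = 0 := by linear_combination h2
  rcases mul_eq_zero.mp h3 with h4 | h4
  · left
    exact eq_one_of_trace (sub_eq_zero.mp h4) hn hx
  · right
    have h5 : (-x).1.trace = 2 := by
      rw [Matrix.SpecialLinearGroup.coe_neg, Matrix.trace_neg]
      linear_combination -h4
    have h6 : (-x) ^ (2 * n) = 1 := by
      rw [pow_mul, neg_sq, ← pow_mul, mul_comm, pow_mul, hx, one_pow]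
    have h7 : (2 * n).Coprime p := by
      apply Nat.Coprime.mul_left _ hn
      exact (Nat.coprime_primes Nat.prime_two Fact.out).mpr hp.symm
    have h8 := eq_one_of_trace h5 h7 h6
    rw [← h8, neg_neg]

theorem trace_conj (c x : S2 k) : (c * x * c⁻¹).1.trace = x.1.trace := by
  rw [Matrix.SpecialLinearGroup.coe_mul, Matrix.trace_mul_comm, ← Matrix.SpecialLinearGroup.coe_mul,
    ← mul_assoc, inv_mul_cancel, one_mul]

/-- if `x` has `p'`-order, `x ≠ ± 1`, and `c` is unipotent of odd order, then `x` does not commute with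
`c x c⁻¹`, provided `x' x⁻¹` is of `p'`-order -/
theorem not_commute_conj {p : ℕ} [Fact p.Prime] [CharP k p] (hp : p ≠ 2) {c x : S2 k}
    (hc : (c.1 - 1) ^ 2 = 0) (hc1 : c ≠ 1) (hx1 : x ≠ 1) (hx2 : x ≠ -1)
    {n : ℕ} (hn : n.Coprime p) (hx : x ^ n = 1) (hxy : (c * x * c⁻¹ * x⁻¹) ^ n = 1) :
    ¬ Commute x (c * x * c⁻¹) := by
  intro hcom
  set x' := c * x * c⁻¹ with hx'
  have hcp : c ^ p = 1 := pow_char_of_unip hc
  -- c does not commute with x
  have h0 : ¬ Commute c x := by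
    intro h
    rcases eq_one_or_of_commute hp hc hc1 h hn hx with h | h
    · exact hx1 h
    · exact hx2 h
  have hne : x' ≠ x := by
    intro h
    apply h0
    rw [hx', mul_inv_eq_iff_eq_mul] at h
    exact h
  have htr : x'.1.trace = x.1.trace := trace_conj c x
  have hprod : (x'.1 - x.1) * (x'.1 - (x⁻¹ : S2 k).1) = 0 := by
    have h1 := sq_coe x'
    have h2 := inv_coe x
    have h3 : x.1 * x'.1 = x'.1 * x.1 := congrArg Subtype.val hcom.eq
    have h4 : x.1 * (x⁻¹ : S2 k).1 = 1 := congrArg Subtype.val (mul_inv_cancel x)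
    rw [htr] at h1
    rw [mul_sub, sub_mul, sub_mul, h4, h1, h3]
    have h5 : x'.1 * (x⁻¹ : S2 k).1 = x.1.trace • x'.1 - x'.1 * x.1 := by
      rw [h2, mul_sub, mul_smul_comm, mul_one]
    rw [h5]
    abel
  have hy : (x' * x⁻¹).1.trace ≠ 2 := by
    intro h
    have h1 := eq_one_of_trace h hn hxy
    exact hne (mul_inv_eq_one.mp h1)
  have hdet : ((x' * x⁻¹).1 - 1).det ≠ 0 := by
    intro h
    apply hy
    have h1 := det_eq (x' * x⁻¹)
    rw [Matrix.det_fin_two] at h
    simp only [Matrix.sub_apply, Matrix.one_apply_eq, ne_eq, zero_ne_one, not_false_eq_true,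
      Matrix.one_apply_ne, one_ne_zero, sub_zero] at h
    rw [Matrix.trace_fin_two]
    linear_combination h1 - h
  have hx'inv : x' = x⁻¹ := by
    have h1 : ((x' * x⁻¹).1 - 1) * (x.1 * (x'.1 - (x⁻¹ : S2 k).1)) = 0 := by
      have h2 : ((x' * x⁻¹).1 - 1) * x.1 = x'.1 - x.1 := by
        rw [sub_mul, one_mul, ← Matrix.SpecialLinearGroup.coe_mul, inv_mul_cancel_right]
      rw [← mul_assoc, h2, hprod]
    have h3 : x.1 * (x'.1 - (x⁻¹ : S2 k).1) = 0 := by
      have hu : IsUnit ((x' * x⁻¹).1 - 1) := (Matrix.isUnit_iff_isUnit_det _).mpr (Ne.isUnit hdet)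
      exact (hu.mul_right_eq_zero).mp h1
    have h4 : (x⁻¹ : S2 k).1 * (x.1 * (x'.1 - (x⁻¹ : S2 k).1)) = 0 := by rw [h3, mul_zero]
    rw [← mul_assoc, ← Matrix.SpecialLinearGroup.coe_mul, inv_mul_cancel] at h4
    apply Subtype.ext
    have h5 : (1 : Matrix (Fin 2) (Fin 2) k) * (x'.1 - (x⁻¹ : S2 k).1) = 0 := h4
    rw [one_mul] at h5
    exact sub_eq_zero.mp h5
  -- c² commutes with x
  have hc2 : Commute (c ^ 2) x := by
    have h1 : c * x * c⁻¹ = x⁻¹ := hx'inv
    have h2 : c * x⁻¹ * c⁻¹ = x := by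
      rw [← conj_inv, h1, inv_inv]
    change c ^ 2 * x = x * c ^ 2
    have h3 : c ^ 2 * x * (c ^ 2)⁻¹ = x := by
      calc c ^ 2 * x * (c ^ 2)⁻¹ = c * (c * x * c⁻¹) * c⁻¹ := by
            rw [pow_two, _root_.mul_inv_rev]
            simp only [mul_assoc]
        _ = x := by rw [h1, h2]
    exact mul_inv_eq_iff_eq_mul.mp h3
  apply h0
  -- c is a power of c²
  have hodd : Odd p := (Fact.out : p.Prime).odd_of_ne_two hp
  obtain ⟨m, hm⟩ := hodd
  have h1 : c = (c ^ 2) ^ (m + 1) := by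
    rw [← pow_mul]
    have : 2 * (m + 1) = p + 1 := by omega
    rw [this, pow_succ, hcp, one_mul]
  rw [h1]
  exact hc2.pow_left _

/-- trace formula -/
theorem trace_formula {c x : S2 k} (hc : (c.1 - 1) ^ 2 = 0) (hx : x.1.trace = 0) :
    (x * (c * x * c⁻¹)).1.trace = - 2 - (x.1 * (c.1 - 1)).trace ^ 2 := by
  have ht := trace_nil hc
  have hd := det_nil hc
  have hdx := det_eq x
  rw [Matrix.SpecialLinearGroup.coe_mul, Matrix.SpecialLinearGroup.coe_mul,
    Matrix.SpecialLinearGroup.coe_mul, inv_coe, trace_of_unip hc]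
  set N := c.1 - 1 with hN
  have hcN : c.1 = N + 1 := by rw [hN]; abel
  rw [hcN]
  have hn22 : N 1 1 = - N 0 0 := by linear_combination ht
  rw [Matrix.trace_fin_two] at hx
  have hx22 : x.1 1 1 = - x.1 0 0 := by linear_combination hx
  simp only [Matrix.trace_fin_two, Matrix.mul_apply, Fin.sum_univ_two, Matrix.add_apply,
    Matrix.one_apply_eq, ne_eq, zero_ne_one, not_false_eq_true, Matrix.one_apply_ne, one_ne_zero,
    Matrix.sub_apply, Matrix.smul_apply, smul_eq_mul]
  rw [hn22] at hd ⊢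
  rw [hx22] at hdx ⊢
  linear_combination -2 * hdx + 2 * (x.1 0 0 * -x.1 0 0 - x.1 0 1 * x.1 1 0) * hd

/-- generators of `SL(2, 3)` -/
def a₀ : S2 (ZMod 3) := ⟨!![1, 1; 0, 1], by decide⟩

/-- generators of `SL(2, 3)` -/
def x₀ : S2 (ZMod 3) := ⟨!![0, -1; 1, 0], by decide⟩

theorem gen_words : ∀ m : Matrix (Fin 2) (Fin 2) (ZMod 3), m.det = 1 →
    ∃ i : Fin 3, ∃ j : Fin 4, ∃ l : Fin 3, ∃ n : Fin 4,
      m = a₀.1 ^ i.val * x₀.1 ^ j.val * a₀.1 ^ l.val * x₀.1 ^ n.val := by
  decide +kernel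

theorem closure_gen : Subgroup.closure {a₀, x₀} = (⊤ : Subgroup (S2 (ZMod 3))) := by
  rw [eq_top_iff]
  intro m _
  obtain ⟨i, j, l, n, h⟩ := gen_words m.1 m.2
  have h1 : m = a₀ ^ i.val * x₀ ^ j.val * a₀ ^ l.val * x₀ ^ n.val := Subtype.ext h
  rw [h1]
  have ha : a₀ ∈ Subgroup.closure ({a₀, x₀} : Set (S2 (ZMod 3))) :=
    Subgroup.subset_closure (by simp)
  have hx : x₀ ∈ Subgroup.closure ({a₀, x₀} : Set (S2 (ZMod 3))) :=
    Subgroup.subset_closure (by simp)
  exact Subgroup.mul_mem _ (Subgroup.mul_mem _ (Subgroup.mul_mem _ (Subgroup.pow_mem _ ha _)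
    (Subgroup.pow_mem _ hx _)) (Subgroup.pow_mem _ ha _)) (Subgroup.pow_mem _ hx _)


/-- If `N ≠ 0`, `N ^ 2 = 0`, `x² = -1` and `tr (x N) = 1` then `x, 1 + N` are simultaneously conjugate to the
standard generators of `SL(2, 3)`. -/
theorem exists_conj {c x : S2 k} (hc : (c.1 - 1) ^ 2 = 0) (hx : x.1.trace = 0)
    (ht : (x.1 * (c.1 - 1)).trace = 1) :
    ∃ g : Matrix (Fin 2) (Fin 2) k, g.det ≠ 0 ∧ c.1 * g = g * !![1, 1; 0, 1] ∧
      x.1 * g = g * !![0, -1; 1, 0] := by
  have htN := trace_nil hc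
  have hdN := det_nil hc
  have hdx := det_eq x
  set N := c.1 - 1 with hN
  have hcN : c.1 = N + 1 := by rw [hN]; abel
  rw [hcN]
  have hn22 : N 1 1 = - N 0 0 := by linear_combination htN
  rw [Matrix.trace_fin_two] at hx
  have hx22 : x.1 1 1 = - x.1 0 0 := by linear_combination hx
  simp only [Matrix.trace_fin_two, Matrix.mul_apply, Fin.sum_univ_two] at ht
  rw [hn22] at hdN ht
  rw [hx22] at hdx ht
  by_cases h21 : N 1 0 = 0
  · have h11 : N 0 0 = 0 := by
      rw [h21] at hdN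
      have : N 0 0 ^ 2 = 0 := by linear_combination -hdN
      exact pow_eq_zero_iff (two_ne_zero) |>.1 this
    have h12 : N 0 1 ≠ 0 := by
      intro h
      rw [h, h11, h21] at ht
      simp at ht
    rw [h21, h11] at ht
    refine ⟨!![N 0 1, x.1 0 0 * N 0 1; 0, x.1 1 0 * N 0 1], ?_, ?_, ?_⟩
    · rw [Matrix.det_fin_two_of]
      intro h
      apply h12
      linear_combination h - N 0 1 * ht
    · ext i j
      fin_cases i <;> fin_cases j <;> simp [Matrix.mul_apply, Fin.sum_univ_two, h11, h21, hn22]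
      linear_combination N 0 1 * ht
    · ext i j
      fin_cases i <;> fin_cases j <;> simp [Matrix.mul_apply, Fin.sum_univ_two, hx22]
      · linear_combination -N 0 1 * hdx
      · ring
  · refine ⟨!![N 0 0, x.1 0 0 * N 0 0 + x.1 0 1 * N 1 0; N 1 0, x.1 1 0 * N 0 0 - x.1 0 0 * N 1 0],
      ?_, ?_, ?_⟩
    · rw [Matrix.det_fin_two_of]
      intro h
      apply h21
      linear_combination -1 * h - N 1 0 * ht - x.1 1 0 * hdN
    · ext i j
      fin_cases i <;> fin_cases j <;> simp [Matrix.mul_apply, Fin.sum_univ_two, hn22]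
      · linear_combination -1 * hdN
      · linear_combination N 0 0 * ht + x.1 0 0 * hdN
      · ring
      · linear_combination N 1 0 * ht + x.1 1 0 * hdN
    · ext i j
      fin_cases i <;> fin_cases j <;> simp [Matrix.mul_apply, Fin.sum_univ_two, hx22]
      · linear_combination -N 0 0 * hdx
      · ring
      · linear_combination -N 1 0 * hdx

/-- the subgroup generated by such a pair is isomorphic to `SL(2, 3)` -/
theorem closure_equiv [CharP k 3] {c x : S2 k} (hc : (c.1 - 1) ^ 2 = 0) (hx : x.1.trace = 0)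
    (ht : (x.1 * (c.1 - 1)).trace = 1) :
    Nonempty (Subgroup.closure {c, x} ≃* S2 (ZMod 3)) := by
  obtain ⟨g, hg, hcg, hxg⟩ := exists_conj hc hx ht
  let f : ZMod 3 →+* k := ZMod.castHom (dvd_refl 3) k
  let G : GL (Fin 2) k := Matrix.GeneralLinearGroup.mkOfDetNeZero g hg
  let F : S2 (ZMod 3) →* S2 k := Matrix.SpecialLinearGroup.map f
  have hF : Function.Injective F := by
    intro u v huv
    apply Subtype.ext
    ext i j
    apply f.injective
    have h1 := congrArg (fun z : S2 k => z.1 i j) huv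
    exact h1
  have hgg : g * g⁻¹ = 1 := Matrix.mul_nonsing_inv g (Ne.isUnit hg)
  have hgg' : g⁻¹ * g = 1 := Matrix.nonsing_inv_mul g (Ne.isUnit hg)
  let Φ : S2 (ZMod 3) →* S2 k :=
    { toFun := fun z => ⟨g * (F z).1 * g⁻¹, by
        rw [Matrix.det_mul, Matrix.det_mul, (F z).2, mul_one, ← Matrix.det_mul, hgg, Matrix.det_one]⟩
      map_one' := by
        apply Subtype.ext
        change g * (F 1).1 * g⁻¹ = 1
        rw [map_one]
        change g * 1 * g⁻¹ = 1
        rw [mul_one, hgg]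
      map_mul' := fun u v => by
        apply Subtype.ext
        change g * (F (u * v)).1 * g⁻¹ = g * (F u).1 * g⁻¹ * (g * (F v).1 * g⁻¹)
        rw [map_mul]
        change g * ((F u).1 * (F v).1) * g⁻¹ = g * (F u).1 * g⁻¹ * (g * (F v).1 * g⁻¹)
        rw [show g * (F u).1 * g⁻¹ * (g * (F v).1 * g⁻¹) = g * (F u).1 * (g⁻¹ * g) * (F v).1 * g⁻¹ by
          simp only [Matrix.mul_assoc], hgg', mul_one]
        simp only [Matrix.mul_assoc] }
  have hΦ : ∀ z, (Φ z).1 = g * (F z).1 * g⁻¹ := fun _ => rfl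
  have hΦinj : Function.Injective Φ := by
    intro u v huv
    apply hF
    apply Subtype.ext
    have h1 := congrArg Subtype.val huv
    rw [hΦ, hΦ] at h1
    have h2 : g⁻¹ * (g * (F u).1 * g⁻¹) * g = g⁻¹ * (g * (F v).1 * g⁻¹) * g := by rw [h1]
    rw [show g⁻¹ * (g * (F u).1 * g⁻¹) * g = (g⁻¹ * g) * (F u).1 * (g⁻¹ * g) by
      simp only [Matrix.mul_assoc], show g⁻¹ * (g * (F v).1 * g⁻¹) * g = (g⁻¹ * g) * (F v).1 * (g⁻¹ * g) by
      simp only [Matrix.mul_assoc], hgg', one_mul, mul_one, one_mul, mul_one] at h2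
    exact h2
  have ha0 : Φ a₀ = c := by
    apply Subtype.ext
    rw [hΦ]
    have h1 : (F a₀).1 = !![1, 1; 0, 1] := by
      have h0 : (F a₀).1 = (!![1, 1; 0, 1] : Matrix (Fin 2) (Fin 2) (ZMod 3)).map f := rfl
      rw [h0]
      ext i j
      fin_cases i <;> fin_cases j <;> simp
    rw [h1, ← hcg, Matrix.mul_assoc, hgg, mul_one]
  have hx0 : Φ x₀ = x := by
    apply Subtype.ext
    rw [hΦ]
    have h1 : (F x₀).1 = !![0, -1; 1, 0] := by
      have h0 : (F x₀).1 = (!![0, -1; 1, 0] : Matrix (Fin 2) (Fin 2) (ZMod 3)).map f := rfl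
      rw [h0]
      ext i j
      fin_cases i <;> fin_cases j <;> simp
    rw [h1, ← hxg, Matrix.mul_assoc, hgg, mul_one]
  have hr : Φ.range = Subgroup.closure {c, x} := by
    rw [MonoidHom.range_eq_map, ← closure_gen, MonoidHom.map_closure, Set.image_pair, ha0, hx0]
  rw [← hr]
  exact ⟨(MonoidHom.ofInjective hΦinj).symm⟩

/-- **Main theorem of the file.** -/
theorem main {p : ℕ} [Fact p.Prime] [CharP k p] (hp : p ≠ 2) {a : S2 k}
    (ha : (a.1 - 1) ^ 2 = 0) (R : Subgroup (S2 k)) {n : ℕ} (hn : n.Coprime p)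
    (hR : ∀ x ∈ R, x ^ n = 1) (hinv : ∀ x ∈ R, a * x * a⁻¹ ∈ R)
    (hcomm : ∀ x ∈ R, ∀ y ∈ R, Commute a ⁅x, y⁆) (hnc : ∃ x ∈ R, ¬ Commute a x) :
    p = 3 ∧ ∃ x ∈ R, Nonempty (Subgroup.closure {a, x} ≃* S2 (ZMod 3)) := by
  obtain ⟨x, hxR, hxc⟩ := hnc
  have ha1 : a ≠ 1 := by
    rintro rfl
    exact hxc (Commute.one_left x)
  have hx1 : x ≠ 1 := by
    rintro rfl
    exact hxc (Commute.one_right a)
  have hx2 : x ≠ -1 := by
    rintro rfl
    exact hxc (Commute.neg_one_right a)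
  have h2 : (2 : k) ≠ 0 := by
    intro h
    have h1 : ((2 : ℕ) : k) = 0 := by exact_mod_cast h
    rw [CharP.cast_eq_zero_iff k p] at h1
    exact hp ((Nat.prime_dvd_prime_iff_eq Fact.out Nat.prime_two).mp h1)
  have hap : a ^ p = 1 := pow_char_of_unip ha
  -- general fact for `c = a` and `c = a ^ 2`
  have key : ∀ c : S2 k, (c.1 - 1) ^ 2 = 0 → c ≠ 1 → (∀ y ∈ R, c * y * c⁻¹ ∈ R) →
      (x * (c * x * c⁻¹)).1.trace = 0 ∧ x.1.trace = 0 := by
    intro c hc hc1 hcR
    have hx'R := hcR x hxR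
    have h3 := not_commute_conj hp hc hc1 hx1 hx2 hn (hR x hxR)
      (hR _ (R.mul_mem hx'R (R.inv_mem hxR)))
    set x' := c * x * c⁻¹ with hx'
    have h4 := eq_one_or_of_commute hp ha ha1 (hcomm x hxR x' hx'R) hn
      (hR _ (R.mul_mem (R.mul_mem (R.mul_mem hxR hx'R) (R.inv_mem hxR)) (R.inv_mem hx'R)))
    rcases h4 with h4 | h4
    · exact absurd (commutatorElement_eq_one_iff_commute.mp h4) h3
    · have h5 : x * x' = - (x' * x) := by
        rw [commutatorElement_def, mul_inv_eq_iff_eq_mul, mul_inv_eq_iff_eq_mul] at h4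
        rw [h4, neg_mul, neg_mul, one_mul]
      constructor
      · have h6 : (x * x').1.trace = - (x * x').1.trace := by
          have h8 : (x' * x).1.trace = (x * x').1.trace := by
            rw [Matrix.SpecialLinearGroup.coe_mul x' x, Matrix.SpecialLinearGroup.coe_mul x x',
              Matrix.trace_mul_comm]
          conv_lhs => rw [h5]
          rw [Matrix.SpecialLinearGroup.coe_neg, Matrix.trace_neg, h8]
        have h7 : 2 * (x * x').1.trace = 0 := by linear_combination h6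
        exact (mul_eq_zero.mp h7).resolve_left h2
      · have h6 : x' * x * x'⁻¹ = -x := by
          rw [mul_inv_eq_iff_eq_mul, neg_mul, h5, neg_neg]
        have h7 := trace_conj x' x
        rw [h6, Matrix.SpecialLinearGroup.coe_neg, Matrix.trace_neg] at h7
        have h8 : 2 * x.1.trace = 0 := by linear_combination -h7
        exact (mul_eq_zero.mp h8).resolve_left h2
  obtain ⟨k1, hxt⟩ := key a ha ha1 hinv
  -- a²
  have ha2N : (a ^ 2 : S2 k).1 - 1 = (2 : k) • (a.1 - 1) := by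
    have h3 : (a.1 - 1) * (a.1 - 1) = 0 := by rw [← pow_two, ha]
    have h4 : (a ^ 2 : S2 k).1 = a.1 * a.1 := by rw [Matrix.SpecialLinearGroup.coe_pow, pow_two]
    rw [h4, two_smul]
    have h5 : a.1 * a.1 - 1 = (a.1 - 1) * (a.1 - 1) + ((a.1 - 1) + (a.1 - 1)) := by
      noncomm_ring
    rw [h5, h3, zero_add]
  have ha2 : ((a ^ 2 : S2 k).1 - 1) ^ 2 = 0 := by
    rw [ha2N, smul_pow, ha, smul_zero]
  have ha21 : a ^ 2 ≠ 1 := by
    intro h
    have h3 : Nat.Coprime 2 p := (Nat.coprime_primes Nat.prime_two Fact.out).mpr hp.symm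
    have h4 := Nat.Coprime.eq_one_of_dvd (h3.coprime_dvd_left (orderOf_dvd_of_pow_eq_one h))
      (orderOf_dvd_of_pow_eq_one hap)
    exact ha1 (orderOf_eq_one_iff.mp h4)
  have ha2R : ∀ y ∈ R, a ^ 2 * y * (a ^ 2)⁻¹ ∈ R := by
    intro y hy
    have h3 := hinv _ (hinv y hy)
    have h4 : a ^ 2 * y * (a ^ 2)⁻¹ = a * (a * y * a⁻¹) * a⁻¹ := by
      rw [pow_two, _root_.mul_inv_rev]
      simp only [mul_assoc]
    rwa [h4]
  obtain ⟨k2, -⟩ := key (a ^ 2) ha2 ha21 ha2R
  rw [trace_formula ha hxt] at k1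
  rw [trace_formula ha2 hxt, ha2N, mul_smul_comm, Matrix.trace_smul, smul_eq_mul] at k2
  set γ := (x.1 * (a.1 - 1)).trace with hγ
  have h3 : (3 : k) = 0 := by
    have h4 : (2 : k) * 3 = 0 := by linear_combination k2 - 4 * k1
    exact (mul_eq_zero.mp h4).resolve_left h2
  have hp3 : p = 3 := by
    have h1 : ((3 : ℕ) : k) = 0 := by exact_mod_cast h3
    rw [CharP.cast_eq_zero_iff k p] at h1
    exact (Nat.prime_dvd_prime_iff_eq Fact.out Nat.prime_three).mp h1
  subst hp3
  refine ⟨rfl, ?_⟩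
  have h4 : (γ - 1) * (γ + 1) = 0 := by linear_combination -k1 - h3
  rcases mul_eq_zero.mp h4 with h5 | h5
  · exact ⟨x, hxR, closure_equiv ha hxt (sub_eq_zero.mp h5)⟩
  · have h6 : (x⁻¹ : S2 k).1 = - x.1 := by
      rw [inv_coe, hxt, zero_smul, zero_sub]
    refine ⟨x⁻¹, R.inv_mem hxR, closure_equiv ha ?_ ?_⟩
    · rw [h6, Matrix.trace_neg, hxt, neg_zero]
    · rw [h6, neg_mul, Matrix.trace_neg]
      linear_combination -h5

end Cfsg.Agent.PLocal.SL2Section
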