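import Mathlib
import Cfsg.Agent.PLocal.SL2Section

/-!
# Coprime action: a noncentralised invariant subgroup whose commutators are centralised

and its application to `p'`-subgroups of `SL(2, k)` normalised by a unipotent element.
-/

set_option autoImplicit false

namespace Cfsg.Agent.PLocal.SL2Section2

open scoped commutatorElement Pointwise

/-- restriction of an automorphism of a finite group to an invariant subgroup -/
noncomputable def restr {R : Type*} [Group R] [Finite R] (θ : MulAut R) (L : Subgroup R)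
    (h : ∀ x ∈ L, θ x ∈ L) : MulAut L :=
  MulEquiv.ofBijective ((θ.toMonoidHom.comp L.subtype).codRestrict L (fun x => h x x.2))
    (Finite.injective_iff_bijective.mp (fun x y hxy => by
      apply Subtype.ext
      apply θ.injective
      exact congrArg Subtype.val hxy))

theorem coe_restr {R : Type*} [Group R] [Finite R] (θ : MulAut R) (L : Subgroup R)
    (h : ∀ x ∈ L, θ x ∈ L) (x : L) : ((restr θ L h x : L) : R) = θ x := rfl

theorem coe_restr_pow {R : Type*} [Group R] [Finite R] (θ : MulAut R) (L : Subgroup R)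
    (h : ∀ x ∈ L, θ x ∈ L) (m : ℕ) (x : L) :
    ((((restr θ L h) ^ m) x : L) : R) = (θ ^ m) x := by
  induction m generalizing x with
  | zero => rfl
  | succ m ih =>
    rw [pow_succ, pow_succ, MulAut.mul_apply, MulAut.mul_apply, ih, coe_restr]

/-- an automorphism of `p`-power order of a `p'`-group leaves a Sylow `r`-subgroup invariant -/
theorem exists_invariant_sylow {R : Type*} [Group R] [Finite R] {p : ℕ} [Fact p.Prime]
    (θ : MulAut R) (hθ : ∃ n : ℕ, θ ^ (p ^ n) = 1) (hR : (Nat.card R).Coprime p)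
    (r : ℕ) [Fact r.Prime] : ∃ P : Sylow r R, ∀ x ∈ P, θ x ∈ P := by
  have hA : IsPGroup p (Subgroup.zpowers θ) := by
    obtain ⟨n, hn⟩ := hθ
    apply IsPGroup.of_card_dvd_pow
    rw [Nat.card_zpowers]
    exact orderOf_dvd_of_pow_eq_one hn
  obtain ⟨P₀⟩ : Nonempty (Sylow r R) := inferInstance
  have hcard : ¬ p ∣ Nat.card (Sylow r R) := by
    intro h
    have h1 : p ∣ Nat.card R := h.trans (P₀.card_dvd_index.trans (Subgroup.index_dvd_card _))
    have h2 := Nat.Coprime.eq_one_of_dvd hR.symm h1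
    exact (Fact.out : p.Prime).one_lt.ne' h2
  obtain ⟨P, hP⟩ := hA.nonempty_fixed_point_of_prime_not_dvd_card (Sylow r R) hcard
  refine ⟨P, fun x hx => ?_⟩
  have h1 : (⟨θ, Subgroup.mem_zpowers θ⟩ : Subgroup.zpowers θ) • P = P := hP _
  have h2 : θ x ∈ (⟨θ, Subgroup.mem_zpowers θ⟩ : Subgroup.zpowers θ) • P := by
    exact Subgroup.smul_mem_pointwise_smul x (⟨θ, Subgroup.mem_zpowers θ⟩ : Subgroup.zpowers θ) 
      (P : Subgroup R) hx
  rwa [h1] at h2

/-- A nontrivial automorphism of `p`-power order of a finite `p'`-group leaves invariant a subgroup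
on which it acts nontrivially but all of whose commutators it fixes. -/
theorem exists_commutator_fixed {p : ℕ} [Fact p.Prime] (N : ℕ) :
    ∀ {R : Type*} [Group R] [Finite R] (_ : Nat.card R = N)
    (θ : MulAut R) (_ : ∃ n : ℕ, θ ^ (p ^ n) = 1) (_ : (Nat.card R).Coprime p) (_ : θ ≠ 1),
    ∃ M : Subgroup R, (∀ x ∈ M, θ x ∈ M) ∧ (∃ x ∈ M, θ x ≠ x) ∧
      ∀ x ∈ M, ∀ y ∈ M, θ ⁅x, y⁆ = ⁅x, y⁆ := by
  induction N using Nat.strong_induction_on with
  | _ N ih =>
  intro R _ _ hN θ hθ hR hne
  by_cases hcase : ∃ L : Subgroup R, L ≠ ⊤ ∧ (∀ x ∈ L, θ x ∈ L) ∧ ∃ x ∈ L, θ x ≠ x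
  · obtain ⟨L, hL, hinv, x, hx, hxne⟩ := hcase
    have hlt : Nat.card L < N := by
      rw [← hN]
      exact lt_of_le_of_ne (Subgroup.card_le_card_group L) (fun h => hL (Subgroup.eq_top_of_card_eq _ h))
    have e1 : ∃ n : ℕ, restr θ L hinv ^ (p ^ n) = 1 := by
      obtain ⟨n, hn⟩ := hθ
      refine ⟨n, ?_⟩
      ext z
      rw [coe_restr_pow, hn]
      rfl
    have e2 : (Nat.card L).Coprime p :=
      Nat.Coprime.coprime_dvd_left (Subgroup.card_subgroup_dvd_card L) hR
    have e3 : restr θ L hinv ≠ 1 := by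
      intro h
      apply hxne
      have := congrArg (fun φ : MulAut L => ((φ ⟨x, hx⟩ : L) : R)) h
      exact this
    obtain ⟨M, h1, ⟨y, hyM, hy⟩, h3⟩ := ih _ hlt rfl (restr θ L hinv) e1 e2 e3
    refine ⟨M.map L.subtype, ?_, ⟨y, ⟨y, hyM, rfl⟩, ?_⟩, ?_⟩
    · rintro _ ⟨z, hz, rfl⟩
      exact ⟨_, h1 z hz, rfl⟩
    · intro h
      exact hy (Subtype.ext h)
    · rintro _ ⟨z, hz, rfl⟩ _ ⟨w, hw, rfl⟩
      exact congrArg Subtype.val (h3 z hz w hw)
  · push Not at hcase
    by_cases hcomm : commutator R = ⊤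
    · exfalso
      -- the fixed point subgroup
      let F : Subgroup R := MonoidHom.eqLocus θ.toMonoidHom (MonoidHom.id R)
      have hF : ∀ x, x ∈ F ↔ θ x = x := fun _ => Iff.rfl
      by_cases hFt : F = ⊤
      · apply hne
        ext x
        exact (hF x).mp (by rw [hFt]; trivial)
      · have h1 : F.index ≠ 1 := by rwa [ne_eq, Subgroup.index_eq_one]
        obtain ⟨r, hr, hrF⟩ := Nat.exists_prime_and_dvd h1
        have : Fact r.Prime := ⟨hr⟩
        obtain ⟨P, hP⟩ := exists_invariant_sylow θ hθ hR r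
        by_cases hPt : (P : Subgroup R) = ⊤
        · have h2 : IsPGroup r R := by
            have h3 := P.2
            rw [hPt] at h3
            exact h3.of_equiv Subgroup.topEquiv
          have h3 : Group.IsNilpotent R := h2.isNilpotent
          have h4 : Nontrivial R := by
            by_contra hcon
            rw [not_nontrivial_iff_subsingleton] at hcon
            exact hne (MulEquiv.ext fun x => Subsingleton.elim _ _)
          exact (Group.IsSolvable.commutator_lt_top_of_nontrivial R).ne hcomm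
        · have h2 : (P : Subgroup R) ≤ F := fun x hx => hcase P hPt hP x hx
          have h3 : r ∣ (P : Subgroup R).index := hrF.trans (Subgroup.index_dvd_of_le h2)
          exact P.not_dvd_index h3
    · have h1 : ∀ x ∈ commutator R, θ x = x := by
        apply hcase _ hcomm
        intro x hx
        have h2 : (commutator R).map θ.toMonoidHom ≤ commutator R := by
          rw [commutator_def, Subgroup.map_commutator]
          exact Subgroup.commutator_mono le_top le_top
        exact h2 ⟨x, hx, rfl⟩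
      refine ⟨⊤, fun x _ => trivial, ?_, ?_⟩
      · by_contra hcon
        push Not at hcon
        exact hne (MulEquiv.ext fun x => hcon x trivial)
      · intro x _ y _
        exact h1 _ (Subgroup.commutator_mem_commutator (Subgroup.mem_top x) (Subgroup.mem_top y))

/-- A finite `p'`-subgroup of `SL(2, k)`, `k` of characteristic `p ≠ 2`, normalised but not centralised by
a unipotent element `a`: then `p = 3` and `a` generates with some `x ∈ Q` a subgroup isomorphic to
`SL(2, 3)`. -/
theorem exists_sl_two_three {k : Type*} [Field k] {p : ℕ} [Fact p.Prime] [CharP k p] (hp : p ≠ 2)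
    (Q : Subgroup (Matrix.SpecialLinearGroup (Fin 2) k)) [Finite Q] (hQ : (Nat.card Q).Coprime p)
    (a : Matrix.SpecialLinearGroup (Fin 2) k) (ha : (a.1 - 1) ^ 2 = 0)
    (hn : ∀ x ∈ Q, a * x * a⁻¹ ∈ Q) (hnc : ∃ x ∈ Q, ¬ Commute a x) :
    p = 3 ∧ ∃ x ∈ Q, Nonempty (Subgroup.closure {a, x} ≃*
      Matrix.SpecialLinearGroup (Fin 2) (ZMod 3)) := by
  have hap : a ^ p = 1 := SL2Section.pow_char_of_unip ha
  -- the automorphism
  let f : Q →* Q := ((MulAut.conj a).toMonoidHom.comp Q.subtype).codRestrict Q (fun x => hn x x.2)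
  have hf : ∀ x : Q, ((f x : Q) : Matrix.SpecialLinearGroup (Fin 2) k) = a * x * a⁻¹ := fun _ => rfl
  have hfinj : Function.Injective f := by
    intro x y hxy
    have h1 := congrArg Subtype.val hxy
    rw [hf, hf] at h1
    exact Subtype.ext (mul_left_cancel (mul_right_cancel h1))
  let θ : MulAut Q := MulEquiv.ofBijective f (Finite.injective_iff_bijective.mp hfinj)
  have hθ : ∀ x : Q, ((θ x : Q) : Matrix.SpecialLinearGroup (Fin 2) k) = a * x * a⁻¹ := fun _ => rfl
  have hθpow : ∀ (m : ℕ) (x : Q), (((θ ^ m) x : Q) : Matrix.SpecialLinearGroup (Fin 2) k) =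
      a ^ m * x * (a ^ m)⁻¹ := by
    intro m
    induction m with
    | zero => intro x; simp
    | succ m ih =>
      intro x
      rw [pow_succ, MulAut.mul_apply, ih, hθ, pow_succ, mul_inv_rev]
      simp only [mul_assoc]
  have h1 : ∃ n : ℕ, θ ^ (p ^ n) = 1 := by
    refine ⟨1, ?_⟩
    ext x : 2
    rw [hθpow, pow_one, hap]
    simp
  have h2 : θ ≠ 1 := by
    intro h
    obtain ⟨x, hx, hxc⟩ := hnc
    apply hxc
    have h3 : ((θ ⟨x, hx⟩ : Q) : Matrix.SpecialLinearGroup (Fin 2) k) = x := by rw [h]; rfl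
    rw [hθ, mul_inv_eq_iff_eq_mul] at h3
    exact h3
  obtain ⟨M, hM1, ⟨y, hyM, hy⟩, hM2⟩ := exists_commutator_fixed _ rfl θ h1 hQ h2
  have hcom : ∀ z : Q, θ z = z ↔ Commute a (z : Matrix.SpecialLinearGroup (Fin 2) k) := by
    intro z
    constructor
    · intro h
      have h3 := congrArg Subtype.val h
      rw [hθ, mul_inv_eq_iff_eq_mul] at h3
      exact h3
    · intro h
      apply Subtype.ext
      rw [hθ, mul_inv_eq_iff_eq_mul]
      exact h.eq
  obtain ⟨h3, x, hx, h4⟩ := SL2Section.main hp ha (M.map Q.subtype) hQ (n := Nat.card Q)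
    (by
      rintro _ ⟨z, _, rfl⟩
      exact congrArg Subtype.val (pow_card_eq_one' (x := z)))
    (by
      rintro _ ⟨z, hz, rfl⟩
      exact ⟨θ z, hM1 z hz, rfl⟩)
    (by
      rintro _ ⟨z, hz, rfl⟩ _ ⟨w, hw, rfl⟩
      exact (hcom ⁅z, w⁆).mp (hM2 z hz w hw))
    ⟨y, ⟨y, hyM, rfl⟩, fun h => hy ((hcom y).mpr h)⟩
  refine ⟨h3, x, ?_, h4⟩
  obtain ⟨z, _, rfl⟩ := hx
  exact z.2

end Cfsg.Agent.PLocal.SL2Section2
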