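import Mathlib
import Cfsg.Agent.Lib.HallHigman
import Cfsg.Agent.Lib.PSolvable

/-!
The `p'`-version of the Hall–Higman Lemma 1.2.3: in a finite `p`-solvable group with trivial `p`-core the `p'`-core
contains its centralizer.
-/

set_option autoImplicit false

namespace Cfsg.Agent.PLocal.HallHigmanPrime

open Cfsg.Agent.Lib.HallHigman

variable {G : Type*} [Group G]

/-- general form, with the separability hypothesis about normal sections. -/
theorem centralizer_pPrimeCore_le_of_sep [Finite G] (p : ℕ) [Fact p.Prime]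
    (h : Cfsg.pCore p G = ⊥)
    (hsep : ∀ N K : Subgroup G, N.Normal → K.Normal → N < K →
      ∃ L : Subgroup G, L.Normal ∧ N < L ∧ L ≤ K ∧
        ((∃ m : ℕ, N.relIndex L = p ^ m) ∨ (N.relIndex L).Coprime p)) :
    Subgroup.centralizer (Cfsg.pPrimeCore p G : Set G) ≤ Cfsg.pPrimeCore p G := by
  have hQn : (Cfsg.pPrimeCore p G).Normal := Cfsg.Agent.Lib.HallHigman.pPrimeCore_normal p
  have hQp := pPrimeCore_coprime (G := G) p
  set Q := Cfsg.pPrimeCore p G with hQ
  set C := Subgroup.centralizer (Q : Set G) with hC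
  have hCn : C.Normal := inferInstance
  by_contra hnot
  have hlt : C ⊓ Q < C := lt_of_le_of_ne inf_le_left (fun he => hnot (inf_eq_left.mp he))
  obtain ⟨L, hLn, hZL, hLC, hL⟩ := hsep (C ⊓ Q) C inferInstance inferInstance hlt
  have := hLn
  set Z := C ⊓ Q with hZ
  have hZn : Z.Normal := inferInstance
  have hk : (Nat.card Z).Coprime p :=
    Nat.Coprime.coprime_dvd_left (Subgroup.card_dvd_of_le inf_le_right) hQp
  have hcard : Nat.card Z * Z.relIndex L = Nat.card L := card_mul_relIndex' hZL.le
  rcases hL with ⟨m, hm⟩ | hcop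
  · -- complement
    have hcop' : (Nat.card (Z.subgroupOf L)).Coprime (Z.subgroupOf L).index := by
      have h1 : Nat.card (Z.subgroupOf L) = Nat.card Z :=
        Nat.card_congr (Subgroup.subgroupOfEquivOfLe hZL.le).toEquiv
      rw [h1]
      have h2 : (Z.subgroupOf L).index = p ^ m := hm
      rw [h2]
      exact Nat.Coprime.pow_right m hk
    obtain ⟨R, hR⟩ := Subgroup.exists_right_complement'_of_coprime hcop'
    have hRcard : Nat.card R = Z.relIndex L := by
      have := hR.card_mul_card
      rw [← (Z.subgroupOf L).card_mul_index] at this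
      exact Nat.eq_of_mul_eq_mul_left Nat.card_pos this
    -- `R` is normal in `G`
    let R' := R.map L.subtype
    have hR'L : R' ≤ L := Subgroup.map_subtype_le R
    have hR'card : Nat.card R' = Z.relIndex L := by
      rw [← hRcard]
      exact Nat.card_congr (R.equivMapOfInjective L.subtype L.subtype_injective).toEquiv.symm
    have hR'n : R'.Normal := by
      refine ⟨fun r hr g => ?_⟩
      have h1 : g * r * g⁻¹ ∈ L := hLn.conj_mem r (hR'L hr) g
      obtain ⟨⟨z, y⟩, hzy⟩ := (hR.existsUnique ⟨g * r * g⁻¹, h1⟩).exists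
      have hz : (z : L).1 ∈ Z := z.2
      have hy : (y : L).1 ∈ R' := ⟨y.1, y.2, rfl⟩
      have hzy' : (z : L).1 * (y : L).1 = g * r * g⁻¹ := congrArg Subtype.val hzy
      have hcomm : Commute (z : L).1 (y : L).1 := by
        have h2 : (y : L).1 ∈ C := hLC (hR'L hy)
        exact (Subgroup.mem_centralizer_iff.mp h2) _ (Subgroup.mem_inf.mp hz).2
      have hpow : (g * r * g⁻¹) ^ (Nat.card R') = 1 := by
        rw [conj_pow]
        rw [pow_card_of_mem hr]; simp
      have hypow : (y : L).1 ^ (Nat.card R') = 1 := pow_card_of_mem hy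
      rw [← hzy', hcomm.mul_pow, hypow, mul_one] at hpow
      have hz1 : (z : L).1 = 1 := by
        have h3 : orderOf (z : L).1 ∣ Nat.card R' := orderOf_dvd_of_pow_eq_one hpow
        have h4 : orderOf (z : L).1 ∣ Nat.card Z := by
          have := orderOf_dvd_natCard (⟨_, hz⟩ : Z)
          simpa using this
        have h5 : (Nat.card R').Coprime (Nat.card Z) := by
          rw [hR'card, hm]; exact (Nat.Coprime.pow_right m hk).symm
        have h6 := Nat.eq_one_of_dvd_coprimes h5 h3 h4
        exact orderOf_eq_one_iff.mp h6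
      rw [← hzy', hz1, one_mul]
      exact hy
    have hR'le : R' ≤ ⊥ := by
      rw [← h]
      exact le_pCore hR'n (IsPGroup.of_card (n := m) (by rw [hR'card]; exact hm))
    have : Z.relIndex L = 1 := by
      rw [← hR'card, le_bot_iff.mp hR'le]; simp
    exact absurd (Subgroup.relIndex_eq_one.mp this) (not_le_of_gt hZL)
  · have hLp : (Nat.card L).Coprime p := by
      rw [← hcard]
      exact Nat.Coprime.mul_left hk hcop
    exact absurd (le_inf hLC (le_pPrimeCore hLn hLp)) (not_le_of_gt hZL)

/-- **Hall–Higman Lemma 1.2.3**, `p'`-version for `p`-solvable groups: if `O_p(G) = 1` then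
`C_G(O_{p'}(G)) ≤ O_{p'}(G)`. -/
theorem centralizer_pPrimeCore_le_of_pSolvable [Finite G] (p : ℕ) [Fact p.Prime]
    (hG : Cfsg.IsPSolvable p G) (h : Cfsg.pCore p G = ⊥) :
    Subgroup.centralizer (Cfsg.pPrimeCore p G : Set G) ≤ Cfsg.pPrimeCore p G :=
  centralizer_pPrimeCore_le_of_sep p h (Cfsg.Agent.Lib.PSolvable.sep_of_pSolvable p hG)

end Cfsg.Agent.PLocal.HallHigmanPrime
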