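import Mathlib
import Cfsg.Prelude.Def_Transfer

/-!
# The linear representation attached to a faithful action on an elementary abelian group
-/

set_option autoImplicit false

open scoped commutatorElement

namespace Cfsg.Agent.PLocal.QuadRep

/-- An action of a group `E` by automorphisms of a finite elementary abelian `p`-group `A`, in matrix form
over `ZMod p`. -/
theorem exists_matrix_rep_of_mulAut {p : ℕ} [Fact p.Prime] {A : Type*} [CommGroup A] [Finite A]
    (hexp : ∀ a : A, a ^ p = 1) {E : Type*} [Group E] (φ : E →* MulAut A) :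
    ∃ (n : ℕ) (ρ : E →* Matrix (Fin n) (Fin n) (ZMod p)), (∀ x, ρ x = 1 → φ x = 1) ∧
      (∀ x, φ x = 1 → ρ x = 1) ∧
      ∀ x, (∀ v, φ x (φ x v * v⁻¹) = φ x v * v⁻¹) → (ρ x - 1) ^ 2 = 0 := by
  classical
  -- `have`, not `let`: with a transparent instance the coercion of `Module.End` is not found
  have : Module (ZMod p) (Additive A) := AddCommGroup.zmodModule (n := p) (fun x => by
    exact hexp x.toMul)
  have hfin : Module.Finite (ZMod p) (Additive A) := Module.Finite.of_finite
  let act : E →* Module.End (ZMod p) (Additive A) :=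
    { toFun := fun x => ((MonoidHom.toAdditive (φ x).toMonoidHom)).toZModLinearMap p
      map_one' := by
        refine LinearMap.ext fun v => ?_
        change Additive.ofMul (φ 1 v.toMul) = v
        rw [map_one]
        rfl
      map_mul' := fun x y => by
        refine LinearMap.ext fun (v : Additive A) => ?_
        change Additive.ofMul (φ (x * y) v.toMul) = Additive.ofMul (φ x (φ y v.toMul))
        rw [map_mul]
        rfl }
  have hact : ∀ (x : E) (v : Additive A), act x v = Additive.ofMul (φ x v.toMul) := fun _ _ => rfl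
  have hone : ∀ x, act x = 1 → φ x = 1 := by
    intro x hx
    ext v
    have h2 := congrArg (fun T : Module.End (ZMod p) (Additive A) => T (Additive.ofMul v)) hx
    simp only [hact, Module.End.one_apply] at h2
    exact Additive.ofMul.injective h2
  have hone' : ∀ x, φ x = 1 → act x = 1 := by
    intro x hx
    refine LinearMap.ext fun (v : Additive A) => ?_
    rw [hact, hx]
    rfl
  have hquad : ∀ x, (∀ v, φ x (φ x v * v⁻¹) = φ x v * v⁻¹) → (act x - 1) ^ 2 = 0 := by
    intro x hx
    refine LinearMap.ext fun v => ?_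
    have h3 : (act x) ((act x) v - v) = (act x) v - v := by
      have h5 : ∀ u w : Additive A, u - w = Additive.ofMul (u.toMul * w.toMul⁻¹) := by
        intro u w
        rw [sub_eq_add_neg]
        rfl
      rw [h5, hact, hact]
      exact congrArg Additive.ofMul (hx v.toMul)
    rw [pow_two, Module.End.mul_apply, LinearMap.sub_apply, LinearMap.sub_apply,
      Module.End.one_apply, Module.End.one_apply, h3, sub_self]
    rfl
  let B := Module.finBasis (ZMod p) (Additive A)
  let ψ := LinearMap.toMatrixAlgEquiv B
  refine ⟨_, (ψ.toRingEquiv.toMonoidHom).comp act, ?_, ?_, ?_⟩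
  · intro x hx
    apply hone
    have h1 : ψ (act x) = 1 := hx
    rw [← map_one ψ] at h1
    exact ψ.injective h1
  · intro x hx
    change ψ (act x) = 1
    rw [hone' x hx, map_one]
  · intro x hx
    have h1 : (ψ.toRingEquiv.toMonoidHom.comp act) x - 1 = ψ (act x - 1) := by
      rw [map_sub, map_one]
      rfl
    rw [h1, ← map_pow, hquad x hx, map_zero]

/-- An action of a group `E` by automorphisms of a finite elementary abelian `p`-group `A` gives a linear
representation over any field of characteristic `p` with the same kernel. -/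
theorem exists_rep_of_mulAut {p : ℕ} [Fact p.Prime] (k : Type*) [Field k] [CharP k p]
    {A : Type*} [CommGroup A] [Finite A]
    (hexp : ∀ a : A, a ^ p = 1) {E : Type*} [Group E] (φ : E →* MulAut A) :
    ∃ (n : ℕ) (ρ : Representation k E (Fin n → k)), (∀ x, ρ x = 1 ↔ φ x = 1) ∧
      ∀ x, (∀ v, φ x (φ x v * v⁻¹) = φ x v * v⁻¹) → ∀ w, ρ x (ρ x w - w) = ρ x w - w := by
  classical
  obtain ⟨n, ρ₁, hone, hone', hq⟩ := exists_matrix_rep_of_mulAut hexp φ
  let c : ZMod p →+* k := ZMod.castHom (dvd_refl p) k
  have hc : Function.Injective c := c.injective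
  let θ : Matrix (Fin n) (Fin n) (ZMod p) →+* Matrix (Fin n) (Fin n) k := c.mapMatrix
  have hθ : Function.Injective θ := by
    intro A B h
    ext i j
    apply hc
    have := congrArg (fun M : Matrix (Fin n) (Fin n) k => M i j) h
    exact this
  let ψ : Matrix (Fin n) (Fin n) k ≃+* Module.End k (Fin n → k) :=
    (Matrix.toLinAlgEquiv' (R := k) (n := Fin n)).toRingEquiv
  let ρ : E →* Module.End k (Fin n → k) := (ψ.toMonoidHom.comp θ.toMonoidHom).comp ρ₁
  have hρ : ∀ x, ρ x = ψ (θ (ρ₁ x)) := fun _ => rfl
  refine ⟨n, ρ, ?_, ?_⟩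
  · intro x
    constructor
    · intro h
      apply hone
      apply hθ
      apply ψ.injective
      rw [← hρ, h, map_one, map_one]
    · intro h
      rw [hρ, hone' x h, map_one, map_one]
  · intro x hx w
    have h1 : (ρ x - 1) ^ 2 = 0 := by
      have h2 : ρ x - 1 = ψ (θ (ρ₁ x - 1)) := by
        rw [map_sub, map_sub, map_one, map_one, hρ]
      rw [h2, ← map_pow, ← map_pow, hq x hx, map_zero, map_zero]
    have h2 := congrArg (fun T : Module.End k (Fin n → k) => T w) h1
    simp only [pow_two, Module.End.mul_apply, LinearMap.sub_apply, Module.End.one_apply,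
      LinearMap.zero_apply] at h2
    exact sub_eq_zero.mp h2

/-- A subgroup `H` acting faithfully by conjugation on an elementary abelian `p`-subgroup `V` has a faithful
linear representation over any field `k` of characteristic `p`, in which the elements acting quadratically on
`V` act quadratically. -/
theorem exists_rep {G : Type*} [Group G] [Finite G] {p : ℕ} [Fact p.Prime] (k : Type*) [Field k]
    [CharP k p] (V H : Subgroup G) (hV : Cfsg.IsElementaryAbelian p V)
    (hHV : H ≤ Subgroup.normalizer (V : Set G)) (hf : H ⊓ Subgroup.centralizer (V : Set G) = ⊥) :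
    ∃ (n : ℕ) (ρ : Representation k H (Fin n → k)), Function.Injective ρ ∧
      ∀ x : H, ⁅⁅V, Subgroup.zpowers (x : G)⁆, Subgroup.zpowers (x : G)⁆ = ⊥ →
        ∀ w, ρ x (ρ x w - w) = ρ x w - w := by
  classical
  obtain ⟨hcomm, hexp⟩ := hV
  let : CommGroup V := { (inferInstance : Group V) with mul_comm := fun x y => mul_comm' x y }
  let φ : H →* MulAut V := V.normalizerMonoidHom.comp (Subgroup.inclusion hHV)
  have hφ : ∀ (x : H) (v : V), ((φ x v : V) : G) = (x : G) * v * (x : G)⁻¹ := fun _ _ => rfl
  obtain ⟨n, ρ, h1, h2⟩ := exists_rep_of_mulAut k (fun a : V => Subtype.ext (by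
    simpa using hexp _ a.2) : ∀ a : V, a ^ p = 1) φ
  refine ⟨n, ρ, ?_, ?_⟩
  · rw [injective_iff_map_eq_one]
    intro x hx
    rw [h1] at hx
    have h1 : (x : G) ∈ Subgroup.centralizer (V : Set G) := by
      rw [Subgroup.mem_centralizer_iff]
      intro v hv
      have h2 : φ x ⟨v, hv⟩ = ⟨v, hv⟩ := by rw [hx]; rfl
      have h4 : (x : G) * v * (x : G)⁻¹ = v := congrArg Subtype.val h2
      rw [mul_inv_eq_iff_eq_mul] at h4
      exact h4.symm
    have h2 : (x : G) ∈ H ⊓ Subgroup.centralizer (V : Set G) := ⟨x.2, h1⟩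
    rw [hf, Subgroup.mem_bot] at h2
    exact Subtype.ext h2
  · intro x hx
    apply h2
    intro v
    have h1 : (x : G) * v * (x : G)⁻¹ * (v : G)⁻¹ ∈ ⁅V, Subgroup.zpowers (x : G)⁆ := by
      have h2 : ⁅(v : G), (x : G)⁆ ∈ ⁅V, Subgroup.zpowers (x : G)⁆ :=
        Subgroup.commutator_mem_commutator v.2 (Subgroup.mem_zpowers _)
      have h3 := Subgroup.inv_mem _ h2
      rw [commutatorElement_inv, commutatorElement_def] at h3
      exact h3
    have h2 : Commute ((x : G) * v * (x : G)⁻¹ * (v : G)⁻¹) (x : G) := by
      have h3 := Subgroup.commutator_mem_commutator h1 (Subgroup.mem_zpowers (x : G))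
      rw [hx, Subgroup.mem_bot, commutatorElement_eq_one_iff_commute] at h3
      exact h3
    apply Subtype.ext
    rw [hφ, Subgroup.coe_mul, hφ, Subgroup.coe_inv]
    rw [← h2.eq, mul_inv_cancel_right]

end Cfsg.Agent.PLocal.QuadRep
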