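import Mathlib
import Cfsg.Agent.PLocal.TwoQuad
import Cfsg.Agent.S0274

/-!
# Sections isomorphic to `SL(2, p)` from two quadratically acting elements

`exists_hom_sl_two_zmod`: if `X = ⟨a, b⟩` is a finite group acting on an `F_p`-space (`p` odd) with `(a-1)² = (b-1)² = 0`
and not as a `p`-group, then some subgroup of `X` maps onto `SL(2, p)`, the kernel of the action lying in the kernel.
-/

set_option autoImplicit false

namespace Cfsg.Agent.PLocal.QuadSection

open Polynomial TensorProduct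

/-- A subgroup mapping onto `S` gives a section isomorphic to `S`. -/
theorem section_of_hom {G S : Type*} [Group G] [Group S] (K : Subgroup G) (f : K →* S)
    (hf : Function.Surjective f) :
    ∃ (L : Subgroup G) (_ : (L.subgroupOf K).Normal), Nonempty ((K ⧸ L.subgroupOf K) ≃* S) := by
  have h : (f.ker.map K.subtype).subgroupOf K = f.ker :=
    Subgroup.comap_map_eq_self_of_injective K.subtype_injective _
  have hn : ((f.ker.map K.subtype).subgroupOf K).Normal := by
    rw [h]; infer_instance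
  refine ⟨f.ker.map K.subtype, hn, ⟨?_⟩⟩
  exact (QuotientGroup.quotientMulEquivOfEq h).trans (QuotientGroup.quotientKerEquivOfSurjective f hf)

/-- A finite group generated by two `p`-elements that is not a `p`-group has several Sylow `p`-subgroups. -/
theorem one_lt_card_sylow {p : ℕ} [Fact p.Prime] {X : Type*} [Group X] [Finite X] (a b : X)
    (hab : Subgroup.closure ({a, b} : Set X) = ⊤) (ha : ∃ k : ℕ, a ^ p ^ k = 1)
    (hb : ∃ k : ℕ, b ^ p ^ k = 1) (hX : ¬ IsPGroup p X) : 1 < Nat.card (Sylow p X) := by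
  by_contra hcon
  have h1 : Nat.card (Sylow p X) = 1 := by
    have : 0 < Nat.card (Sylow p X) := Nat.card_pos
    omega
  have hsub : Subsingleton (Sylow p X) := (Nat.card_eq_one_iff_unique.1 h1).1
  obtain ⟨P⟩ : Nonempty (Sylow p X) := inferInstance
  have hmem : ∀ x : X, (∃ k : ℕ, x ^ p ^ k = 1) → x ∈ (P : Subgroup X) := by
    intro x hx
    have hz : IsPGroup p (Subgroup.zpowers x) := by
      obtain ⟨k, hk⟩ := hx
      rintro ⟨y, hy⟩
      obtain ⟨n, rfl⟩ := Subgroup.mem_zpowers_iff.1 hy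
      refine ⟨k, Subtype.ext ?_⟩
      change (x ^ n) ^ p ^ k = 1
      rw [← zpow_natCast, ← zpow_mul, mul_comm, zpow_mul, zpow_natCast, hk, one_zpow]
    obtain ⟨Q, hQ⟩ := hz.exists_le_sylow
    rw [Subsingleton.elim Q P] at hQ
    exact hQ (Subgroup.mem_zpowers x)
  have htop : (P : Subgroup X) = ⊤ := by
    rw [eq_top_iff, ← hab, Subgroup.closure_le]
    rintro x (rfl | rfl)
    · exact hmem _ ha
    · exact hmem _ hb
  apply hX
  intro x
  have hx : x ∈ (P : Subgroup X) := by rw [htop]; trivial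
  obtain ⟨k, hk⟩ := P.isPGroup' ⟨x, hx⟩
  exact ⟨k, congrArg Subtype.val hk⟩

/-- In characteristic `p`, `(M - 1)² = 0` implies `M ^ p = 1`. -/
theorem pow_eq_one_of_sq {p : ℕ} [Fact p.Prime] {R : Type*} [Ring R] [CharP R p] (M : R)
    (h : (M - 1) ^ 2 = 0) : M ^ p = 1 := by
  have hMp : (M - 1) ^ p = 0 := by
    obtain ⟨q, hq⟩ := Nat.exists_eq_add_of_le (Fact.out : p.Prime).two_le
    have : (M - 1) ^ p = (M - 1) ^ (2 + q) := by rw [← hq]
    rw [this, pow_add, h, zero_mul]
  rw [sub_pow_char_of_commute (p := p) (Commute.one_right M), one_pow, sub_eq_zero] at hMp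
  exact hMp

/-- **Two quadratic generators over the prime field.** -/
theorem exists_hom_sl_two_zmod {p : ℕ} [Fact p.Prime] (hp : p ≠ 2) {Γ : Type*} [Group Γ] [Finite Γ]
    {V : Type*} [AddCommGroup V] [Finite V] [Module (ZMod p) V] (a b : Γ)
    (hab : Subgroup.closure ({a, b} : Set Γ) = ⊤) (ρ : Representation (ZMod p) Γ V)
    (ha : ∀ w, ρ a (ρ a w - w) = ρ a w - w) (hb : ∀ w, ρ b (ρ b w - w) = ρ b w - w)
    (g : Γ) (hg : ¬ ∃ k : ℕ, ρ g ^ p ^ k = 1) :
    ∃ (L : Subgroup Γ) (f : L →* Matrix.SpecialLinearGroup (Fin 2) (ZMod p)),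
      Function.Surjective f ∧ ∀ x : L, ρ (x : Γ) = 1 → f x = 1 := by
  have hp' : p.Prime := Fact.out
  set m := orderOf (a * b) with hm
  have hm0 : m ≠ 0 := (orderOf_pos (a * b)).ne'
  let K := SplittingField (X ^ m - 1 : (ZMod p)[X])
  have hfin : Finite K := Module.finite_of_finite (ZMod p)
  have : Fintype K := Fintype.ofFinite K
  have hchar : CharP K p := charP_of_injective_algebraMap (algebraMap (ZMod p) K).injective p
  have hsplit : (X ^ m - 1 : K[X]).Splits := by
    have h1 := SplittingField.splits (X ^ m - 1 : (ZMod p)[X])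
    simpa using h1
  let ρK : Representation K Γ (K ⊗[ZMod p] V) :=
    (((Module.End.baseChangeHom (ZMod p) K V : Module.End (ZMod p) V →ₐ[ZMod p]
      Module.End K (K ⊗[ZMod p] V)) : Module.End (ZMod p) V →* Module.End K (K ⊗[ZMod p] V))).comp ρ
  have hρK : ∀ (x : Γ) (k : K) (v : V), ρK x (k ⊗ₜ v) = k ⊗ₜ ρ x v := fun x k v => rfl
  have hinj : ∀ x : Γ, ρK x = 1 → ρ x = 1 := by
    intro x hx
    ext v
    have h1 := hρK x 1 v
    rw [hx] at h1
    have h2 := Module.FaithfullyFlat.tensorProduct_mk_injective (A := ZMod p) (B := K) V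
    exact (h2 h1).symm
  have hquad : ∀ s : Γ, (∀ w, ρ s (ρ s w - w) = ρ s w - w) →
      ∀ w, ρK s (ρK s w - w) = ρK s w - w := by
    intro s hs w
    induction w using TensorProduct.induction_on with
    | zero => simp
    | tmul k v => rw [hρK, ← TensorProduct.tmul_sub, hρK, hs]
    | add x y hx hy =>
      have h1 : ρK s (x + y) - (x + y) = (ρK s x - x) + (ρK s y - y) := by
        rw [map_add]; abel
      rw [h1, map_add, hx, hy]
  have hone : ∀ x : Γ, ρ x = 1 → ρK x = 1 := by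
    intro x hx
    apply LinearMap.ext
    intro w
    induction w using TensorProduct.induction_on with
    | zero => simp
    | tmul k v => rw [hρK, hx]; rfl
    | add x y hx hy => rw [map_add, hx, hy]; rfl
  have habm0 : (a * b) ^ m = 1 := pow_orderOf_eq_one (a * b)
  have habm : ρK (a * b) ^ m = 1 := by
    rw [← map_pow, habm0, map_one]
  have hgK : ¬ ∃ k : ℕ, ρK g ^ p ^ k = 1 := by
    rintro ⟨k, hk⟩
    apply hg
    refine ⟨k, ?_⟩
    rw [← map_pow] at hk ⊢
    exact hinj _ hk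
  obtain ⟨φ, h1, h2, h3, h4⟩ := Cfsg.Agent.PLocal.TwoQuad.exists_hom_sl_two (p := p) a b hab m hm0 hsplit ρK
    (hquad a ha) (hquad b hb) habm g hgK
  -- quadratic elements have order dividing `p`
  have hpow : ∀ M : Matrix.SpecialLinearGroup (Fin 2) K,
      ((M : Matrix (Fin 2) (Fin 2) K) - 1) ^ 2 = 0 → ∃ k : ℕ, M ^ p ^ k = 1 := by
    intro M hM
    refine ⟨1, ?_⟩
    rw [pow_one]
    have hchM : CharP (Matrix (Fin 2) (Fin 2) K) p :=
      charP_of_injective_algebraMap (FaithfulSMul.algebraMap_injective K (Matrix (Fin 2) (Fin 2) K)) p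
    have h5 := pow_eq_one_of_sq (p := p) (M : Matrix (Fin 2) (Fin 2) K) hM
    apply Matrix.SpecialLinearGroup.ext
    intro i j
    rw [Matrix.SpecialLinearGroup.coe_pow, h5, Matrix.SpecialLinearGroup.coe_one]
  have haR : φ a ∈ φ.range := ⟨a, rfl⟩
  have hbR : φ b ∈ φ.range := ⟨b, rfl⟩
  have hgen : Subgroup.closure ({⟨φ a, haR⟩, ⟨φ b, hbR⟩} : Set φ.range) = ⊤ := by
    apply Subgroup.map_injective φ.range.subtype_injective
    rw [MonoidHom.map_closure, Set.image_pair, ← MonoidHom.range_eq_map, Subgroup.range_subtype]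
    have h5 : φ.range = Subgroup.closure {φ a, φ b} := by
      rw [MonoidHom.range_eq_map, ← hab, MonoidHom.map_closure, Set.image_pair]
    exact h5.symm
  have hnp : ¬ IsPGroup p φ.range := by
    intro hcon
    apply h4
    obtain ⟨j, hj⟩ := hcon ⟨φ g, ⟨g, rfl⟩⟩
    exact ⟨j, congrArg Subtype.val hj⟩
  have hfinR : Finite φ.range := Finite.of_surjective _ φ.rangeRestrict_surjective
  have hsyl : 1 < Nat.card (Sylow p φ.range) := by
    refine one_lt_card_sylow _ _ hgen ?_ ?_ hnp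
    · obtain ⟨k, hk⟩ := hpow _ h2
      exact ⟨k, Subtype.ext hk⟩
    · obtain ⟨k, hk⟩ := hpow _ h3
      exact ⟨k, Subtype.ext hk⟩
  obtain ⟨Y, hY, ⟨e⟩⟩ := Cfsg.Agent.S0274.result p hp φ.range hsyl
  refine ⟨Y.comap φ, e.toMonoidHom.comp (φ.subgroupComap Y), ?_, ?_⟩
  · refine e.surjective.comp ?_
    rintro ⟨y, hy⟩
    obtain ⟨x, hx⟩ := hY hy
    exact ⟨⟨x, by rw [Subgroup.mem_comap, hx]; exact hy⟩, Subtype.ext hx⟩
  · rintro ⟨x, hx⟩ hx1
    have h5 : φ x = 1 := h1 x (hone x hx1)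
    have h6 : φ.subgroupComap Y ⟨x, hx⟩ = 1 := Subtype.ext h5
    rw [MonoidHom.comp_apply, h6, map_one]

/-- The linear representation over the prime field attached to an action on an elementary abelian group. -/
noncomputable def repOfMulAut (p : ℕ) {Γ V : Type*} [Group Γ] [CommGroup V] [Module (ZMod p) (Additive V)]
    (θ : Γ →* MulAut V) : Representation (ZMod p) Γ (Additive V) where
  toFun x := AddMonoidHom.toZModLinearMap p (MonoidHom.toAdditive (θ x).toMonoidHom)
  map_one' := by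
    ext v
    simp
  map_mul' x y := by
    ext v
    simp

theorem repOfMulAut_apply (p : ℕ) {Γ V : Type*} [Group Γ] [CommGroup V] [Module (ZMod p) (Additive V)]
    (θ : Γ →* MulAut V) (x : Γ) (v : Additive V) :
    repOfMulAut p θ x v = Additive.ofMul (θ x v.toMul) := rfl

theorem repOfMulAut_eq_one_iff (p : ℕ) {Γ V : Type*} [Group Γ] [CommGroup V]
    [Module (ZMod p) (Additive V)] (θ : Γ →* MulAut V) (x : Γ) :
    repOfMulAut p θ x = 1 ↔ θ x = 1 := by
  constructor
  · intro h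
    ext v
    have h1 := repOfMulAut_apply p θ x (Additive.ofMul v)
    rw [h] at h1
    exact (Additive.ofMul.injective h1).symm
  · intro h
    ext v
    rw [repOfMulAut_apply, h]
    rfl

theorem exists_hom_sl_two_of_mulAut_aux {p : ℕ} [Fact p.Prime] (hp : p ≠ 2) {Γ V : Type*} [Group Γ]
    [Finite Γ] [CommGroup V] [Finite V] [Module (ZMod p) (Additive V)] (a b : Γ)
    (hab : Subgroup.closure ({a, b} : Set Γ) = ⊤) (θ : Γ →* MulAut V)
    (ha : ∀ v, θ a (θ a v * v⁻¹) = θ a v * v⁻¹) (hb : ∀ v, θ b (θ b v * v⁻¹) = θ b v * v⁻¹)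
    (g : Γ) (hg : ¬ ∃ k : ℕ, θ g ^ p ^ k = 1) :
    ∃ (L : Subgroup Γ) (f : L →* Matrix.SpecialLinearGroup (Fin 2) (ZMod p)),
      Function.Surjective f ∧ ∀ x : L, θ (x : Γ) = 1 → f x = 1 := by
  have hfin : Finite (Additive V) := inferInstanceAs (Finite V)
  have hq : ∀ s : Γ, (∀ v, θ s (θ s v * v⁻¹) = θ s v * v⁻¹) →
      ∀ w, repOfMulAut p θ s (repOfMulAut p θ s w - w) = repOfMulAut p θ s w - w := by
    intro s hs w
    have h1 := hs w.toMul
    have h2 : repOfMulAut p θ s w - w = Additive.ofMul (θ s w.toMul * (w.toMul)⁻¹) := by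
      rw [repOfMulAut_apply, sub_eq_add_neg]
      rfl
    rw [h2, repOfMulAut_apply]
    exact congrArg Additive.ofMul h1
  obtain ⟨L, f, hf, hf1⟩ := exists_hom_sl_two_zmod hp a b hab (repOfMulAut p θ) (hq a ha) (hq b hb) g (by
    rintro ⟨k, hk⟩
    apply hg
    refine ⟨k, ?_⟩
    rw [← map_pow] at hk ⊢
    exact (repOfMulAut_eq_one_iff p θ _).1 hk)
  exact ⟨L, f, hf, fun x hx => hf1 x ((repOfMulAut_eq_one_iff p θ _).2 hx)⟩

/-- **Two quadratic generators acting on an elementary abelian group.** -/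
theorem exists_hom_sl_two_of_mulAut {p : ℕ} [Fact p.Prime] (hp : p ≠ 2) {Γ V : Type*} [Group Γ] [Finite Γ]
    [CommGroup V] [Finite V] (hV : ∀ v : V, v ^ p = 1) (a b : Γ)
    (hab : Subgroup.closure ({a, b} : Set Γ) = ⊤) (θ : Γ →* MulAut V)
    (ha : ∀ v, θ a (θ a v * v⁻¹) = θ a v * v⁻¹) (hb : ∀ v, θ b (θ b v * v⁻¹) = θ b v * v⁻¹)
    (g : Γ) (hg : ¬ ∃ k : ℕ, θ g ^ p ^ k = 1) :
    ∃ (L : Subgroup Γ) (f : L →* Matrix.SpecialLinearGroup (Fin 2) (ZMod p)),
      Function.Surjective f ∧ ∀ x : L, θ (x : Γ) = 1 → f x = 1 := by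
  have hV' : ∀ v : Additive V, p • v = 0 := fun v => congrArg Additive.ofMul (hV v.toMul)
  exact @exists_hom_sl_two_of_mulAut_aux p _ hp Γ V _ _ _ _ (AddCommGroup.zmodModule hV') a b hab θ ha hb g hg

end Cfsg.Agent.PLocal.QuadSection
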