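import Mathlib
import Cfsg.Prelude.Def_Local
import Cfsg.Agent.PLocal.PConstrained
import Cfsg.Agent.Lib.ThompsonPQ

/-!
Local subgroups of groups `G` with `C_G(O_p(G)) ≤ O_p(G)` and of `p`-constrained groups.
-/

set_option autoImplicit false

namespace Cfsg.Agent.PLocal.PConstrainedLocal

open Subgroup Cfsg.Agent.PLocal.PConstrained

variable {G : Type*} [Group G] {p : ℕ}

/-- A normal subgroup without nontrivial `p'`-elements is a `p`-group. -/
theorem isPGroup_of_forall_coprime [Finite G] [Fact p.Prime] (C : Subgroup G)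
    (h : ∀ y ∈ C, (orderOf y).Coprime p → y = 1) : IsPGroup p C := by
  intro g
  obtain ⟨k, m, hm, hk⟩ := Nat.exists_eq_pow_mul_and_not_dvd (orderOf_pos (g : G)).ne' p
    (Fact.out : p.Prime).ne_one
  refine ⟨k, ?_⟩
  have h1 : orderOf ((g : G) ^ p ^ k) = m := by
    rw [orderOf_pow, hk, Nat.gcd_eq_right (Dvd.intro m rfl), Nat.mul_div_cancel_left]
    exact pow_pos (Fact.out : p.Prime).pos k
  have h2 : (g : G) ^ p ^ k = 1 := by
    apply h _ (C.pow_mem g.2 _)
    rw [h1]
    exact ((Nat.Prime.coprime_iff_not_dvd Fact.out).mpr hm).symm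
  exact Subtype.ext h2

theorem charP_of_le [Finite G] [Fact p.Prime]
    (hG : centralizer (pCore p G : Set G) ≤ pCore p G) {P : Subgroup G} (hP : IsPGroup p P)
    {L : Subgroup G} (hL : centralizer (P : Set G) ≤ L)
    (hc : ∀ y : L, y ∈ centralizer (pCore p L : Set L) → ∀ z ∈ P, z * (y : G) = y * z) :
    centralizer (pCore p L : Set L) ≤ pCore p L := by
  refine le_pCore inferInstance (isPGroup_of_forall_coprime _ ?_)
  intro y hy hcop
  -- `y` centralizes `O_p(G)` by Thompson's lemma
  have h1 : zpowers (y : G) ≤ centralizer (pCore p G : Set G) := by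
    refine Cfsg.Agent.Lib.ThompsonPQ.thompson_p_times_q p P (zpowers (y : G)) (pCore p G) hP ?_
      (isPGroup_pCore p G) ?_ ?_ ?_ ?_
    · rw [Nat.card_zpowers, Subgroup.orderOf_coe]
      exact hcop
    · rw [Subgroup.le_centralizer_iff, Subgroup.zpowers_le, Subgroup.mem_centralizer_iff]
      intro z hz
      exact hc y hy z hz
    · rw [Subgroup.normalizer_eq_top]
      exact le_top
    · rw [Subgroup.normalizer_eq_top]
      exact le_top
    · rintro u ⟨hu, huP⟩
      have huL : u ∈ L := hL huP
      have h2 : (pCore p G).subgroupOf L ≤ pCore p L :=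
        le_pCore inferInstance ((isPGroup_pCore p G).comap_subtype)
      have h3 : (⟨u, huL⟩ : L) ∈ pCore p L := h2 hu
      rw [Subgroup.mem_centralizer_iff]
      intro z hz
      obtain ⟨k, rfl⟩ := hz
      have h5 : Commute u (y : G) := by
        have := Subgroup.mem_centralizer_iff.mp hy _ h3
        exact congrArg Subtype.val this
      exact (h5.symm.zpow_left k).eq
  have h2 : (y : G) ∈ pCore p G := hG (h1 (Subgroup.mem_zpowers _))
  obtain ⟨k, hk⟩ := (isPGroup_pCore p G) ⟨(y : G), h2⟩
  have h3 : orderOf y ∣ p ^ k := by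
    have h4 : (y : G) ^ p ^ k = 1 := congrArg Subtype.val hk
    exact orderOf_dvd_of_pow_eq_one (Subtype.ext h4)
  exact orderOf_eq_one_iff.mp (Nat.Coprime.eq_one_of_dvd (Nat.Coprime.pow_right k hcop) h3)

/-- `N_G(P)` has characteristic `p` if `G` has. -/
theorem charP_normalizer [Finite G] [Fact p.Prime]
    (hG : centralizer (pCore p G : Set G) ≤ pCore p G) {P : Subgroup G} (hP : IsPGroup p P) :
    centralizer (pCore p ↥(normalizer (P : Set G)) : Set ↥(normalizer (P : Set G))) ≤
      pCore p ↥(normalizer (P : Set G)) := by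
  refine charP_of_le hG hP (centralizer_le_normalizer _) ?_
  intro y hy z hz
  have hzN : z ∈ normalizer (P : Set G) := le_normalizer hz
  have h1 : (⟨z, hzN⟩ : ↥(normalizer (P : Set G))) ∈ pCore p ↥(normalizer (P : Set G)) := by
    have h2 : P.subgroupOf (normalizer (P : Set G)) ≤ pCore p ↥(normalizer (P : Set G)) :=
      le_pCore inferInstance hP.comap_subtype
    exact h2 hz
  exact congrArg Subtype.val (mem_centralizer_iff.mp hy _ h1)

/-- `C_G(P)` has characteristic `p` if `G` has. -/
theorem charP_centralizer [Finite G] [Fact p.Prime]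
    (hG : centralizer (pCore p G : Set G) ≤ pCore p G) {P : Subgroup G} (hP : IsPGroup p P) :
    centralizer (pCore p ↥(centralizer (P : Set G)) : Set ↥(centralizer (P : Set G))) ≤
      pCore p ↥(centralizer (P : Set G)) :=
  charP_of_le hG hP le_rfl fun y _ z hz => mem_centralizer_iff.mp y.2 z hz

/-- If `f` has kernel of order prime to `p` and the image of the subgroup `L` has characteristic
`p`, then `L` is `p`-constrained. -/
theorem isPConstrained_of_map_charP [Finite G] [Fact p.Prime] {H : Type*} [Group H] (f : G →* H)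
    (hk : (Nat.card f.ker).Coprime p) (L : Subgroup G)
    (h : centralizer (pCore p ↥(L.map f) : Set ↥(L.map f)) ≤ pCore p ↥(L.map f)) :
    IsPConstrained p L := by
  refine isPConstrained_of_surjective_charP (f.subgroupMap L) (f.subgroupMap_surjective L) ?_ h
  have h1 : (f.subgroupMap L).ker.map L.subtype ≤ f.ker := by
    rintro _ ⟨x, hx, rfl⟩
    exact congrArg Subtype.val hx
  have h2 : Nat.card ((f.subgroupMap L).ker.map L.subtype) = Nat.card (f.subgroupMap L).ker :=
    Nat.card_congr ((f.subgroupMap L).ker.equivMapOfInjective _ L.subtype_injective).toEquiv.symm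
  rw [← h2]
  exact Nat.Coprime.coprime_dvd_left (Subgroup.card_dvd_of_le h1) hk

theorem isPConstrained_normalizer_centralizer [Finite G] [Fact p.Prime] (hG : IsPConstrained p G)
    {P : Subgroup G} (hP : IsPGroup p P) :
    IsPConstrained p ↥(normalizer (P : Set G)) ∧ IsPConstrained p ↥(centralizer (P : Set G)) := by
  rw [isPConstrained_iff] at hG
  set f := QuotientGroup.mk' (pPrimeCore p G) with hf
  have hfs : Function.Surjective f := QuotientGroup.mk'_surjective _
  have hk : (Nat.card f.ker).Coprime p := by
    rw [hf, QuotientGroup.ker_mk']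
    exact coprime_card_pPrimeCore p G
  constructor
  · apply isPConstrained_of_map_charP f hk
    rw [map_normalizer_eq f hfs hk hP]
    exact charP_normalizer hG (hP.map f)
  · apply isPConstrained_of_map_charP f hk
    rw [map_centralizer_eq f hfs hk hP]
    exact charP_centralizer hG (hP.map f)

end Cfsg.Agent.PLocal.PConstrainedLocal
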