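import Mathlib
import Cfsg.Agent.PLocal.ThompsonJ

/-!
Frattini argument for the Thompson subgroup: if `L` is a normal subgroup of the finite group `K`
containing `J(K)`, then `K = N_K(J(S)) L` for every Sylow `p`-subgroup `S` of `K`.
-/

set_option autoImplicit false

namespace Cfsg.Agent.PLocal.ThompsonFrattini

open Subgroup Cfsg
open Cfsg.Agent.PLocal.ThompsonJ

/-- If a Sylow `p`-subgroup of the group is contained in `M` and `N` is normal, then `p` does not
divide `[N : N ∩ M]`. -/
theorem not_dvd_relIndex_of_sylow_le {p : ℕ} [Fact p.Prime] {G : Type*} [Group G] [Finite G]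
    (S : Sylow p G) (M N : Subgroup G) [N.Normal] (hS : (S : Subgroup G) ≤ M) :
    ¬ p ∣ M.relIndex N := by
  have h1 : ¬ p ∣ (S : Subgroup G).index := S.not_dvd_index
  have h2 : M.index ∣ (S : Subgroup G).index := Subgroup.index_dvd_of_le hS
  have h3 : M.relIndex N = M.relIndex (M ⊔ N) := by
    have a1 := Subgroup.relIndex_inf_mul_relIndex M N (M ⊔ N)
    have a2 := Subgroup.relIndex_inf_mul_relIndex N M (M ⊔ N)
    rw [inf_eq_left.2 le_sup_right] at a1
    rw [inf_eq_left.2 le_sup_left, inf_comm N M, Subgroup.relIndex_sup_right] at *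
    rw [← a2, mul_comm] at a1
    exact Nat.eq_of_mul_eq_mul_left (Nat.pos_of_ne_zero (Subgroup.index_ne_zero_of_finite)) a1
  have h4 : M.relIndex (M ⊔ N) ∣ M.index := Subgroup.relIndex_dvd_index_of_le le_sup_left
  intro h
  exact h1 ((h3 ▸ h).trans (h4.trans h2))

/-- The intersection of a Sylow `p`-subgroup with a normal subgroup `L`, as a Sylow `p`-subgroup
of `L`. -/
theorem exists_sylow_subgroupOf {p : ℕ} [Fact p.Prime] {G : Type*} [Group G] [Finite G]
    (S : Sylow p G) (L : Subgroup G) [L.Normal] :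
    ∃ P : Sylow p L, (P : Subgroup L) = (S : Subgroup G).subgroupOf L := by
  refine ⟨(S.2.comap_of_injective L.subtype L.subtype_injective).toSylow
    (P := (S : Subgroup G).subgroupOf L) ?_, rfl⟩
  exact not_dvd_relIndex_of_sylow_le S S L le_rfl

/-- `J(S ∩ L) = J(S)` when `J(K) ≤ L`. -/
theorem thompsonSubgroupOf_inf {K : Type*} [Group K] [Finite K] {p : ℕ} [Fact p.Prime]
    (S : Sylow p K) (L : Subgroup K) (hJ : thompsonSubgroup p K ≤ L) :
    thompsonSubgroupOf p ((S : Subgroup K) ⊓ L) = thompsonSubgroupOf p (S : Subgroup K) := by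
  obtain ⟨B, hB, hBS⟩ := exists_max_le_sylow S
  rw [thompsonSubgroupOf_eq_sSup hB (le_inf hBS ((le_thompsonSubgroup hB).trans hJ)),
    thompsonSubgroupOf_eq_sSup hB hBS]
  congr 1
  ext A
  constructor
  · rintro ⟨h1, h2⟩
    exact ⟨h1, h2.trans inf_le_left⟩
  · rintro ⟨h1, h2⟩
    exact ⟨h1, le_inf h2 ((le_thompsonSubgroup h1).trans hJ)⟩

/-- The normalizer of `U` normalizes `J(U)`. -/
theorem normalizer_le_normalizer_thompson {K : Type*} [Group K] (p : ℕ) (U : Subgroup K) :
    normalizer (U : Set K) ≤ normalizer (thompsonSubgroupOf p U : Set K) := by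
  intro g hg
  have h1 : U.map (MulAut.conj g).toMonoidHom = U := Subgroup.mem_normalizer_iff_map_conj_eq.1 hg
  have h2 := thompsonSubgroupOf_map_conj p g U
  rw [h1] at h2
  exact Subgroup.mem_normalizer_iff_map_conj_eq.2 h2.symm

/-- Frattini argument: `K = N_K(J(S)) L` if `J(K) ≤ L ⊴ K`. -/
theorem normalizer_thompson_sup_eq_top {K : Type*} [Group K] [Finite K] {p : ℕ} [Fact p.Prime]
    (S : Sylow p K) (L : Subgroup K) [L.Normal] (hJ : thompsonSubgroup p K ≤ L) :
    normalizer (thompsonSubgroupOf p (S : Subgroup K) : Set K) ⊔ L = ⊤ := by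
  obtain ⟨P, hP⟩ := exists_sylow_subgroupOf S L
  have h1 := P.normalizer_sup_eq_top
  have h2 : (P : Subgroup L).map L.subtype = (S : Subgroup K) ⊓ L := by
    rw [hP, Subgroup.subgroupOf_map_subtype]
  rw [h2] at h1
  rw [eq_top_iff, ← h1]
  refine sup_le_sup_right ?_ L
  rw [← thompsonSubgroupOf_inf S L hJ]
  exact normalizer_le_normalizer_thompson p _

end Cfsg.Agent.PLocal.ThompsonFrattini
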