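import Mathlib
import Cfsg.Prelude.Def_PLocal
import Cfsg.Agent.Lib.CoprimeAbelian

/-!
# Steps for best offenders and groups with self-centralizing `p'`-core

* `isPGroup_of_isElementaryAbelian`
* `inf_centralizer_ne_bot` : a `p`-group acting on a nontrivial `p`-group has nontrivial fixed points.
* `coprime_le_centralizer` : the `A × B` lemma for `V` elementary abelian.
* `mul_card_le_of_lt` : proper subgroups of `p`-groups.
* `card_fixed_mul_le` : if `X` is an `A`-invariant `p'`-group centralizing `B ≤ A` but not `A`, then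
  `p |C_V(A)| ≤ |C_V(B)|`.
* `isElementaryAbelian_of_isBestOffenderOn`.
-/

set_option autoImplicit false

open Cfsg

namespace Cfsg.Agent.PLocal.OffenderStep

theorem isPGroup_of_isElementaryAbelian {G : Type*} [Group G] {p : ℕ} {V : Subgroup G}
    (hV : Cfsg.IsElementaryAbelian p V) : IsPGroup p V := by
  intro v
  refine ⟨1, ?_⟩
  rw [pow_one]
  exact Subtype.ext (hV.2 v v.2)

theorem comm_of_isElementaryAbelian {G : Type*} [Group G] {p : ℕ} {V : Subgroup G}
    (hV : Cfsg.IsElementaryAbelian p V) : ∀ x ∈ V, ∀ y ∈ V, x * y = y * x := by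
  intro x hx y hy
  have h := hV.1.is_comm.comm (⟨x, hx⟩ : V) ⟨y, hy⟩
  exact congrArg Subtype.val h

theorem isElementaryAbelian_of_comm {G : Type*} [Group G] {p : ℕ} {V : Subgroup G}
    (h : ∀ x ∈ V, ∀ y ∈ V, x * y = y * x) (hp : ∀ x ∈ V, x ^ p = 1) :
    Cfsg.IsElementaryAbelian p V :=
  ⟨⟨⟨fun x y => Subtype.ext (h x x.2 y y.2)⟩⟩, hp⟩

theorem isElementaryAbelian_mono {G : Type*} [Group G] {p : ℕ} {V W : Subgroup G}
    (hV : Cfsg.IsElementaryAbelian p V) (hWV : W ≤ V) : Cfsg.IsElementaryAbelian p W :=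
  isElementaryAbelian_of_comm
    (fun x hx y hy => comm_of_isElementaryAbelian hV x (hWV hx) y (hWV hy))
    (fun x hx => hV.2 x (hWV hx))

/-- A `p`-group normalizing a nontrivial finite `p`-group has a nontrivial fixed point on it. -/
theorem inf_centralizer_ne_bot {G : Type*} [Group G] [Finite G] {p : ℕ} [Fact p.Prime]
    (W B : Subgroup G) (hW : IsPGroup p W) (hB : IsPGroup p B)
    (hBW : B ≤ Subgroup.normalizer (W : Set G)) (hne : W ≠ ⊥) :
    W ⊓ Subgroup.centralizer (B : Set G) ≠ ⊥ := by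
  classical
  intro hbot
  let φ : B →* MulAut W := (Subgroup.normalizerMonoidHom W).comp (Subgroup.inclusion hBW)
  have hφ : ∀ (b : B) (v : W), ((φ b v : W) : G) = b * v * (b : G)⁻¹ := fun b v => rfl
  letI : MulAction B W := MulAction.compHom W φ
  have hsmul : ∀ (b : B) (v : W), ((b • v : W) : G) = b * v * (b : G)⁻¹ := fun b v => rfl
  haveI : Nontrivial W := (Subgroup.nontrivial_iff_ne_bot W).mpr hne
  haveI : Finite W := inferInstance
  have hdvd : p ∣ Nat.card W := by
    obtain ⟨n, hn⟩ := IsPGroup.iff_card.mp hW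
    rcases n with _ | n
    · rw [pow_zero] at hn
      have := Finite.one_lt_card (α := W)
      omega
    · rw [hn]
      exact dvd_pow_self p (Nat.succ_ne_zero n)
  have h1 : (1 : W) ∈ MulAction.fixedPoints B W := by
    intro b
    apply Subtype.ext
    rw [hsmul]
    simp
  obtain ⟨w, hw, hw1⟩ := hB.exists_fixed_point_of_prime_dvd_card_of_fixed_point W hdvd h1
  apply hw1
  have hmem : (w : G) ∈ W ⊓ Subgroup.centralizer (B : Set G) := by
    refine Subgroup.mem_inf.mpr ⟨w.2, ?_⟩
    rw [Subgroup.mem_centralizer_iff]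
    intro b hb
    have := congrArg Subtype.val (hw ⟨b, hb⟩)
    rw [hsmul] at this
    exact mul_inv_eq_iff_eq_mul.mp this
  rw [hbot, Subgroup.mem_bot] at hmem
  exact Subtype.ext hmem.symm

/-- If `B` centralizes `K` and normalizes `V` then `B` normalizes `[V, K]`. -/
theorem le_normalizer_commutator {G : Type*} [Group G] {V B K : Subgroup G}
    (hBV : B ≤ Subgroup.normalizer (V : Set G)) (hBK : B ≤ Subgroup.normalizer (K : Set G)) :
    B ≤ Subgroup.normalizer ((⁅V, K⁆ : Subgroup G) : Set G) := by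
  have key : ∀ b ∈ B, (⁅V, K⁆).map (MulAut.conj b).toMonoidHom ≤ ⁅V, K⁆ := by
    intro b hb
    rw [Subgroup.map_commutator]
    apply Subgroup.commutator_mono
    · rintro _ ⟨v, hv, rfl⟩
      exact (hBV hb v).mp hv
    · rintro _ ⟨k, hk, rfl⟩
      exact (hBK hb k).mp hk
  intro b hb
  rw [Subgroup.mem_normalizer_iff]
  intro x
  constructor
  · intro hx
    exact key b hb ⟨x, hx, rfl⟩
  · intro hx
    have := key b⁻¹ (B.inv_mem hb) ⟨_, hx, rfl⟩
    simpa [mul_assoc] using this

/-- The `A × B` lemma for an elementary abelian `V`: a `p'`-group `K` that commutes with the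
`p`-group `B` and centralizes `C_V(B)` centralizes `V`. -/
theorem coprime_le_centralizer {G : Type*} [Group G] [Finite G] {p : ℕ} [Fact p.Prime]
    (V B K : Subgroup G) (hV : Cfsg.IsElementaryAbelian p V) (hB : IsPGroup p B)
    (hBV : B ≤ Subgroup.normalizer (V : Set G)) (hKV : K ≤ Subgroup.normalizer (V : Set G))
    (hK : (Nat.card K).Coprime p) (hKB : K ≤ Subgroup.centralizer (B : Set G))
    (h : K ≤ Subgroup.centralizer ((V ⊓ Subgroup.centralizer (B : Set G) : Subgroup G) : Set G)) :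
    K ≤ Subgroup.centralizer (V : Set G) := by
  have hVp := isPGroup_of_isElementaryAbelian hV
  have hcop : (Nat.card K).Coprime (Nat.card V) := by
    obtain ⟨n, hn⟩ := IsPGroup.iff_card.mp hVp
    rw [hn]
    exact Nat.Coprime.pow_right n hK
  have h1 := Cfsg.Agent.Lib.CoprimeAbelian.inf_commutator_eq_bot K V
    (comm_of_isElementaryAbelian hV) hKV hcop
  have h2 := Cfsg.Agent.Lib.CoprimeAbelian.sup_commutator_eq K V
    (comm_of_isElementaryAbelian hV) hKV hcop
  have hle : ⁅V, K⁆ ≤ V := le_trans le_sup_right h2.le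
  by_cases hne : ⁅V, K⁆ = ⊥
  · rw [Subgroup.commutator_eq_bot_iff_le_centralizer] at hne
    exact Subgroup.le_centralizer_iff.mp hne
  · exfalso
    have hBK : B ≤ Subgroup.normalizer (K : Set G) := by
      refine le_trans (Subgroup.le_centralizer_iff.mp hKB) ?_
      exact Subgroup.centralizer_le_normalizer (K : Set G)
    have hBW := le_normalizer_commutator (V := V) (K := K) hBV hBK
    have hWp : IsPGroup p (⁅V, K⁆ : Subgroup G) := hVp.to_le hle
    apply inf_centralizer_ne_bot _ B hWp hB hBW hne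
    rw [eq_bot_iff, ← h1]
    rintro x ⟨hx1, hx2⟩
    refine ⟨⟨hle hx1, ?_⟩, hx1⟩
    have hx3 : x ∈ V ⊓ Subgroup.centralizer (B : Set G) := ⟨hle hx1, hx2⟩
    exact (Subgroup.le_centralizer_iff.mp h) hx3

/-- A proper subgroup of a finite `p`-group has at most `1/p` of its elements. -/
theorem mul_card_le_of_lt {G : Type*} [Group G] [Finite G] {p : ℕ} [Fact p.Prime]
    {H K : Subgroup G} (hK : IsPGroup p K) (hlt : H < K) : p * Nat.card H ≤ Nat.card K := by
  have hH : IsPGroup p H := hK.to_le hlt.le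
  obtain ⟨m, hm⟩ := IsPGroup.iff_card.mp hH
  obtain ⟨n, hn⟩ := IsPGroup.iff_card.mp hK
  have hcard : Nat.card H < Nat.card K := by
    refine lt_of_le_of_ne (Subgroup.card_le_of_le hlt.le) ?_
    intro he
    exact hlt.ne (Subgroup.eq_of_le_of_card_ge hlt.le he.ge)
  rw [hm, hn] at hcard ⊢
  have hp := (Fact.out : p.Prime).one_lt
  have hmn : m < n := (Nat.pow_lt_pow_iff_right hp).mp hcard
  calc p * p ^ m = p ^ (m + 1) := by ring
    _ ≤ p ^ n := Nat.pow_le_pow_right (Fact.out : p.Prime).pos hmn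

/-- If `X` is an `A`-invariant `p'`-group that centralizes `B ≤ A` but not `A`, where `A X` acts
faithfully on the elementary abelian `V`, then `p |C_V(A)| ≤ |C_V(B)|`. -/
theorem card_fixed_mul_le {G : Type*} [Group G] [Finite G] {p : ℕ} [Fact p.Prime]
    (V A B X : Subgroup G) (hV : Cfsg.IsElementaryAbelian p V)
    (hA : A ≤ Subgroup.normalizer (V : Set G)) (hX : X ≤ Subgroup.normalizer (V : Set G))
    (hBA : B ≤ A) (hAp : Cfsg.IsElementaryAbelian p A) (hXc : (Nat.card X).Coprime p)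
    (hAX : A ≤ Subgroup.normalizer (X : Set G)) (hXB : X ≤ Subgroup.centralizer (B : Set G))
    (hf : (A ⊔ X) ⊓ Subgroup.centralizer (V : Set G) = ⊥)
    (hne : ¬ X ≤ Subgroup.centralizer (A : Set G)) :
    p * Nat.card ↥(V ⊓ Subgroup.centralizer (A : Set G)) ≤
      Nat.card ↥(V ⊓ Subgroup.centralizer (B : Set G)) := by
  have hle : V ⊓ Subgroup.centralizer (A : Set G) ≤ V ⊓ Subgroup.centralizer (B : Set G) :=
    inf_le_inf_left V (Subgroup.centralizer_le hBA)
  refine mul_card_le_of_lt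
    ((isPGroup_of_isElementaryAbelian hV).to_le inf_le_left) (lt_of_le_of_ne hle ?_)
  intro heq
  have hAcomm := comm_of_isElementaryAbelian hAp
  have hKX : ⁅X, A⁆ ≤ X := by
    rw [Subgroup.commutator_le]
    intro x hx a ha
    rw [commutatorElement_def, mul_assoc, mul_assoc]
    apply X.mul_mem hx
    have := (hAX ha x⁻¹).mp (X.inv_mem hx)
    rwa [SetLike.mem_coe, mul_assoc] at this
  have hKc : (Nat.card (⁅X, A⁆ : Subgroup G)).Coprime p :=
    Nat.Coprime.coprime_dvd_left (Subgroup.card_dvd_of_le hKX) hXc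
  have hXW : ∀ x ∈ X, ∀ v ∈ V ⊓ Subgroup.centralizer (B : Set G),
      x * v * x⁻¹ ∈ V ⊓ Subgroup.centralizer (B : Set G) := by
    intro x hx v hv
    refine Subgroup.mem_inf.mpr ⟨(hX hx v).mp hv.1, ?_⟩
    rw [Subgroup.mem_centralizer_iff]
    intro b hb
    have h1 : b * x = x * b := Subgroup.mem_centralizer_iff.mp (hXB hx) b hb
    have h2 : b * v = v * b := Subgroup.mem_centralizer_iff.mp hv.2 b hb
    have h3 : b * x⁻¹ = x⁻¹ * b := by
      rw [eq_inv_mul_iff_mul_eq, ← mul_assoc, ← h1, mul_inv_cancel_right]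
    calc b * (x * v * x⁻¹) = (b * x) * v * x⁻¹ := by group
      _ = x * (b * v) * x⁻¹ := by rw [h1]; group
      _ = x * v * (b * x⁻¹) := by rw [h2]; group
      _ = x * v * x⁻¹ * b := by rw [h3]; group
  have hKW : ⁅X, A⁆ ≤
      Subgroup.centralizer ((V ⊓ Subgroup.centralizer (B : Set G) : Subgroup G) : Set G) := by
    rw [Subgroup.commutator_le]
    intro x hx a ha
    rw [Subgroup.mem_centralizer_iff]
    intro v hv
    have hfix : ∀ w ∈ V ⊓ Subgroup.centralizer (B : Set G), a * w = w * a := by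
      intro w hw
      rw [← heq] at hw
      exact Subgroup.mem_centralizer_iff.mp hw.2 a ha
    have h1 := hfix v hv
    have h2 := hfix _ (hXW x⁻¹ (X.inv_mem hx) v hv)
    rw [inv_inv] at h2
    rw [commutatorElement_def]
    have h3 : a⁻¹ * v = v * a⁻¹ := by
      rw [inv_mul_eq_iff_eq_mul, ← mul_assoc, h1, mul_inv_cancel_right]
    have h4 : x⁻¹ * v = x⁻¹ * v * x * x⁻¹ := by group
    calc v * (x * a * x⁻¹ * a⁻¹) = x * ((x⁻¹ * v * x) * a) * x⁻¹ * a⁻¹ := by group
      _ = x * (a * (x⁻¹ * v * x)) * x⁻¹ * a⁻¹ := by rw [h2]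
      _ = x * a * x⁻¹ * (v * a⁻¹) := by group
      _ = x * a * x⁻¹ * (a⁻¹ * v) := by rw [h3]
      _ = x * a * x⁻¹ * a⁻¹ * v := by group
  have hBp : IsPGroup p B := (isPGroup_of_isElementaryAbelian hAp).to_le hBA
  have h1 := coprime_le_centralizer V B ⁅X, A⁆ hV hBp (hBA.trans hA) (hKX.trans hX) hKc
    (hKX.trans hXB) hKW
  have h2 : ⁅X, A⁆ ≤ (A ⊔ X) ⊓ Subgroup.centralizer (V : Set G) :=
    le_inf (hKX.trans le_sup_right) h1
  rw [hf, le_bot_iff, Subgroup.commutator_eq_bot_iff_le_centralizer] at h2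
  exact hne h2

/-- Best offenders inside a group that acts faithfully on `V` are elementary abelian. -/
theorem isElementaryAbelian_of_isBestOffenderOn {G : Type*} [Group G] {p : ℕ}
    {V H A : Subgroup G} (hf : H ⊓ Subgroup.centralizer (V : Set G) = ⊥) (hAH : A ≤ H)
    (hA : Cfsg.IsBestOffenderOn p V A) : Cfsg.IsElementaryAbelian p A := by
  obtain ⟨-, h2, h3⟩ := hA
  have hc : ⁅A, A⁆ = ⊥ := by
    rw [eq_bot_iff, ← hf]
    refine le_inf ((Subgroup.commutator_mono hAH hAH).trans ?_) h2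
    rw [Subgroup.commutator_le]
    intro x hx y hy
    rw [commutatorElement_def]
    exact H.mul_mem (H.mul_mem (H.mul_mem hx hy) (H.inv_mem hx)) (H.inv_mem hy)
  refine isElementaryAbelian_of_comm ?_ ?_
  · intro x hx y hy
    rw [Subgroup.commutator_eq_bot_iff_le_centralizer] at hc
    exact (Subgroup.mem_centralizer_iff.mp (hc hx) y hy).symm
  · intro x hx
    have : x ^ p ∈ H ⊓ Subgroup.centralizer (V : Set G) := ⟨H.pow_mem (hAH hx) p, h3 x hx⟩
    rwa [hf, Subgroup.mem_bot] at this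

end Cfsg.Agent.PLocal.OffenderStep
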