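import Mathlib

/-!
Diagonal homomorphisms: if a finite group `Y` permutes by conjugation pairwise commuting conjugates
of a subgroup `L` and the stabiliser of `L` centralizes `L`, then `l ↦ ∏ l^t` (over a transversal)
is a homomorphism from `L` into the centralizer of `Y`.
-/

set_option autoImplicit false

namespace Cfsg.Agent.PLocal.DiagHom

variable {Γ : Type*} [Group Γ]

/-- Diagonal homomorphism. `Y` a finite subgroup, `L` a subgroup such that every `y ∈ Y` either
centralizes `L` or moves `L` to a subgroup commuting with `L`. Then there is a homomorphism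
`d : L →* Γ` with image in `C(Y)`, acting on `L` as `L` itself acts, and with `d l` a product of
`Y`-conjugates of `l`. -/
theorem exists_diagHom (Y L : Subgroup Γ) [Finite Y]
    (h : ∀ y ∈ Y, (∀ l ∈ L, y * l * y⁻¹ = l) ∨
      (∀ l ∈ L, ∀ m ∈ L, Commute (y * l * y⁻¹) m)) :
    ∃ d : L →* Γ, (∀ l, ∀ y ∈ Y, y * d l * y⁻¹ = d l) ∧
      (∀ l m : L, d l * m * (d l)⁻¹ = l * m * (l : Γ)⁻¹) ∧
      (∀ (U : Subgroup Γ) (l : L), (∀ y ∈ Y, y * l * y⁻¹ ∈ U) → d l ∈ U) := by
  classical
  let Y₀ : Subgroup Y := (Subgroup.centralizer (L : Set Γ)).subgroupOf Y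
  let ι := Y ⧸ Y₀
  let _ : Fintype ι := Fintype.ofFinite ι
  have hY₀ : ∀ y : Y, y ∈ Y₀ → ∀ l ∈ L, (y : Γ) * l * (y : Γ)⁻¹ = l := by
    intro y hy l hl
    have := (Subgroup.mem_centralizer_iff.1 (Subgroup.mem_subgroupOf.1 hy)) l hl
    rw [← this]; group
  have hY₀' : ∀ y : Y, y ∉ Y₀ → ∀ l ∈ L, ∀ m ∈ L, Commute ((y : Γ) * l * (y : Γ)⁻¹) m := by
    intro y hy
    rcases h y y.2 with h1 | h1
    · exfalso
      apply hy
      rw [Subgroup.mem_subgroupOf, Subgroup.mem_centralizer_iff]
      intro l hl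
      have := h1 l hl
      calc l * (y : Γ) = (y * l * (y : Γ)⁻¹) * y := by rw [this]
        _ = y * l := by group
    · exact h1
  let φ : ι → (L →* Γ) := fun t => (MulAut.conj ((Quotient.out t : Y) : Γ)).toMonoidHom.comp L.subtype
  have hφ : ∀ (t : ι) (l : L), φ t l = ((Quotient.out t : Y) : Γ) * l * ((Quotient.out t : Y) : Γ)⁻¹ :=
    fun t l => rfl
  have hφ' : ∀ (y : Y) (l : L), φ (QuotientGroup.mk y : ι) l = (y : Γ) * l * (y : Γ)⁻¹ := by
    intro y l
    obtain ⟨z, hz⟩ := QuotientGroup.mk_out_eq_mul Y₀ y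
    have hz' : (Quotient.out (QuotientGroup.mk y : ι) : Y) = y * z := hz
    rw [hφ, hz']
    have := hY₀ z z.2 l l.2
    simp only [Subgroup.coe_mul, mul_inv_rev]
    calc (y : Γ) * (z : Y) * l * (((z : Y) : Γ)⁻¹ * (y : Γ)⁻¹)
        = (y : Γ) * (((z : Y) : Γ) * l * ((z : Y) : Γ)⁻¹) * (y : Γ)⁻¹ := by group
      _ = (y : Γ) * l * (y : Γ)⁻¹ := by rw [this]
  have hcomm : Pairwise fun i j : ι => ∀ x y : L, Commute (φ i x) (φ j y) := by
    intro i j hij x y
    have hne : (Quotient.out j : Y)⁻¹ * (Quotient.out i : Y) ∉ Y₀ := by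
      intro hmem
      apply hij
      have h1 : (QuotientGroup.mk (Quotient.out j : Y) : ι) = QuotientGroup.mk (Quotient.out i : Y) :=
        QuotientGroup.eq.2 hmem
      rw [QuotientGroup.out_eq', QuotientGroup.out_eq'] at h1
      exact h1.symm
    have h2 := hY₀' _ hne x x.2 y y.2
    have h3 := h2.map (MulAut.conj ((Quotient.out j : Y) : Γ)).toMonoidHom
    have e1 : (MulAut.conj ((Quotient.out j : Y) : Γ)).toMonoidHom
        ((((Quotient.out j : Y)⁻¹ * (Quotient.out i : Y) : Y) : Γ) * x *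
          (((Quotient.out j : Y)⁻¹ * (Quotient.out i : Y) : Y) : Γ)⁻¹) = φ i x := by
      rw [hφ]
      simp only [Subgroup.coe_mul, InvMemClass.coe_inv, MulEquiv.coe_toMonoidHom,
        MulAut.conj_apply]
      group
    rw [e1] at h3
    exact h3
  let Φ : (ι → L) →* Γ := MonoidHom.noncommPiCoprod φ hcomm
  have hΦs : ∀ (i : ι) (l : L), Φ (Pi.mulSingle i l) = φ i l :=
    fun i l => MonoidHom.noncommPiCoprod_mulSingle φ i l
  have hΦmem : ∀ (U : Subgroup Γ) (f : ι → L), (∀ i, φ i (f i) ∈ U) → Φ f ∈ U := by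
    intro U f hf
    have : Φ f = Finset.noncommProd Finset.univ (fun i ↦ φ i (f i))
      (Pairwise.set_pairwise (fun ⦃i j⦄ a ↦ hcomm a (f i) (f j)) _) :=
      MonoidHom.noncommPiCoprod_apply φ f
    rw [this]
    exact Subgroup.noncommProd_mem _ _ (fun i _ => hf i)
  let d : L →* Γ := Φ.comp (Pi.constMonoidHom ι L)
  have hd : ∀ l, d l = Φ (fun _ => l) := fun l => rfl
  refine ⟨d, ?_, ?_, ?_⟩
  · intro l y hy
    -- the permutation of the index set
    let yy : Y := ⟨y, hy⟩
    let π : (ι → L) →* (ι → L) :=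
      { toFun := fun f i => f (yy⁻¹ • i)
        map_one' := rfl
        map_mul' := fun f g => rfl }
    have key : (MulAut.conj y).toMonoidHom.comp Φ = Φ.comp π := by
      apply MonoidHom.pi_ext
      intro i x
      have e1 : π (Pi.mulSingle i x) = Pi.mulSingle (yy • i) x := by
        funext j
        change (Pi.mulSingle i x : ι → L) (yy⁻¹ • j) = (Pi.mulSingle (yy • i) x : ι → L) j
        by_cases hj : j = yy • i
        · subst hj
          rw [inv_smul_smul, Pi.mulSingle_eq_same, Pi.mulSingle_eq_same]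
        · rw [Pi.mulSingle_eq_of_ne hj, Pi.mulSingle_eq_of_ne]
          intro h'
          apply hj
          rw [← h', smul_inv_smul]
      rw [MonoidHom.comp_apply, MonoidHom.comp_apply, e1, hΦs, hΦs]
      obtain ⟨z, rfl⟩ := QuotientGroup.mk_surjective i
      have e2 : yy • (QuotientGroup.mk z : ι) = QuotientGroup.mk (yy * z) := rfl
      rw [e2, hφ', hφ']
      simp only [Subgroup.coe_mul, MulEquiv.coe_toMonoidHom, MulAut.conj_apply]
      change y * ((z : Γ) * x * (z : Γ)⁻¹) * y⁻¹ = (y * z) * x * (y * z)⁻¹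
      group
    have := DFunLike.congr_fun key (fun _ => l)
    rw [MonoidHom.comp_apply, MonoidHom.comp_apply] at this
    have e3 : π (fun _ => l) = fun _ => l := rfl
    rw [e3] at this
    rw [hd]
    simpa using this
  · intro l m
    let i₀ : ι := QuotientGroup.mk 1
    have e1 : (fun _ => l : ι → L) = Pi.mulSingle i₀ l * (fun i => if i = i₀ then 1 else l) := by
      funext i
      by_cases hi : i = i₀
      · subst hi; simp
      · simp [hi]
    have e2 : Commute (m : Γ) (Φ (fun i => if i = i₀ then 1 else l)) := by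
      have hm : Φ (fun i => if i = i₀ then 1 else l) ∈ Subgroup.centralizer {(m : Γ)} := by
        apply hΦmem
        intro i
        by_cases hi : i = i₀
        · simp [hi]
        · simp only [hi, if_false]
          rw [Subgroup.mem_centralizer_singleton_iff]
          have := hcomm hi l m
          have e3 : φ i₀ m = m := by
            rw [hφ']; simp
          rw [e3] at this
          exact this.eq
      rw [Subgroup.mem_centralizer_singleton_iff] at hm
      exact hm.symm
    rw [hd, e1, map_mul, hΦs]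
    have e3 : φ i₀ l = l := by rw [hφ']; simp
    rw [e3, mul_inv_rev]
    set r := Φ (fun i => if i = i₀ then 1 else l) with hr
    calc (l : Γ) * r * m * (r⁻¹ * (l : Γ)⁻¹) = l * (r * m) * r⁻¹ * (l : Γ)⁻¹ := by group
      _ = l * (m * r) * r⁻¹ * (l : Γ)⁻¹ := by rw [e2.eq]
      _ = l * m * (l : Γ)⁻¹ := by group
  · intro U l hU
    rw [hd]
    apply hΦmem
    intro i
    exact hU _ (Subtype.coe_prop _)

end Cfsg.Agent.PLocal.DiagHom
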