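import Mathlib
import Cfsg.Prelude.Def_Transfer
import Cfsg.Agent.PLocal.DiagHom
import Cfsg.Agent.PLocal.ThompsonFrattini

/-!
Consequences of the structure theorem for failure of factorization (statement S0617) in the
presence of a coprime operator group `Y`.

`FFFam p V H 𝓔` records the conclusion of S0617: `H` is the direct product of the members `E` of
`𝓔`, each `E ≅ SL(2, p)`, `p ∈ {2, 3}`, `V` the direct product of `C_V(H)` and the planes `[V, E]`.
-/

set_option autoImplicit false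

namespace Cfsg.Agent.PLocal.FFFamily

open Subgroup

variable {Γ : Type*} [Group Γ]

/-- The conclusion of the structure theorem S0617. -/
structure FFFam (p : ℕ) (V H : Subgroup Γ) (𝓔 : Set (Subgroup Γ)) : Prop where
  hp : p = 2 ∨ p = 3
  ab : IsMulCommutative V
  nrm : H ≤ normalizer (V : Set Γ)
  faithful : H ⊓ centralizer (V : Set Γ) = ⊥
  nrmE : ∀ E ∈ 𝓔, H ≤ normalizer (E : Set Γ)
  iso : ∀ E ∈ 𝓔, Nonempty (↥E ≃* Matrix.SpecialLinearGroup (Fin 2) (ZMod p))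
  cardE : ∀ E ∈ 𝓔, Nat.card ↥(⁅V, E⁆) = p ^ 2
  indep : iSupIndep (fun E : 𝓔 => (E : Subgroup Γ))
  sup : (⨆ E : 𝓔, (E : Subgroup Γ)) = H
  indepV : iSupIndep (fun o : Option 𝓔 =>
    o.elim (V ⊓ centralizer (H : Set Γ)) (fun E => ⁅V, (E : Subgroup Γ)⁆))
  supV : (V ⊓ centralizer (H : Set Γ)) ⊔ (⨆ E : 𝓔, ⁅V, (E : Subgroup Γ)⁆) = V

/-! ### `SL(2, p)` for `p = 2, 3` -/

theorem card_sl_two : Nat.card (Matrix.SpecialLinearGroup (Fin 2) (ZMod 2)) = 6 := by
  rw [Nat.card_eq_fintype_card]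
  decide +kernel

theorem card_sl_three : Nat.card (Matrix.SpecialLinearGroup (Fin 2) (ZMod 3)) = 24 := by
  rw [Nat.card_eq_fintype_card]
  decide +kernel

/-- A normal subgroup of `SL(2, p)` of index prime to `p` is everything. -/
theorem eq_top_of_normal_of_coprime_index {p : ℕ} [Fact p.Prime]
    (N : Subgroup (Matrix.SpecialLinearGroup (Fin 2) (ZMod p))) [N.Normal]
    (h : ¬ p ∣ N.index) : N = ⊤ := by
  have hp : p.Prime := Fact.out
  have key : ∀ t : Matrix.SpecialLinearGroup (Fin 2) (ZMod p), t ^ p = 1 → t ∈ N := by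
    intro t ht
    rw [← QuotientGroup.eq_one_iff]
    have h1 : orderOf (QuotientGroup.mk t : _ ⧸ N) ∣ p := by
      apply orderOf_dvd_of_pow_eq_one
      rw [← QuotientGroup.mk_pow, ht, QuotientGroup.mk_one]
    have h2 : orderOf (QuotientGroup.mk t : _ ⧸ N) ∣ N.index := orderOf_dvd_natCard _
    rcases (Nat.dvd_prime hp).1 h1 with h3 | h3
    · exact orderOf_eq_one_iff.1 h3
    · exact absurd ((dvd_of_eq h3.symm).trans h2) h
  rw [eq_top_iff]
  intro A _
  refine Matrix.SL2.transvection_induction (F := ZMod p) (fun A => A ∈ N) ?_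
    (fun A B hA hB => N.mul_mem hA hB) A
  intro i j hij c
  apply key
  have : ∀ n : ℕ, (Matrix.SpecialLinearGroup.transvection hij c) ^ n =
      Matrix.SpecialLinearGroup.transvection hij ((n : ZMod p) * c) := by
    intro n
    induction n with
    | zero => simp
    | succ n ih =>
      rw [pow_succ, ih, ← Matrix.SpecialLinearGroup.transvection_add]
      congr 1
      push_cast
      ring
  rw [this p]
  simp

/-- The same for a group isomorphic to `SL(2, p)`. -/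
theorem eq_top_of_iso {p : ℕ} [Fact p.Prime] {E : Type*} [Group E]
    (e : E ≃* Matrix.SpecialLinearGroup (Fin 2) (ZMod p)) (N : Subgroup E) (hN : N.Normal)
    (h : ¬ p ∣ N.index) : N = ⊤ := by
  have hN' : (N.map e.toMonoidHom).Normal := hN.map e.toMonoidHom e.surjective
  have h1 : (N.map e.toMonoidHom).index = N.index := by
    rw [Subgroup.index_map_of_bijective e.bijective]
  have h2 := eq_top_of_normal_of_coprime_index (N.map e.toMonoidHom) (by rwa [h1])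
  have h3 : N = (N.map e.toMonoidHom).comap e.toMonoidHom :=
    (Subgroup.comap_map_eq_self_of_injective e.injective N).symm
  rw [h3, h2, Subgroup.comap_top]

/-! ### Normalizers and commutators -/

theorem mem_normalizer_iff_map {U : Subgroup Γ} {g : Γ} :
    g ∈ normalizer (U : Set Γ) ↔ U.map (MulAut.conj g).toMonoidHom = U :=
  Subgroup.mem_normalizer_iff_map_conj_eq

theorem mem_map_conj {U : Subgroup Γ} {g x : Γ} :
    x ∈ U.map (MulAut.conj g).toMonoidHom ↔ g⁻¹ * x * g ∈ U := by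
  constructor
  · rintro ⟨y, hy, rfl⟩
    have : g⁻¹ * ((MulAut.conj g).toMonoidHom y) * g = y := by
      simp [MulAut.conj_apply, mul_assoc]
    rw [this]; exact hy
  · intro h
    exact ⟨g⁻¹ * x * g, h, by simp [MulAut.conj_apply, mul_assoc]⟩

theorem conj_mem_of_mem_normalizer {U : Subgroup Γ} {g x : Γ} (hg : g ∈ normalizer (U : Set Γ))
    (hx : x ∈ U) : g * x * g⁻¹ ∈ U :=
  (Subgroup.mem_normalizer_iff.1 hg x).1 hx

theorem mem_normalizer_commutator {U W : Subgroup Γ} {g : Γ} (hU : g ∈ normalizer (U : Set Γ))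
    (hW : g ∈ normalizer (W : Set Γ)) : g ∈ normalizer ((⁅U, W⁆ : Subgroup Γ) : Set Γ) := by
  rw [mem_normalizer_iff_map] at hU hW ⊢
  rw [Subgroup.map_commutator, hU, hW]

namespace FFFam

variable {p : ℕ} {V H : Subgroup Γ} {𝓔 : Set (Subgroup Γ)}

theorem le (h : FFFam p V H 𝓔) {E : Subgroup Γ} (hE : E ∈ 𝓔) : E ≤ H := by
  rw [← h.sup]
  exact le_iSup (fun E : 𝓔 => (E : Subgroup Γ)) ⟨E, hE⟩

theorem comm (h : FFFam p V H 𝓔) {v w : Γ} (hv : v ∈ V) (hw : w ∈ V) : Commute v w := by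
  have := h.ab.is_comm.comm (⟨v, hv⟩ : V) ⟨w, hw⟩
  exact congrArg Subtype.val this

theorem disjoint (h : FFFam p V H 𝓔) {E F : Subgroup Γ} (hE : E ∈ 𝓔) (hF : F ∈ 𝓔)
    (hne : E ≠ F) : Disjoint E F :=
  h.indep.pairwiseDisjoint (i := ⟨E, hE⟩) (j := ⟨F, hF⟩) (by simpa using hne)

theorem commute (h : FFFam p V H 𝓔) {E F : Subgroup Γ} (hE : E ∈ 𝓔) (hF : F ∈ 𝓔)
    (hne : E ≠ F) {e f : Γ} (he : e ∈ E) (hf : f ∈ F) : Commute e f := by
  have h1 : e * f * e⁻¹ * f⁻¹ ∈ E := by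
    have := conj_mem_of_mem_normalizer (h.nrmE E hE (h.le hF hf)) (E.inv_mem he)
    have h2 := E.mul_mem he this
    have h3 : e * (f * e⁻¹ * f⁻¹) = e * f * e⁻¹ * f⁻¹ := by group
    rwa [h3] at h2
  have h2 : e * f * e⁻¹ * f⁻¹ ∈ F :=
    F.mul_mem (conj_mem_of_mem_normalizer (h.nrmE F hF (h.le hE he)) hf) (F.inv_mem hf)
  have h3 : e * f * e⁻¹ * f⁻¹ = 1 := by
    have := (h.disjoint hE hF hne).le_bot ⟨h1, h2⟩
    simpa using this
  have h4 : e * f = f * e := by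
    calc e * f = (e * f * e⁻¹ * f⁻¹) * (f * e) := by group
      _ = f * e := by rw [h3, one_mul]
  exact h4

theorem comm_le (h : FFFam p V H 𝓔) {E : Subgroup Γ} (hE : E ∈ 𝓔) : ⁅V, E⁆ ≤ V := by
  rw [Subgroup.commutator_le]
  intro v hv e he
  rw [commutatorElement_def]
  have := conj_mem_of_mem_normalizer (h.nrm (h.le hE he)) (V.inv_mem hv)
  have h2 := V.mul_mem hv this
  have h3 : v * (e * v⁻¹ * e⁻¹) = v * e * v⁻¹ * e⁻¹ := by group
  rwa [h3] at h2

theorem nrm_comm (h : FFFam p V H 𝓔) {E : Subgroup Γ} (hE : E ∈ 𝓔) :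
    H ≤ normalizer ((⁅V, E⁆ : Subgroup Γ) : Set Γ) :=
  fun _ hx => mem_normalizer_commutator (h.nrm hx) (h.nrmE E hE hx)

theorem disjointV (h : FFFam p V H 𝓔) {E F : Subgroup Γ} (hE : E ∈ 𝓔) (hF : F ∈ 𝓔)
    (hne : E ≠ F) : Disjoint ⁅V, E⁆ ⁅V, F⁆ :=
  h.indepV.pairwiseDisjoint (i := some ⟨E, hE⟩) (j := some ⟨F, hF⟩) (by simpa using hne)

theorem disjointC (h : FFFam p V H 𝓔) {E : Subgroup Γ} (hE : E ∈ 𝓔) :
    Disjoint (V ⊓ centralizer (H : Set Γ)) ⁅V, E⁆ :=
  h.indepV.pairwiseDisjoint (i := none) (j := some ⟨E, hE⟩) (by simp)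

theorem commuteV (h : FFFam p V H 𝓔) {E F : Subgroup Γ} (hE : E ∈ 𝓔) (hF : F ∈ 𝓔)
    (hne : E ≠ F) {v f : Γ} (hv : v ∈ ⁅V, E⁆) (hf : f ∈ F) : Commute v f := by
  have h1 : v * f * v⁻¹ * f⁻¹ ∈ ⁅V, E⁆ := by
    have := conj_mem_of_mem_normalizer (h.nrm_comm hE (h.le hF hf)) (Subgroup.inv_mem _ hv)
    have h2 := Subgroup.mul_mem _ hv this
    have h3 : v * (f * v⁻¹ * f⁻¹) = v * f * v⁻¹ * f⁻¹ := by group
    rwa [h3] at h2
  have h2 : v * f * v⁻¹ * f⁻¹ ∈ ⁅V, F⁆ :=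
    Subgroup.commutator_mem_commutator (h.comm_le hE hv) hf
  have h3 : v * f * v⁻¹ * f⁻¹ = 1 := by
    have := (h.disjointV hE hF hne).le_bot ⟨h1, h2⟩
    simpa using this
  have h4 : v * f = f * v := by
    calc v * f = (v * f * v⁻¹ * f⁻¹) * (f * v) := by group
      _ = f * v := by rw [h3, one_mul]
  exact h4

/-- `E` acts faithfully on `[V, E]`. -/
theorem faithfulE (h : FFFam p V H 𝓔) {E : Subgroup Γ} (hE : E ∈ 𝓔) {e : Γ} (he : e ∈ E)
    (hc : ∀ v ∈ ⁅V, E⁆, Commute e v) : e = 1 := by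
  have h1 : V ≤ centralizer {e} := by
    rw [← h.supV]
    refine sup_le ?_ (iSup_le ?_)
    · rintro v ⟨_, hv⟩
      rw [Subgroup.mem_centralizer_singleton_iff]
      exact ((Subgroup.mem_centralizer_iff.1 hv) e (h.le hE he)).symm
    · rintro ⟨F, hF⟩ v hv
      rw [Subgroup.mem_centralizer_singleton_iff]
      by_cases hne : F = E
      · subst hne; exact (hc v hv).symm.eq
      · exact (h.commuteV hF hE hne hv he).eq
  have h2 : e ∈ H ⊓ centralizer (V : Set Γ) := by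
    refine Subgroup.mem_inf.2 ⟨h.le hE he, ?_⟩
    rw [Subgroup.mem_centralizer_iff]
    intro v hv
    exact Subgroup.mem_centralizer_singleton_iff.1 (h1 hv)
  rw [h.faithful] at h2
  simpa using h2

/-- `C_{[V, E]}(E) = 1`. -/
theorem faithfulV (h : FFFam p V H 𝓔) {E : Subgroup Γ} (hE : E ∈ 𝓔) {v : Γ} (hv : v ∈ ⁅V, E⁆)
    (hc : ∀ e ∈ E, Commute e v) : v = 1 := by
  have h1 : H ≤ centralizer {v} := by
    rw [← h.sup]
    refine iSup_le ?_
    rintro ⟨F, hF⟩ f hf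
    rw [Subgroup.mem_centralizer_singleton_iff]
    by_cases hne : E = F
    · subst hne; exact (hc f hf).eq
    · exact (h.commuteV hE hF hne hv hf).symm.eq
  have h2 : v ∈ V ⊓ centralizer (H : Set Γ) := by
    refine Subgroup.mem_inf.2 ⟨h.comm_le hE hv, ?_⟩
    rw [Subgroup.mem_centralizer_iff]
    intro x hx
    exact Subgroup.mem_centralizer_singleton_iff.1 (h1 hx)
  have := (h.disjointC hE).le_bot ⟨h2, hv⟩
  simpa using this


/-! ### Coprime operators -/

/-- A `q`-group normalizing a group of order `p ^ 2` (`p = 2, 3`) centralizes it, provided `q` does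
not divide `|SL(2, p)|`. -/
theorem _root_.Cfsg.Agent.PLocal.FFFamily.centralizes_of_card_sq {p q : ℕ} [Fact q.Prime]
    (hp : p = 2 ∨ p = 3) (Y U : Subgroup Γ) (hU : Nat.card U = p ^ 2)
    (hY : IsPGroup q Y) (hYU : Y ≤ normalizer (U : Set Γ))
    (hq : ¬ q ∣ Nat.card (Matrix.SpecialLinearGroup (Fin 2) (ZMod p))) :
    ∀ y ∈ Y, ∀ u ∈ U, y * u * y⁻¹ = u := by
  have hqp : q.Prime := Fact.out
  have : Finite U := Nat.finite_of_card_ne_zero (by
    rw [hU]; rcases hp with rfl | rfl <;> norm_num)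
  let act : MulAction Y U :=
    { smul := fun y u => ⟨(y : Γ) * u * (y : Γ)⁻¹,
        conj_mem_of_mem_normalizer (hYU y.2) u.2⟩
      one_smul := fun u => Subtype.ext (by
        change ((1 : Y) : Γ) * u * ((1 : Y) : Γ)⁻¹ = u
        simp)
      mul_smul := fun y z u => Subtype.ext (by
        change ((y * z : Y) : Γ) * u * ((y * z : Y) : Γ)⁻¹ =
          (y : Γ) * ((z : Γ) * u * (z : Γ)⁻¹) * (y : Γ)⁻¹
        simp only [Subgroup.coe_mul]; group) }
  have hact : ∀ (y : Y) (u : U), ((y • u : U) : Γ) = (y : Γ) * u * (y : Γ)⁻¹ := fun _ _ => rfl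
  have h1 := hY.card_modEq_card_fixedPoints (α := U)
  let C : Subgroup U := (centralizer (Y : Set Γ)).subgroupOf U
  have hC : Nat.card (MulAction.fixedPoints Y U) = Nat.card C := by
    apply Nat.card_congr
    refine Equiv.subtypeEquivRight ?_
    intro u
    rw [MulAction.mem_fixedPoints, Subgroup.mem_subgroupOf, Subgroup.mem_centralizer_iff]
    constructor
    · intro h y hy
      have := congrArg Subtype.val (h ⟨y, hy⟩)
      rw [hact] at this
      calc y * (u : Γ) = (y * u * y⁻¹) * y := by group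
        _ = u * y := by rw [this]
    · intro h y
      apply Subtype.ext
      rw [hact, h y y.2]; group
  rw [hC, hU] at h1
  have h2 : Nat.card C ∣ p ^ 2 := hU ▸ Subgroup.card_subgroup_dvd_card C
  have hCtop : C = ⊤ := by
    rw [← Subgroup.card_eq_iff_eq_top, hU]
    obtain ⟨k, hk, hk'⟩ : ∃ k ≤ 2, Nat.card C = p ^ k := by
      rcases hp with rfl | rfl
      · exact (Nat.dvd_prime_pow Nat.prime_two).1 h2
      · exact (Nat.dvd_prime_pow Nat.prime_three).1 h2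
    rw [hk'] at h1 ⊢
    interval_cases k
    · exfalso
      rcases hp with rfl | rfl
      · rw [card_sl_two] at hq
        have : q ∣ 2 ^ 2 - 2 ^ 0 := (Nat.modEq_iff_dvd' (by norm_num)).1 h1.symm
        norm_num at this
        exact hq (this.trans (by norm_num))
      · rw [card_sl_three] at hq
        have : q ∣ 3 ^ 2 - 3 ^ 0 := (Nat.modEq_iff_dvd' (by norm_num)).1 h1.symm
        norm_num at this
        exact hq (this.trans (by norm_num))
    · exfalso
      rcases hp with rfl | rfl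
      · rw [card_sl_two] at hq
        have : q ∣ 2 ^ 2 - 2 ^ 1 := (Nat.modEq_iff_dvd' (by norm_num)).1 h1.symm
        norm_num at this
        exact hq (this.trans (by norm_num))
      · rw [card_sl_three] at hq
        have : q ∣ 3 ^ 2 - 3 ^ 1 := (Nat.modEq_iff_dvd' (by norm_num)).1 h1.symm
        norm_num at this
        exact hq (this.trans (by norm_num))
    · rfl
  intro y hy u hu
  have : (⟨u, hu⟩ : U) ∈ C := by rw [hCtop]; trivial
  rw [Subgroup.mem_subgroupOf, Subgroup.mem_centralizer_iff] at this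
  have h3 : y * u = u * y := this y hy
  rw [h3]; group

section operators

variable {q : ℕ} [Fact q.Prime] {Y : Subgroup Γ}

/-- An element of `Y` normalizing `E` centralizes `[V, E]` and `E`. -/
theorem centralizes (h : FFFam p V H 𝓔) (hYV : Y ≤ normalizer (V : Set Γ)) (hY : IsPGroup q Y)
    (hq : ¬ q ∣ Nat.card H) {E : Subgroup Γ} (hE : E ∈ 𝓔) {y : Γ} (hy : y ∈ Y)
    (hyE : y ∈ normalizer (E : Set Γ)) :
    (∀ v ∈ ⁅V, E⁆, y * v * y⁻¹ = v) ∧ (∀ e ∈ E, y * e * y⁻¹ = e) := by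
  have hqE : ¬ q ∣ Nat.card (Matrix.SpecialLinearGroup (Fin 2) (ZMod p)) := by
    obtain ⟨e⟩ := h.iso E hE
    rw [← Nat.card_congr e.toEquiv]
    intro h1
    exact hq (h1.trans (Subgroup.card_dvd_of_le (h.le hE)))
  have h1 : ∀ v ∈ ⁅V, E⁆, y * v * y⁻¹ = v := by
    have := centralizes_of_card_sq (q := q) h.hp (Y ⊓ normalizer (E : Set Γ)) ⁅V, E⁆
      (h.cardE E hE) (hY.to_le inf_le_left)
      (fun z hz => mem_normalizer_commutator (hYV hz.1) hz.2) hqE
    exact this y ⟨hy, hyE⟩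
  refine ⟨h1, ?_⟩
  intro e he
  have he' : y * e * y⁻¹ ∈ E := conj_mem_of_mem_normalizer hyE he
  have h2 : (y * e * y⁻¹)⁻¹ * e = 1 := by
    apply h.faithfulE hE (E.mul_mem (E.inv_mem he') he)
    intro v hv
    -- `y` centralizes `v` and `e v e⁻¹`
    have hv1 := h1 v hv
    have hv2 := h1 (e * v * e⁻¹) (conj_mem_of_mem_normalizer (h.nrm_comm hE (h.le hE he)) hv)
    have h3 : (y * e * y⁻¹) * v * (y * e * y⁻¹)⁻¹ = e * v * e⁻¹ := by
      calc (y * e * y⁻¹) * v * (y * e * y⁻¹)⁻¹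
          = (y * e * y⁻¹) * (y * v * y⁻¹) * (y * e * y⁻¹)⁻¹ := by rw [hv1]
        _ = y * (e * v * e⁻¹) * y⁻¹ := by group
        _ = e * v * e⁻¹ := hv2
    have h4 : ((y * e * y⁻¹)⁻¹ * e) * v * ((y * e * y⁻¹)⁻¹ * e)⁻¹ = v := by
      calc ((y * e * y⁻¹)⁻¹ * e) * v * ((y * e * y⁻¹)⁻¹ * e)⁻¹
          = (y * e * y⁻¹)⁻¹ * (e * v * e⁻¹) * (y * e * y⁻¹) := by group
        _ = (y * e * y⁻¹)⁻¹ * ((y * e * y⁻¹) * v * (y * e * y⁻¹)⁻¹) * (y * e * y⁻¹) := by
          rw [h3]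
        _ = v := by group
    have h5 : ((y * e * y⁻¹)⁻¹ * e) * v = v * ((y * e * y⁻¹)⁻¹ * e) := by
      calc ((y * e * y⁻¹)⁻¹ * e) * v
          = (((y * e * y⁻¹)⁻¹ * e) * v * ((y * e * y⁻¹)⁻¹ * e)⁻¹) *
              ((y * e * y⁻¹)⁻¹ * e) := by group
        _ = v * ((y * e * y⁻¹)⁻¹ * e) := by rw [h4]
    exact h5
  calc y * e * y⁻¹ = (y * e * y⁻¹) * ((y * e * y⁻¹)⁻¹ * e) := by rw [h2, mul_one]
    _ = e := by group

/-- The diagonal homomorphism `[V, E] E → C(Y)`. -/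
theorem exists_diag (h : FFFam p V H 𝓔) [Finite Y] (hYV : Y ≤ normalizer (V : Set Γ))
    (hY𝓔 : ∀ y ∈ Y, ∀ E ∈ 𝓔, E.map (MulAut.conj y).toMonoidHom ∈ 𝓔)
    (hY : IsPGroup q Y) (hq : ¬ q ∣ Nat.card H) {E : Subgroup Γ} (hE : E ∈ 𝓔) :
    ∃ d : (⁅V, E⁆ ⊔ E : Subgroup Γ) →* Γ, (∀ l, ∀ y ∈ Y, y * d l * y⁻¹ = d l) ∧
      (∀ l m : (⁅V, E⁆ ⊔ E : Subgroup Γ), d l * m * (d l)⁻¹ = l * m * (l : Γ)⁻¹) ∧
      (∀ (U : Subgroup Γ) (l : (⁅V, E⁆ ⊔ E : Subgroup Γ)), (∀ y ∈ Y, y * l * y⁻¹ ∈ U) → d l ∈ U)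
    := by
  apply DiagHom.exists_diagHom
  intro y hy
  by_cases hyE : y ∈ normalizer (E : Set Γ)
  · left
    obtain ⟨h1, h2⟩ := h.centralizes hYV hY hq hE hy hyE
    have h3 : (⁅V, E⁆ ⊔ E : Subgroup Γ) ≤ centralizer {y} := by
      refine sup_le ?_ ?_
      · intro v hv
        rw [Subgroup.mem_centralizer_singleton_iff]
        calc v * y = (y * v * y⁻¹) * y := by rw [h1 v hv]
          _ = y * v := by group
      · intro v hv
        rw [Subgroup.mem_centralizer_singleton_iff]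
        calc v * y = (y * v * y⁻¹) * y := by rw [h2 v hv]
          _ = y * v := by group
    intro l hl
    have := Subgroup.mem_centralizer_singleton_iff.1 (h3 hl)
    rw [← this]; group
  · right
    set F := E.map (MulAut.conj y).toMonoidHom with hF
    have hF𝓔 : F ∈ 𝓔 := hY𝓔 y hy E hE
    have hne : E ≠ F := by
      intro h1
      apply hyE
      rw [mem_normalizer_iff_map]
      exact h1.symm
    have hLF : (⁅V, E⁆ ⊔ E : Subgroup Γ).map (MulAut.conj y).toMonoidHom = ⁅V, F⁆ ⊔ F := by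
      rw [Subgroup.map_sup, Subgroup.map_commutator, (mem_normalizer_iff_map.1 (hYV hy))]
    have hcent : (⁅V, F⁆ ⊔ F : Subgroup Γ) ≤ centralizer ((⁅V, E⁆ ⊔ E : Subgroup Γ) : Set Γ) := by
      rw [Subgroup.le_centralizer_iff]
      refine sup_le ?_ ?_
      · intro v hv
        rw [Subgroup.mem_centralizer_iff]
        have : (⁅V, F⁆ ⊔ F : Subgroup Γ) ≤ centralizer {v} := by
          refine sup_le ?_ ?_
          · intro w hw
            rw [Subgroup.mem_centralizer_singleton_iff]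
            exact (h.comm (h.comm_le hF𝓔 hw) (h.comm_le hE hv)).eq
          · intro f hf
            rw [Subgroup.mem_centralizer_singleton_iff]
            exact (h.commuteV hE hF𝓔 hne hv hf).symm.eq
        intro x hx
        exact Subgroup.mem_centralizer_singleton_iff.1 (this hx)
      · intro e he
        rw [Subgroup.mem_centralizer_iff]
        have : (⁅V, F⁆ ⊔ F : Subgroup Γ) ≤ centralizer {e} := by
          refine sup_le ?_ ?_
          · intro w hw
            rw [Subgroup.mem_centralizer_singleton_iff]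
            exact (h.commuteV hF𝓔 hE (Ne.symm hne) hw he).eq
          · intro f hf
            rw [Subgroup.mem_centralizer_singleton_iff]
            exact (h.commute hE hF𝓔 hne he hf).symm.eq
        intro x hx
        exact Subgroup.mem_centralizer_singleton_iff.1 (this hx)
    intro l hl m hm
    have h1 : y * l * y⁻¹ ∈ (⁅V, F⁆ ⊔ F : Subgroup Γ) := by
      rw [← hLF]
      exact ⟨l, hl, by simp [MulAut.conj_apply]⟩
    exact ((Subgroup.mem_centralizer_iff.1 (hcent h1)) m hm).symm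

/-- In the fixed points of `Y` there are a plane `W` of `V` and a subgroup `D ≅ SL(2, p)` of `H`
acting faithfully on `W`. -/
theorem exists_plane (h : FFFam p V H 𝓔) [Finite Y] (hH : H ≠ ⊥)
    (hYV : Y ≤ normalizer (V : Set Γ)) (hYH : Y ≤ normalizer (H : Set Γ))
    (hY𝓔 : ∀ y ∈ Y, ∀ E ∈ 𝓔, E.map (MulAut.conj y).toMonoidHom ∈ 𝓔)
    (hY : IsPGroup q Y) (hq : ¬ q ∣ Nat.card H) :
    ∃ W D : Subgroup Γ, W ≤ V ⊓ centralizer (Y : Set Γ) ∧ D ≤ H ⊓ centralizer (Y : Set Γ) ∧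
      Nat.card W = p ^ 2 ∧ D ≤ normalizer (W : Set Γ) ∧ D ⊓ centralizer (W : Set Γ) = ⊥ ∧
      Nonempty (↥D ≃* Matrix.SpecialLinearGroup (Fin 2) (ZMod p)) := by
  obtain ⟨E, hE⟩ : 𝓔.Nonempty := by
    by_contra hne
    rw [Set.not_nonempty_iff_eq_empty] at hne
    apply hH
    rw [← h.sup]
    subst hne
    simp
  obtain ⟨d, hd1, hd2, hd3⟩ := h.exists_diag hYV hY𝓔 hY hq hE
  have hVEL : ⁅V, E⁆ ≤ ⁅V, E⁆ ⊔ E := le_sup_left
  have hEL : E ≤ ⁅V, E⁆ ⊔ E := le_sup_right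
  let dE : E →* Γ := d.comp (Subgroup.inclusion hEL)
  let dV : (⁅V, E⁆ : Subgroup Γ) →* Γ := d.comp (Subgroup.inclusion hVEL)
  have hdE : ∀ e : E, dE e = d ⟨e, hEL e.2⟩ := fun _ => rfl
  have hdV : ∀ v : (⁅V, E⁆ : Subgroup Γ), dV v = d ⟨v, hVEL v.2⟩ := fun _ => rfl
  -- actions
  have actE : ∀ (e : E) (v : (⁅V, E⁆ : Subgroup Γ)), dE e * v * (dE e)⁻¹ = (e : Γ) * v * (e : Γ)⁻¹ :=
    fun e v => hd2 ⟨e, hEL e.2⟩ ⟨v, hVEL v.2⟩
  have hmemE : ∀ (e : E) (v : (⁅V, E⁆ : Subgroup Γ)), (e : Γ) * v * (e : Γ)⁻¹ ∈ ⁅V, E⁆ := fun e v =>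
    conj_mem_of_mem_normalizer (h.nrm_comm hE (h.le hE e.2)) v.2
  have key : ∀ (e : E) (v : (⁅V, E⁆ : Subgroup Γ)), dE e * dV v * (dE e)⁻¹ = dV ⟨(e : Γ) * v * (e : Γ)⁻¹, hmemE e v⟩ := by
    intro e v
    rw [hdE, hdV, hdV, ← map_inv, ← map_mul, ← map_mul]
    congr 1
  have injE : Function.Injective dE := by
    rw [injective_iff_map_eq_one]
    intro e he
    apply Subtype.ext
    apply h.faithfulE hE e.2
    intro v hv
    have := actE e ⟨v, hv⟩
    rw [he] at this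
    simp only [one_mul, inv_one, mul_one] at this
    have h5 : (e : Γ) * v = v * e := by
      calc (e : Γ) * v = ((e : Γ) * v * (e : Γ)⁻¹) * e := by group
        _ = v * e := by rw [← this]
    exact h5
  have injV : Function.Injective dV := by
    rw [injective_iff_map_eq_one]
    intro v hv
    apply Subtype.ext
    apply h.faithfulV hE v.2
    intro e he
    have := hd2 ⟨v, hVEL v.2⟩ ⟨e, hEL he⟩
    rw [← hdV, hv] at this
    simp only [one_mul, inv_one, mul_one] at this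
    have h5 : e * (v : Γ) = v * e := by
      calc e * (v : Γ) = ((v : Γ) * e * (v : Γ)⁻¹) * v := by rw [← this]
        _ = v * e := by group
    exact h5
  refine ⟨dV.range, dE.range, ?_, ?_, ?_, ?_, ?_, ?_⟩
  · rintro _ ⟨v, rfl⟩
    refine Subgroup.mem_inf.2 ⟨?_, ?_⟩
    · rw [hdV]
      apply hd3
      intro y hy
      exact conj_mem_of_mem_normalizer (hYV hy) (h.comm_le hE v.2)
    · rw [Subgroup.mem_centralizer_iff]
      intro y hy
      have := hd1 ⟨v, hVEL v.2⟩ y hy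
      rw [hdV]
      calc y * d ⟨v, hVEL v.2⟩ = (y * d ⟨v, hVEL v.2⟩ * y⁻¹) * y := by group
        _ = d ⟨v, hVEL v.2⟩ * y := by rw [this]
  · rintro _ ⟨e, rfl⟩
    refine Subgroup.mem_inf.2 ⟨?_, ?_⟩
    · rw [hdE]
      apply hd3
      intro y hy
      exact conj_mem_of_mem_normalizer (hYH hy) (h.le hE e.2)
    · rw [Subgroup.mem_centralizer_iff]
      intro y hy
      have := hd1 ⟨e, hEL e.2⟩ y hy
      rw [hdE]
      calc y * d ⟨e, hEL e.2⟩ = (y * d ⟨e, hEL e.2⟩ * y⁻¹) * y := by group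
        _ = d ⟨e, hEL e.2⟩ * y := by rw [this]
  · rw [← h.cardE E hE]
    exact (Nat.card_congr (MonoidHom.ofInjective injV).toEquiv).symm
  · rintro _ ⟨e, rfl⟩
    rw [mem_normalizer_iff_map]
    apply Subgroup.ext
    intro x
    constructor
    · rintro ⟨_, ⟨v, rfl⟩, rfl⟩
      exact ⟨⟨_, hmemE e v⟩, by rw [← key]; simp [MulAut.conj_apply]⟩
    · rintro ⟨v, rfl⟩
      refine ⟨dV ⟨_, hmemE e⁻¹ v⟩, ⟨_, rfl⟩, ?_⟩
      rw [← key]
      simp [MulAut.conj_apply, mul_assoc]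
  · rw [eq_bot_iff]
    rintro _ ⟨⟨e, rfl⟩, hc⟩
    have he1 : e = 1 := by
      apply Subtype.ext
      apply h.faithfulE hE e.2
      intro v hv
      have h1 := Subgroup.mem_centralizer_iff.1 hc (dV ⟨v, hv⟩) ⟨⟨v, hv⟩, rfl⟩
      have h2 := key e ⟨v, hv⟩
      rw [← h1] at h2
      have h3 : dV ⟨v, hv⟩ = dV ⟨(e : Γ) * v * (e : Γ)⁻¹, hmemE e ⟨v, hv⟩⟩ := by
        rw [← h2]; group
      have h4 := congrArg Subtype.val (injV h3)
      have h4' : v = (e : Γ) * v * (e : Γ)⁻¹ := h4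
      have h5 : (e : Γ) * v = v * e := by
        calc (e : Γ) * v = ((e : Γ) * v * (e : Γ)⁻¹) * e := by group
          _ = v * e := by rw [← h4']
      exact h5
    rw [he1, map_one]
    exact Subgroup.one_mem _
  · obtain ⟨f⟩ := h.iso E hE
    exact ⟨(MonoidHom.ofInjective injE).symm.trans f⟩

/-- A subgroup containing a Sylow `p`-subgroup of `H` and the fixed points of `Y` in `H`
contains `H`. -/
theorem le_of_sylow_of_fixed [Fact p.Prime] (h : FFFam p V H 𝓔) [Finite Y] [Finite H]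
    (hYV : Y ≤ normalizer (V : Set Γ)) (hYH : Y ≤ normalizer (H : Set Γ))
    (hY𝓔 : ∀ y ∈ Y, ∀ E ∈ 𝓔, E.map (MulAut.conj y).toMonoidHom ∈ 𝓔)
    (hY : IsPGroup q Y) (hq : ¬ q ∣ Nat.card H) (M : Subgroup Γ)
    (hM : H ⊓ centralizer (Y : Set Γ) ≤ M) (T : Sylow p H)
    (hT : (T : Subgroup H).map H.subtype ≤ M) : H ≤ M := by
  rw [← h.sup]
  refine iSup_le ?_
  rintro ⟨E, hE⟩
  change E ≤ M
  obtain ⟨d, hd1, hd2, hd3⟩ := h.exists_diag hYV hY𝓔 hY hq hE
  have hEL : E ≤ ⁅V, E⁆ ⊔ E := le_sup_right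
  have hdM : ∀ e (he : e ∈ E), d ⟨e, hEL he⟩ ∈ M := by
    intro e he
    apply hM
    refine Subgroup.mem_inf.2 ⟨?_, ?_⟩
    · apply hd3
      intro y hy
      exact conj_mem_of_mem_normalizer (hYH hy) (h.le hE he)
    · rw [Subgroup.mem_centralizer_iff]
      intro y hy
      have := hd1 ⟨e, hEL he⟩ y hy
      calc y * d ⟨e, hEL he⟩ = (y * d ⟨e, hEL he⟩ * y⁻¹) * y := by group
        _ = d ⟨e, hEL he⟩ * y := by rw [this]
  obtain ⟨f⟩ := h.iso E hE
  have hN : (M.subgroupOf E).Normal := by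
    refine ⟨?_⟩
    intro n hn g
    rw [Subgroup.mem_subgroupOf] at hn ⊢
    have h1 := hd2 ⟨g, hEL g.2⟩ ⟨n, hEL n.2⟩
    have h2 : ((g * n * g⁻¹ : E) : Γ) = (g : Γ) * n * (g : Γ)⁻¹ := rfl
    rw [h2]
    have h3 : d ⟨g, hEL g.2⟩ * (n : Γ) * (d ⟨g, hEL g.2⟩)⁻¹ = (g : Γ) * n * (g : Γ)⁻¹ := h1
    rw [← h3]
    exact M.mul_mem (M.mul_mem (hdM g g.2) hn) (M.inv_mem (hdM g g.2))
  have hNE : (E.subgroupOf H).Normal := by
    refine ⟨?_⟩
    intro n hn g
    rw [Subgroup.mem_subgroupOf] at hn ⊢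
    exact conj_mem_of_mem_normalizer (h.nrmE E hE g.2) hn
  have hidx : ¬ p ∣ (M.subgroupOf E).index := by
    have h1 := ThompsonFrattini.not_dvd_relIndex_of_sylow_le T (M.subgroupOf H) (E.subgroupOf H) (by
      intro x hx
      rw [Subgroup.mem_subgroupOf]
      exact hT ⟨x, hx, rfl⟩)
    rwa [Subgroup.relIndex_subgroupOf (h.le hE)] at h1
  have := eq_top_of_iso f (M.subgroupOf E) hN hidx
  rwa [Subgroup.subgroupOf_eq_top] at this

end operators

end FFFam

end Cfsg.Agent.PLocal.FFFamily
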