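import Mathlib

/-!
Elementary facts used for the structure theorem of failure of factorization: if `H` acts on the abelian group `V`,
`V = [V,E] × C_V(E)` and `H = E C_H([V,E])` with `[E, C_H([V,E])] = 1`, then a subgroup `A` of `H` whose fixed points
have prime index in `V` lies in `E` or centralizes `[V,E]`.
-/

set_option autoImplicit false

namespace Cfsg.Agent.PLocal.FailureStructure

open Subgroup
open scoped Pointwise

variable {G : Type*} [Group G]

/-- uniqueness of a product decomposition with respect to two subgroups meeting trivially. -/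
theorem unique_decomp {X Y : Subgroup G} (h : X ⊓ Y = ⊥) {x x' y y' : G} (hx : x ∈ X) (hx' : x' ∈ X)
    (hy : y ∈ Y) (hy' : y' ∈ Y) (e : x * y = x' * y') : x = x' := by
  have h1 : x'⁻¹ * x = y' * y⁻¹ := by
    have : x = x' * y' * y⁻¹ := by rw [← e]; group
    rw [this]; group
  have h2 : x'⁻¹ * x ∈ X ⊓ Y :=
    mem_inf.mpr ⟨mul_mem (inv_mem hx') hx, by rw [h1]; exact mul_mem hy' (inv_mem hy)⟩
  rw [h, mem_bot] at h2
  have : x = x' * (x'⁻¹ * x) := by group
  rw [this, h2, mul_one]

/-- Product decomposition in a join of commuting subgroups. -/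
theorem mem_sup_of_le_centralizer {X Y : Subgroup G} (h : Y ≤ centralizer (X : Set G)) {v : G}
    (hv : v ∈ X ⊔ Y) : ∃ x ∈ X, ∃ y ∈ Y, x * y = v := by
  have h1 : (↑(X ⊔ Y) : Set G) = X * Y :=
    coe_mul_of_right_le_normalizer_left X Y (h.trans (centralizer_le_normalizer _))
  have h2 : v ∈ (X : Set G) * (Y : Set G) := by rw [← h1]; exact hv
  obtain ⟨x, hx, y, hy, e⟩ := Set.mem_mul.mp h2
  exact ⟨x, hx, y, hy, e⟩

/-- Subgroups of a commutative subgroup centralize each other. -/
theorem le_centralizer_of_le_comm {V X Y : Subgroup G} (hV : IsMulCommutative V) (hX : X ≤ V) (hY : Y ≤ V) :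
    Y ≤ centralizer (X : Set G) := by
  intro y hy
  rw [mem_centralizer_iff]
  intro x hx
  have := hV.is_comm.comm (⟨x, hX hx⟩ : V) ⟨y, hY hy⟩
  exact congrArg Subtype.val this

theorem dichotomy [Finite G] {p : ℕ} [hp : Fact p.Prime] {V H E A : Subgroup G} (hVab : IsMulCommutative V)
    (hHV : H ≤ normalizer (V : Set G)) (hf : H ⊓ centralizer (V : Set G) = ⊥)
    (hWV : ⁅V, E⁆ ≤ V)
    (hd : ⁅V, E⁆ ⊓ (V ⊓ centralizer (E : Set G)) = ⊥) (he : ⁅V, E⁆ ⊔ (V ⊓ centralizer (E : Set G)) = V)
    (hc : ⁅E, H ⊓ centralizer ((⁅V, E⁆ : Subgroup G) : Set G)⁆ = ⊥)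
    (hh : E ⊔ (H ⊓ centralizer ((⁅V, E⁆ : Subgroup G) : Set G)) = H)
    (hA : A ≤ H) (hidx : (V ⊓ centralizer (A : Set G)).relIndex V = p) :
    A ≤ E ∨ A ≤ H ⊓ centralizer ((⁅V, E⁆ : Subgroup G) : Set G) := by
  by_contra hcon
  rw [not_or] at hcon
  obtain ⟨hAE, hAC⟩ := hcon
  set C := H ⊓ centralizer ((⁅V, E⁆ : Subgroup G) : Set G) with hC
  have hCE : C ≤ centralizer (E : Set G) := by
    rw [commutator_comm, commutator_eq_bot_iff_le_centralizer] at hc
    exact hc
  -- decomposition of elements of `A`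
  have hdec : ∀ a ∈ A, ∃ e ∈ E, ∃ c ∈ C, e * c = a := by
    intro a ha
    have : a ∈ E ⊔ C := by rw [hh]; exact hA ha
    exact mem_sup_of_le_centralizer hCE this
  have hVdec : ∀ v ∈ V, ∃ x ∈ ⁅V, E⁆, ∃ y ∈ V ⊓ centralizer (E : Set G), x * y = v := by
    intro v hv
    have : v ∈ ⁅V, E⁆ ⊔ (V ⊓ centralizer (E : Set G)) := by rw [he]; exact hv
    exact mem_sup_of_le_centralizer (le_centralizer_of_le_comm hVab hWV inf_le_left) this
  -- action of `e * c` on the two pieces
  have hact1 : ∀ e ∈ E, ∀ c ∈ C, ∀ y ∈ V ⊓ centralizer (E : Set G),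
      e * c * y * (e * c)⁻¹ = c * y * c⁻¹ := by
    intro e he c hc y hy
    have h1 : e * c = c * e := (mem_centralizer_iff.mp (hCE hc)) e he
    have h2 : e * y = y * e := (mem_centralizer_iff.mp hy.2) e he
    rw [h1]
    calc c * e * y * (c * e)⁻¹ = c * (e * y) * e⁻¹ * c⁻¹ := by group
      _ = c * y * c⁻¹ := by rw [h2]; group
  have hact1' : ∀ c ∈ C, ∀ y ∈ V ⊓ centralizer (E : Set G), c * y * c⁻¹ ∈ V ⊓ centralizer (E : Set G) := by
    intro c hc y hy
    exact mem_inf.mpr ⟨(mem_normalizer_iff.mp (hHV hc.1) y).mp hy.1,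
      mul_mem (mul_mem (hCE hc) hy.2) (inv_mem (hCE hc))⟩
  have hact2 : ∀ e ∈ E, ∀ c ∈ C, ∀ x ∈ ⁅V, E⁆, e * c * x * (e * c)⁻¹ = e * x * e⁻¹ := by
    intro e he c hc x hx
    have h1 : x * c = c * x := (mem_centralizer_iff.mp hc.2) x hx
    calc e * c * x * (e * c)⁻¹ = e * (c * x) * c⁻¹ * e⁻¹ := by group
      _ = e * x * e⁻¹ := by rw [← h1]; group
  have hact2' : ∀ e ∈ E, ∀ x ∈ ⁅V, E⁆, e * x * e⁻¹ ∈ ⁅V, E⁆ := by
    intro e he x hx
    exact (mem_normalizer_iff.mp (normalizer_commutator_ge_right V E he) x).mp hx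
  -- `w ∈ C_V(E)` moved by `A`
  obtain ⟨w, hw, a, ha, haw⟩ : ∃ w ∈ V ⊓ centralizer (E : Set G), ∃ a ∈ A, a * w * a⁻¹ ≠ w := by
    by_contra hno
    push Not at hno
    apply hAE
    intro a ha
    obtain ⟨e, he', c, hc', rfl⟩ := hdec a ha
    have : c ∈ H ⊓ centralizer (V : Set G) := by
      refine mem_inf.mpr ⟨hc'.1, ?_⟩
      rw [mem_centralizer_iff]
      intro v hv
      obtain ⟨x, hx, y, hy, rfl⟩ := hVdec v hv
      have h1 : x * c = c * x := (mem_centralizer_iff.mp hc'.2) x hx
      have h2 : c * y * c⁻¹ = y := by rw [← hact1 e he' c hc' y hy]; exact hno y hy _ ha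
      have h3 : c * y = y * c := by
        calc c * y = c * y * c⁻¹ * c := by group
          _ = y * c := by rw [h2]
      calc x * y * c = x * (c * y) := by rw [h3, mul_assoc]
        _ = c * (x * y) := by rw [← mul_assoc, h1, mul_assoc]
    rw [hf, mem_bot] at this
    rw [this, mul_one]
    exact he'
  obtain ⟨v, hv, a', ha', hav⟩ : ∃ v ∈ ⁅V, E⁆, ∃ a ∈ A, a * v * a⁻¹ ≠ v := by
    by_contra hno
    push Not at hno
    apply hAC
    intro a ha
    refine mem_inf.mpr ⟨hA ha, ?_⟩
    rw [mem_centralizer_iff]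
    intro x hx
    have := hno x hx a ha
    calc x * a = (a * x * a⁻¹) * a := by rw [this]
      _ = a * x := by group
  -- index argument
  set F := V ⊓ centralizer (A : Set G) with hF
  have hmemF : ∀ u ∈ F, ∀ a ∈ A, a * u * a⁻¹ = u := by
    intro u hu a ha
    have : a * u = u * a := (mem_centralizer_iff.mp hu.2) a ha
    rw [this]; group
  have hsup : F ⊔ zpowers w = V := by
    have hle : F ⊔ zpowers w ≤ V := sup_le inf_le_left (by rw [zpowers_le]; exact hw.1)
    have h1 := relIndex_mul_relIndex F (F ⊔ zpowers w) V le_sup_left hle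
    rw [hidx] at h1
    rcases (Nat.dvd_prime hp.out).mp (Dvd.intro _ h1) with h2 | h2
    · exfalso
      rw [relIndex_eq_one] at h2
      have : w ∈ F := h2 (mem_sup_right (mem_zpowers w))
      exact haw (hmemF w this a ha)
    · rw [h2] at h1
      have h3 : (F ⊔ zpowers w).relIndex V = 1 := by
        have := hp.out.pos
        exact Nat.eq_of_mul_eq_mul_left this (by rw [h1, mul_one])
      rw [relIndex_eq_one] at h3
      exact le_antisymm hle h3
  have hvV : v ∈ F ⊔ zpowers w := by rw [hsup]; exact hWV hv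
  obtain ⟨u, hu, z, hz, huz⟩ := mem_sup_of_le_centralizer
    (le_centralizer_of_le_comm hVab inf_le_left (by rw [zpowers_le]; exact hw.1)) hvV
  have hz' : z ∈ V ⊓ centralizer (E : Set G) := by
    have : zpowers w ≤ V ⊓ centralizer (E : Set G) := by rw [zpowers_le]; exact hw
    exact this hz
  obtain ⟨e, he', c, hc', rfl⟩ := hdec a' ha'
  have h1 : e * c * u * (e * c)⁻¹ = u := hmemF u hu _ ha'
  have hu' : u = v * z⁻¹ := by rw [← huz]; group
  have h2 : (e * v * e⁻¹) * (c * z⁻¹ * c⁻¹) = v * z⁻¹ := by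
    rw [← hact2 e he' c hc' v hv, ← hact1 e he' c hc' z⁻¹ (inv_mem hz')]
    rw [hu'] at h1
    rw [← h1]; group
  have h3 := unique_decomp hd (hact2' e he' v hv) hv (hact1' c hc' z⁻¹ (inv_mem hz')) (inv_mem hz') h2
  apply hav
  rw [hact2 e he' c hc' v hv]
  exact h3

/-- independence of the family of commutator groups together with the fixed points -/
theorem option_indep {ι : Type*} [Finite ι] {V Z : Subgroup G} (hVab : IsMulCommutative V)
    (W C : ι → Subgroup G) (hW : ∀ i, W i ≤ V) (hZC : ∀ i, Z ≤ C i) (hWC : ∀ i j, i ≠ j → W j ≤ C i)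
    (hd : ∀ i, W i ⊓ C i = ⊥) :
    iSupIndep (fun o : Option ι => o.elim Z W) := by
  classical
  have : Fintype ι := Fintype.ofFinite ι
  have key : ∀ s : Finset ι, Z ⊓ (⨆ i ∈ s, W i) = ⊥ := by
    intro s
    induction s using Finset.induction_on with
    | empty => simp
    | insert i s his ih =>
      rw [eq_bot_iff]
      rintro v ⟨hvZ, hv⟩
      rw [Finset.iSup_insert] at hv
      have hle : (⨆ j ∈ s, W j) ≤ C i := by
        refine iSup₂_le ?_
        intro j hj
        exact hWC i j (by rintro rfl; exact his hj)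
      have hle' : (⨆ j ∈ s, W j) ≤ V := iSup₂_le fun j _ => hW j
      obtain ⟨x, hx, y, hy, rfl⟩ := mem_sup_of_le_centralizer
        (le_centralizer_of_le_comm hVab (hW i) hle') hv
      have hxC : x ∈ C i := by
        have h1 : x * y ∈ C i := hZC i hvZ
        have h2 : y ∈ C i := hle hy
        have : x = x * y * y⁻¹ := by group
        rw [this]
        exact mul_mem h1 (inv_mem h2)
      have hx1 : x = 1 := by
        have : x ∈ W i ⊓ C i := ⟨hx, hxC⟩
        rwa [hd i, mem_bot] at this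
      rw [hx1, one_mul] at hvZ ⊢
      rw [← ih]
      exact ⟨hvZ, hy⟩
  rintro (_ | i)
  · rw [disjoint_iff]
    have hle : (⨆ (j : Option ι) (_ : j ≠ none), (fun o : Option ι => o.elim Z W) j) ≤
        ⨆ i ∈ (Finset.univ : Finset ι), W i := by
      refine iSup₂_le ?_
      rintro (_ | j) hj
      · exact absurd rfl hj
      · exact le_iSup₂_of_le j (Finset.mem_univ j) le_rfl
    rw [eq_bot_iff, ← key Finset.univ]
    exact inf_le_inf le_rfl hle
  · rw [disjoint_iff]
    have hle : (⨆ (j : Option ι) (_ : j ≠ some i), (fun o : Option ι => o.elim Z W) j) ≤ C i := by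
      refine iSup₂_le ?_
      rintro (_ | j) hj
      · exact hZC i
      · exact hWC i j (by rintro rfl; exact hj rfl)
    rw [eq_bot_iff, ← hd i]
    exact inf_le_inf le_rfl hle


theorem mem_centralizer_iSup {ι : Sort*} {E : ι → Subgroup G} {x : G} :
    x ∈ centralizer ((⨆ i, E i : Subgroup G) : Set G) ↔ ∀ i, x ∈ centralizer (E i : Set G) := by
  have h : ∀ F : Subgroup G, x ∈ centralizer (F : Set G) ↔ F ≤ centralizer ({x} : Set G) := by
    intro F
    rw [mem_centralizer_iff]
    constructor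
    · intro h f hf
      rw [mem_centralizer_singleton_iff]
      exact h f hf
    · intro h f hf
      have := h hf
      rw [mem_centralizer_singleton_iff] at this
      exact this
  rw [h, iSup_le_iff]
  exact forall_congr' fun i => (h (E i)).symm

/-- generation of `V` by the fixed points and the commutator groups. -/
theorem sup_eq {ι : Type*} [Finite ι] {V : Subgroup G} (hVab : IsMulCommutative V)
    (E W : ι → Subgroup G) (hW : ∀ i, W i ≤ V) (hWE : ∀ i j, i ≠ j → W j ≤ centralizer (E i : Set G))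
    (hs : ∀ i, W i ⊔ (V ⊓ centralizer (E i : Set G)) = V) :
    (V ⊓ centralizer ((⨆ i, E i : Subgroup G) : Set G)) ⊔ (⨆ i, W i) = V := by
  classical
  have : Fintype ι := Fintype.ofFinite ι
  have key : ∀ s : Finset ι, ∀ v ∈ V, ∃ x ∈ V, ∃ y ∈ ⨆ i ∈ s, W i,
      (∀ i ∈ s, x ∈ centralizer (E i : Set G)) ∧ x * y = v := by
    intro s
    induction s using Finset.induction_on with
    | empty =>
      intro v hv
      exact ⟨v, hv, 1, one_mem _, by simp, mul_one v⟩
    | insert i s his ih =>
      intro v hv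
      obtain ⟨x, hx, y, hy, hxs, rfl⟩ := ih v hv
      have hvV : x ∈ W i ⊔ (V ⊓ centralizer (E i : Set G)) := by rw [hs i]; exact hx
      obtain ⟨a, ha, b, hb, rfl⟩ := mem_sup_of_le_centralizer
        (le_centralizer_of_le_comm hVab (hW i) inf_le_left) hvV
      have hab : a * b = b * a := by
        have := le_centralizer_of_le_comm hVab (hW i) inf_le_left hb
        exact (mem_centralizer_iff.mp this) a ha
      refine ⟨b, hb.1, a * y, ?_, ?_, ?_⟩
      · rw [Finset.iSup_insert]
        exact mul_mem (mem_sup_left ha) (mem_sup_right hy)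
      · intro j hj
        rw [Finset.mem_insert] at hj
        rcases hj with rfl | hj
        · exact hb.2
        · have h1 := hxs j hj
          have h2 : a ∈ centralizer (E j : Set G) := hWE j i (by rintro rfl; exact his hj) ha
          have : b = a⁻¹ * (a * b) := by group
          rw [this]
          exact mul_mem (inv_mem h2) h1
      · rw [hab]; group
  refine le_antisymm (sup_le inf_le_left (iSup_le hW)) ?_
  intro v hv
  obtain ⟨x, hx, y, hy, hxs, rfl⟩ := key Finset.univ v hv
  refine mul_mem (mem_sup_left (mem_inf.mpr ⟨hx, ?_⟩)) (mem_sup_right ?_)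
  · rw [mem_centralizer_iSup]
    exact fun i => hxs i (Finset.mem_univ i)
  · have : (⨆ i ∈ (Finset.univ : Finset ι), W i) ≤ ⨆ i, W i := iSup₂_le fun i _ => le_iSup W i
    exact this hy

end Cfsg.Agent.PLocal.FailureStructure
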