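import Mathlib

/-!
# `[V, ⟨a⟩]` for an abelian subgroup `V` normalized by `a`

`card_commutator_zpowers_mul` : `|[V, ⟨a⟩]| |C_V(a)| = |V|`, and
`mem_commutator_zpowers` : `[V, ⟨a⟩] = {⁅v, a⁆ | v ∈ V}`.
-/

set_option autoImplicit false

namespace Cfsg.Agent.PLocal.CyclicCommutator

open Subgroup
open scoped commutatorElement

variable {G : Type*} [Group G]

/-- The homomorphism `v ↦ ⁅v, a⁆` of the abelian subgroup `V` normalized by `a`. -/
def commHom (V : Subgroup G) (hV : ∀ x ∈ V, ∀ y ∈ V, x * y = y * x) (a : G)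
    (ha : a ∈ normalizer (V : Set G)) : V →* G where
  toFun v := ⁅(v : G), a⁆
  map_one' := by simp
  map_mul' v w := by
    have h1 : a * (v : G)⁻¹ * a⁻¹ ∈ V := (mem_normalizer_iff.1 ha _).1 (V.inv_mem v.2)
    have h2 : a * (w : G)⁻¹ * a⁻¹ ∈ V := (mem_normalizer_iff.1 ha _).1 (V.inv_mem w.2)
    have h3 : (w : G) * (a * (w : G)⁻¹ * a⁻¹) ∈ V := V.mul_mem w.2 h2
    have h4 := hV _ h3 _ h1
    simp only [commutatorElement_def, Subgroup.coe_mul]
    calc (v : G) * w * a * (v * w : G)⁻¹ * a⁻¹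
        = v * ((w * (a * (w : G)⁻¹ * a⁻¹)) * (a * (v : G)⁻¹ * a⁻¹)) := by group
      _ = v * ((a * (v : G)⁻¹ * a⁻¹) * (w * (a * (w : G)⁻¹ * a⁻¹))) := by rw [h4]
      _ = v * a * (v : G)⁻¹ * a⁻¹ * (w * a * (w : G)⁻¹ * a⁻¹) := by group

theorem commHom_apply (V : Subgroup G) (hV : ∀ x ∈ V, ∀ y ∈ V, x * y = y * x) (a : G)
    (ha : a ∈ normalizer (V : Set G)) (v : V) : commHom V hV a ha v = ⁅(v : G), a⁆ := rfl

theorem commutator_zpowers_eq_range (V : Subgroup G) (hV : ∀ x ∈ V, ∀ y ∈ V, x * y = y * x) (a : G)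
    (ha : a ∈ normalizer (V : Set G)) : ⁅V, zpowers a⁆ = (commHom V hV a ha).range := by
  have hR : (commHom V hV a ha).range ≤ V := by
    rintro _ ⟨v, rfl⟩
    rw [commHom_apply, commutatorElement_def, mul_assoc, mul_assoc]
    apply V.mul_mem v.2
    rw [← mul_assoc]
    exact (mem_normalizer_iff.1 ha _).1 (V.inv_mem v.2)
  apply le_antisymm
  · rw [Subgroup.commutator_le]
    -- `T` = elements of `N(V)` acting trivially modulo the range, and normalizing the range
    have hconj : ∀ x ∈ (commHom V hV a ha).range, a * x * a⁻¹ ∈ (commHom V hV a ha).range := by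
      rintro _ ⟨v, rfl⟩
      refine ⟨⟨a * v * a⁻¹, (mem_normalizer_iff.1 ha _).1 v.2⟩, ?_⟩
      rw [commHom_apply, commHom_apply]
      simp only [commutatorElement_def]
      group
    have hconj' : ∀ x ∈ (commHom V hV a ha).range, a⁻¹ * x * a ∈ (commHom V hV a ha).range := by
      rintro _ ⟨v, rfl⟩
      have ha' := (normalizer (V : Set G)).inv_mem ha
      refine ⟨⟨a⁻¹ * v * a, ?_⟩, ?_⟩
      · have := (mem_normalizer_iff.1 ha' _).1 v.2
        rwa [inv_inv] at this
      rw [commHom_apply, commHom_apply]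
      simp only [commutatorElement_def]
      group
    have hpos : ∀ n : ℕ, ∀ v ∈ V, ⁅v, a ^ n⁆ ∈ (commHom V hV a ha).range := by
      intro n
      induction n with
      | zero => intro v _; simp
      | succ n ih =>
        intro v hv
        have h1 : ⁅v, a ^ (n + 1)⁆ = ⁅v, a⁆ * (a * ⁅v, a ^ n⁆ * a⁻¹) := by
          simp only [commutatorElement_def, pow_succ']
          group
        rw [h1]
        exact Subgroup.mul_mem _ ⟨⟨v, hv⟩, rfl⟩ (hconj _ (ih v hv))
    have hconjn : ∀ n : ℕ, ∀ x ∈ (commHom V hV a ha).range,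
        a⁻¹ ^ n * x * a ^ n ∈ (commHom V hV a ha).range := by
      intro n
      induction n with
      | zero => intro x hx; simpa using hx
      | succ n ih =>
        intro x hx
        have h1 : a⁻¹ ^ (n + 1) * x * a ^ (n + 1) = a⁻¹ * (a⁻¹ ^ n * x * a ^ n) * a := by
          rw [pow_succ', pow_succ]; group
        rw [h1]
        exact hconj' _ (ih x hx)
    intro v hv b hb
    obtain ⟨k, rfl⟩ := Subgroup.mem_zpowers_iff.1 hb
    obtain ⟨n, rfl | rfl⟩ := k.eq_nat_or_neg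
    · rw [zpow_natCast]; exact hpos n v hv
    · have h1 : ⁅v, a ^ (-(n : ℤ))⁆ = (a⁻¹ ^ n * ⁅v, a ^ n⁆ * a ^ n)⁻¹ := by
        simp only [commutatorElement_def, zpow_neg, zpow_natCast, inv_pow]
        group
      rw [h1]
      exact Subgroup.inv_mem _ (hconjn n _ (hpos n v hv))
  · rintro _ ⟨v, rfl⟩
    exact Subgroup.commutator_mem_commutator v.2 (Subgroup.mem_zpowers a)

theorem mem_commutator_zpowers {V : Subgroup G} (hV : ∀ x ∈ V, ∀ y ∈ V, x * y = y * x) {a : G}
    (ha : a ∈ normalizer (V : Set G)) {x : G} : x ∈ ⁅V, zpowers a⁆ ↔ ∃ v ∈ V, ⁅v, a⁆ = x := by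
  rw [commutator_zpowers_eq_range V hV a ha]
  constructor
  · rintro ⟨v, rfl⟩
    exact ⟨v, v.2, rfl⟩
  · rintro ⟨v, hv, rfl⟩
    exact ⟨⟨v, hv⟩, rfl⟩

theorem card_commutator_zpowers_mul (V : Subgroup G) (hV : ∀ x ∈ V, ∀ y ∈ V, x * y = y * x)
    (a : G) (ha : a ∈ normalizer (V : Set G)) :
    Nat.card ↥(⁅V, zpowers a⁆) * Nat.card ↥(V ⊓ centralizer (zpowers a : Set G)) = Nat.card V := by
  rw [commutator_zpowers_eq_range V hV a ha]
  have h1 := (commHom V hV a ha).ker.index_mul_card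
  rw [Subgroup.index_ker] at h1
  rw [← h1]
  congr 1
  have h2 : V ⊓ centralizer (zpowers a : Set G) = (commHom V hV a ha).ker.map V.subtype := by
    ext v
    rw [Subgroup.mem_inf, Subgroup.mem_map]
    constructor
    · rintro ⟨hv, hc⟩
      refine ⟨⟨v, hv⟩, ?_, rfl⟩
      rw [MonoidHom.mem_ker, commHom_apply, commutatorElement_eq_one_iff_mul_comm]
      exact (Subgroup.mem_centralizer_iff.1 hc a (Subgroup.mem_zpowers a)).symm
    · rintro ⟨w, hw, rfl⟩
      refine ⟨w.2, ?_⟩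
      rw [MonoidHom.mem_ker, commHom_apply, commutatorElement_eq_one_iff_mul_comm] at hw
      rw [Subgroup.mem_centralizer_iff]
      intro b hb
      obtain ⟨k, rfl⟩ := Subgroup.mem_zpowers_iff.1 hb
      have h3 : Commute a (w : G) := hw.symm
      exact h3.zpow_left k
  rw [h2, Subgroup.card_map_of_injective (Subgroup.subtype_injective V)]

end Cfsg.Agent.PLocal.CyclicCommutator
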