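import Mathlib
import Cfsg.Prelude.Def_PLocal
import Cfsg.Agent.Lib.Cores
import Cfsg.Agent.Lib.CoprimeHyperplane
import Cfsg.Agent.PLocal.OffenderStep

/-!
# Best offenders in a faithful group with self-centralizing `p'`-core

`H` acts faithfully on the elementary abelian `p`-group `V` and `C_H(Q) ≤ Q` for `Q = O_{p'}(H)`.

* `exists_hyperplane` : for an elementary abelian `A ≤ H` and `1 ≠ a ∈ A` there is `B ≤ A` of
  index `p` with `a ∉ B` and `p |C_V(A)| ≤ |C_V(B)|`.
* `card_mul_card_le` : `|A| |C_V(A)| ≤ |V|`.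
* `isBestOffenderOn_iff` : best offenders are the `A` with `|A| |C_V(A)| = |V|`.
* `exists_hyperplane_offender`
-/

set_option autoImplicit false

namespace Cfsg.Agent.PLocal.FFPair

open Subgroup Cfsg.Agent.PLocal.OffenderStep

section Core

variable {G : Type*} [Group G] (p : ℕ) (H : Subgroup G)

theorem core_le : (Cfsg.pPrimeCore p ↥H).map H.subtype ≤ H := Subgroup.map_subtype_le _

theorem core_coprime [Finite G] :
    (Nat.card ↥((Cfsg.pPrimeCore p ↥H).map H.subtype)).Coprime p := by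
  rw [Subgroup.card_map_of_injective (Subgroup.subtype_injective H)]
  exact Cfsg.Agent.Lib.Cores.pPrimeCore_coprime p

theorem le_normalizer_core :
    H ≤ normalizer (((Cfsg.pPrimeCore p ↥H).map H.subtype : Subgroup G) : Set G) := by
  have hn : (Cfsg.pPrimeCore p ↥H).Normal := Cfsg.Agent.Lib.Cores.pPrimeCore_normal p
  have hle : ∀ h ∈ H, ∀ x ∈ (Cfsg.pPrimeCore p ↥H).map H.subtype,
      h * x * h⁻¹ ∈ (Cfsg.pPrimeCore p ↥H).map H.subtype := by
    rintro h hh _ ⟨x, hx, rfl⟩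
    exact ⟨_, hn.conj_mem x hx ⟨h, hh⟩, rfl⟩
  intro h hh
  rw [Subgroup.mem_normalizer_iff]
  intro x
  refine ⟨fun hx => hle h hh x hx, fun hx => ?_⟩
  have := hle h⁻¹ (H.inv_mem hh) _ hx
  simpa [mul_assoc] using this

variable {p H}

theorem centralizer_core_le
    (hS1 : centralizer (Cfsg.pPrimeCore p ↥H : Set ↥H) ≤ Cfsg.pPrimeCore p ↥H) :
    H ⊓ centralizer (((Cfsg.pPrimeCore p ↥H).map H.subtype : Subgroup G) : Set G) ≤
      (Cfsg.pPrimeCore p ↥H).map H.subtype := by
  intro x hx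
  obtain ⟨hxH, hxC⟩ := Subgroup.mem_inf.1 hx
  refine ⟨⟨x, hxH⟩, hS1 ?_, rfl⟩
  rw [Subgroup.mem_centralizer_iff]
  intro y hy
  apply Subtype.ext
  exact Subgroup.mem_centralizer_iff.1 hxC _ ⟨y, hy, rfl⟩

theorem inf_centralizer_core_eq_bot [Finite G] [Fact p.Prime]
    (hS1 : centralizer (Cfsg.pPrimeCore p ↥H : Set ↥H) ≤ Cfsg.pPrimeCore p ↥H)
    {A : Subgroup G} (hAH : A ≤ H) (hA : IsPGroup p A) :
    A ⊓ centralizer (((Cfsg.pPrimeCore p ↥H).map H.subtype : Subgroup G) : Set G) = ⊥ := by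
  have h1 : A ⊓ centralizer (((Cfsg.pPrimeCore p ↥H).map H.subtype : Subgroup G) : Set G) ≤
      (Cfsg.pPrimeCore p ↥H).map H.subtype :=
    (inf_le_inf_right _ hAH).trans (centralizer_core_le hS1)
  have h2 : IsPGroup p ↥(A ⊓ centralizer
      (((Cfsg.pPrimeCore p ↥H).map H.subtype : Subgroup G) : Set G)) := hA.to_le inf_le_left
  obtain ⟨n, hn⟩ := IsPGroup.iff_card.1 h2
  have h3 := Nat.Coprime.coprime_dvd_left (Subgroup.card_dvd_of_le h1) (core_coprime p H)
  rw [← Subgroup.card_eq_one]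
  rw [hn] at h3 ⊢
  rcases Nat.eq_zero_or_pos n with h0 | h0
  · rw [h0, pow_zero]
  · exfalso
    exact (Fact.out : p.Prime).one_lt.ne'
      (Nat.eq_one_of_dvd_coprimes h3 (dvd_pow_self p h0.ne') dvd_rfl)

end Core

variable {G : Type*} [Group G] [Finite G] {p : ℕ} [Fact p.Prime]

/-- For an elementary abelian `A ≤ H` and `1 ≠ a ∈ A` there is a hyperplane `B` of `A` with
`a ∉ B` and `p |C_V(A)| ≤ |C_V(B)|`. -/
theorem exists_hyperplane (V H : Subgroup G) (hV : Cfsg.IsElementaryAbelian p V)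
    (hHV : H ≤ Subgroup.normalizer (V : Set G))
    (hf : H ⊓ Subgroup.centralizer (V : Set G) = ⊥)
    (hS1 : Subgroup.centralizer (Cfsg.pPrimeCore p ↥H : Set ↥H) ≤ Cfsg.pPrimeCore p ↥H)
    (A : Subgroup G) (hAH : A ≤ H) (hA : Cfsg.IsElementaryAbelian p A)
    {a : G} (ha : a ∈ A) (ha1 : a ≠ 1) :
    ∃ B : Subgroup G, B ≤ A ∧ B.relIndex A = p ∧ a ∉ B ∧
      p * Nat.card ↥(V ⊓ Subgroup.centralizer (A : Set G)) ≤
        Nat.card ↥(V ⊓ Subgroup.centralizer (B : Set G)) := by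
  set Q : Subgroup G := (Cfsg.pPrimeCore p ↥H).map H.subtype with hQdef
  have hQc : (Nat.card Q).Coprime p := core_coprime p H
  have hQp : ¬ p ∣ Nat.card Q := fun h =>
    (Fact.out : p.Prime).one_lt.ne' (Nat.eq_one_of_dvd_coprimes hQc h dvd_rfl)
  have hAQ : A ≤ normalizer (Q : Set G) := hAH.trans (le_normalizer_core p H)
  obtain ⟨B, hBA, hBi, haB, hne⟩ := Cfsg.Agent.Lib.CoprimeHyperplane.exists_hyperplane_not_mem
    hA hQp hAQ (inf_centralizer_core_eq_bot hS1 hAH (isPGroup_of_isElementaryAbelian hA)) ha ha1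
  refine ⟨B, hBA, hBi, haB, ?_⟩
  have hXH : Q ⊓ centralizer (B : Set G) ≤ H := inf_le_left.trans (core_le p H)
  have hBc := comm_of_isElementaryAbelian hA
  refine card_fixed_mul_le V A B (Q ⊓ centralizer (B : Set G)) hV (hAH.trans hHV)
    (hXH.trans hHV) hBA hA (Nat.Coprime.coprime_dvd_left (Subgroup.card_dvd_of_le inf_le_left) hQc)
    ?_ inf_le_right ?_ ?_
  · -- `A` normalizes `C_Q(B)`
    have hle : ∀ a ∈ A, ∀ x ∈ Q ⊓ centralizer (B : Set G),
        a * x * a⁻¹ ∈ Q ⊓ centralizer (B : Set G) := by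
      intro a ha x hx
      obtain ⟨hxQ, hxB⟩ := Subgroup.mem_inf.1 hx
      refine Subgroup.mem_inf.2 ⟨(hAQ ha x).1 hxQ, ?_⟩
      rw [Subgroup.mem_centralizer_iff] at hxB ⊢
      intro b hb
      have h1 : b * a = a * b := hBc b (hBA hb) a ha
      have h2 : b * x = x * b := hxB b hb
      have h3 : b * a⁻¹ = a⁻¹ * b := hBc b (hBA hb) a⁻¹ (A.inv_mem ha)
      calc b * (a * x * a⁻¹) = (b * a) * x * a⁻¹ := by group
        _ = a * (b * x) * a⁻¹ := by rw [h1]; group
        _ = a * x * (b * a⁻¹) := by rw [h2]; group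
        _ = a * x * a⁻¹ * b := by rw [h3]; group
    intro a ha
    rw [Subgroup.mem_normalizer_iff]
    intro x
    refine ⟨fun hx => hle a ha x hx, fun hx => ?_⟩
    have := hle a⁻¹ (A.inv_mem ha) _ hx
    simpa [mul_assoc] using this
  · rw [eq_bot_iff, ← hf]
    exact inf_le_inf_right _ (sup_le hAH hXH)
  · intro h
    exact hne ((Subgroup.commutator_eq_bot_iff_le_centralizer).2 h)

/-- `|A| |C_V(A)| ≤ |V|` for all elementary abelian `A ≤ H`. -/
theorem card_mul_card_le (V H : Subgroup G) (hV : Cfsg.IsElementaryAbelian p V)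
    (hHV : H ≤ Subgroup.normalizer (V : Set G))
    (hf : H ⊓ Subgroup.centralizer (V : Set G) = ⊥)
    (hS1 : Subgroup.centralizer (Cfsg.pPrimeCore p ↥H : Set ↥H) ≤ Cfsg.pPrimeCore p ↥H)
    (A : Subgroup G) (hAH : A ≤ H) (hA : Cfsg.IsElementaryAbelian p A) :
    Nat.card A * Nat.card ↥(V ⊓ Subgroup.centralizer (A : Set G)) ≤ Nat.card V := by
  induction hn : Nat.card A using Nat.strong_induction_on generalizing A with
  | _ n ih =>
    subst hn
    by_cases h1 : A = ⊥
    · subst h1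
      rw [Subgroup.card_bot, one_mul]
      exact Subgroup.card_le_of_le inf_le_left
    · obtain ⟨a, ha, ha1⟩ : ∃ a ∈ A, a ≠ 1 := by
        obtain ⟨a, ha1⟩ := Subgroup.ne_bot_iff_exists_ne_one.1 h1
        exact ⟨a, a.2, fun h' => ha1 (Subtype.ext h')⟩
      obtain ⟨B, hBA, hBi, -, hle⟩ := exists_hyperplane V H hV hHV hf hS1 A hAH hA ha ha1
      have hcard : Nat.card A = p * Nat.card B := by
        rw [← hBi, ← Subgroup.relIndex_bot_left, ← Subgroup.relIndex_bot_left,
          mul_comm, Subgroup.relIndex_mul_relIndex _ _ _ bot_le hBA]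
      have hBpos : 0 < Nat.card B := Nat.card_pos
      have hlt : Nat.card B < Nat.card A := by
        rw [hcard]
        have := (Fact.out : p.Prime).one_lt
        nlinarith
      have h2 := ih (Nat.card B) hlt B (hBA.trans hAH) (isElementaryAbelian_mono hA hBA) rfl
      calc Nat.card A * Nat.card ↥(V ⊓ Subgroup.centralizer (A : Set G))
          = Nat.card B * (p * Nat.card ↥(V ⊓ Subgroup.centralizer (A : Set G))) := by
            rw [hcard]; ring
        _ ≤ Nat.card B * Nat.card ↥(V ⊓ Subgroup.centralizer (B : Set G)) :=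
            Nat.mul_le_mul_left _ hle
        _ ≤ Nat.card V := h2

/-- Best offenders satisfy `|A| |C_V(A)| = |V|`. -/
theorem card_mul_card_eq (V H : Subgroup G) (hV : Cfsg.IsElementaryAbelian p V)
    (hHV : H ≤ Subgroup.normalizer (V : Set G))
    (hf : H ⊓ Subgroup.centralizer (V : Set G) = ⊥)
    (hS1 : Subgroup.centralizer (Cfsg.pPrimeCore p ↥H : Set ↥H) ≤ Cfsg.pPrimeCore p ↥H)
    (A : Subgroup G) (hAH : A ≤ H) (hA : Cfsg.IsBestOffenderOn p V A) :
    Nat.card A * Nat.card ↥(V ⊓ Subgroup.centralizer (A : Set G)) = Nat.card V := by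
  apply le_antisymm
  · exact card_mul_card_le V H hV hHV hf hS1 A hAH
      (isElementaryAbelian_of_isBestOffenderOn hf hAH hA)
  · have h := hA.1 ⊥ bot_le
    have h2 : V ⊓ Subgroup.centralizer ((⊥ : Subgroup G) : Set G) = V := by
      apply inf_eq_left.2
      intro v _
      rw [Subgroup.mem_centralizer_iff]
      intro b hb
      rw [SetLike.mem_coe, Subgroup.mem_bot] at hb
      rw [hb, one_mul, mul_one]
    rw [h2, Subgroup.card_bot, one_mul] at h
    exact h

/-- An elementary abelian `A ≤ H` with `|A| |C_V(A)| = |V|` is a best offender. -/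
theorem isBestOffenderOn_of_card_eq (V H : Subgroup G) (hV : Cfsg.IsElementaryAbelian p V)
    (hHV : H ≤ Subgroup.normalizer (V : Set G))
    (hf : H ⊓ Subgroup.centralizer (V : Set G) = ⊥)
    (hS1 : Subgroup.centralizer (Cfsg.pPrimeCore p ↥H : Set ↥H) ≤ Cfsg.pPrimeCore p ↥H)
    (A : Subgroup G) (hAH : A ≤ H) (hA : Cfsg.IsElementaryAbelian p A)
    (h : Nat.card V ≤ Nat.card A * Nat.card ↥(V ⊓ Subgroup.centralizer (A : Set G))) :
    Cfsg.IsBestOffenderOn p V A := by
  refine ⟨fun B hB => ?_, ?_, fun a ha => ?_⟩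
  · exact (card_mul_card_le V H hV hHV hf hS1 B (hB.trans hAH)
      (isElementaryAbelian_mono hA hB)).trans h
  · have h1 : ⁅A, A⁆ = ⊥ := by
      rw [Subgroup.commutator_eq_bot_iff_le_centralizer]
      intro x hx
      rw [Subgroup.mem_centralizer_iff]
      intro y hy
      exact comm_of_isElementaryAbelian hA y hy x hx
    rw [h1]
    exact bot_le
  · rw [hA.2 a ha]
    exact Subgroup.one_mem _

/-- Every `1 ≠ a` in a best offender `A` avoids a hyperplane of `A` that is a best offender. -/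
theorem exists_hyperplane_offender (V H : Subgroup G) (hV : Cfsg.IsElementaryAbelian p V)
    (hHV : H ≤ Subgroup.normalizer (V : Set G))
    (hf : H ⊓ Subgroup.centralizer (V : Set G) = ⊥)
    (hS1 : Subgroup.centralizer (Cfsg.pPrimeCore p ↥H : Set ↥H) ≤ Cfsg.pPrimeCore p ↥H)
    (A : Subgroup G) (hAH : A ≤ H) (hA : Cfsg.IsBestOffenderOn p V A)
    {a : G} (ha : a ∈ A) (ha1 : a ≠ 1) :
    ∃ B : Subgroup G, B ≤ A ∧ B.relIndex A = p ∧ a ∉ B ∧ Cfsg.IsBestOffenderOn p V B := by
  have hAe := isElementaryAbelian_of_isBestOffenderOn hf hAH hA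
  obtain ⟨B, hBA, hBi, haB, hle⟩ := exists_hyperplane V H hV hHV hf hS1 A hAH hAe ha ha1
  refine ⟨B, hBA, hBi, haB, isBestOffenderOn_of_card_eq V H hV hHV hf hS1 B (hBA.trans hAH)
    (isElementaryAbelian_mono hAe hBA) ?_⟩
  have hcard : Nat.card A = p * Nat.card B := by
    rw [← hBi, ← Subgroup.relIndex_bot_left, ← Subgroup.relIndex_bot_left,
      mul_comm, Subgroup.relIndex_mul_relIndex _ _ _ bot_le hBA]
  rw [← card_mul_card_eq V H hV hHV hf hS1 A hAH hA, hcard]
  calc p * Nat.card B * Nat.card ↥(V ⊓ Subgroup.centralizer (A : Set G))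
      = Nat.card B * (p * Nat.card ↥(V ⊓ Subgroup.centralizer (A : Set G))) := by ring
    _ ≤ _ := Nat.mul_le_mul_left _ hle

omit [Finite G] in
/-- In `H`, a subgroup acts trivially on `V` iff it is trivial. -/
theorem commutator_eq_bot_iff {V H : Subgroup G}
    (hf : H ⊓ Subgroup.centralizer (V : Set G) = ⊥) {A : Subgroup G} (hAH : A ≤ H) :
    ⁅V, A⁆ = ⊥ ↔ A = ⊥ := by
  constructor
  · intro h
    rw [Subgroup.commutator_eq_bot_iff_le_centralizer, Subgroup.le_centralizer_iff] at h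
    rw [eq_bot_iff, ← hf]
    exact le_inf hAH h
  · rintro rfl
    exact Subgroup.commutator_bot_right V

end Cfsg.Agent.PLocal.FFPair
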