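import Mathlib
import Cfsg.Prelude.Def_PLocal
import Cfsg.Agent.PLocal.OffenderStep
import Cfsg.Agent.PLocal.FFPair

/-!
# Best offenders are generated by best offenders of order `p`

In a faithful group with self-centralizing `p'`-core.
-/

set_option autoImplicit false

namespace Cfsg.Agent.PLocal.OffenderProduct

open Subgroup Cfsg.Agent.PLocal.OffenderStep Cfsg.Agent.PLocal.FFPair

variable {G : Type*} [Group G] [Finite G] {p : ℕ} [Fact p.Prime]

/-- A best offender is generated by its best offenders of order `p`. -/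
theorem sSup_order_p (V H : Subgroup G) (hV : Cfsg.IsElementaryAbelian p V)
    (hHV : H ≤ Subgroup.normalizer (V : Set G))
    (hf : H ⊓ Subgroup.centralizer (V : Set G) = ⊥)
    (hS1 : Subgroup.centralizer (Cfsg.pPrimeCore p ↥H : Set ↥H) ≤ Cfsg.pPrimeCore p ↥H)
    (A : Subgroup G) (hAH : A ≤ H) (hA : Cfsg.IsBestOffenderOn p V A) :
    sSup {C : Subgroup G | C ≤ A ∧ Cfsg.IsBestOffenderOn p V C ∧ Nat.card C = p} = A := by
  induction hn : Nat.card A using Nat.strong_induction_on generalizing A with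
  | _ n ih =>
    subst hn
    apply le_antisymm
    · exact sSup_le fun C hC => hC.1
    by_cases h1 : A = ⊥
    · rw [h1]; exact bot_le
    obtain ⟨a, ha, ha1⟩ : ∃ a ∈ A, a ≠ 1 := by
      obtain ⟨a, ha1⟩ := Subgroup.ne_bot_iff_exists_ne_one.1 h1
      exact ⟨a, a.2, fun h' => ha1 (Subtype.ext h')⟩
    obtain ⟨B, hBA, hBi, haB, hB⟩ := exists_hyperplane_offender V H hV hHV hf hS1 A hAH hA ha ha1
    have hp := (Fact.out : p.Prime)
    have hcard : ∀ B : Subgroup G, B ≤ A → B.relIndex A = p → Nat.card A = p * Nat.card B := by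
      intro B hBA hBi
      rw [← hBi, ← Subgroup.relIndex_bot_left, ← Subgroup.relIndex_bot_left,
        mul_comm, Subgroup.relIndex_mul_relIndex _ _ _ bot_le hBA]
    have hlt : ∀ B : Subgroup G, B ≤ A → B.relIndex A = p → Nat.card B < Nat.card A := by
      intro B hBA hBi
      have h2 : 0 < Nat.card B := Nat.card_pos
      rw [hcard B hBA hBi]
      have := hp.one_lt
      nlinarith
    by_cases hB1 : B = ⊥
    · have hAp : Nat.card A = p := by
        rw [hB1, Subgroup.relIndex_bot_left] at hBi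
        exact hBi
      exact le_sSup ⟨le_rfl, hA, hAp⟩
    obtain ⟨b, hb, hb1⟩ : ∃ b ∈ B, b ≠ 1 := by
      obtain ⟨b, hb1⟩ := Subgroup.ne_bot_iff_exists_ne_one.1 hB1
      exact ⟨b, b.2, fun h' => hb1 (Subtype.ext h')⟩
    obtain ⟨B', hBA', hBi', hbB', hB'⟩ :=
      exists_hyperplane_offender V H hV hHV hf hS1 A hAH hA (hBA hb) hb1
    have hmono : ∀ B : Subgroup G, B ≤ A →
        sSup {C : Subgroup G | C ≤ B ∧ Cfsg.IsBestOffenderOn p V C ∧ Nat.card C = p} ≤
        sSup {C : Subgroup G | C ≤ A ∧ Cfsg.IsBestOffenderOn p V C ∧ Nat.card C = p} := by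
      intro B hBA
      exact sSup_le_sSup fun C hC => ⟨hC.1.trans hBA, hC.2⟩
    have e1 := ih _ (hlt B hBA hBi) B (hBA.trans hAH) hB rfl
    have e2 := ih _ (hlt B' hBA' hBi') B' (hBA'.trans hAH) hB' rfl
    have hsup : B ⊔ B' = A := by
      apply le_antisymm (sup_le hBA hBA')
      -- `B < B ⊔ B' ≤ A`, index prime
      have h3 : B'.relIndex (B ⊔ B') * (B ⊔ B').relIndex A = p := by
        rw [Subgroup.relIndex_mul_relIndex _ _ _ le_sup_right (sup_le hBA hBA'), hBi']
      have h4 : (B ⊔ B').relIndex A ∣ p := Dvd.intro_left _ h3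
      rcases (Nat.dvd_prime hp).1 h4 with h5 | h5
      · exact Subgroup.relIndex_eq_one.1 h5
      · exfalso
        rw [h5] at h3
        have h6 : B'.relIndex (B ⊔ B') = 1 := by
          have := hp.pos
          nlinarith
        have h7 : B ⊔ B' ≤ B' := Subgroup.relIndex_eq_one.1 h6
        exact hbB' (h7 ((le_sup_left : B ≤ B ⊔ B') hb))
    rw [← hsup]
    have h8 := hmono B hBA
    have h9 := hmono B' hBA'
    rw [e1] at h8
    rw [e2] at h9
    rw [hsup]
    calc A = B ⊔ B' := hsup.symm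
      _ ≤ _ := sup_le h8 h9

omit [Finite G] in
/-- A minimal generating family of subgroups of prime order is independent. -/
theorem exists_independent_family [Finite G] {M : Set (Subgroup G)} {A : Subgroup G}
    (hM : ∀ C ∈ M, Nat.card C = p) (hA : sSup M = A) :
    ∃ (k : ℕ) (B : Fin k → Subgroup G), (∀ i, B i ∈ M) ∧ iSupIndep B ∧ ⨆ i, B i = A := by
  obtain ⟨S, hSM, hSmin⟩ := Set.Finite.exists_le_minimal
    (s := {S : Set (Subgroup G) | S ⊆ M ∧ sSup S = A}) (Set.toFinite _) (a := M) ⟨subset_rfl, hA⟩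
  obtain ⟨⟨hSM', hSA⟩, hSmin'⟩ := hSmin
  have hind : sSupIndep S := by
    intro C hC
    rw [disjoint_iff]
    by_contra hne
    have hCp : Nat.card C = p := hM C (hSM' hC)
    have h1 : C ⊓ sSup (S \ {C}) = C := by
      have h2 : Nat.card ↥(C ⊓ sSup (S \ {C})) ∣ p := by
        rw [← hCp]; exact Subgroup.card_dvd_of_le inf_le_left
      rcases (Nat.dvd_prime (Fact.out : p.Prime)).1 h2 with h3 | h3
      · exact absurd (Subgroup.card_eq_one.1 h3) hne
      · exact Subgroup.eq_of_le_of_card_ge inf_le_left (by rw [h3, hCp])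
    have h4 : C ≤ sSup (S \ {C}) := inf_eq_left.1 h1
    have h5 : sSup (S \ {C}) = A := by
      apply le_antisymm
      · rw [← hSA]; exact sSup_le_sSup Set.sdiff_subset
      · rw [← hSA]
        refine sSup_le fun D hD => ?_
        by_cases hDC : D = C
        · rw [hDC]; exact h4
        · exact le_sSup ⟨hD, hDC⟩
    have h6 : S ⊆ S \ {C} := hSmin' ⟨Set.sdiff_subset.trans hSM', h5⟩ Set.sdiff_subset
    exact (h6 hC).2 rfl
  let e := Finite.equivFin S
  refine ⟨Nat.card S, fun i => (e.symm i : Subgroup G), fun i => hSM' (e.symm i).2, ?_, ?_⟩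
  · have h1 : iSupIndep ((↑) : S → Subgroup G) := (sSupIndep_iff S).1 hind
    exact h1.comp e.symm.injective
  · rw [← hSA, sSup_eq_iSup']
    exact Equiv.iSup_comp (g := fun C : S => (C : Subgroup G)) e.symm

end Cfsg.Agent.PLocal.OffenderProduct
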