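import Mathlib
import Cfsg.Prelude.Def_PLocal
import Cfsg.Agent.PLocal.OffenderStep
import Cfsg.Agent.Lib.CoprimeCommutator

/-!
# Families of transvection groups that pairwise generate `SL(2, p)` on a plane

`V` is an elementary abelian `p`-subgroup of a finite group, `Q` a subgroup normalizing `V`.

* `IsTv p V A` : `A` has order `p`, acts on `V` with `[V, A]` and `V / C_V(A)` of order `p`.
* `IsClass p V T` : a set `T` of such subgroups, closed under mutual conjugation, any two different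
  members generating a group acting faithfully on its commutator of order `p ^ 2`.
* `le_sup_of_isClass` : all members of `T` lie in the subgroup generated by any two of them.
-/

set_option autoImplicit false

open Cfsg
open scoped commutatorElement

namespace Cfsg.Agent.PLocal.FFPlane

section General

variable {G : Type*} [Group G]

/-- The elements `g` normalizing `U` with `[v, g] ∈ U` for all `v ∈ V`. -/
def relStab (V U : Subgroup G) : Subgroup G where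
  carrier := {g | g ∈ Subgroup.normalizer (U : Set G) ∧ ∀ v ∈ V, ⁅v, g⁆ ∈ U}
  one_mem' := ⟨one_mem _, fun v _ => by simp [one_mem]⟩
  mul_mem' := by
    rintro g h ⟨hg, hg'⟩ ⟨hh, hh'⟩
    refine ⟨mul_mem hg hh, fun v hv => ?_⟩
    have e : ⁅v, g * h⁆ = ⁅v, g⁆ * (g * ⁅v, h⁆ * g⁻¹) := by
      simp only [commutatorElement_def]; group
    rw [e]
    exact mul_mem (hg' v hv) ((Subgroup.mem_normalizer_iff.mp hg _).mp (hh' v hv))
  inv_mem' := by
    rintro g ⟨hg, hg'⟩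
    refine ⟨inv_mem hg, fun v hv => ?_⟩
    have e : ⁅v, g⁻¹⁆ = g⁻¹ * ⁅v, g⁆⁻¹ * g⁻¹⁻¹ := by
      simp only [commutatorElement_def]; group
    rw [e]
    exact (Subgroup.mem_normalizer_iff.mp (inv_mem hg) _).mp (inv_mem (hg' v hv))

theorem mem_relStab {V U : Subgroup G} {g : G} :
    g ∈ relStab V U ↔ g ∈ Subgroup.normalizer (U : Set G) ∧ ∀ v ∈ V, ⁅v, g⁆ ∈ U := Iff.rfl

theorem le_relStab_iff {V U K : Subgroup G} :
    K ≤ relStab V U ↔ K ≤ Subgroup.normalizer (U : Set G) ∧ ⁅V, K⁆ ≤ U := by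
  constructor
  · intro h
    exact ⟨fun g hg => (h hg).1, Subgroup.commutator_le.mpr fun v hv g hg => (h hg).2 v hv⟩
  · rintro ⟨h1, h2⟩ g hg
    exact ⟨h1 hg, fun v hv => h2 (Subgroup.commutator_mem_commutator hv hg)⟩

/-- `[V, A ⊔ B] ≤ U` if `A` and `B` normalize `U` and `[V, A], [V, B] ≤ U`. -/
theorem commutator_sup_le {V U A B : Subgroup G} (hA : A ≤ Subgroup.normalizer (U : Set G))
    (hB : B ≤ Subgroup.normalizer (U : Set G)) (h1 : ⁅V, A⁆ ≤ U) (h2 : ⁅V, B⁆ ≤ U) :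
    ⁅V, A ⊔ B⁆ ≤ U :=
  (le_relStab_iff.mp (sup_le (le_relStab_iff.mpr ⟨hA, h1⟩) (le_relStab_iff.mpr ⟨hB, h2⟩))).2

theorem commutator_le_of_le_normalizer {V A : Subgroup G}
    (h : A ≤ Subgroup.normalizer (V : Set G)) : ⁅V, A⁆ ≤ V := by
  rw [Subgroup.commutator_le]
  intro v hv a ha
  have : ⁅v, a⁆ = v * (a * v⁻¹ * a⁻¹) := by simp only [commutatorElement_def]; group
  rw [this]
  exact mul_mem hv ((Subgroup.mem_normalizer_iff.mp (h ha) _).mp (inv_mem hv))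

/-- `A` normalizes every `U` between `[V, A]` and `V`. -/
theorem le_normalizer_of_commutator_le {V U A : Subgroup G} (h : ⁅V, A⁆ ≤ U) (hU : U ≤ V) :
    A ≤ Subgroup.normalizer (U : Set G) := by
  have key : ∀ a ∈ A, ∀ u ∈ U, a * u * a⁻¹ ∈ U := by
    intro a ha u hu
    have : a * u * a⁻¹ = u * ⁅u⁻¹, a⁆ := by simp only [commutatorElement_def]; group
    rw [this]
    exact mul_mem hu (h (Subgroup.commutator_mem_commutator (hU (inv_mem hu)) ha))
  intro a ha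
  rw [Subgroup.mem_normalizer_iff]
  intro u
  refine ⟨key a ha u, fun hu => ?_⟩
  have := key a⁻¹ (inv_mem ha) _ hu
  simpa [mul_assoc] using this

theorem le_normalizer_centralizer {K A : Subgroup G}
    (h : A ≤ Subgroup.normalizer (K : Set G)) :
    A ≤ Subgroup.normalizer ((Subgroup.centralizer (K : Set G) : Subgroup G) : Set G) := by
  have key : ∀ a ∈ A, ∀ c ∈ Subgroup.centralizer (K : Set G),
      a * c * a⁻¹ ∈ Subgroup.centralizer (K : Set G) := by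
    intro a ha c hc
    rw [Subgroup.mem_centralizer_iff] at hc ⊢
    intro k hk
    have h1 : a⁻¹ * k * a ∈ K := by
      have := (Subgroup.mem_normalizer_iff.mp (h (inv_mem ha)) k).mp hk
      simpa using this
    have h2 := hc _ h1
    calc k * (a * c * a⁻¹) = a * ((a⁻¹ * k * a) * c) * a⁻¹ := by group
      _ = a * (c * (a⁻¹ * k * a)) * a⁻¹ := by rw [h2]
      _ = a * c * a⁻¹ * k := by group
  intro a ha
  rw [Subgroup.mem_normalizer_iff]
  intro u
  refine ⟨key a ha u, fun hu => ?_⟩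
  have := key a⁻¹ (inv_mem ha) _ hu
  simpa [mul_assoc] using this

theorem le_normalizer_inf {K L A : Subgroup G} (h1 : A ≤ Subgroup.normalizer (K : Set G))
    (h2 : A ≤ Subgroup.normalizer (L : Set G)) :
    A ≤ Subgroup.normalizer ((K ⊓ L : Subgroup G) : Set G) := by
  intro a ha
  rw [Subgroup.mem_normalizer_iff]
  intro u
  rw [Subgroup.mem_inf, Subgroup.mem_inf, Subgroup.mem_normalizer_iff.mp (h1 ha) u,
    Subgroup.mem_normalizer_iff.mp (h2 ha) u]

/-- Membership in the normalizer through the image under conjugation. -/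
theorem mem_normalizer_iff_map {K : Subgroup G} {g : G} :
    g ∈ Subgroup.normalizer (K : Set G) ↔ K.map (MulAut.conj g).toMonoidHom = K := by
  constructor
  · intro h
    ext u
    rw [Subgroup.mem_map]
    constructor
    · rintro ⟨k, hk, rfl⟩
      exact (Subgroup.mem_normalizer_iff.mp h k).mp hk
    · intro hu
      refine ⟨g⁻¹ * u * g, ?_, ?_⟩
      · have := (Subgroup.mem_normalizer_iff.mp (inv_mem h) u).mp hu
        simpa using this
      · simp [MulAut.conj_apply, mul_assoc]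
  · intro h
    rw [Subgroup.mem_normalizer_iff]
    intro u
    constructor
    · intro hu
      rw [← h]
      exact ⟨u, hu, rfl⟩
    · intro hu
      rw [← h] at hu
      obtain ⟨k, hk, hk'⟩ := hu
      have : k = u := by
        have h3 : g * k * g⁻¹ = g * u * g⁻¹ := hk'
        simpa using h3
      rwa [← this]

theorem le_normalizer_sup {K L A : Subgroup G} (h1 : A ≤ Subgroup.normalizer (K : Set G))
    (h2 : A ≤ Subgroup.normalizer (L : Set G)) :
    A ≤ Subgroup.normalizer ((K ⊔ L : Subgroup G) : Set G) := by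
  intro a ha
  rw [mem_normalizer_iff_map, Subgroup.map_sup, mem_normalizer_iff_map.mp (h1 ha),
    mem_normalizer_iff_map.mp (h2 ha)]

theorem le_normalizer_commutator {K L A : Subgroup G} (h1 : A ≤ Subgroup.normalizer (K : Set G))
    (h2 : A ≤ Subgroup.normalizer (L : Set G)) :
    A ≤ Subgroup.normalizer ((⁅K, L⁆ : Subgroup G) : Set G) := by
  intro a ha
  rw [mem_normalizer_iff_map, Subgroup.map_commutator, mem_normalizer_iff_map.mp (h1 ha),
    mem_normalizer_iff_map.mp (h2 ha)]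

theorem map_conj_mul (K : Subgroup G) (g h : G) :
    (K.map (MulAut.conj h).toMonoidHom).map (MulAut.conj g).toMonoidHom =
      K.map (MulAut.conj (g * h)).toMonoidHom := by
  rw [Subgroup.map_map]
  congr 1
  ext x
  simp

theorem map_conj_one (K : Subgroup G) :
    K.map (MulAut.conj (1 : G)).toMonoidHom = K := by
  ext x
  simp

theorem map_conj_mono {K L : Subgroup G} (g : G) (h : K ≤ L) :
    K.map (MulAut.conj g).toMonoidHom ≤ L.map (MulAut.conj g).toMonoidHom :=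
  Subgroup.map_mono h

theorem card_map_conj (K : Subgroup G) (g : G) :
    Nat.card ↥(K.map (MulAut.conj g).toMonoidHom) = Nat.card K :=
  (Nat.card_congr (K.equivMapOfInjective (MulAut.conj g).toMonoidHom
    (MulAut.conj g).injective).toEquiv).symm

theorem map_conj_centralizer (K : Subgroup G) (g : G) :
    (Subgroup.centralizer (K : Set G)).map (MulAut.conj g).toMonoidHom =
      Subgroup.centralizer ((K.map (MulAut.conj g).toMonoidHom : Subgroup G) : Set G) := by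
  have key : ∀ (K : Subgroup G) (g : G),
      (Subgroup.centralizer (K : Set G)).map (MulAut.conj g).toMonoidHom ≤
      Subgroup.centralizer ((K.map (MulAut.conj g).toMonoidHom : Subgroup G) : Set G) := by
    rintro K g _ ⟨c, hc, rfl⟩
    rw [Subgroup.mem_centralizer_iff]
    rintro _ ⟨k, hk, rfl⟩
    rw [← map_mul, ← map_mul, Subgroup.mem_centralizer_iff.mp hc k hk]
  refine le_antisymm (key K g) ?_
  have h := map_conj_mono g (key (K.map (MulAut.conj g).toMonoidHom) g⁻¹)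
  rw [map_conj_mul, map_conj_mul, mul_inv_cancel, map_conj_one, inv_mul_cancel, map_conj_one] at h
  exact h

/-- Three subgroups lemma in the form used here. -/
theorem commutator_eq_bot_of_rotate' {K L V : Subgroup G} (h1 : ⁅⁅V, K⁆, L⁆ = ⊥)
    (h2 : ⁅⁅V, L⁆, K⁆ = ⊥) : ⁅⁅K, L⁆, V⁆ = ⊥ := by
  have h3 : ⁅⁅L, V⁆, K⁆ = ⊥ := by rw [Subgroup.commutator_comm L V]; exact h2
  exact Subgroup.commutator_commutator_eq_bot_of_rotate h3 h1

theorem exists_mul_of_mem_sup {V K L : Subgroup G} (hV : ∀ x ∈ V, ∀ y ∈ V, x * y = y * x)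
    (hK : K ≤ V) (hL : L ≤ V) {x : G} (hx : x ∈ K ⊔ L) : ∃ k ∈ K, ∃ l ∈ L, k * l = x := by
  let S : Subgroup G :=
    { carrier := {x | ∃ k ∈ K, ∃ l ∈ L, k * l = x}
      one_mem' := ⟨1, one_mem _, 1, one_mem _, mul_one 1⟩
      mul_mem' := by
        rintro _ _ ⟨k, hk, l, hl, rfl⟩ ⟨k', hk', l', hl', rfl⟩
        refine ⟨k * k', mul_mem hk hk', l * l', mul_mem hl hl', ?_⟩
        calc k * k' * (l * l') = k * (k' * l) * l' := by group
          _ = k * (l * k') * l' := by rw [hV k' (hK hk') l (hL hl)]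
          _ = k * l * (k' * l') := by group
      inv_mem' := by
        rintro _ ⟨k, hk, l, hl, rfl⟩
        refine ⟨k⁻¹, inv_mem hk, l⁻¹, inv_mem hl, ?_⟩
        rw [hV k⁻¹ (hK (inv_mem hk)) l⁻¹ (hL (inv_mem hl)), mul_inv_rev] }
  have h : K ⊔ L ≤ S := sup_le (fun k hk => ⟨k, hk, 1, one_mem _, mul_one k⟩)
    (fun l hl => ⟨1, one_mem _, l, hl, one_mul l⟩)
  exact h hx

/-- Modular law inside a commutative subgroup `V`. -/
theorem sup_inf_eq {V K L M : Subgroup G} (hV : ∀ x ∈ V, ∀ y ∈ V, x * y = y * x)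
    (hK : K ≤ V) (hL : L ≤ V) (hKM : K ≤ M) : (K ⊔ L) ⊓ M = K ⊔ (L ⊓ M) := by
  refine le_antisymm ?_ (le_inf (sup_le_sup_left inf_le_left K) (sup_le hKM inf_le_right))
  rintro x ⟨hx, hxM⟩
  obtain ⟨k, hk, l, hl, rfl⟩ := exists_mul_of_mem_sup hV hK hL hx
  have hlM : l ∈ M := by
    have := mul_mem (inv_mem (hKM hk)) hxM
    simpa using this
  exact mul_mem (Subgroup.mem_sup_left hk) (Subgroup.mem_sup_right ⟨hl, hlM⟩)

end General

section Prime

variable {G : Type*} [Group G] {p : ℕ} [Fact p.Prime]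

theorem finite_of_card_prime {L : Subgroup G} (hL : Nat.card L = p) : Finite L :=
  Nat.finite_of_card_ne_zero (by rw [hL]; exact (Fact.out : p.Prime).ne_zero)

theorem eq_of_card_prime {K L : Subgroup G} (hL : Nat.card L = p) (h : K ≤ L) (hK : K ≠ ⊥) :
    K = L := by
  have := finite_of_card_prime hL
  have h1 : Nat.card K ∣ p := hL ▸ Subgroup.card_dvd_of_le h
  rcases (Nat.dvd_prime (Fact.out : p.Prime)).mp h1 with h2 | h2
  · exact absurd (Subgroup.card_eq_one.mp h2) hK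
  · exact Subgroup.eq_of_le_of_card_ge h (by rw [hL, h2])

theorem le_of_mem_of_card_prime {K L : Subgroup G} (hL : Nat.card L = p) {x : G} (hx : x ∈ L)
    (hx1 : x ≠ 1) (hxK : x ∈ K) : L ≤ K := by
  have h : K ⊓ L = L := eq_of_card_prime hL inf_le_right (fun h => hx1 (by
    have : x ∈ K ⊓ L := ⟨hxK, hx⟩
    rwa [h, Subgroup.mem_bot] at this))
  rw [← h]
  exact inf_le_left

theorem ne_bot_of_card_prime {L : Subgroup G} (hL : Nat.card L = p) : L ≠ ⊥ := by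
  rintro rfl
  rw [Subgroup.card_bot] at hL
  exact (Fact.out : p.Prime).one_lt.ne hL

theorem exists_ne_one_of_card_prime {L : Subgroup G} (hL : Nat.card L = p) :
    ∃ x ∈ L, x ≠ 1 := by
  by_contra h
  push Not at h
  exact ne_bot_of_card_prime hL ((Subgroup.eq_bot_iff_forall _).mpr h)

/-- `A` is a group of order `p` acting on `V` like a group of transvections. -/
structure IsTv (p : ℕ) (V A : Subgroup G) : Prop where
  norm : A ≤ Subgroup.normalizer (V : Set G)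
  card : Nat.card A = p
  cardc : Nat.card ↥(⁅V, A⁆) = p
  idx : (V ⊓ Subgroup.centralizer (A : Set G)).relIndex V = p

namespace IsTv

variable {V A B : Subgroup G}

omit [Fact p.Prime] in
theorem le (hA : IsTv p V A) : ⁅V, A⁆ ≤ V := commutator_le_of_le_normalizer hA.norm

omit [Fact p.Prime] in
theorem norm_comm (hA : IsTv p V A) : A ≤ Subgroup.normalizer ((⁅V, A⁆ : Subgroup G) : Set G) :=
  le_normalizer_of_commutator_le le_rfl hA.le

theorem comm_le_centralizer [Finite G] (hA : IsTv p V A) :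
    ⁅V, A⁆ ≤ Subgroup.centralizer (A : Set G) := by
  have h := OffenderStep.inf_centralizer_ne_bot (⁅V, A⁆) A
    (IsPGroup.of_card (n := 1) (by rw [hA.cardc, pow_one]))
    (IsPGroup.of_card (n := 1) (by rw [hA.card, pow_one])) hA.norm_comm
    (ne_bot_of_card_prime hA.cardc)
  have h2 := eq_of_card_prime hA.cardc inf_le_left h
  rw [← h2]
  exact inf_le_right

theorem le_centralizer [Finite G] (hA : IsTv p V A) :
    A ≤ Subgroup.centralizer ((⁅V, A⁆ : Subgroup G) : Set G) :=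
  Subgroup.le_centralizer_iff.mp hA.comm_le_centralizer

omit [Fact p.Prime] in
theorem commutator_sup (hA : IsTv p V A) (hB : IsTv p V B) :
    ⁅V, A ⊔ B⁆ = ⁅V, A⁆ ⊔ ⁅V, B⁆ := by
  have h : ⁅V, A⁆ ⊔ ⁅V, B⁆ ≤ V := sup_le hA.le hB.le
  refine le_antisymm (commutator_sup_le
    (le_normalizer_of_commutator_le le_sup_left h) (le_normalizer_of_commutator_le le_sup_right h)
    le_sup_left le_sup_right) (sup_le (Subgroup.commutator_mono le_rfl le_sup_left)
    (Subgroup.commutator_mono le_rfl le_sup_right))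

theorem inf_eq_bot (hA : IsTv p V A) (hB : IsTv p V B)
    (hc : Nat.card ↥(⁅V, A ⊔ B⁆) = p ^ 2) : ⁅V, A⁆ ⊓ ⁅V, B⁆ = ⊥ := by
  by_contra hne
  have h1 := eq_of_card_prime hA.cardc inf_le_left hne
  have h2 := eq_of_card_prime hB.cardc inf_le_right hne
  have h3 : ⁅V, A⁆ = ⁅V, B⁆ := h1.symm.trans h2
  rw [hA.commutator_sup hB, ← h3, sup_idem, hA.cardc] at hc
  have := (Fact.out : p.Prime).one_lt
  nlinarith

theorem not_le_centralizer_of [Finite G] (hA : IsTv p V A) (hB : IsTv p V B)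
    (hf : (A ⊔ B) ⊓ Subgroup.centralizer ((⁅V, A ⊔ B⁆ : Subgroup G) : Set G) = ⊥) :
    ¬ B ≤ Subgroup.centralizer ((⁅V, A⁆ : Subgroup G) : Set G) := by
  intro h
  have h1 : B ≤ Subgroup.centralizer ((⁅V, A ⊔ B⁆ : Subgroup G) : Set G) := by
    rw [hA.commutator_sup hB, Subgroup.le_centralizer_iff]
    exact sup_le (Subgroup.le_centralizer_iff.mp h) hB.comm_le_centralizer
  have h2 : B ≤ ⊥ := by
    rw [← hf]
    exact le_inf le_sup_right h1
  exact ne_bot_of_card_prime hB.card (le_bot_iff.mp h2)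

/-- `A` moves any element of `[V, B]` over the whole coset of `[V, A]`. -/
theorem exists_mem_comm [Finite G] (hV : ∀ x ∈ V, ∀ y ∈ V, x * y = y * x) (hA : IsTv p V A)
    (hB : IsTv p V B) (hn : ¬ A ≤ Subgroup.centralizer ((⁅V, B⁆ : Subgroup G) : Set G)) {w : G}
    (hw : w ∈ ⁅V, A⁆ ⊔ ⁅V, B⁆) :
    w ∈ ⁅V, A⁆ ∨ ∃ a ∈ A, w ∈ ⁅V, B.map (MulAut.conj a).toMonoidHom⁆ := by
  obtain ⟨u, hu, v, hv, rfl⟩ := exists_mul_of_mem_sup hV hA.le hB.le hw
  by_cases hv1 : v = 1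
  · left
    rw [hv1, mul_one]
    exact hu
  right
  have hvV : v ∈ V := hB.le hv
  let f : A → ↥(⁅V, A⁆) := fun a => ⟨(a : G) * v * (a : G)⁻¹ * v⁻¹, by
    have : (a : G) * v * (a : G)⁻¹ * v⁻¹ = ⁅v, (a : G)⁆⁻¹ := by
      simp only [commutatorElement_def]; group
    rw [this]
    exact inv_mem (Subgroup.commutator_mem_commutator hvV a.2)⟩
  have hf : Function.Injective f := by
    intro a b hab
    have h1 : (a : G) * v * (a : G)⁻¹ * v⁻¹ = (b : G) * v * (b : G)⁻¹ * v⁻¹ :=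
      congrArg Subtype.val hab
    have h2 : (a : G) * v * (a : G)⁻¹ = (b : G) * v * (b : G)⁻¹ := mul_right_cancel h1
    by_contra hne
    have h3 : ((b : G)⁻¹ * a) * v = v * ((b : G)⁻¹ * a) := by
      calc ((b : G)⁻¹ * a) * v = (b : G)⁻¹ * (a * v * (a : G)⁻¹) * a := by group
        _ = (b : G)⁻¹ * (b * v * (b : G)⁻¹) * a := by rw [h2]
        _ = v * ((b : G)⁻¹ * a) := by group
    have h4 : ((b : G)⁻¹ * a) ≠ 1 := by
      intro h
      apply hne
      apply Subtype.ext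
      exact (inv_mul_eq_one.mp h).symm
    have h5 : A ≤ Subgroup.centralizer ({v} : Set G) :=
      le_of_mem_of_card_prime hA.card (mul_mem (inv_mem b.2) a.2) h4 (by
        rw [Subgroup.mem_centralizer_iff]
        rintro x rfl
        exact h3.symm)
    have h6 : v ∈ Subgroup.centralizer (A : Set G) := by
      rw [Subgroup.mem_centralizer_iff]
      intro x hx
      exact ((Subgroup.mem_centralizer_iff.mp (h5 hx)) v rfl).symm
    have h7 := le_of_mem_of_card_prime hB.cardc hv hv1 h6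
    exact hn (Subgroup.le_centralizer_iff.mp h7)
  have hbij := hf.bijective_of_nat_card_le (by rw [hA.card, hA.cardc])
  obtain ⟨a, ha⟩ := hbij.2 ⟨u, hu⟩
  have h1 : (a : G) * v * (a : G)⁻¹ * v⁻¹ = u := congrArg Subtype.val ha
  refine ⟨a, a.2, ?_⟩
  have h2 : ⁅V, B.map (MulAut.conj (a : G)).toMonoidHom⁆ =
      (⁅V, B⁆).map (MulAut.conj (a : G)).toMonoidHom := by
    rw [Subgroup.map_commutator, mem_normalizer_iff_map.mp (hA.norm a.2)]
  rw [h2]
  refine ⟨v, hv, ?_⟩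
  show (a : G) * v * (a : G)⁻¹ = u * v
  rw [← h1]
  group

end IsTv

/-- A set of transvection groups closed under mutual conjugation, two different members generating
a group acting faithfully on its commutator of order `p ^ 2`. -/
structure IsClass (p : ℕ) (V : Subgroup G) (T : Set (Subgroup G)) : Prop where
  tv : ∀ A ∈ T, IsTv p V A
  card : ∀ A ∈ T, ∀ B ∈ T, A ≠ B → Nat.card ↥(⁅V, A ⊔ B⁆) = p ^ 2
  faith : ∀ A ∈ T, ∀ B ∈ T, A ≠ B →
    (A ⊔ B) ⊓ Subgroup.centralizer ((⁅V, A ⊔ B⁆ : Subgroup G) : Set G) = ⊥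
  conj : ∀ A ∈ T, ∀ B ∈ T, ∀ a ∈ A, B.map (MulAut.conj a).toMonoidHom ∈ T

namespace IsClass

variable {V A B : Subgroup G} {T : Set (Subgroup G)}

theorem not_le_centralizer [Finite G] (hT : IsClass p V T) (hA : A ∈ T) (hB : B ∈ T)
    (hAB : A ≠ B) : ¬ B ≤ Subgroup.centralizer ((⁅V, A⁆ : Subgroup G) : Set G) :=
  (hT.tv A hA).not_le_centralizer_of (hT.tv B hB) (hT.faith A hA B hB hAB)

/-- Every element of the plane lies in the commutator of a member of the class. -/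
theorem exists_mem_comm [Finite G] (hT : IsClass p V T) (hV : ∀ x ∈ V, ∀ y ∈ V, x * y = y * x)
    (hA : A ∈ T) (hB : B ∈ T) (hAB : A ≠ B) {w : G} (hw : w ∈ ⁅V, A ⊔ B⁆) :
    ∃ D ∈ T, D ≤ A ⊔ B ∧ w ∈ ⁅V, D⁆ := by
  rw [(hT.tv A hA).commutator_sup (hT.tv B hB)] at hw
  rcases (hT.tv A hA).exists_mem_comm hV (hT.tv B hB)
    (hT.not_le_centralizer hB hA hAB.symm) hw with h | ⟨a, ha, h⟩
  · exact ⟨A, hA, le_sup_left, h⟩
  · refine ⟨_, hT.conj A hA B hB a ha, ?_, h⟩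
    rintro _ ⟨b, hb, rfl⟩
    show a * b * a⁻¹ ∈ A ⊔ B
    exact mul_mem (mul_mem (Subgroup.mem_sup_left ha) (Subgroup.mem_sup_right hb))
      (inv_mem (Subgroup.mem_sup_left ha))

/-- All members of the class lie in the subgroup generated by any two of them. -/
theorem le_sup [Finite G] (hT : IsClass p V T) (hV : ∀ x ∈ V, ∀ y ∈ V, x * y = y * x)
    (hA : A ∈ T) (hB : B ∈ T) (hAB : A ≠ B) {C : Subgroup G} (hC : C ∈ T) : C ≤ A ⊔ B := by
  have hW : ⁅V, A ⊔ B⁆ ≤ V := by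
    rw [(hT.tv A hA).commutator_sup (hT.tv B hB)]
    exact sup_le (hT.tv A hA).le (hT.tv B hB).le
  have h1 : ∃ w ∈ ⁅V, A ⊔ B⁆, w ≠ 1 ∧ w ∈ Subgroup.centralizer (C : Set G) := by
    by_contra hcon
    push Not at hcon
    have hbot : (V ⊓ Subgroup.centralizer (C : Set G)) ⊓ ⁅V, A ⊔ B⁆ = ⊥ := by
      rw [Subgroup.eq_bot_iff_forall]
      rintro w ⟨⟨_, hw⟩, hw'⟩
      by_contra hne
      exact hcon w hw' hne hw
    have h2 : (V ⊓ Subgroup.centralizer (C : Set G)).relIndex (⁅V, A ⊔ B⁆) = p ^ 2 := by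
      rw [← Subgroup.inf_relIndex_right, hbot, Subgroup.relIndex_bot_left,
        hT.card A hA B hB hAB]
    have h3 := Subgroup.relIndex_le_of_le_right (H := V ⊓ Subgroup.centralizer (C : Set G)) hW
      (by rw [(hT.tv C hC).idx]; exact (Fact.out : p.Prime).ne_zero)
    rw [h2, (hT.tv C hC).idx] at h3
    have := (Fact.out : p.Prime).one_lt
    nlinarith
  obtain ⟨w, hw, hw1, hwC⟩ := h1
  obtain ⟨D, hD, hDL, hwD⟩ := hT.exists_mem_comm hV hA hB hAB hw
  by_cases hDC : D = C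
  · rw [← hDC]; exact hDL
  · exfalso
    apply hT.not_le_centralizer hD hC hDC
    rw [Subgroup.le_centralizer_iff]
    exact le_of_mem_of_card_prime (hT.tv D hD).cardc hwD hw1 hwC

theorem inf_centralizer_eq_bot [Finite G] (hT : IsClass p V T)
    (hV : ∀ x ∈ V, ∀ y ∈ V, x * y = y * x) (hA : A ∈ T) (hB : B ∈ T) (hAB : A ≠ B) :
    ⁅V, A ⊔ B⁆ ⊓ Subgroup.centralizer ((A ⊔ B : Subgroup G) : Set G) = ⊥ := by
  rw [Subgroup.eq_bot_iff_forall]
  rintro w ⟨hw, hw'⟩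
  by_contra hne
  obtain ⟨D, hD, hDL, hwD⟩ := hT.exists_mem_comm hV hA hB hAB hw
  have h1 : ⁅V, D⁆ ≤ Subgroup.centralizer ((A ⊔ B : Subgroup G) : Set G) :=
    le_of_mem_of_card_prime (hT.tv D hD).cardc hwD hne hw'
  have h2 : ∀ C ∈ T, C ≤ A ⊔ B → D = C := by
    intro C hC hCL
    by_contra hDC
    apply hT.not_le_centralizer hD hC hDC
    rw [Subgroup.le_centralizer_iff]
    exact h1.trans (Subgroup.centralizer_le hCL)
  exact hAB ((h2 A hA le_sup_left).symm.trans (h2 B hB le_sup_right))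

theorem sup_centralizer_eq [Finite G] (hT : IsClass p V T)
    (hV : ∀ x ∈ V, ∀ y ∈ V, x * y = y * x) (hA : A ∈ T) (hB : B ∈ T) (hAB : A ≠ B) :
    ⁅V, A ⊔ B⁆ ⊔ (V ⊓ Subgroup.centralizer ((A ⊔ B : Subgroup G) : Set G)) = V := by
  set W := ⁅V, A ⊔ B⁆ with hWdef
  set C := V ⊓ Subgroup.centralizer ((A ⊔ B : Subgroup G) : Set G) with hCdef
  have hW : W ≤ V := by
    rw [hWdef, (hT.tv A hA).commutator_sup (hT.tv B hB)]
    exact sup_le (hT.tv A hA).le (hT.tv B hB).le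
  have hC : C ≤ V := inf_le_left
  have hWC : W ⊓ C = ⊥ := by
    rw [eq_bot_iff, ← hT.inf_centralizer_eq_bot hV hA hB hAB]
    exact inf_le_inf_left _ inf_le_right
  have hCeq : C = (V ⊓ Subgroup.centralizer (A : Set G)) ⊓
      (V ⊓ Subgroup.centralizer (B : Set G)) := by
    rw [hCdef]
    apply le_antisymm
    · exact le_inf
        (inf_le_inf_left _ (Subgroup.centralizer_le (le_sup_left : A ≤ A ⊔ B)))
        (inf_le_inf_left _ (Subgroup.centralizer_le (le_sup_right : B ≤ A ⊔ B)))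
    · refine le_inf (inf_le_left.trans inf_le_left) ?_
      rw [Subgroup.le_centralizer_iff]
      refine sup_le ?_ ?_
      · rw [Subgroup.le_centralizer_iff]; exact inf_le_left.trans inf_le_right
      · rw [Subgroup.le_centralizer_iff]; exact inf_le_right.trans inf_le_right
  have hidx : C.relIndex V ≤ p ^ 2 := by
    rw [hCeq]
    refine (Subgroup.relIndex_inf_le).trans ?_
    rw [(hT.tv A hA).idx, (hT.tv B hB).idx, sq]
  have hcW : C.relIndex W = p ^ 2 := by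
    rw [← Subgroup.inf_relIndex_right, inf_comm, hWC, Subgroup.relIndex_bot_left,
      hT.card A hA B hB hAB]
  -- count
  have h1 : C.relIndex (W ⊔ C) * (W ⊔ C).relIndex V = C.relIndex V :=
    Subgroup.relIndex_mul_relIndex _ _ _ le_sup_right (sup_le hW hC)
  have h2 : p ^ 2 ≤ C.relIndex (W ⊔ C) := by
    rw [← hcW]
    exact Subgroup.relIndex_le_of_le_right le_sup_left
      (Nat.pos_iff_ne_zero.mp (Nat.pos_of_dvd_of_pos (Subgroup.relIndex_dvd_card _ _) Nat.card_pos))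
  have hpos : 0 < p ^ 2 := pow_pos (Fact.out : p.Prime).pos 2
  have h3 : (W ⊔ C).relIndex V ≤ 1 := by
    by_contra hlt
    push Not at hlt
    nlinarith
  have h4 : (W ⊔ C).relIndex V = 1 := by
    have : (W ⊔ C).relIndex V ≠ 0 :=
      (Nat.pos_iff_ne_zero.mp (Nat.pos_of_dvd_of_pos (Subgroup.relIndex_dvd_card _ _) Nat.card_pos))
    omega
  exact le_antisymm (sup_le hW hC) (Subgroup.relIndex_eq_one.mp h4)

end IsClass

theorem le_normalizer_of_forall {K L : Subgroup G} (h : ∀ q ∈ K, ∀ k ∈ L, q * k * q⁻¹ ∈ L) :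
    K ≤ Subgroup.normalizer (L : Set G) := by
  intro a ha
  rw [Subgroup.mem_normalizer_iff]
  intro u
  refine ⟨h a ha u, fun hu => ?_⟩
  have := h a⁻¹ (inv_mem ha) _ hu
  simpa [mul_assoc] using this

theorem conj_mem {K L : Subgroup G} (h : K ≤ Subgroup.normalizer (L : Set G)) {q k : G}
    (hq : q ∈ K) (hk : k ∈ L) : q * k * q⁻¹ ∈ L :=
  (Subgroup.mem_normalizer_iff.mp (h hq) k).mp hk

/-- The plane attached to `A`: `E = [Q, A] A` acts faithfully on `W = [V, E]` of order `p ^ 2`. -/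
structure IsPlane (p : ℕ) (V Q A : Subgroup G) : Prop where
  tv : IsTv p V A
  normQ : A ≤ Subgroup.normalizer (Q : Set G)
  QnormV : Q ≤ Subgroup.normalizer (V : Set G)
  QnormE : Q ≤ Subgroup.normalizer ((⁅Q, A⁆ ⊔ A : Subgroup G) : Set G)
  card : Nat.card ↥(⁅V, ⁅Q, A⁆ ⊔ A⁆) = p ^ 2
  faith : (⁅Q, A⁆ ⊔ A) ⊓ Subgroup.centralizer ((⁅V, ⁅Q, A⁆ ⊔ A⁆ : Subgroup G) : Set G) = ⊥
  mem : ∀ w ∈ ⁅V, ⁅Q, A⁆ ⊔ A⁆, ∃ q ∈ Q, w ∈ ⁅V, A.map (MulAut.conj q).toMonoidHom⁆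
  irr : ∀ U : Subgroup G, U ≤ ⁅V, ⁅Q, A⁆ ⊔ A⁆ → Q ≤ Subgroup.normalizer (U : Set G) →
    U = ⊥ ∨ U = ⁅V, ⁅Q, A⁆ ⊔ A⁆
  supC : ⁅V, ⁅Q, A⁆ ⊔ A⁆ ⊔
    (V ⊓ Subgroup.centralizer ((⁅Q, A⁆ ⊔ A : Subgroup G) : Set G)) = V
  infC : ⁅V, ⁅Q, A⁆ ⊔ A⁆ ⊓ Subgroup.centralizer ((⁅Q, A⁆ ⊔ A : Subgroup G) : Set G) = ⊥
  ne : ⁅Q, A⁆ ≠ ⊥

/-- The `Q`-conjugates of `A`. -/
def cls (Q A : Subgroup G) : Set (Subgroup G) :=
  {B | ∃ q ∈ Q, B = A.map (MulAut.conj q).toMonoidHom}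

theorem mem_cls {Q A B : Subgroup G} :
    B ∈ cls Q A ↔ ∃ q ∈ Q, B = A.map (MulAut.conj q).toMonoidHom := Iff.rfl

theorem self_mem_cls (Q A : Subgroup G) : A ∈ cls Q A := ⟨1, one_mem _, (map_conj_one A).symm⟩

theorem map_mem_cls {Q A B : Subgroup G} (hB : B ∈ cls Q A) {q : G} (hq : q ∈ Q) :
    B.map (MulAut.conj q).toMonoidHom ∈ cls Q A := by
  obtain ⟨x, hx, rfl⟩ := hB
  exact ⟨q * x, mul_mem hq hx, map_conj_mul A q x⟩

theorem exists_map_of_mem_cls {Q A B C : Subgroup G} (hB : B ∈ cls Q A) (hC : C ∈ cls Q A) :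
    ∃ q ∈ Q, C = B.map (MulAut.conj q).toMonoidHom := by
  obtain ⟨x, hx, rfl⟩ := hB
  obtain ⟨y, hy, rfl⟩ := hC
  refine ⟨y * x⁻¹, mul_mem hy (inv_mem hx), ?_⟩
  rw [map_conj_mul, inv_mul_cancel_right]

theorem le_of_mem_cls {Q A B : Subgroup G} (hB : B ∈ cls Q A) : B ≤ ⁅Q, A⁆ ⊔ A := by
  obtain ⟨q, hq, rfl⟩ := hB
  rintro _ ⟨a, ha, rfl⟩
  show q * a * q⁻¹ ∈ ⁅Q, A⁆ ⊔ A
  have : q * a * q⁻¹ = ⁅q, a⁆ * a := by simp only [commutatorElement_def]; group
  rw [this]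
  exact mul_mem (Subgroup.mem_sup_left (Subgroup.commutator_mem_commutator hq ha))
    (Subgroup.mem_sup_right ha)

theorem commutator_sup_eq_of_isClass [Finite G] {V Q A B : Subgroup G}
    (hV : ∀ x ∈ V, ∀ y ∈ V, x * y = y * x) (hT : IsClass p V (cls Q A)) (hB : B ∈ cls Q A)
    (hAB : A ≠ B) : ⁅Q, A⁆ ⊔ A = A ⊔ B := by
  have hA := self_mem_cls Q A
  refine le_antisymm (sup_le ?_ le_sup_left) (sup_le le_sup_right (le_of_mem_cls hB))
  rw [Subgroup.commutator_le]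
  intro q hq a ha
  have h1 : ⁅q, a⁆ = (q * a * q⁻¹) * a⁻¹ := by simp only [commutatorElement_def]
  rw [h1]
  refine mul_mem ?_ (inv_mem (Subgroup.mem_sup_left ha))
  exact hT.le_sup hV hA hB hAB (map_mem_cls hA hq) ⟨a, ha, rfl⟩

theorem isPlane_of_isClass [Finite G] {V Q A B : Subgroup G}
    (hV : ∀ x ∈ V, ∀ y ∈ V, x * y = y * x) (hQV : Q ≤ Subgroup.normalizer (V : Set G))
    (hAQ : A ≤ Subgroup.normalizer (Q : Set G)) (hT : IsClass p V (cls Q A)) (hB : B ∈ cls Q A)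
    (hAB : A ≠ B) : IsPlane p V Q A := by
  have hA := self_mem_cls Q A
  have hE := commutator_sup_eq_of_isClass hV hT hB hAB
  have hQE : Q ≤ Subgroup.normalizer ((⁅Q, A⁆ ⊔ A : Subgroup G) : Set G) := by
    intro q hq
    rw [mem_normalizer_iff_map]
    have key : ∀ q ∈ Q, (⁅Q, A⁆ ⊔ A).map (MulAut.conj q).toMonoidHom ≤ ⁅Q, A⁆ ⊔ A := by
      intro q hq
      rw [Subgroup.map_sup]
      refine sup_le ?_ (le_of_mem_cls (map_mem_cls hA hq))
      rw [mem_normalizer_iff_map.mp (Lib.CoprimeCommutator.left_le_normalizer_commutator Q A hq)]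
      exact le_sup_left
    refine le_antisymm (key q hq) ?_
    have := map_conj_mono q (key q⁻¹ (inv_mem hq))
    rwa [map_conj_mul, mul_inv_cancel, map_conj_one] at this
  have hAq : ∀ D ∈ cls Q A, ∀ q ∈ Q, ⁅V, D.map (MulAut.conj q).toMonoidHom⁆ =
      (⁅V, D⁆).map (MulAut.conj q).toMonoidHom := by
    intro D _ q hq
    rw [Subgroup.map_commutator, mem_normalizer_iff_map.mp (hQV hq)]
  refine ⟨hT.tv A hA, hAQ, hQV, hQE, ?_, ?_, ?_, ?_, ?_, ?_, ?_⟩
  · rw [hE]; exact hT.card A hA B hB hAB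
  · rw [hE]; exact hT.faith A hA B hB hAB
  · rw [hE]
    intro w hw
    obtain ⟨D, hD, -, hwD⟩ := hT.exists_mem_comm hV hA hB hAB hw
    obtain ⟨q, hq, rfl⟩ := hD
    exact ⟨q, hq, hwD⟩
  · rw [hE]
    intro U hU hQU
    by_contra hcon
    push Not at hcon
    obtain ⟨hU1, hU2⟩ := hcon
    have hcU : Nat.card U = p := by
      have h1 : Nat.card U ∣ p ^ 2 := by
        rw [← hT.card A hA B hB hAB]
        exact Subgroup.card_dvd_of_le hU
      obtain ⟨i, hi, hi'⟩ := (Nat.dvd_prime_pow (Fact.out : p.Prime)).mp h1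
      interval_cases i
      · exact absurd (Subgroup.card_eq_one.mp (by simpa using hi')) hU1
      · simpa using hi'
      · exact absurd (Subgroup.eq_of_le_of_card_ge hU
          (by rw [hi', hT.card A hA B hB hAB])) hU2
    obtain ⟨w, hw, hw1⟩ := exists_ne_one_of_card_prime hcU
    obtain ⟨D, hD, -, hwD⟩ := hT.exists_mem_comm hV hA hB hAB (hU hw)
    have hDU : ⁅V, D⁆ = U :=
      eq_of_card_prime hcU (le_of_mem_of_card_prime (hT.tv D hD).cardc hwD hw1 hw)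
        (ne_bot_of_card_prime (hT.tv D hD).cardc)
    have h2 : ∀ C ∈ cls Q A, ⁅V, C⁆ = U := by
      intro C hC
      obtain ⟨q, hq, rfl⟩ := exists_map_of_mem_cls hD hC
      rw [hAq D hD q hq, hDU, mem_normalizer_iff_map.mp (hQU hq)]
    have h3 := (hT.tv A hA).inf_eq_bot (hT.tv B hB) (hT.card A hA B hB hAB)
    rw [h2 A hA, h2 B hB, inf_idem] at h3
    exact hU1 h3
  · rw [hE]; exact hT.sup_centralizer_eq hV hA hB hAB
  · rw [hE]; exact hT.inf_centralizer_eq_bot hV hA hB hAB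
  · intro h
    rw [h, bot_sup_eq] at hE
    have hBA : B ≤ A := by rw [hE]; exact le_sup_right
    exact hAB (eq_of_card_prime (hT.tv A hA).card hBA
      (ne_bot_of_card_prime (hT.tv B hB).card)).symm

namespace IsPlane

variable {V Q A B : Subgroup G}

omit [Fact p.Prime] in
theorem Qnorm (P : IsPlane p V Q A) : Q ≤ Subgroup.normalizer ((⁅Q, A⁆ : Subgroup G) : Set G) :=
  Lib.CoprimeCommutator.left_le_normalizer_commutator Q A

omit [Fact p.Prime] in
theorem Anorm (P : IsPlane p V Q A) : A ≤ Subgroup.normalizer ((⁅Q, A⁆ : Subgroup G) : Set G) :=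
  Lib.CoprimeCommutator.right_le_normalizer_commutator Q A

omit [Fact p.Prime] in
theorem leQ (P : IsPlane p V Q A) : ⁅Q, A⁆ ≤ Q := commutator_le_of_le_normalizer P.normQ

omit [Fact p.Prime] in
theorem norm (P : IsPlane p V Q A) : ⁅Q, A⁆ ⊔ A ≤ Subgroup.normalizer (V : Set G) :=
  sup_le (P.leQ.trans P.QnormV) P.tv.norm

omit [Fact p.Prime] in
theorem le (P : IsPlane p V Q A) : ⁅V, ⁅Q, A⁆ ⊔ A⁆ ≤ V := commutator_le_of_le_normalizer P.norm

omit [Fact p.Prime] in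
theorem QnormW (P : IsPlane p V Q A) :
    Q ≤ Subgroup.normalizer ((⁅V, ⁅Q, A⁆ ⊔ A⁆ : Subgroup G) : Set G) :=
  le_normalizer_commutator P.QnormV P.QnormE

omit [Fact p.Prime] in
/-- `C_W([Q, A]) = 1`. -/
theorem infD (P : IsPlane p V Q A) :
    ⁅V, ⁅Q, A⁆ ⊔ A⁆ ⊓ Subgroup.centralizer ((⁅Q, A⁆ : Subgroup G) : Set G) = ⊥ := by
  rcases P.irr _ inf_le_left (le_normalizer_inf P.QnormW (le_normalizer_centralizer P.Qnorm))
    with h | h
  · exact h
  · exfalso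
    have h1 : ⁅V, ⁅Q, A⁆ ⊔ A⁆ ≤ Subgroup.centralizer ((⁅Q, A⁆ : Subgroup G) : Set G) := by
      rw [← h]; exact inf_le_right
    have h2 : ⁅Q, A⁆ ≤ ⊥ := by
      rw [← P.faith]
      exact le_inf le_sup_left (Subgroup.le_centralizer_iff.mp h1)
    exact P.ne (le_bot_iff.mp h2)

omit [Fact p.Prime] in
/-- `C_V([Q, A]) = C_V([Q, A] A)`. -/
theorem eqC (P : IsPlane p V Q A) (hV : ∀ x ∈ V, ∀ y ∈ V, x * y = y * x) :
    V ⊓ Subgroup.centralizer ((⁅Q, A⁆ : Subgroup G) : Set G) =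
      V ⊓ Subgroup.centralizer ((⁅Q, A⁆ ⊔ A : Subgroup G) : Set G) := by
  have h1 : V ⊓ Subgroup.centralizer ((⁅Q, A⁆ ⊔ A : Subgroup G) : Set G) ≤
      Subgroup.centralizer ((⁅Q, A⁆ : Subgroup G) : Set G) :=
    inf_le_right.trans (Subgroup.centralizer_le (le_sup_left : ⁅Q, A⁆ ≤ ⁅Q, A⁆ ⊔ A))
  have h2 := sup_inf_eq (V := V) hV (K := V ⊓ Subgroup.centralizer
    ((⁅Q, A⁆ ⊔ A : Subgroup G) : Set G)) (L := ⁅V, ⁅Q, A⁆ ⊔ A⁆)
    (M := Subgroup.centralizer ((⁅Q, A⁆ : Subgroup G) : Set G)) inf_le_left P.le h1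
  rw [sup_comm, P.supC, P.infD, sup_bot_eq] at h2
  exact h2

omit [Fact p.Prime] in
theorem centralizer_of_inf_eq_bot (PA : IsPlane p V Q A) (PB : IsPlane p V Q B)
    (hV : ∀ x ∈ V, ∀ y ∈ V, x * y = y * x)
    (h : ⁅V, ⁅Q, A⁆ ⊔ A⁆ ⊓ ⁅V, ⁅Q, B⁆ ⊔ B⁆ = ⊥) :
    ⁅Q, B⁆ ⊔ B ≤ Subgroup.centralizer ((⁅V, ⁅Q, A⁆ ⊔ A⁆ : Subgroup G) : Set G) := by
  set WA := ⁅V, ⁅Q, A⁆ ⊔ A⁆ with hWA
  set WB := ⁅V, ⁅Q, B⁆ ⊔ B⁆ with hWB
  -- `[Q, B]` centralizes `W_A`
  have h1 : ⁅Q, B⁆ ≤ Subgroup.centralizer (WA : Set G) := by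
    rw [← Subgroup.commutator_eq_bot_iff_le_centralizer, Subgroup.commutator_comm, eq_bot_iff, ← h]
    refine le_inf (commutator_le_of_le_normalizer (PB.leQ.trans PA.QnormW)) ?_
    exact Subgroup.commutator_mono PA.le le_sup_left
  have h1' : WA ≤ Subgroup.centralizer ((⁅Q, B⁆ : Subgroup G) : Set G) :=
    Subgroup.le_centralizer_iff.mp h1
  -- `C_{W_A W_B}([Q, B]) = W_A`
  have h2 : (WA ⊔ WB) ⊓ Subgroup.centralizer ((⁅Q, B⁆ : Subgroup G) : Set G) = WA := by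
    rw [sup_inf_eq hV PA.le PB.le h1', PB.infD, sup_bot_eq]
  have h3 : B ≤ Subgroup.normalizer ((WA ⊔ WB : Subgroup G) : Set G) := by
    refine le_normalizer_of_commutator_le ?_ (sup_le PA.le PB.le)
    exact (Subgroup.commutator_mono le_rfl le_sup_right).trans le_sup_right
  have h4 : B ≤ Subgroup.normalizer (WA : Set G) := by
    rw [← h2]
    exact le_normalizer_inf h3 (le_normalizer_centralizer PB.Anorm)
  have h5 : B ≤ Subgroup.centralizer (WA : Set G) := by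
    rw [← Subgroup.commutator_eq_bot_iff_le_centralizer, Subgroup.commutator_comm, eq_bot_iff, ← h]
    refine le_inf (commutator_le_of_le_normalizer h4) ?_
    exact Subgroup.commutator_mono PA.le le_sup_right
  exact sup_le h1 h5

omit [Fact p.Prime] in
theorem le_fixed_of_eq (PA : IsPlane p V Q A) (PB : IsPlane p V Q B)
    (hV : ∀ x ∈ V, ∀ y ∈ V, x * y = y * x) (h : ⁅V, ⁅Q, A⁆ ⊔ A⁆ = ⁅V, ⁅Q, B⁆ ⊔ B⁆) :
    V ⊓ Subgroup.centralizer ((⁅Q, B⁆ ⊔ B : Subgroup G) : Set G) ≤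
      V ⊓ Subgroup.centralizer ((⁅Q, A⁆ ⊔ A : Subgroup G) : Set G) := by
  rw [← PA.eqC hV]
  refine le_inf inf_le_left ?_
  rw [Subgroup.le_centralizer_iff, ← Subgroup.commutator_eq_bot_iff_le_centralizer,
    Subgroup.commutator_comm, eq_bot_iff, ← PB.infC]
  have hQC : Q ≤ Subgroup.normalizer
      ((V ⊓ Subgroup.centralizer ((⁅Q, B⁆ ⊔ B : Subgroup G) : Set G) : Subgroup G) : Set G) :=
    le_normalizer_inf PB.QnormV (le_normalizer_centralizer PB.QnormE)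
  refine le_inf ?_ ((commutator_le_of_le_normalizer (PA.leQ.trans hQC)).trans inf_le_right)
  rw [← h]
  exact Subgroup.commutator_mono inf_le_left le_sup_left

/-- If the planes of `A` and `B` agree, then `B ≤ [Q, A] A`. -/
theorem le_of_eq [Finite G] (PA : IsPlane p V Q A) (PB : IsPlane p V Q B)
    (hV : ∀ x ∈ V, ∀ y ∈ V, x * y = y * x)
    (hf : ((⁅Q, A⁆ ⊔ A) ⊔ B) ⊓ Subgroup.centralizer (V : Set G) = ⊥)
    (h : ⁅V, ⁅Q, A⁆ ⊔ A⁆ = ⁅V, ⁅Q, B⁆ ⊔ B⁆) : B ≤ ⁅Q, A⁆ ⊔ A := by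
  have hZW : ⁅V, B⁆ ≤ ⁅V, ⁅Q, A⁆ ⊔ A⁆ := by
    rw [h]; exact Subgroup.commutator_mono le_rfl le_sup_right
  obtain ⟨w, hw, hw1⟩ := exists_ne_one_of_card_prime PB.tv.cardc
  obtain ⟨q, hq, hwq⟩ := PA.mem w (hZW hw)
  set A' := A.map (MulAut.conj q).toMonoidHom with hA'
  have hA'E : A' ≤ ⁅Q, A⁆ ⊔ A := le_of_mem_cls ⟨q, hq, rfl⟩
  have hcA' : Nat.card A' = p := by rw [hA', card_map_conj, PA.tv.card]
  have hcomm : ⁅V, A'⁆ = (⁅V, A⁆).map (MulAut.conj q).toMonoidHom := by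
    rw [hA', Subgroup.map_commutator, mem_normalizer_iff_map.mp (PA.QnormV hq)]
  have hcc : Nat.card ↥(⁅V, A'⁆) = p := by rw [hcomm, card_map_conj, PA.tv.cardc]
  have hZ : ⁅V, A'⁆ = ⁅V, B⁆ :=
    eq_of_card_prime PB.tv.cardc (le_of_mem_of_card_prime hcc hwq hw1 hw)
      (ne_bot_of_card_prime hcc)
  -- both act trivially on `C Z`
  set C := V ⊓ Subgroup.centralizer ((⁅Q, A⁆ ⊔ A : Subgroup G) : Set G) with hC
  have hCB : C = V ⊓ Subgroup.centralizer ((⁅Q, B⁆ ⊔ B : Subgroup G) : Set G) :=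
    le_antisymm (PB.le_fixed_of_eq PA hV h.symm) (PA.le_fixed_of_eq PB hV h)
  set Z := ⁅V, B⁆ with hZdef
  have hZV : Z ≤ V := PB.tv.le
  have hZA' : Z ≤ Subgroup.centralizer (A' : Set G) := by
    rw [← hZ, hcomm, hA', ← map_conj_centralizer]
    exact map_conj_mono q PA.tv.comm_le_centralizer
  have hZB : Z ≤ Subgroup.centralizer (B : Set G) := PB.tv.comm_le_centralizer
  have hCA' : C ≤ Subgroup.centralizer (A' : Set G) :=
    inf_le_right.trans (Subgroup.centralizer_le hA'E)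
  have hCB' : C ≤ Subgroup.centralizer (B : Set G) := by
    rw [hCB]
    exact inf_le_right.trans (Subgroup.centralizer_le (le_sup_right : B ≤ ⁅Q, B⁆ ⊔ B))
  set K := C ⊔ Z with hK
  have hKV : K ≤ V := sup_le inf_le_left hZV
  have hKP : K ≤ Subgroup.centralizer ((A' ⊔ B : Subgroup G) : Set G) := by
    rw [Subgroup.le_centralizer_iff]
    refine sup_le ?_ ?_
    · rw [Subgroup.le_centralizer_iff]; exact sup_le hCA' hZA'
    · rw [Subgroup.le_centralizer_iff]; exact sup_le hCB' hZB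
  -- find `v ∈ V` outside the centralizer of `B`
  have hVB : ¬ V ≤ Subgroup.centralizer (B : Set G) := by
    intro hle
    have h1 := PB.tv.idx
    rw [inf_eq_left.mpr hle, Subgroup.relIndex_self] at h1
    exact (Fact.out : p.Prime).one_lt.ne h1
  obtain ⟨v, hv, hvB⟩ := SetLike.not_le_iff_exists.mp hVB
  -- `K` has index `p` in `V`
  have hidx : K = V ⊓ Subgroup.centralizer (B : Set G) := by
    have h1 : K ≤ V ⊓ Subgroup.centralizer (B : Set G) := le_inf hKV (sup_le hCB' hZB)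
    refine le_antisymm h1 ?_
    -- `V ∩ C(B) = C (W ∩ C(B))` and `W ∩ C(B) = Z`
    have h2 := sup_inf_eq (V := V) hV (K := C) (L := ⁅V, ⁅Q, A⁆ ⊔ A⁆)
      (M := Subgroup.centralizer (B : Set G)) inf_le_left PA.le hCB'
    have h3 : C ⊔ ⁅V, ⁅Q, A⁆ ⊔ A⁆ = V := by rw [sup_comm]; exact PA.supC
    rw [h3] at h2
    rw [h2]
    refine sup_le le_sup_left (le_trans ?_ le_sup_right)
    -- `W ∩ C(B)` is a proper subgroup of `W` containing `Z`
    set W := ⁅V, ⁅Q, A⁆ ⊔ A⁆ with hW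
    have h4 : Nat.card ↥(W ⊓ Subgroup.centralizer (B : Set G)) ∣ p ^ 2 := by
      rw [← PA.card]
      exact Subgroup.card_dvd_of_le inf_le_left
    have h5 : Z ≤ W ⊓ Subgroup.centralizer (B : Set G) := le_inf hZW hZB
    obtain ⟨i, hi, hi'⟩ := (Nat.dvd_prime_pow (Fact.out : p.Prime)).mp h4
    have h6 : i ≤ 1 := by
      by_contra hlt
      have hi2 : i = 2 := by omega
      subst hi2
      have h7 : W ⊓ Subgroup.centralizer (B : Set G) = W :=
        Subgroup.eq_of_le_of_card_ge inf_le_left (by rw [hi', PA.card])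
      have h8 : W ≤ Subgroup.centralizer (B : Set G) := by rw [← h7]; exact inf_le_right
      apply hVB
      rw [← h3]
      exact sup_le hCB' h8
    have h9 : Nat.card ↥(W ⊓ Subgroup.centralizer (B : Set G)) ≤ Nat.card Z := by
      rw [hi', PB.tv.cardc]
      calc p ^ i ≤ p ^ 1 := Nat.pow_le_pow_right (Fact.out : p.Prime).pos h6
        _ = p := pow_one p
    exact (Subgroup.eq_of_le_of_card_ge h5 h9).symm.le
  have hKidx : K.relIndex V = p := by rw [hidx]; exact PB.tv.idx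
  -- everything centralizing `K` and `v` centralizes `V`
  have hgen : ∀ g : G, g ∈ Subgroup.centralizer (K : Set G) → g * v = v * g →
      g ∈ Subgroup.centralizer (V : Set G) := by
    intro g hgK hgv
    have h1 : V ≤ Subgroup.centralizer ({g} : Set G) := by
      have h2 : K ≤ V ⊓ Subgroup.centralizer ({g} : Set G) := by
        refine le_inf hKV ?_
        intro k hk
        rw [Subgroup.mem_centralizer_iff]
        rintro x rfl
        exact (Subgroup.mem_centralizer_iff.mp hgK k hk).symm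
      have h3 : v ∈ V ⊓ Subgroup.centralizer ({g} : Set G) := by
        refine ⟨hv, ?_⟩
        show v ∈ Subgroup.centralizer ({g} : Set G)
        rw [Subgroup.mem_centralizer_iff]
        rintro x rfl
        exact hgv
      have h4 : K.relIndex (V ⊓ Subgroup.centralizer ({g} : Set G)) *
          (V ⊓ Subgroup.centralizer ({g} : Set G)).relIndex V = K.relIndex V :=
        Subgroup.relIndex_mul_relIndex _ _ _ h2 inf_le_left
      have h5 : K.relIndex (V ⊓ Subgroup.centralizer ({g} : Set G)) ≠ 1 := by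
        intro h6
        have h7 := Subgroup.relIndex_eq_one.mp h6 h3
        rw [hidx] at h7
        exact hvB h7.2
      rw [hKidx] at h4
      have h6 : (V ⊓ Subgroup.centralizer ({g} : Set G)).relIndex V = 1 := by
        rcases (Nat.dvd_prime (Fact.out : p.Prime)).mp (Dvd.intro _ h4) with h7 | h7
        · exact absurd h7 h5
        · rw [h7] at h4
          exact Nat.eq_of_mul_eq_mul_left (Fact.out : p.Prime).pos (by rw [h4, mul_one])
      exact (Subgroup.relIndex_eq_one.mp h6).trans inf_le_right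
    rw [Subgroup.mem_centralizer_iff]
    intro x hx
    have := Subgroup.mem_centralizer_iff.mp (h1 hx) g rfl
    exact this.symm
  -- the map `g ↦ [g, v]` from `A' ⊔ B` to `Z` is injective
  have hPZ : ⁅V, A' ⊔ B⁆ ≤ Z := by
    refine commutator_sup_le ?_ PB.tv.norm_comm hZ.le le_rfl
    refine le_normalizer_of_commutator_le hZ.le hZV
  let f : ↥(A' ⊔ B) → Z := fun g => ⟨⁅v, (g : G)⁆, hPZ (Subgroup.commutator_mem_commutator hv g.2)⟩
  have hfinj : Function.Injective f := by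
    intro a b hab
    have h1 : v * (a : G) * v⁻¹ * (a : G)⁻¹ = v * (b : G) * v⁻¹ * (b : G)⁻¹ :=
      congrArg Subtype.val hab
    have h2 : (a : G) * v⁻¹ * (a : G)⁻¹ = (b : G) * v⁻¹ * (b : G)⁻¹ := by
      have := congrArg (fun x => v⁻¹ * x) h1
      simpa [mul_assoc] using this
    have h3 : (b : G)⁻¹ * a * v = v * ((b : G)⁻¹ * a) := by
      have h4 : (b : G)⁻¹ * a * v⁻¹ = v⁻¹ * ((b : G)⁻¹ * a) := by
        calc (b : G)⁻¹ * a * v⁻¹ = (b : G)⁻¹ * (a * v⁻¹ * (a : G)⁻¹) * a := by group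
          _ = (b : G)⁻¹ * (b * v⁻¹ * (b : G)⁻¹) * a := by rw [h2]
          _ = v⁻¹ * ((b : G)⁻¹ * a) := by group
      calc (b : G)⁻¹ * a * v = v * (v⁻¹ * ((b : G)⁻¹ * a)) * v := by group
        _ = v * ((b : G)⁻¹ * a * v⁻¹) * v := by rw [h4]
        _ = v * ((b : G)⁻¹ * a) := by group
    have h4 : (b : G)⁻¹ * a ∈ ((⁅Q, A⁆ ⊔ A) ⊔ B) ⊓ Subgroup.centralizer (V : Set G) := by
      refine ⟨?_, ?_⟩
      · have hle : A' ⊔ B ≤ (⁅Q, A⁆ ⊔ A) ⊔ B := sup_le_sup_right hA'E B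
        exact hle (mul_mem (inv_mem b.2) a.2)
      · exact hgen _ (Subgroup.le_centralizer_iff.mp hKP (mul_mem (inv_mem b.2) a.2)) h3
    rw [hf, Subgroup.mem_bot] at h4
    exact Subtype.ext (inv_mul_eq_one.mp h4).symm
  have hcard : Nat.card ↥(A' ⊔ B) ≤ p := by
    rw [← PB.tv.cardc]
    exact Nat.card_le_card_of_injective f hfinj
  have h1 : A' = A' ⊔ B := Subgroup.eq_of_le_of_card_ge le_sup_left (by rw [hcA']; exact hcard)
  have h2 : B ≤ A' := by rw [h1]; exact le_sup_right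
  exact h2.trans hA'E

theorem le_of_eq' [Finite G] (PA : IsPlane p V Q A) (PB : IsPlane p V Q B)
    (hV : ∀ x ∈ V, ∀ y ∈ V, x * y = y * x)
    (hf : ((⁅Q, A⁆ ⊔ A) ⊔ B) ⊓ Subgroup.centralizer (V : Set G) = ⊥)
    (h : ⁅V, ⁅Q, A⁆ ⊔ A⁆ = ⁅V, ⁅Q, B⁆ ⊔ B⁆) : ⁅Q, B⁆ ⊔ B ≤ ⁅Q, A⁆ ⊔ A := by
  have hB := PA.le_of_eq PB hV hf h
  refine sup_le ?_ hB
  rw [Subgroup.commutator_le]
  intro q hq b hb
  rw [commutatorElement_def]
  exact mul_mem (conj_mem PA.QnormE hq (hB hb)) (inv_mem (hB hb))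

/-- The dichotomy for two planes. -/
theorem dichotomy [Finite G] {H : Subgroup G} (PA : IsPlane p V Q A) (PB : IsPlane p V Q B)
    (hV : ∀ x ∈ V, ∀ y ∈ V, x * y = y * x) (hQ : Q ≤ H) (hA : A ≤ H) (hB : B ≤ H)
    (hf : H ⊓ Subgroup.centralizer (V : Set G) = ⊥) :
    (⁅V, ⁅Q, A⁆ ⊔ A⁆ = ⁅V, ⁅Q, B⁆ ⊔ B⁆ ∧ ⁅Q, A⁆ ⊔ A = ⁅Q, B⁆ ⊔ B) ∨
    (⁅V, ⁅Q, A⁆ ⊔ A⁆ ⊓ ⁅V, ⁅Q, B⁆ ⊔ B⁆ = ⊥ ∧
      ⁅Q, B⁆ ⊔ B ≤ Subgroup.centralizer ((⁅V, ⁅Q, A⁆ ⊔ A⁆ : Subgroup G) : Set G) ∧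
      ⁅Q, A⁆ ⊔ A ≤ Subgroup.centralizer ((⁅V, ⁅Q, B⁆ ⊔ B⁆ : Subgroup G) : Set G) ∧
      ⁅Q, B⁆ ⊔ B ≤ Subgroup.centralizer ((⁅Q, A⁆ ⊔ A : Subgroup G) : Set G)) := by
  have hEA : ⁅Q, A⁆ ⊔ A ≤ H := sup_le (PA.leQ.trans hQ) hA
  have hEB : ⁅Q, B⁆ ⊔ B ≤ H := sup_le (PB.leQ.trans hQ) hB
  have hfA : ((⁅Q, A⁆ ⊔ A) ⊔ B) ⊓ Subgroup.centralizer (V : Set G) = ⊥ := by
    rw [eq_bot_iff, ← hf]
    exact inf_le_inf_right _ (sup_le hEA hB)
  have hfB : ((⁅Q, B⁆ ⊔ B) ⊔ A) ⊓ Subgroup.centralizer (V : Set G) = ⊥ := by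
    rw [eq_bot_iff, ← hf]
    exact inf_le_inf_right _ (sup_le hEB hA)
  have hQW := le_normalizer_inf PA.QnormW PB.QnormW
  rcases PA.irr _ inf_le_left hQW with h1 | h1
  · right
    have hB' := PA.centralizer_of_inf_eq_bot PB hV h1
    have hA' := PB.centralizer_of_inf_eq_bot PA hV (by rw [inf_comm]; exact h1)
    refine ⟨h1, hB', hA', ?_⟩
    have h2 : ⁅⁅V, ⁅Q, A⁆ ⊔ A⁆, ⁅Q, B⁆ ⊔ B⁆ = ⊥ := by
      rw [Subgroup.commutator_comm, Subgroup.commutator_eq_bot_iff_le_centralizer]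
      exact hB'
    have h3 : ⁅⁅V, ⁅Q, B⁆ ⊔ B⁆, ⁅Q, A⁆ ⊔ A⁆ = ⊥ := by
      rw [Subgroup.commutator_comm, Subgroup.commutator_eq_bot_iff_le_centralizer]
      exact hA'
    have h4 := commutator_eq_bot_of_rotate' h3 h2
    rw [Subgroup.commutator_eq_bot_iff_le_centralizer] at h4
    rw [← Subgroup.commutator_eq_bot_iff_le_centralizer, eq_bot_iff, ← hf]
    refine le_inf ?_ h4
    rw [Subgroup.commutator_le]
    intro x hx y hy
    rw [commutatorElement_def]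
    exact mul_mem (mul_mem (mul_mem (hEB hx) (hEA hy)) (inv_mem (hEB hx))) (inv_mem (hEA hy))
  · left
    have h2 : ⁅V, ⁅Q, A⁆ ⊔ A⁆ ≤ ⁅V, ⁅Q, B⁆ ⊔ B⁆ := by rw [← h1]; exact inf_le_right
    have h3 : ⁅V, ⁅Q, A⁆ ⊔ A⁆ = ⁅V, ⁅Q, B⁆ ⊔ B⁆ :=
      Subgroup.eq_of_le_of_card_ge h2 (by rw [PA.card, PB.card])
    exact ⟨h3, le_antisymm (PB.le_of_eq' PA hV hfB h3.symm) (PA.le_of_eq' PB hV hfA h3)⟩

end IsPlane

end Prime

end Cfsg.Agent.PLocal.FFPlane
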