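import Mathlib

/-!
Generation of `SL(2, F)` by elementary matrices, and the commutator of a diagonal and an
elementary matrix.
-/

set_option autoImplicit false

namespace Cfsg.Agent.PLocal.SL2Gen

open Matrix
open scoped commutatorElement

/-- Upper elementary matrix. -/
def up {F : Type*} [Field F] (t : F) : Matrix.SpecialLinearGroup (Fin 2) F :=
  ⟨!![1, t; 0, 1], by simp [Matrix.det_fin_two]⟩

/-- Lower elementary matrix. -/
def lo {F : Type*} [Field F] (t : F) : Matrix.SpecialLinearGroup (Fin 2) F :=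
  ⟨!![1, 0; t, 1], by simp [Matrix.det_fin_two]⟩

/-- Diagonal matrix. -/
def dg {F : Type*} [Field F] (u : Fˣ) : Matrix.SpecialLinearGroup (Fin 2) F :=
  ⟨!![(u : F), 0; 0, ((u⁻¹ : Fˣ) : F)], by simp [Matrix.det_fin_two]⟩

variable {F : Type*} [Field F]

theorem up_coe (t : F) : ((up t : Matrix.SpecialLinearGroup (Fin 2) F) : Matrix (Fin 2) (Fin 2) F)
    = !![1, t; 0, 1] := rfl

theorem lo_coe (t : F) : ((lo t : Matrix.SpecialLinearGroup (Fin 2) F) : Matrix (Fin 2) (Fin 2) F)
    = !![1, 0; t, 1] := rfl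

theorem dg_coe (u : Fˣ) : ((dg u : Matrix.SpecialLinearGroup (Fin 2) F) : Matrix (Fin 2) (Fin 2) F)
    = !![(u : F), 0; 0, ((u⁻¹ : Fˣ) : F)] := rfl

theorem up_zero : up (0 : F) = 1 := by
  apply Subtype.ext
  rw [up_coe, Matrix.SpecialLinearGroup.coe_one, Matrix.one_fin_two]

theorem lo_zero : lo (0 : F) = 1 := by
  apply Subtype.ext
  rw [lo_coe, Matrix.SpecialLinearGroup.coe_one, Matrix.one_fin_two]

theorem up_add (s t : F) : up (s + t) = up s * up t := by
  apply Subtype.ext
  rw [Matrix.SpecialLinearGroup.coe_mul, up_coe, up_coe, up_coe]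
  ext i j
  fin_cases i <;> fin_cases j <;> simp [Matrix.mul_apply, Fin.sum_univ_two, add_comm]

theorem lo_add (s t : F) : lo (s + t) = lo s * lo t := by
  apply Subtype.ext
  rw [Matrix.SpecialLinearGroup.coe_mul, lo_coe, lo_coe, lo_coe]
  ext i j
  fin_cases i <;> fin_cases j <;> simp [Matrix.mul_apply, Fin.sum_univ_two]

theorem up_nsmul (n : ℕ) (t : F) : up (n • t) = (up t) ^ n := by
  induction n with
  | zero => simp [up_zero]
  | succ n ih => rw [succ_nsmul, up_add, ih, pow_succ]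

theorem lo_nsmul (n : ℕ) (t : F) : lo (n • t) = (lo t) ^ n := by
  induction n with
  | zero => simp [lo_zero]
  | succ n ih => rw [succ_nsmul, lo_add, ih, pow_succ]

/-- A subgroup of `SL(2, F)` containing all elementary matrices is everything. -/
theorem eq_top_of_forall (S : Subgroup (Matrix.SpecialLinearGroup (Fin 2) F))
    (hu : ∀ t : F, up t ∈ S) (hl : ∀ t : F, lo t ∈ S) : S = ⊤ := by
  have key : ∀ g : Matrix.SpecialLinearGroup (Fin 2) F, g.1 1 0 ≠ 0 → g ∈ S := by
    intro g hg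
    have hdet : g.1 0 0 * g.1 1 1 - g.1 0 1 * g.1 1 0 = 1 := by
      have := g.2
      rwa [Matrix.det_fin_two] at this
    have : g = up ((g.1 0 0 - 1) / g.1 1 0) * lo (g.1 1 0) * up ((g.1 1 1 - 1) / g.1 1 0) := by
      apply Subtype.ext
      rw [Matrix.SpecialLinearGroup.coe_mul, Matrix.SpecialLinearGroup.coe_mul, up_coe, up_coe,
        lo_coe]
      ext i j
      fin_cases i <;> fin_cases j <;> simp [Matrix.mul_apply, Fin.sum_univ_two] <;> field_simp
      · ring
      · linear_combination -hdet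
      · ring
    rw [this]
    exact S.mul_mem (S.mul_mem (hu _) (hl _)) (hu _)
  rw [eq_top_iff]
  intro g _
  by_cases h : g.1 1 0 = 0
  · have hdet : g.1 0 0 * g.1 1 1 - g.1 0 1 * g.1 1 0 = 1 := by
      have := g.2
      rwa [Matrix.det_fin_two] at this
    have h00 : g.1 0 0 ≠ 0 := by
      intro h0
      rw [h0, h] at hdet
      simp at hdet
    have h1 : lo 1 * g ∈ S := by
      apply key
      rw [Matrix.SpecialLinearGroup.coe_mul, lo_coe]
      simp [Matrix.mul_apply, Fin.sum_univ_two, h, h00]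
    have : g = (lo 1)⁻¹ * (lo 1 * g) := by group
    rw [this]
    exact S.mul_mem (S.inv_mem (hl 1)) h1
  · exact key g h

/-- A subgroup of `SL(2, p)` containing a nontrivial upper and a nontrivial lower elementary matrix
is everything. -/
theorem eq_top_of_mem {p : ℕ} [Fact p.Prime]
    (S : Subgroup (Matrix.SpecialLinearGroup (Fin 2) (ZMod p)))
    {s t : ZMod p} (hs : s ≠ 0) (ht : t ≠ 0) (hu : up s ∈ S) (hl : lo t ∈ S) : S = ⊤ := by
  apply eq_top_of_forall
  · intro r
    have : r = (r / s).val • s := by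
      rw [nsmul_eq_mul, ZMod.natCast_zmod_val, div_mul_cancel₀ _ hs]
    rw [this, up_nsmul]
    exact S.pow_mem hu _
  · intro r
    have : r = (r / t).val • t := by
      rw [nsmul_eq_mul, ZMod.natCast_zmod_val, div_mul_cancel₀ _ ht]
    rw [this, lo_nsmul]
    exact S.pow_mem hl _

/-- The commutator of a diagonal and an upper elementary matrix. -/
theorem dg_mul_up (u : Fˣ) (t : F) :
    dg u * up t * (dg u)⁻¹ = up ((u : F) ^ 2 * t) := by
  rw [mul_inv_eq_iff_eq_mul]
  apply Subtype.ext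
  rw [Matrix.SpecialLinearGroup.coe_mul, Matrix.SpecialLinearGroup.coe_mul, up_coe, up_coe, dg_coe]
  ext i j
  fin_cases i <;> fin_cases j <;> simp [Matrix.mul_apply, Fin.sum_univ_two]
  · field_simp

theorem commutatorElement_dg_up (u : Fˣ) (t : F) :
    ⁅dg u, up t⁆ = up (((u : F) ^ 2 - 1) * t) := by
  have h : up (((u : F) ^ 2 - 1) * t) * up t = up ((u : F) ^ 2 * t) := by
    rw [← up_add]; congr 1; ring
  rw [commutatorElement_def, dg_mul_up, ← h, mul_inv_cancel_right]

/-- For a field with a unit `u` with `u² ≠ 1`, every upper elementary matrix is a commutator. -/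
theorem up_mem_commutator (u : Fˣ) (hu : (u : F) ^ 2 ≠ 1) (t : F) :
    up t ∈ commutator (Matrix.SpecialLinearGroup (Fin 2) F) := by
  have h : up t = ⁅dg u, up (t / ((u : F) ^ 2 - 1))⁆ := by
    rw [commutatorElement_dg_up]
    congr 1
    rw [mul_div_cancel₀]
    exact sub_ne_zero.mpr hu
  rw [h]
  exact Subgroup.commutator_mem_commutator (Subgroup.mem_top _) (Subgroup.mem_top _)

/-- In `ZMod p`, `p ≥ 5` prime, `2² ≠ 1`. -/
theorem exists_unit_sq_ne_one {p : ℕ} [Fact p.Prime] (h2 : p ≠ 2) (h3 : p ≠ 3) :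
    ∃ u : (ZMod p)ˣ, (u : ZMod p) ^ 2 ≠ 1 := by
  have hp : p.Prime := Fact.out
  have h20 : (2 : ZMod p) ≠ 0 := by
    intro h
    have h' : ((2 : ℕ) : ZMod p) = 0 := by exact_mod_cast h
    rw [ZMod.natCast_eq_zero_iff] at h'
    exact h2 ((Nat.prime_dvd_prime_iff_eq hp Nat.prime_two).mp h')
  refine ⟨Units.mk0 2 h20, ?_⟩
  intro h
  have h' : ((3 : ℕ) : ZMod p) = 0 := by
    have : (2 : ZMod p) ^ 2 = 1 := h
    push_cast
    linear_combination this
  rw [ZMod.natCast_eq_zero_iff] at h'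
  exact h3 ((Nat.prime_dvd_prime_iff_eq hp Nat.prime_three).mp h')

theorem up_mem_commutator_of_prime {p : ℕ} [Fact p.Prime] (h2 : p ≠ 2) (h3 : p ≠ 3) (t : ZMod p) :
    up t ∈ commutator (Matrix.SpecialLinearGroup (Fin 2) (ZMod p)) := by
  obtain ⟨u, hu⟩ := exists_unit_sq_ne_one (p := p) h2 h3
  exact up_mem_commutator u hu t

end Cfsg.Agent.PLocal.SL2Gen
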