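import Mathlib
import Cfsg.Agent.PLocal.SL2Gen

/-!
A two-dimensional representation of a group generated by two unipotent subgroups fixing different
lines is a representation into `SL(2, F)`; over `ZMod p` it is onto as soon as both subgroups act
nontrivially.
-/

set_option autoImplicit false

namespace Cfsg.Agent.PLocal.SL2Rep

open Cfsg.Agent.PLocal.SL2Gen

variable {F : Type*} [Field F] {E M : Type*} [Group E] [AddCommGroup M] [Module F M]

theorem toMatrix_up (b : Module.Basis (Fin 2) F M) (f : M →ₗ[F] M) (t : F)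
    (h0 : f (b 0) = b 0) (h1 : f (b 1) = b 1 + t • b 0) :
    LinearMap.toMatrix b b f = (up t : Matrix.SpecialLinearGroup (Fin 2) F).1 := by
  rw [up_coe]
  ext i j
  rw [LinearMap.toMatrix_apply]
  fin_cases i <;> fin_cases j <;> simp [h0, h1]

theorem toMatrix_lo (b : Module.Basis (Fin 2) F M) (f : M →ₗ[F] M) (t : F)
    (h1 : f (b 1) = b 1) (h0 : f (b 0) = b 0 + t • b 1) :
    LinearMap.toMatrix b b f = (lo t : Matrix.SpecialLinearGroup (Fin 2) F).1 := by
  rw [lo_coe]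
  ext i j
  rw [LinearMap.toMatrix_apply]
  fin_cases i <;> fin_cases j <;> simp [h0, h1]

/-- If `E = ⟨A, B⟩` acts on a plane, `A` fixing `b 0` and acting trivially modulo it and `B` fixing
`b 1` and acting trivially modulo it, then the matrices of the action have determinant one. -/
theorem exists_hom (ρ0 : E →* Module.End F M) (b : Module.Basis (Fin 2) F M)
    (A B : Subgroup E) (hAB : A ⊔ B = ⊤)
    (hA : ∀ a ∈ A, ρ0 a (b 0) = b 0 ∧ ∃ t : F, ρ0 a (b 1) = b 1 + t • b 0)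
    (hB : ∀ a ∈ B, ρ0 a (b 1) = b 1 ∧ ∃ t : F, ρ0 a (b 0) = b 0 + t • b 1) :
    ∃ ρ : E →* Matrix.SpecialLinearGroup (Fin 2) F,
      ∀ e, (ρ e).1 = LinearMap.toMatrix b b (ρ0 e) := by
  have hdet : ∀ e : E, (LinearMap.toMatrix b b (ρ0 e)).det = 1 := by
    let δ : E →* F := (LinearMap.det).comp ρ0
    have hδ : ∀ e, (LinearMap.toMatrix b b (ρ0 e)).det = δ e := by
      intro e
      simp [δ]
    have hker : (⊤ : Subgroup E) ≤ MonoidHom.ker δ := by
      rw [← hAB]
      refine sup_le ?_ ?_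
      · intro a ha
        obtain ⟨h0, t, h1⟩ := hA a ha
        rw [MonoidHom.mem_ker, ← hδ, toMatrix_up b _ t h0 h1]
        exact (up t).2
      · intro a ha
        obtain ⟨h1, t, h0⟩ := hB a ha
        rw [MonoidHom.mem_ker, ← hδ, toMatrix_lo b _ t h1 h0]
        exact (lo t).2
    intro e
    rw [hδ]
    exact hker (Subgroup.mem_top e)
  refine ⟨⟨⟨fun e => ⟨LinearMap.toMatrix b b (ρ0 e), hdet e⟩, ?_⟩, ?_⟩, ?_⟩
  · apply Subtype.ext
    rw [Matrix.SpecialLinearGroup.coe_one]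
    simp [LinearMap.toMatrix_one]
  · intro e f
    apply Subtype.ext
    rw [Matrix.SpecialLinearGroup.coe_mul]
    simp only [map_mul, LinearMap.toMatrix_mul]
  · intro e
    rfl

/-- As in `exists_hom` over `ZMod p`: if the action is faithful and `A` and `B` do not act trivially, the group is
isomorphic to `SL(2, p)`. -/
theorem exists_mulEquiv {p : ℕ} [Fact p.Prime] [Module (ZMod p) M]
    (ρ0 : E →* Module.End (ZMod p) M) (b : Module.Basis (Fin 2) (ZMod p) M)
    (A B : Subgroup E) (hAB : A ⊔ B = ⊤)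
    (hA : ∀ a ∈ A, ρ0 a (b 0) = b 0 ∧ ∃ t : ZMod p, ρ0 a (b 1) = b 1 + t • b 0)
    (hB : ∀ a ∈ B, ρ0 a (b 1) = b 1 ∧ ∃ t : ZMod p, ρ0 a (b 0) = b 0 + t • b 1)
    (hA1 : ∃ a ∈ A, ρ0 a (b 1) ≠ b 1) (hB1 : ∃ a ∈ B, ρ0 a (b 0) ≠ b 0)
    (hinj : ∀ e, (∀ m, ρ0 e m = m) → e = 1) :
    ∃ ρ : E ≃* Matrix.SpecialLinearGroup (Fin 2) (ZMod p),
      ∀ e, (ρ e).1 = LinearMap.toMatrix b b (ρ0 e) := by
  obtain ⟨ρ, hρ⟩ := exists_hom ρ0 b A B hAB hA hB
  have hi : Function.Injective ρ := by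
    rw [injective_iff_map_eq_one]
    intro e he
    apply hinj
    intro m
    have h1 : LinearMap.toMatrix b b (ρ0 e) = LinearMap.toMatrix b b (1 : Module.End (ZMod p) M) := by
      rw [← hρ, he, LinearMap.toMatrix_one, Matrix.SpecialLinearGroup.coe_one]
    have h2 := (LinearMap.toMatrix b b).injective h1
    rw [h2]; rfl
  have hs : Function.Surjective ρ := by
    rw [← MonoidHom.range_eq_top]
    obtain ⟨a, ha, ha1⟩ := hA1
    obtain ⟨c, hc, hc1⟩ := hB1
    obtain ⟨h0, t, h1⟩ := hA a ha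
    obtain ⟨k1, s, k0⟩ := hB c hc
    have ht : t ≠ 0 := by
      rintro rfl
      exact ha1 (by simpa using h1)
    have hs : s ≠ 0 := by
      rintro rfl
      exact hc1 (by simpa using k0)
    refine eq_top_of_mem ρ.range ht hs ⟨a, ?_⟩ ⟨c, ?_⟩
    · apply Subtype.ext
      rw [hρ, toMatrix_up b _ t h0 h1]
    · apply Subtype.ext
      rw [hρ, toMatrix_lo b _ s k1 k0]
  exact ⟨MulEquiv.ofBijective ρ ⟨hi, hs⟩, fun e => by rw [← hρ]; rfl⟩

/-- Version of `exists_mulEquiv` with two vectors instead of a basis. -/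
theorem exists_mulEquiv_of_add {p : ℕ} [Fact p.Prime] [Module (ZMod p) M]
    (ρ0 : E →* Module.End (ZMod p) M) (w1 w2 : M) (o1 : w1 ≠ 0) (o2 : w2 ≠ 0)
    (hd : ∀ m n : ℤ, m • w1 = n • w2 → m • w1 = 0) (hcard : Nat.card M = p ^ 2)
    (A B : Subgroup E) (hAB : A ⊔ B = ⊤)
    (hA : ∀ a ∈ A, ρ0 a w1 = w1 ∧ ∃ t : ℤ, ρ0 a w2 = w2 + t • w1)
    (hB : ∀ a ∈ B, ρ0 a w2 = w2 ∧ ∃ t : ℤ, ρ0 a w1 = w1 + t • w2)
    (hA1 : ∃ a ∈ A, ρ0 a w2 ≠ w2) (hB1 : ∃ a ∈ B, ρ0 a w1 ≠ w1)
    (hinj : ∀ e, (∀ m, ρ0 e m = m) → e = 1) :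
    Nonempty (E ≃* Matrix.SpecialLinearGroup (Fin 2) (ZMod p)) := by
  have hp : p.Prime := Fact.out
  have : Finite M := Nat.finite_of_card_ne_zero (by rw [hcard]; exact pow_ne_zero 2 hp.ne_zero)
  have sm : ∀ (s : ZMod p) (x : M), s • x = (s.val : ℤ) • x := by
    intro s x
    conv_lhs => rw [← ZMod.natCast_zmod_val s]
    rw [Nat.cast_smul_eq_nsmul, natCast_zsmul]
  have hli : LinearIndependent (ZMod p) ![w1, w2] := by
    rw [LinearIndependent.pair_iff]
    intro s t hst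
    have h1 : (s.val : ℤ) • w1 = (-(t.val : ℤ)) • w2 := by
      rw [neg_zsmul, ← sm, ← sm]
      exact eq_neg_of_add_eq_zero_left hst
    have h2 : s • w1 = 0 := by
      rw [sm]; exact hd _ _ h1
    have h3 : t • w2 = 0 := by rwa [h2, zero_add] at hst
    exact ⟨(smul_eq_zero.mp h2).resolve_right o1, (smul_eq_zero.mp h3).resolve_right o2⟩
  have hfin : Fintype.card (Fin 2) = Module.finrank (ZMod p) M := by
    have h1 : Nat.card M = Nat.card (ZMod p) ^ Module.finrank (ZMod p) M :=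
      Module.natCard_eq_pow_finrank
    rw [hcard, Nat.card_zmod] at h1
    rw [Fintype.card_fin]
    exact Nat.pow_right_injective hp.two_le h1
  let b : Module.Basis (Fin 2) (ZMod p) M :=
    basisOfLinearIndependentOfCardEqFinrank hli hfin
  have hb0 : b 0 = w1 := by
    simp [b, coe_basisOfLinearIndependentOfCardEqFinrank]
  have hb1 : b 1 = w2 := by
    simp [b, coe_basisOfLinearIndependentOfCardEqFinrank]
  obtain ⟨ρ, -⟩ := exists_mulEquiv ρ0 b A B hAB
    (fun a ha => by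
      obtain ⟨h1, n, h2⟩ := hA a ha
      refine ⟨by rw [hb0, h1], (n : ZMod p), ?_⟩
      rw [hb0, hb1, Int.cast_smul_eq_zsmul, h2])
    (fun a ha => by
      obtain ⟨h1, n, h2⟩ := hB a ha
      refine ⟨by rw [hb1, h1], (n : ZMod p), ?_⟩
      rw [hb0, hb1, Int.cast_smul_eq_zsmul, h2])
    (by rwa [hb1]) (by rwa [hb0]) hinj
  exact ⟨ρ⟩

section Act

open Subgroup

variable {K : Type*} [CommGroup K]

/-- The linear action on `Additive K` of a group acting on an abelian group `K` of exponent `p`. -/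
def linAct {p : ℕ} [Module (ZMod p) (Additive K)] (act : E →* MulAut K) :
    E →* Module.End (ZMod p) (Additive K) where
  toFun e := (MonoidHom.toAdditive (act e).toMonoidHom).toZModLinearMap p
  map_one' := by
    ext x
    simp
  map_mul' e f := by
    ext x
    simp

theorem linAct_apply {p : ℕ} [Module (ZMod p) (Additive K)] (act : E →* MulAut K) (e : E)
    (x : Additive K) : linAct (p := p) act e x = Additive.ofMul (act e (Additive.toMul x)) := rfl

/-- A group acting faithfully on an abelian group of order `p²` and exponent `p`, generated by two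
subgroups acting as the transvections with axes `⟨w1⟩`, `⟨w2⟩`, is isomorphic to `SL(2, p)`. -/
theorem exists_mulEquiv_of_act {p : ℕ} [Fact p.Prime] (hKp : ∀ x : K, x ^ p = 1)
    (act : E →* MulAut K) (w1 w2 : K) (o1 : w1 ≠ 1) (o2 : w2 ≠ 1)
    (hd : zpowers w1 ⊓ zpowers w2 = ⊥) (hcard : Nat.card K = p ^ 2) (A B : Subgroup E)
    (hAB : A ⊔ B = ⊤)
    (hA : ∀ a ∈ A, act a w1 = w1 ∧ ∃ n : ℤ, act a w2 = w2 * w1 ^ n)
    (hB : ∀ a ∈ B, act a w2 = w2 ∧ ∃ n : ℤ, act a w1 = w1 * w2 ^ n)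
    (hA1 : ∃ a ∈ A, act a w2 ≠ w2) (hB1 : ∃ a ∈ B, act a w1 ≠ w1)
    (hinj : ∀ e, (∀ m, act e m = m) → e = 1) :
    Nonempty (E ≃* Matrix.SpecialLinearGroup (Fin 2) (ZMod p)) := by
  have hp : p.Prime := Fact.out
  let _ : Module (ZMod p) (Additive K) := AddCommGroup.zmodModule (n := p) (by
    intro x
    have : (Additive.toMul x) ^ p = 1 := hKp _
    exact this)
  refine exists_mulEquiv_of_add (p := p) (M := Additive K) (linAct (p := p) act)
    (Additive.ofMul w1) (Additive.ofMul w2) (fun h => o1 (Additive.ofMul.injective h))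
    (fun h => o2 (Additive.ofMul.injective h)) ?_ ?_ A B hAB ?_ ?_ ?_ ?_ ?_
  · intro m n hmn
    have h1 : w1 ^ m = w2 ^ n := hmn
    have h2 : w1 ^ m ∈ zpowers w1 ⊓ zpowers w2 :=
      ⟨zpow_mem (mem_zpowers _) _, h1 ▸ zpow_mem (mem_zpowers _) _⟩
    rw [hd, mem_bot] at h2
    exact h2
  · rw [← hcard]; exact Nat.card_congr Additive.toMul
  · intro a ha
    obtain ⟨h1, n, h2⟩ := hA a ha
    exact ⟨congrArg Additive.ofMul h1, n, congrArg Additive.ofMul h2⟩
  · intro a ha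
    obtain ⟨h1, n, h2⟩ := hB a ha
    exact ⟨congrArg Additive.ofMul h1, n, congrArg Additive.ofMul h2⟩
  · obtain ⟨a, ha, h⟩ := hA1
    exact ⟨a, ha, fun h' => h (Additive.ofMul.injective h')⟩
  · obtain ⟨a, ha, h⟩ := hB1
    exact ⟨a, ha, fun h' => h (Additive.ofMul.injective h')⟩
  · intro e he
    exact hinj e (fun m => Additive.ofMul.injective (he (Additive.ofMul m)))

end Act

end Cfsg.Agent.PLocal.SL2Rep
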