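import Mathlib
import Cfsg.Prelude.Def_Transfer
import Cfsg.Agent.PLocal.SL2Rep

/-!
Two groups of transvections on an elementary abelian `p`-group `V` that generate a group which is
not a `p`-group generate `SL(2, p)`, acting naturally on a plane, and `V` splits accordingly.
-/

set_option autoImplicit false

namespace Cfsg.Agent.PLocal.TransvectionPair

open Subgroup
open scoped commutatorElement

variable {G : Type*} [Group G]

/-- Quadratic action: if `[V, e] ≤ W`, `e` centralizes `W` and `W` has exponent `n`, then `e ^ n`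
centralizes `V`. -/
theorem pow_mem_centralizer {n : ℕ} {V W : Subgroup G} {e : G}
    (h1 : ∀ v ∈ V, e * v * e⁻¹ * v⁻¹ ∈ W) (h2 : ∀ w ∈ W, e * w = w * e)
    (h3 : ∀ w ∈ W, w ^ n = 1) :
    e ^ n ∈ centralizer (V : Set G) := by
  rw [mem_centralizer_iff]
  intro v hv
  obtain ⟨w, hw⟩ : ∃ w, w = e * v * e⁻¹ * v⁻¹ := ⟨_, rfl⟩
  have hwW : w ∈ W := hw ▸ h1 v hv
  have hev : e * v * e⁻¹ = w * v := by rw [hw]; group
  have key : ∀ k : ℕ, e ^ k * v * (e ^ k)⁻¹ = w ^ k * v := by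
    intro k
    induction k with
    | zero => simp
    | succ k ih =>
      have hc : e * w ^ k * e⁻¹ = w ^ k := by
        rw [h2 _ (W.pow_mem hwW k)]; group
      calc e ^ (k+1) * v * (e ^ (k+1))⁻¹ = e * (e ^ k * v * (e ^ k)⁻¹) * e⁻¹ := by
            rw [pow_succ']; group
        _ = e * (w ^ k * v) * e⁻¹ := by rw [ih]
        _ = (e * w ^ k * e⁻¹) * (e * v * e⁻¹) := by group
        _ = w ^ (k+1) * v := by rw [hc, hev, pow_succ]; group
  have := key n
  rw [h3 w hwW, one_mul, mul_inv_eq_iff_eq_mul] at this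
  exact this.symm

/-- The subgroup of the elements normalizing `K` and acting trivially on `V / K`. -/
def trivOn (V K : Subgroup G) : Subgroup G where
  carrier := {g | g ∈ normalizer (K : Set G) ∧ ∀ v ∈ V, g * v * g⁻¹ * v⁻¹ ∈ K}
  one_mem' := ⟨one_mem _, fun v _ => by simp⟩
  mul_mem' := by
    rintro g h ⟨hg, hg'⟩ ⟨hh, hh'⟩
    refine ⟨mul_mem hg hh, fun v hv => ?_⟩
    have h1 : g * (h * v * h⁻¹ * v⁻¹) * g⁻¹ ∈ K := (mem_normalizer_iff.mp hg _).mp (hh' v hv)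
    have h2 : g * h * v * (g * h)⁻¹ * v⁻¹ =
      (g * (h * v * h⁻¹ * v⁻¹) * g⁻¹) * (g * v * g⁻¹ * v⁻¹) := by group
    rw [h2]
    exact K.mul_mem h1 (hg' v hv)
  inv_mem' := by
    rintro g ⟨hg, hg'⟩
    refine ⟨inv_mem hg, fun v hv => ?_⟩
    have h1 : g⁻¹ * (g * v * g⁻¹ * v⁻¹)⁻¹ * g⁻¹⁻¹ ∈ K :=
      (mem_normalizer_iff.mp (inv_mem hg) _).mp (K.inv_mem (hg' v hv))
    have h2 : g⁻¹ * v * g⁻¹⁻¹ * v⁻¹ = g⁻¹ * (g * v * g⁻¹ * v⁻¹)⁻¹ * g⁻¹⁻¹ := by group
    rw [h2]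
    exact h1

theorem mem_trivOn {V K : Subgroup G} {g : G} :
    g ∈ trivOn V K ↔ g ∈ normalizer (K : Set G) ∧ ∀ v ∈ V, g * v * g⁻¹ * v⁻¹ ∈ K := Iff.rfl

/-- A subgroup `A` with `[K, A] ≤ K` (elementwise) normalizes `K`. -/
theorem le_normalizer_of_comm {A K : Subgroup G} (h : ∀ a ∈ A, ∀ k ∈ K, a * k * a⁻¹ * k⁻¹ ∈ K) :
    A ≤ normalizer (K : Set G) := by
  rw [le_normalizer_iff]
  intro a ha k hk
  have h2 : a * k * a⁻¹ = (a * k * a⁻¹ * k⁻¹) * k := by group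
  rw [h2]
  exact K.mul_mem (h a ha k hk) hk

theorem comm_mem {V A : Subgroup G} {a v : G} (ha : a ∈ A) (hv : v ∈ V) :
    a * v * a⁻¹ * v⁻¹ ∈ ⁅V, A⁆ := by
  rw [commutator_comm]
  exact commutator_mem_commutator ha hv

/-- `[V, A] ≤ V` if `A` normalizes `V`. -/
theorem commutator_le_of_normalizer {V A : Subgroup G} (h : A ≤ normalizer (V : Set G)) :
    ⁅V, A⁆ ≤ V := by
  rw [commutator_le]
  intro v hv a ha
  have h1 : v * (a * v⁻¹ * a⁻¹) ∈ V :=
    V.mul_mem hv ((mem_normalizer_iff.mp (h ha) _).mp (V.inv_mem hv))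
  have h2 : ⁅v, a⁆ = v * (a * v⁻¹ * a⁻¹) := by rw [commutatorElement_def]; group
  rw [h2]; exact h1

/-- A `p`-group normalizing a subgroup of order `p` centralizes it. -/
theorem comm_of_card_prime [Finite G] {p : ℕ} [Fact p.Prime] {A W : Subgroup G}
    (hA : IsPGroup p A) (hAW : A ≤ normalizer (W : Set G)) (hW : Nat.card W = p) :
    ∀ a ∈ A, ∀ w ∈ W, a * w = w * a := by
  have hp : p.Prime := Fact.out
  have : IsCyclic W := isCyclic_of_prime_card hW
  intro a ha w hw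
  let φ : A →* MulAut W := W.normalizerMonoidHom.comp (inclusion hAW)
  have h1 : orderOf (φ ⟨a, ha⟩) ∣ p - 1 := by
    have := orderOf_dvd_natCard (φ ⟨a, ha⟩)
    rwa [IsCyclic.card_mulAut, hW, Nat.totient_prime hp] at this
  obtain ⟨k, hk⟩ := hA ⟨a, ha⟩
  have h2 : orderOf (φ ⟨a, ha⟩) ∣ p ^ k := by
    apply orderOf_dvd_of_pow_eq_one
    rw [← map_pow, hk, map_one]
  have h3 : Nat.Coprime (p - 1) (p ^ k) := by
    apply Nat.Coprime.pow_right
    rw [Nat.coprime_comm, Nat.Prime.coprime_iff_not_dvd hp]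
    intro h
    have := Nat.le_of_dvd (Nat.sub_pos_of_lt hp.one_lt) h
    have := hp.one_lt
    omega
  have h4 : orderOf (φ ⟨a, ha⟩) = 1 := Nat.eq_one_of_dvd_coprimes h3 h1 h2
  rw [orderOf_eq_one_iff] at h4
  have h5 : ((φ ⟨a, ha⟩) ⟨w, hw⟩ : G) = w := by rw [h4]; rfl
  have h6 : ((φ ⟨a, ha⟩) ⟨w, hw⟩ : G) = a * w * a⁻¹ := rfl
  rw [h6, mul_inv_eq_iff_eq_mul] at h5
  exact h5

/-- Order of the join of two commuting subgroups meeting trivially. -/
theorem card_sup_of_comm {H K : Subgroup G} (hc : ∀ h ∈ H, ∀ k ∈ K, h * k = k * h)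
    (hd : H ⊓ K = ⊥) : Nat.card ↥(H ⊔ K) = Nat.card H * Nat.card K := by
  have hcomm : ∀ (m : H) (n : K), Commute (H.subtype m) (K.subtype n) := fun m n =>
    hc m m.2 n n.2
  have hinj : Function.Injective (MonoidHom.noncommCoprod H.subtype K.subtype hcomm) := by
    rw [MonoidHom.noncommCoprod_injective]
    refine ⟨H.subtype_injective, K.subtype_injective, ?_⟩
    rw [range_subtype, range_subtype, disjoint_iff, hd]
  have hr : (MonoidHom.noncommCoprod H.subtype K.subtype hcomm).range = H ⊔ K := by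
    rw [MonoidHom.noncommCoprod_range, range_subtype, range_subtype]
  rw [← hr, ← Nat.card_prod]
  exact (Nat.card_congr (MonoidHom.ofInjective hinj).toEquiv).symm

/-- A subgroup of exponent dividing `p ^ k` is a `p`-group. -/
theorem isPGroup_of_pow {p : ℕ} {E : Subgroup G} (k : ℕ) (h : ∀ e ∈ E, e ^ (p ^ k) = 1) :
    IsPGroup p E := fun e => ⟨k, Subtype.ext (by simpa using h e e.2)⟩

theorem mem_sup_of_comm {H K : Subgroup G} (hc : ∀ h ∈ H, ∀ k ∈ K, h * k = k * h) {x : G}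
    (hx : x ∈ H ⊔ K) : ∃ h ∈ H, ∃ k ∈ K, h * k = x := by
  have hcomm : ∀ (m : H) (n : K), Commute (H.subtype m) (K.subtype n) := fun m n =>
    hc m m.2 n n.2
  have hr : (MonoidHom.noncommCoprod H.subtype K.subtype hcomm).range = H ⊔ K := by
    rw [MonoidHom.noncommCoprod_range, range_subtype, range_subtype]
  rw [← hr] at hx
  obtain ⟨⟨h, k⟩, rfl⟩ := hx
  exact ⟨h, h.2, k, k.2, rfl⟩

/-- Two different subgroups of order `p` meet trivially. -/
theorem inf_eq_bot_of_card_prime [Finite G] {p : ℕ} [Fact p.Prime] {H K : Subgroup G}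
    (hH : Nat.card H = p) (hK : Nat.card K = p) (hne : H ≠ K) : H ⊓ K = ⊥ := by
  have hp : p.Prime := Fact.out
  have h1 : Nat.card ↥(H ⊓ K) ∣ p := by
    rw [← hH]; exact card_dvd_of_le inf_le_left
  rcases (Nat.dvd_prime hp).mp h1 with h | h
  · exact (card_eq_one).mp h
  · exfalso
    have e1 : H ⊓ K = H := eq_of_le_of_card_ge inf_le_left (by rw [hH, h])
    have e2 : H ⊓ K = K := eq_of_le_of_card_ge inf_le_right (by rw [hK, h])
    exact hne (e1.symm.trans e2)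

theorem zpowers_eq_of_card_prime [Finite G] {p : ℕ} [Fact p.Prime] {W : Subgroup G}
    (hW : Nat.card W = p) {w : G} (hw : w ∈ W) (hw1 : w ≠ 1) : zpowers w = W := by
  have hp : p.Prime := Fact.out
  have hle : zpowers w ≤ W := by rwa [zpowers_le]
  apply eq_of_le_of_card_ge hle
  have h1 : Nat.card (zpowers w) ∣ p := by rw [← hW]; exact card_dvd_of_le hle
  rcases (Nat.dvd_prime hp).mp h1 with h | h
  · exfalso
    rw [Nat.card_zpowers, orderOf_eq_one_iff] at h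
    exact hw1 h
  · rw [h, hW]

/-- If `A` centralizes `[V, B]` then `A ⊔ B` is a `p`-group. -/
theorem isPGroup_of_comm {p : ℕ} {V A B : Subgroup G}
    (hVp : ∀ v ∈ V, v ^ p = 1)
    (hAV : A ≤ normalizer (V : Set G)) (hBV : B ≤ normalizer (V : Set G))
    (hcA : ∀ a ∈ A, ∀ w ∈ ⁅V, A⁆, a * w = w * a) (hcB : ∀ b ∈ B, ∀ w ∈ ⁅V, B⁆, b * w = w * b)
    (hf : (A ⊔ B) ⊓ centralizer (V : Set G) = ⊥)
    (hAB : ∀ a ∈ A, ∀ w ∈ ⁅V, B⁆, a * w = w * a) : IsPGroup p ↥(A ⊔ B) := by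
  have hW1 : ⁅V, A⁆ ≤ V := commutator_le_of_normalizer hAV
  have hW2 : ⁅V, B⁆ ≤ V := commutator_le_of_normalizer hBV
  have hK : ⁅V, A⁆ ⊔ ⁅V, B⁆ ≤ V := sup_le hW1 hW2
  -- A centralizes K
  have hAK : ∀ a ∈ A, ∀ k ∈ ⁅V, A⁆ ⊔ ⁅V, B⁆, a * k = k * a := by
    intro a ha
    have h : ⁅V, A⁆ ⊔ ⁅V, B⁆ ≤ centralizer {a} := by
      refine sup_le ?_ ?_
      · intro w hw
        rw [mem_centralizer_singleton_iff]
        exact (hcA a ha w hw).symm
      · intro w hw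
        rw [mem_centralizer_singleton_iff]
        exact (hAB a ha w hw).symm
    intro k hk
    exact (mem_centralizer_singleton_iff.mp (h hk)).symm
  have hE1 : A ⊔ B ≤ trivOn V (⁅V, A⁆ ⊔ ⁅V, B⁆) := by
    refine sup_le ?_ ?_
    · intro a ha
      refine ⟨le_normalizer_of_comm (fun a ha k hk => ?_) ha, fun v hv => ?_⟩
      · exact mem_sup_left (comm_mem ha (hK hk))
      · exact mem_sup_left (comm_mem ha hv)
    · intro b hb
      refine ⟨le_normalizer_of_comm (fun a ha k hk => ?_) hb, fun v hv => ?_⟩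
      · exact mem_sup_right (comm_mem ha (hK hk))
      · exact mem_sup_right (comm_mem hb hv)
  have hE2 : A ⊔ B ≤ trivOn (⁅V, A⁆ ⊔ ⁅V, B⁆) ⁅V, B⁆ := by
    refine sup_le ?_ ?_
    · intro a ha
      refine ⟨le_normalizer_of_comm (fun a ha k hk => ?_) ha, fun v hv => ?_⟩
      · rw [hAB a ha k hk, mul_inv_cancel_right, mul_inv_cancel]
        exact one_mem _
      · rw [hAK a ha v hv, mul_inv_cancel_right, mul_inv_cancel]
        exact one_mem _
    · intro b hb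
      refine ⟨le_normalizer_of_comm (fun a ha k hk => ?_) hb, fun v hv => ?_⟩
      · exact comm_mem ha (hW2 hk)
      · exact comm_mem hb (hK hv)
  have hE3 : ∀ e ∈ A ⊔ B, ∀ w ∈ ⁅V, B⁆, e * w = w * e := by
    have : A ⊔ B ≤ centralizer ((⁅V, B⁆ : Subgroup G) : Set G) := by
      refine sup_le ?_ ?_
      · intro a ha
        rw [mem_centralizer_iff]
        intro w hw
        exact (hAB a ha w hw).symm
      · intro b hb
        rw [mem_centralizer_iff]
        intro w hw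
        exact (hcB b hb w hw).symm
    intro e he w hw
    exact ((mem_centralizer_iff.mp (this he)) w hw).symm
  apply isPGroup_of_pow 2
  intro e he
  have h1 : e ^ p ∈ centralizer ((⁅V, A⁆ ⊔ ⁅V, B⁆ : Subgroup G) : Set G) :=
    pow_mem_centralizer (hE2 he).2 (hE3 e he) (fun w hw => hVp w (hW2 hw))
  have h2 : (e ^ p) ^ p ∈ centralizer (V : Set G) :=
    pow_mem_centralizer (hE1 (pow_mem he p)).2
      (fun w hw => ((mem_centralizer_iff.mp h1) w hw).symm) (fun w hw => hVp w (hK hw))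
  have h3 : (e ^ p) ^ p ∈ (A ⊔ B) ⊓ centralizer (V : Set G) := ⟨pow_mem (pow_mem he p) p, h2⟩
  rw [hf, mem_bot] at h3
  rw [pow_two, pow_mul, h3]

/-- `A ⊔ B` acting on `K = W1 × W2`. -/
theorem exists_mulEquiv_of_faithful [Finite G] {p : ℕ} [Fact p.Prime] {K W1 W2 A B : Subgroup G}
    (hKc : ∀ x ∈ K, ∀ y ∈ K, x * y = y * x) (hKp : ∀ x ∈ K, x ^ p = 1) (hK : K = W1 ⊔ W2)
    (c1 : Nat.card W1 = p) (c2 : Nat.card W2 = p) (hd : W1 ⊓ W2 = ⊥)
    (hcA : ∀ a ∈ A, ∀ w ∈ W1, a * w = w * a) (hcB : ∀ b ∈ B, ∀ w ∈ W2, b * w = w * b)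
    (hA : ∀ a ∈ A, ∀ k ∈ K, a * k * a⁻¹ * k⁻¹ ∈ W1) (hB : ∀ b ∈ B, ∀ k ∈ K, b * k * b⁻¹ * k⁻¹ ∈ W2)
    (nA : ∃ a ∈ A, ∃ w ∈ W2, a * w ≠ w * a) (nB : ∃ b ∈ B, ∃ w ∈ W1, b * w ≠ w * b)
    (hf : (A ⊔ B) ⊓ centralizer (K : Set G) = ⊥) :
    Nonempty (↥(A ⊔ B) ≃* Matrix.SpecialLinearGroup (Fin 2) (ZMod p)) := by
  have hp : p.Prime := Fact.out
  have hW1K : W1 ≤ K := hK ▸ le_sup_left
  have hW2K : W2 ≤ K := hK ▸ le_sup_right
  have hAK : A ≤ normalizer (K : Set G) :=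
    le_normalizer_of_comm (fun a ha k hk => hW1K (hA a ha k hk))
  have hBK : B ≤ normalizer (K : Set G) :=
    le_normalizer_of_comm (fun a ha k hk => hW2K (hB a ha k hk))
  have hEK : A ⊔ B ≤ normalizer (K : Set G) := sup_le hAK hBK
  obtain ⟨w1, hw1, hw11⟩ : ∃ w ∈ W1, w ≠ 1 := by
    by_contra h
    push Not at h
    have : W1 = ⊥ := (eq_bot_iff_forall _).mpr h
    rw [this, card_bot] at c1
    exact hp.one_lt.ne c1
  obtain ⟨w2, hw2, hw21⟩ : ∃ w ∈ W2, w ≠ 1 := by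
    by_contra h
    push Not at h
    have : W2 = ⊥ := (eq_bot_iff_forall _).mpr h
    rw [this, card_bot] at c2
    exact hp.one_lt.ne c2
  have z1 : zpowers w1 = W1 := zpowers_eq_of_card_prime c1 hw1 hw11
  have z2 : zpowers w2 = W2 := zpowers_eq_of_card_prime c2 hw2 hw21
  have hcardK : Nat.card K = p ^ 2 := by
    rw [hK, card_sup_of_comm (fun h hh k hk => hKc h (hW1K hh) k (hW2K hk)) hd, c1, c2, pow_two]
  let _ : CommGroup K := { (inferInstance : Group K) with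
    mul_comm := fun x y => Subtype.ext (hKc x x.2 y y.2) }
  let act : ↥(A ⊔ B) →* MulAut K := K.normalizerMonoidHom.comp (inclusion hEK)
  have hact : ∀ (e : ↥(A ⊔ B)) (x : K), ((act e x : K) : G) = e * (x : G) * (e : G)⁻¹ :=
    fun e x => rfl
  refine Cfsg.Agent.PLocal.SL2Rep.exists_mulEquiv_of_act (K := K) (fun x => Subtype.ext (hKp x x.2))
    act ⟨w1, hW1K hw1⟩ ⟨w2, hW2K hw2⟩ (fun h => hw11 (congrArg Subtype.val h))
    (fun h => hw21 (congrArg Subtype.val h)) ?_ hcardK (A.subgroupOf (A ⊔ B)) (B.subgroupOf (A ⊔ B))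
    ?_ ?_ ?_ ?_ ?_ ?_
  · rw [eq_bot_iff_forall]
    rintro x ⟨⟨m, hm⟩, ⟨n, hn⟩⟩
    have h1 : (x : G) = w1 ^ m := by rw [← hm]; rfl
    have h2 : (x : G) = w2 ^ n := by rw [← hn]; rfl
    have h3 : (x : G) ∈ W1 ⊓ W2 := ⟨h1 ▸ zpow_mem hw1 m, h2 ▸ zpow_mem hw2 n⟩
    rw [hd, mem_bot] at h3
    exact Subtype.ext h3
  · rw [← subgroupOf_sup le_sup_left le_sup_right, subgroupOf_self]
  · intro a ha
    have ha' : (a : G) ∈ A := ha
    refine ⟨Subtype.ext ?_, ?_⟩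
    · rw [hact]
      change (a : G) * w1 * (a : G)⁻¹ = w1
      rw [hcA a ha' w1 hw1, mul_inv_cancel_right]
    · have h1 := hA a ha' w2 (hW2K hw2)
      rw [← z1] at h1
      obtain ⟨n, hn⟩ := h1
      refine ⟨n, Subtype.ext ?_⟩
      rw [hact]
      change (a : G) * w2 * (a : G)⁻¹ = w2 * w1 ^ n
      rw [hKc w2 (hW2K hw2) _ (zpow_mem (hW1K hw1) n)]
      rw [eq_comm, ← eq_mul_inv_iff_mul_eq]
      exact hn
  · intro a ha
    have ha' : (a : G) ∈ B := ha
    refine ⟨Subtype.ext ?_, ?_⟩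
    · rw [hact]
      change (a : G) * w2 * (a : G)⁻¹ = w2
      rw [hcB a ha' w2 hw2, mul_inv_cancel_right]
    · have h1 := hB a ha' w1 (hW1K hw1)
      rw [← z2] at h1
      obtain ⟨n, hn⟩ := h1
      refine ⟨n, Subtype.ext ?_⟩
      rw [hact]
      change (a : G) * w1 * (a : G)⁻¹ = w1 * w2 ^ n
      rw [hKc w1 (hW1K hw1) _ (zpow_mem (hW2K hw2) n)]
      rw [eq_comm, ← eq_mul_inv_iff_mul_eq]
      exact hn
  · obtain ⟨a, ha, w, hw, hne⟩ := nA
    refine ⟨⟨a, mem_sup_left ha⟩, ha, fun h => hne ?_⟩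
    have h1 : a * w2 * a⁻¹ = w2 := congrArg Subtype.val h
    have h2 : w ∈ centralizer {a} := by
      have h3 : zpowers w2 ≤ centralizer {a} := by
        rw [zpowers_le, mem_centralizer_singleton_iff]
        exact (mul_inv_eq_iff_eq_mul.mp h1).symm
      exact h3 (z2 ▸ hw)
    exact (mem_centralizer_singleton_iff.mp h2).symm
  · obtain ⟨a, ha, w, hw, hne⟩ := nB
    refine ⟨⟨a, mem_sup_right ha⟩, ha, fun h => hne ?_⟩
    have h1 : a * w1 * a⁻¹ = w1 := congrArg Subtype.val h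
    have h2 : w ∈ centralizer {a} := by
      have h3 : zpowers w1 ≤ centralizer {a} := by
        rw [zpowers_le, mem_centralizer_singleton_iff]
        exact (mul_inv_eq_iff_eq_mul.mp h1).symm
      exact h3 (z1 ▸ hw)
    exact (mem_centralizer_singleton_iff.mp h2).symm
  · intro e he
    have h1 : (e : G) ∈ (A ⊔ B) ⊓ centralizer (K : Set G) := by
      refine mem_inf.mpr ⟨e.2, ?_⟩
      rw [mem_centralizer_iff]
      intro k hk
      have h2 : (e : G) * k * (e : G)⁻¹ = k := congrArg Subtype.val (he ⟨k, hk⟩)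
      exact (mul_inv_eq_iff_eq_mul.mp h2).symm
    rw [hf, mem_bot] at h1
    exact Subtype.ext h1

/-- Two groups of transvections generating a group that is not a `p`-group. -/
theorem transvection_pair [Finite G] {p : ℕ} [Fact p.Prime] (V A B : Subgroup G)
    (hV : Cfsg.IsElementaryAbelian p V)
    (hAV : A ≤ normalizer (V : Set G)) (hBV : B ≤ normalizer (V : Set G))
    (hA : IsPGroup p A) (hB : IsPGroup p B)
    (cA : Nat.card ↥⁅V, A⁆ = p) (cB : Nat.card ↥⁅V, B⁆ = p)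
    (iA : (V ⊓ centralizer (A : Set G)).relIndex V = p)
    (iB : (V ⊓ centralizer (B : Set G)).relIndex V = p)
    (hf : (A ⊔ B) ⊓ centralizer (V : Set G) = ⊥)
    (hnp : ¬ IsPGroup p ↥(A ⊔ B)) :
    Nat.card ↥⁅V, A ⊔ B⁆ = p ^ 2 ∧
    ⁅V, A ⊔ B⁆ ⊓ centralizer ((A ⊔ B : Subgroup G) : Set G) = ⊥ ∧
    ⁅V, A ⊔ B⁆ ⊔ (V ⊓ centralizer ((A ⊔ B : Subgroup G) : Set G)) = V ∧
    (A ⊔ B) ⊓ centralizer ((⁅V, A ⊔ B⁆ : Subgroup G) : Set G) = ⊥ ∧
    Nonempty (↥(A ⊔ B) ≃* Matrix.SpecialLinearGroup (Fin 2) (ZMod p)) := by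
  have hp : p.Prime := Fact.out
  have hVc : ∀ x ∈ V, ∀ y ∈ V, x * y = y * x := by
    intro x hx y hy
    exact congrArg Subtype.val (hV.1.is_comm.comm (⟨x, hx⟩ : V) ⟨y, hy⟩)
  have hVp : ∀ v ∈ V, v ^ p = 1 := hV.2
  have hW1 : ⁅V, A⁆ ≤ V := commutator_le_of_normalizer hAV
  have hW2 : ⁅V, B⁆ ≤ V := commutator_le_of_normalizer hBV
  have hKV : ⁅V, A⁆ ⊔ ⁅V, B⁆ ≤ V := sup_le hW1 hW2
  have nW1 : A ≤ normalizer ((⁅V, A⁆ : Subgroup G) : Set G) :=
    le_normalizer_of_comm (fun a ha k hk => comm_mem ha (hW1 hk))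
  have nW2 : B ≤ normalizer ((⁅V, B⁆ : Subgroup G) : Set G) :=
    le_normalizer_of_comm (fun a ha k hk => comm_mem ha (hW2 hk))
  have hcA := comm_of_card_prime hA nW1 cA
  have hcB := comm_of_card_prime hB nW2 cB
  have hE1 : A ⊔ B ≤ trivOn V (⁅V, A⁆ ⊔ ⁅V, B⁆) := by
    refine sup_le ?_ ?_
    · intro a ha
      refine ⟨le_normalizer_of_comm (fun a ha k hk => ?_) ha, fun v hv => ?_⟩
      · exact mem_sup_left (comm_mem ha (hKV hk))
      · exact mem_sup_left (comm_mem ha hv)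
    · intro b hb
      refine ⟨le_normalizer_of_comm (fun a ha k hk => ?_) hb, fun v hv => ?_⟩
      · exact mem_sup_right (comm_mem ha (hKV hk))
      · exact mem_sup_right (comm_mem hb hv)
  have hVE : ⁅V, A ⊔ B⁆ = ⁅V, A⁆ ⊔ ⁅V, B⁆ := by
    apply le_antisymm
    · rw [commutator_le]
      intro v hv e he
      have h1 := inv_mem ((hE1 he).2 v hv)
      have h2 : (e * v * e⁻¹ * v⁻¹)⁻¹ = ⁅v, e⁆ := by
        rw [commutatorElement_def]; group
      rwa [h2] at h1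
    · exact sup_le (commutator_mono le_rfl le_sup_left) (commutator_mono le_rfl le_sup_right)
  -- `A` does not centralize `[V, B]` and vice versa
  have nA : ∃ a ∈ A, ∃ w ∈ ⁅V, B⁆, a * w ≠ w * a := by
    by_contra h
    push Not at h
    exact hnp (isPGroup_of_comm hVp hAV hBV hcA hcB hf h)
  have nB : ∃ b ∈ B, ∃ w ∈ ⁅V, A⁆, b * w ≠ w * b := by
    by_contra h
    push Not at h
    apply hnp
    rw [sup_comm]
    exact isPGroup_of_comm hVp hBV hAV hcB hcA (by rwa [sup_comm]) h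
  have hne : ⁅V, A⁆ ≠ ⁅V, B⁆ := by
    intro h
    obtain ⟨a, ha, w, hw, hne⟩ := nA
    exact hne (hcA a ha w (h ▸ hw))
  have hd : ⁅V, A⁆ ⊓ ⁅V, B⁆ = ⊥ := inf_eq_bot_of_card_prime cA cB hne
  have hcomm12 : ∀ h ∈ ⁅V, A⁆, ∀ k ∈ ⁅V, B⁆, h * k = k * h :=
    fun h hh k hk => hVc h (hW1 hh) k (hW2 hk)
  have hcardK : Nat.card ↥(⁅V, A⁆ ⊔ ⁅V, B⁆) = p ^ 2 := by
    rw [card_sup_of_comm hcomm12 hd, cA, cB, pow_two]
  -- fixed points in `K`
  have hfixK : (⁅V, A⁆ ⊔ ⁅V, B⁆) ⊓ centralizer ((A ⊔ B : Subgroup G) : Set G) = ⊥ := by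
    rw [eq_bot_iff_forall]
    rintro k ⟨hk, hkc⟩
    obtain ⟨w1, hw1, w2, hw2, rfl⟩ := mem_sup_of_comm hcomm12 hk
    have hcA' : ∀ a ∈ A, a * w2 = w2 * a := by
      intro a ha
      have h1 : a * (w1 * w2) = w1 * w2 * a := mem_centralizer_iff.mp hkc a (mem_sup_left ha)
      have h2 := hcA a ha w1 hw1
      have h3 : w1 * (a * w2) = w1 * (w2 * a) := by
        rw [← mul_assoc, ← h2, mul_assoc, h1, mul_assoc]
      exact mul_left_cancel h3
    have hcB' : ∀ b ∈ B, b * w1 = w1 * b := by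
      intro b hb
      have h1 : b * (w1 * w2) = w1 * w2 * b := mem_centralizer_iff.mp hkc b (mem_sup_right hb)
      have h2 := hcB b hb w2 hw2
      have h3 : (b * w1) * w2 = (w1 * b) * w2 := by
        rw [mul_assoc, h1, mul_assoc, mul_assoc, h2]
      exact mul_right_cancel h3
    have e2 : w2 = 1 := by
      by_contra hw21
      obtain ⟨a, ha, w, hw, hne⟩ := nA
      have hz := zpowers_eq_of_card_prime cB hw2 hw21
      have h3 : zpowers w2 ≤ centralizer {a} := by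
        rw [zpowers_le, mem_centralizer_singleton_iff]
        exact (hcA' a ha).symm
      exact hne (mem_centralizer_singleton_iff.mp (h3 (hz ▸ hw))).symm
    have e1 : w1 = 1 := by
      by_contra hw11
      obtain ⟨a, ha, w, hw, hne⟩ := nB
      have hz := zpowers_eq_of_card_prime cA hw1 hw11
      have h3 : zpowers w1 ≤ centralizer {a} := by
        rw [zpowers_le, mem_centralizer_singleton_iff]
        exact (hcB' a ha).symm
      exact hne (mem_centralizer_singleton_iff.mp (h3 (hz ▸ hw))).symm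
    rw [e1, e2, one_mul]
  -- `V = K C_V(E)`
  have hCE : V ⊓ centralizer ((A ⊔ B : Subgroup G) : Set G) =
      (V ⊓ centralizer (A : Set G)) ⊓ (V ⊓ centralizer (B : Set G)) := by
    apply le_antisymm
    · refine le_inf (inf_le_inf le_rfl ?_) (inf_le_inf le_rfl ?_)
      · exact centralizer_le (SetLike.coe_subset_coe.mpr le_sup_left)
      · exact centralizer_le (SetLike.coe_subset_coe.mpr le_sup_right)
    · rintro v ⟨⟨hv, hvA⟩, ⟨-, hvB⟩⟩
      refine mem_inf.mpr ⟨hv, ?_⟩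
      have h1 : A ⊔ B ≤ centralizer {v} := by
        refine sup_le (fun a ha => ?_) (fun b hb => ?_)
        · rw [mem_centralizer_singleton_iff]
          exact mem_centralizer_iff.mp hvA a ha
        · rw [mem_centralizer_singleton_iff]
          exact mem_centralizer_iff.mp hvB b hb
      rw [mem_centralizer_iff]
      intro e he
      exact mem_centralizer_singleton_iff.mp (h1 he)
  have hidx : (V ⊓ centralizer ((A ⊔ B : Subgroup G) : Set G)).relIndex V ≤ p ^ 2 := by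
    rw [hCE, pow_two]
    exact (relIndex_inf_le).trans (by rw [iA, iB])
  have hdisj : (⁅V, A⁆ ⊔ ⁅V, B⁆) ⊓ (V ⊓ centralizer ((A ⊔ B : Subgroup G) : Set G)) = ⊥ := by
    rw [eq_bot_iff, ← hfixK]
    exact inf_le_inf le_rfl inf_le_right
  have hsup : (⁅V, A⁆ ⊔ ⁅V, B⁆) ⊔ (V ⊓ centralizer ((A ⊔ B : Subgroup G) : Set G)) = V := by
    apply eq_of_le_of_card_ge (sup_le hKV inf_le_left)
    rw [card_sup_of_comm (fun h hh k hk => hVc h (hKV hh) k (mem_inf.mp hk).1) hdisj, hcardK]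
    have h1 : Nat.card ↥(V ⊓ centralizer ((A ⊔ B : Subgroup G) : Set G)) *
        (V ⊓ centralizer ((A ⊔ B : Subgroup G) : Set G)).relIndex V = Nat.card V := by
      rw [← relIndex_bot_left, ← relIndex_bot_left, relIndex_mul_relIndex _ _ _ bot_le inf_le_left]
    rw [← h1, mul_comm]
    exact Nat.mul_le_mul_right _ hidx
  -- `E` is faithful on `K`
  have hfaith : (A ⊔ B) ⊓ centralizer ((⁅V, A⁆ ⊔ ⁅V, B⁆ : Subgroup G) : Set G) = ⊥ := by
    rw [eq_bot_iff, ← hf]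
    rintro e ⟨he, hec⟩
    refine mem_inf.mpr ⟨he, ?_⟩
    have h1 : V ≤ centralizer {e} := by
      rw [← hsup]
      refine sup_le (fun k hk => ?_) (fun v hv => ?_)
      · rw [mem_centralizer_singleton_iff]
        exact mem_centralizer_iff.mp hec k hk
      · rw [mem_centralizer_singleton_iff]
        exact (mem_centralizer_iff.mp hv.2 e he).symm
    rw [mem_centralizer_iff]
    intro v hv
    exact mem_centralizer_singleton_iff.mp (h1 hv)
  rw [hVE]
  refine ⟨hcardK, hfixK, hsup, hfaith, ?_⟩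
  exact exists_mulEquiv_of_faithful (K := ⁅V, A⁆ ⊔ ⁅V, B⁆)
    (fun x hx y hy => hVc x (hKV hx) y (hKV hy)) (fun x hx => hVp x (hKV hx)) rfl cA cB hd
    hcA hcB (fun a ha k hk => comm_mem ha (hKV hk)) (fun a ha k hk => comm_mem ha (hKV hk))
    nA nB hfaith

end Cfsg.Agent.PLocal.TransvectionPair
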