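import Mathlib
import Cfsg.Prelude.Def_PLocal
import Cfsg.Agent.PLocal.FFPlane
import Cfsg.Agent.Lib.Cores
import Cfsg.Agent.S0611
import Cfsg.Agent.S0612
import Cfsg.Agent.S0613

/-!
# The plane attached to a minimal nontrivially acting best offender

`isPlane_of_isMin` : a minimal best offender `A` of `H` gives an `IsPlane p V (O_{p'}(H)) A`.
-/

set_option autoImplicit false

open Cfsg
open scoped commutatorElement

namespace Cfsg.Agent.PLocal.FFMin

open Cfsg.Agent.PLocal.FFPlane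

variable {G : Type*} [Group G]

/-- `A` is a best offender in `H`, minimal among those acting nontrivially on `V`. -/
structure IsMin (p : ℕ) (V H A : Subgroup G) : Prop where
  le : A ≤ H
  off : Cfsg.IsBestOffenderOn p V A
  ne : ⁅V, A⁆ ≠ ⊥
  min : ∀ B : Subgroup G, B ≤ A → Cfsg.IsBestOffenderOn p V B → ⁅V, B⁆ ≠ ⊥ → B = A

theorem isBestOffenderOn_map_conj {p : ℕ} {V A : Subgroup G} {g : G}
    (hg : g ∈ Subgroup.normalizer (V : Set G)) (h : Cfsg.IsBestOffenderOn p V A) :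
    Cfsg.IsBestOffenderOn p V (A.map (MulAut.conj g).toMonoidHom) := by
  have hV : V.map (MulAut.conj g).toMonoidHom = V := mem_normalizer_iff_map.mp hg
  have hcard : ∀ B : Subgroup G,
      Nat.card ↥(V ⊓ Subgroup.centralizer ((B.map (MulAut.conj g).toMonoidHom : Subgroup G) : Set G))
        = Nat.card ↥(V ⊓ Subgroup.centralizer (B : Set G)) := by
    intro B
    rw [← card_map_conj (V ⊓ Subgroup.centralizer (B : Set G)) g,
      Subgroup.map_inf _ _ _ (MulAut.conj g).injective, hV, map_conj_centralizer]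
  have hCV : (Subgroup.centralizer (V : Set G)).map (MulAut.conj g).toMonoidHom =
      Subgroup.centralizer (V : Set G) := by
    rw [map_conj_centralizer, hV]
  obtain ⟨h1, h2, h3⟩ := h
  refine ⟨?_, ?_, ?_⟩
  · intro B hB
    have hB' : B = (B.map (MulAut.conj g⁻¹).toMonoidHom).map (MulAut.conj g).toMonoidHom := by
      rw [map_conj_mul, mul_inv_cancel, map_conj_one]
    have hBA : B.map (MulAut.conj g⁻¹).toMonoidHom ≤ A := by
      have := map_conj_mono g⁻¹ hB
      rwa [map_conj_mul, inv_mul_cancel, map_conj_one] at this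
    have := h1 _ hBA
    rw [hB', hcard, hcard, card_map_conj, card_map_conj, card_map_conj]
    rwa [card_map_conj] at this
  · rw [← Subgroup.map_commutator, ← hCV]
    exact map_conj_mono g h2
  · rintro _ ⟨a, ha, rfl⟩
    rw [← map_pow, ← hCV]
    exact ⟨_, h3 a ha, rfl⟩

namespace IsMin

variable {p : ℕ} {V H A : Subgroup G}

theorem map (hA : IsMin p V H A) (hHV : H ≤ Subgroup.normalizer (V : Set G)) {g : G}
    (hg : g ∈ H) : IsMin p V H (A.map (MulAut.conj g).toMonoidHom) := by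
  have hV : V.map (MulAut.conj g).toMonoidHom = V := mem_normalizer_iff_map.mp (hHV hg)
  have hV' : V.map (MulAut.conj g⁻¹).toMonoidHom = V :=
    mem_normalizer_iff_map.mp (hHV (inv_mem hg))
  have hH : H.map (MulAut.conj g).toMonoidHom = H :=
    mem_normalizer_iff_map.mp (Subgroup.le_normalizer hg)
  refine ⟨?_, isBestOffenderOn_map_conj (hHV hg) hA.off, ?_, ?_⟩
  · rw [← hH]
    exact map_conj_mono g hA.le
  · intro h
    apply hA.ne
    have h1 : (⁅V, A⁆).map (MulAut.conj g).toMonoidHom = ⊥ := by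
      rw [Subgroup.map_commutator, hV, h]
    rwa [Subgroup.map_eq_bot_iff_of_injective _ (MulAut.conj g).injective] at h1
  · intro B hB hB2 hB3
    have hBA : B.map (MulAut.conj g⁻¹).toMonoidHom ≤ A := by
      have := map_conj_mono g⁻¹ hB
      rwa [map_conj_mul, inv_mul_cancel, map_conj_one] at this
    have h1 := hA.min _ hBA (isBestOffenderOn_map_conj (hHV (inv_mem hg)) hB2) (by
      intro h
      apply hB3
      have h1 : (⁅V, B⁆).map (MulAut.conj g⁻¹).toMonoidHom = ⊥ := by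
        rw [Subgroup.map_commutator, hV', h]
      rwa [Subgroup.map_eq_bot_iff_of_injective _ (MulAut.conj g⁻¹).injective] at h1)
    rw [← h1, map_conj_mul, mul_inv_cancel, map_conj_one]

end IsMin

section Core

variable [Finite G] {p : ℕ} [Fact p.Prime] {V H A : Subgroup G}

/-- `O_{p'}(H)` as a subgroup of `G`. -/
theorem core_le (p : ℕ) (H : Subgroup G) : (Cfsg.pPrimeCore p ↥H).map H.subtype ≤ H :=
  Subgroup.map_subtype_le _

theorem le_normalizer_core (p : ℕ) (H : Subgroup G) :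
    H ≤ Subgroup.normalizer (((Cfsg.pPrimeCore p ↥H).map H.subtype : Subgroup G) : Set G) := by
  refine le_normalizer_of_forall ?_
  rintro q hq _ ⟨k, hk, rfl⟩
  haveI := Lib.Cores.pPrimeCore_normal (G := ↥H) p
  exact ⟨_, (Lib.Cores.pPrimeCore_normal (G := ↥H) p).conj_mem k hk ⟨q, hq⟩, rfl⟩

theorem core_coprime (p : ℕ) (H : Subgroup G) :
    (Nat.card ↥((Cfsg.pPrimeCore p ↥H).map H.subtype)).Coprime p := by
  rw [Nat.card_congr ((Cfsg.pPrimeCore p ↥H).equivMapOfInjective H.subtype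
    H.subtype_injective).symm.toEquiv]
  exact Lib.Cores.pPrimeCore_coprime p

theorem core_self_centralizing
    (hS1 : Subgroup.centralizer (Cfsg.pPrimeCore p ↥H : Set ↥H) ≤ Cfsg.pPrimeCore p ↥H) :
    H ⊓ Subgroup.centralizer (((Cfsg.pPrimeCore p ↥H).map H.subtype : Subgroup G) : Set G) ≤
      (Cfsg.pPrimeCore p ↥H).map H.subtype := by
  rintro x ⟨hxH, hx⟩
  refine ⟨⟨x, hxH⟩, hS1 ?_, rfl⟩
  rw [Subgroup.mem_centralizer_iff]
  intro h hh
  exact Subtype.ext (Subgroup.mem_centralizer_iff.mp hx h ⟨h, hh, rfl⟩)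

theorem exists_not_mem_centralizer
    (hS1 : Subgroup.centralizer (Cfsg.pPrimeCore p ↥H : Set ↥H) ≤ Cfsg.pPrimeCore p ↥H)
    (hA : A ≤ H) (hc : Nat.card A = p) :
    ∃ x ∈ (Cfsg.pPrimeCore p ↥H).map H.subtype, x ∉ Subgroup.centralizer (A : Set G) := by
  by_contra hcon
  push Not at hcon
  have h1 : (Cfsg.pPrimeCore p ↥H).map H.subtype ≤ Subgroup.centralizer (A : Set G) := hcon
  have h2 : A ≤ (Cfsg.pPrimeCore p ↥H).map H.subtype :=
    (le_inf hA (Subgroup.le_centralizer_iff.mp h1)).trans (core_self_centralizing hS1)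
  have h3 := Subgroup.card_dvd_of_le h2
  rw [hc] at h3
  have h4 := core_coprime p H
  have h5 : p ∣ 1 := by
    rw [← h4]
    exact Nat.dvd_gcd h3 dvd_rfl
  exact (Fact.out : p.Prime).one_lt.ne' (Nat.dvd_one.mp h5)

end Core

section Main

universe u
variable {G : Type u} [Group G] [Finite G] {p : ℕ} [Fact p.Prime] {V H A : Subgroup G}

theorem isTv_of_isMin (hV : Cfsg.IsElementaryAbelian p V)
    (hHV : H ≤ Subgroup.normalizer (V : Set G))
    (hf : H ⊓ Subgroup.centralizer (V : Set G) = ⊥)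
    (hS1 : Subgroup.centralizer (Cfsg.pPrimeCore p ↥H : Set ↥H) ≤ Cfsg.pPrimeCore p ↥H)
    (hS3 : H = ⨆ A : {A : Subgroup G // A ≤ H ∧ Cfsg.IsBestOffenderOn p V A}, (A : Subgroup G))
    (hH1 : H ≠ ⊥) (hA : IsMin p V H A) : IsTv p V A := by
  obtain ⟨h1, h2, h3⟩ := Cfsg.Agent.S0611.result V H hV hHV hf hS1 hS3 hH1 A hA.le hA.off hA.ne
    hA.min
  exact ⟨hA.le.trans hHV, h1, h2, h3⟩

theorem map_eq_of_mem_centralizer {x : G} (hx : x ∈ Subgroup.centralizer (A : Set G)) :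
    A.map (MulAut.conj x).toMonoidHom = A :=
  mem_normalizer_iff_map.mp (Subgroup.centralizer_le_normalizer (A : Set G) hx)

theorem isClass_of_isMin (hV : Cfsg.IsElementaryAbelian p V)
    (hHV : H ≤ Subgroup.normalizer (V : Set G))
    (hf : H ⊓ Subgroup.centralizer (V : Set G) = ⊥)
    (hS1 : Subgroup.centralizer (Cfsg.pPrimeCore p ↥H : Set ↥H) ≤ Cfsg.pPrimeCore p ↥H)
    (hS3 : H = ⨆ A : {A : Subgroup G // A ≤ H ∧ Cfsg.IsBestOffenderOn p V A}, (A : Subgroup G))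
    (hH1 : H ≠ ⊥) (hA : IsMin p V H A) :
    IsClass p V (cls ((Cfsg.pPrimeCore p ↥H).map H.subtype) A) := by
  have hmin : ∀ D ∈ cls ((Cfsg.pPrimeCore p ↥H).map H.subtype) A, IsMin p V H D := by
    rintro D ⟨q, hq, rfl⟩
    exact hA.map hHV (core_le p H hq)
  have hpair : ∀ D ∈ cls ((Cfsg.pPrimeCore p ↥H).map H.subtype) A,
      ∀ D' ∈ cls ((Cfsg.pPrimeCore p ↥H).map H.subtype) A, D ≠ D' →
      ∃ x ∈ (Cfsg.pPrimeCore p ↥H).map H.subtype, x ∉ Subgroup.centralizer (D : Set G) ∧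
        D' = D.map (MulAut.conj x).toMonoidHom := by
    intro D hD D' hD' hne
    obtain ⟨x, hx, rfl⟩ := exists_map_of_mem_cls hD hD'
    exact ⟨x, hx, fun h => hne (map_eq_of_mem_centralizer h).symm, rfl⟩
  refine ⟨fun D hD => isTv_of_isMin hV hHV hf hS1 hS3 hH1 (hmin D hD), ?_, ?_, ?_⟩
  · intro D hD D' hD' hne
    obtain ⟨x, hx, hxD, rfl⟩ := hpair D hD D' hD' hne
    exact (Cfsg.Agent.S0613.result V H hV hHV hf hS1 hS3 hH1 D (hmin D hD).le (hmin D hD).off
      (hmin D hD).ne (hmin D hD).min x hx hxD).2.1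
  · intro D hD D' hD' hne
    obtain ⟨x, hx, hxD, rfl⟩ := hpair D hD D' hD' hne
    exact (Cfsg.Agent.S0613.result V H hV hHV hf hS1 hS3 hH1 D (hmin D hD).le (hmin D hD).off
      (hmin D hD).ne (hmin D hD).min x hx hxD).2.2.1
  · rintro D hD D' ⟨y, hy, rfl⟩ a ha
    obtain ⟨x, hx, rfl⟩ := hD
    obtain ⟨b, hb, rfl⟩ := ha
    have hb' : A.map (MulAut.conj b).toMonoidHom = A :=
      mem_normalizer_iff_map.mp (Subgroup.le_normalizer hb)
    have hbQ : b * (x⁻¹ * y) * b⁻¹ ∈ (Cfsg.pPrimeCore p ↥H).map H.subtype :=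
      conj_mem (hA.le.trans (le_normalizer_core p H)) hb (mul_mem (inv_mem hx) hy)
    refine ⟨x * (b * (x⁻¹ * y) * b⁻¹), mul_mem hx hbQ, ?_⟩
    rw [map_conj_mul]
    have h1 : (MulAut.conj x).toMonoidHom b * y = x * (b * (x⁻¹ * y) * b⁻¹) * b := by
      show x * b * x⁻¹ * y = _
      group
    rw [h1, ← map_conj_mul, hb']

theorem isPlane_of_isMin (hV : Cfsg.IsElementaryAbelian p V)
    (hHV : H ≤ Subgroup.normalizer (V : Set G))
    (hf : H ⊓ Subgroup.centralizer (V : Set G) = ⊥)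
    (hS1 : Subgroup.centralizer (Cfsg.pPrimeCore p ↥H : Set ↥H) ≤ Cfsg.pPrimeCore p ↥H)
    (hS3 : H = ⨆ A : {A : Subgroup G // A ≤ H ∧ Cfsg.IsBestOffenderOn p V A}, (A : Subgroup G))
    (hH1 : H ≠ ⊥) (hA : IsMin p V H A) :
    IsPlane p V ((Cfsg.pPrimeCore p ↥H).map H.subtype) A ∧ (p = 2 ∨ p = 3) ∧
      Nonempty (↥(⁅((Cfsg.pPrimeCore p ↥H).map H.subtype), A⁆ ⊔ A) ≃*
        Matrix.SpecialLinearGroup (Fin 2) (ZMod p)) := by
  have hT := isClass_of_isMin hV hHV hf hS1 hS3 hH1 hA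
  have hTv := isTv_of_isMin hV hHV hf hS1 hS3 hH1 hA
  obtain ⟨x, hx, hxA⟩ := exists_not_mem_centralizer hS1 hA.le hTv.card
  obtain ⟨h1, h2, h3, h4⟩ := Cfsg.Agent.S0613.result V H hV hHV hf hS1 hS3 hH1 A hA.le hA.off
      hA.ne hA.min x hx hxA
  have hVc := OffenderStep.comm_of_isElementaryAbelian hV
  have hne : A ≠ A.map (MulAut.conj x).toMonoidHom := by
    intro h
    rw [← h, sup_idem, hTv.cardc] at h2
    have := (Fact.out : p.Prime).one_lt
    nlinarith
  have hB : A.map (MulAut.conj x).toMonoidHom ∈ cls ((Cfsg.pPrimeCore p ↥H).map H.subtype) A :=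
    ⟨x, hx, rfl⟩
  refine ⟨isPlane_of_isClass hVc ((core_le p H).trans hHV) (hA.le.trans (le_normalizer_core p H))
    hT hB hne, h1, ?_⟩
  rw [commutator_sup_eq_of_isClass hVc hT hB hne]
  exact h4

/-- `H` is generated by its minimal best offenders. -/
theorem le_of_forall_isMin (hV : Cfsg.IsElementaryAbelian p V)
    (hHV : H ≤ Subgroup.normalizer (V : Set G))
    (hf : H ⊓ Subgroup.centralizer (V : Set G) = ⊥)
    (hS1 : Subgroup.centralizer (Cfsg.pPrimeCore p ↥H : Set ↥H) ≤ Cfsg.pPrimeCore p ↥H)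
    (hS3 : H = ⨆ A : {A : Subgroup G // A ≤ H ∧ Cfsg.IsBestOffenderOn p V A}, (A : Subgroup G))
    (hH1 : H ≠ ⊥) {K : Subgroup G} (hK : ∀ B, IsMin p V H B → B ≤ K) : H ≤ K := by
  rw [hS3]
  refine iSup_le ?_
  rintro ⟨B, hB, hB'⟩
  show B ≤ K
  by_cases h : B = ⊥
  · rw [h]; exact bot_le
  · obtain ⟨k, C, hC, -, hsup⟩ := Cfsg.Agent.S0612.result V H hV hHV hf hS1 hS3 hH1 B hB hB' h
    rw [← hsup]
    exact iSup_le fun i => hK _ ⟨(hC i).1.trans hB, (hC i).2.1, (hC i).2.2.1, (hC i).2.2.2⟩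

end Main

end Cfsg.Agent.PLocal.FFMin
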