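import Mathlib
import Cfsg.Prelude.Def_PLocal
import Cfsg.Agent.PLocal.ThompsonJ
import Cfsg.Agent.PLocal.FFBridge
import Cfsg.Agent.PLocal.FFFamily
import Cfsg.Agent.S0617

/-!
The structure theorem S0617 as an `FFFam`, and invariance of the family of its components under
automorphisms.
-/

set_option autoImplicit false

namespace Cfsg.Agent.PLocal.FFTransport

open Subgroup Cfsg

variable {Γ : Type*} [Group Γ]

/-- The family of subgroups `E = [O_{p'}(H), A] A` of the structure theorem S0617. -/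
def comps (p : ℕ) (V H : Subgroup Γ) : Set (Subgroup Γ) :=
  {E : Subgroup Γ | ∃ A : Subgroup Γ, A ≤ H ∧ IsBestOffenderOn p V A ∧ ⁅V, A⁆ ≠ ⊥ ∧
    (∀ B : Subgroup Γ, B ≤ A → IsBestOffenderOn p V B → ⁅V, B⁆ ≠ ⊥ → B = A) ∧
    E = ⁅((pPrimeCore p ↥H).map H.subtype), A⁆ ⊔ A}

theorem mem_comps {p : ℕ} {V H E : Subgroup Γ} : E ∈ comps p V H ↔ ∃ A : Subgroup Γ, A ≤ H ∧
    IsBestOffenderOn p V A ∧ ⁅V, A⁆ ≠ ⊥ ∧
    (∀ B : Subgroup Γ, B ≤ A → IsBestOffenderOn p V B → ⁅V, B⁆ ≠ ⊥ → B = A) ∧
    E = ⁅((pPrimeCore p ↥H).map H.subtype), A⁆ ⊔ A := Iff.rfl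

theorem card_map_equiv (e : Γ ≃* Γ) (A : Subgroup Γ) :
    Nat.card (A.map e.toMonoidHom) = Nat.card A :=
  ThompsonJ.card_map_injective (f := e.toMonoidHom) A e.injective

/-- Images under automorphisms of centralizers. -/
theorem map_centralizer (e : Γ ≃* Γ) (A : Subgroup Γ) :
    (centralizer (A : Set Γ)).map e.toMonoidHom =
      centralizer ((A.map e.toMonoidHom : Subgroup Γ) : Set Γ) := by
  ext x
  constructor
  · rintro ⟨y, hy, rfl⟩
    rw [Subgroup.mem_centralizer_iff]
    rintro _ ⟨a, ha, rfl⟩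
    rw [← map_mul, ← map_mul]
    exact congrArg _ ((Subgroup.mem_centralizer_iff.1 hy) a ha)
  · intro hx
    refine ⟨e.symm x, ?_, e.apply_symm_apply x⟩
    change e.symm x ∈ centralizer (A : Set Γ)
    rw [Subgroup.mem_centralizer_iff] at hx ⊢
    intro a ha
    apply e.injective
    rw [map_mul, map_mul, e.apply_symm_apply]
    exact hx (e a) ⟨a, ha, rfl⟩

/-- Best offenders are preserved by automorphisms. -/
theorem isBestOffenderOn_map (e : Γ ≃* Γ) {p : ℕ} {V A : Subgroup Γ}
    (h : IsBestOffenderOn p V A) :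
    IsBestOffenderOn p (V.map e.toMonoidHom) (A.map e.toMonoidHom) := by
  obtain ⟨h1, h2, h3⟩ := h
  have hinf : ∀ B : Subgroup Γ, Nat.card ↥(V.map e.toMonoidHom ⊓
      centralizer ((B.map e.toMonoidHom : Subgroup Γ) : Set Γ)) =
      Nat.card ↥(V ⊓ centralizer (B : Set Γ)) := by
    intro B
    rw [← map_centralizer, ← Subgroup.map_inf _ _ _ e.injective, card_map_equiv]
  refine ⟨?_, ?_, ?_⟩
  · intro B hB
    have hB' : (B.map e.symm.toMonoidHom).map e.toMonoidHom = B := by
      rw [Subgroup.map_map]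
      convert Subgroup.map_id B
      ext x
      simp
    have h4 := h1 (B.map e.symm.toMonoidHom) (by
      rintro _ ⟨b, hb, rfl⟩
      obtain ⟨a, ha, rfl⟩ := hB hb
      simpa using ha)
    rw [← hB', hinf, hinf, card_map_equiv e, card_map_equiv e]
    exact h4
  · rw [← Subgroup.map_commutator, ← map_centralizer]
    exact Subgroup.map_mono h2
  · rintro _ ⟨a, ha, rfl⟩
    rw [← map_centralizer]
    exact ⟨a ^ p, h3 a ha, by simp⟩

/-- Conjugation by an element normalizing `V` and `H` permutes the components. -/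
theorem map_conj_mem_comps {p : ℕ} {V H : Subgroup Γ} {g : Γ}
    (hV : g ∈ normalizer (V : Set Γ)) (hH : g ∈ normalizer (H : Set Γ)) {E : Subgroup Γ}
    (hE : E ∈ comps p V H) : E.map (MulAut.conj g).toMonoidHom ∈ comps p V H := by
  have hVg : V.map (MulAut.conj g).toMonoidHom = V := FFFamily.mem_normalizer_iff_map.1 hV
  have hHg : H.map (MulAut.conj g).toMonoidHom = H := FFFamily.mem_normalizer_iff_map.1 hH
  have hVg' : V.map (MulAut.conj g⁻¹).toMonoidHom = V :=
    FFFamily.mem_normalizer_iff_map.1 (Subgroup.inv_mem _ hV)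
  have hcancel : ∀ B : Subgroup Γ,
      (B.map (MulAut.conj g⁻¹).toMonoidHom).map (MulAut.conj g).toMonoidHom = B := by
    intro B
    rw [Subgroup.map_map]
    convert Subgroup.map_id B
    ext x
    simp [mul_assoc]
  have hcancel' : ∀ B : Subgroup Γ,
      (B.map (MulAut.conj g).toMonoidHom).map (MulAut.conj g⁻¹).toMonoidHom = B := by
    intro B
    rw [Subgroup.map_map]
    convert Subgroup.map_id B
    ext x
    simp [mul_assoc]
  obtain ⟨A, h1, h2, h3, h4, rfl⟩ := hE
  refine ⟨A.map (MulAut.conj g).toMonoidHom, ?_, ?_, ?_, ?_, ?_⟩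
  · rw [← hHg]; exact Subgroup.map_mono h1
  · have := isBestOffenderOn_map (MulAut.conj g) h2
    rwa [hVg] at this
  · intro h5
    apply h3
    have h6 : (⁅V, A⁆).map (MulAut.conj g).toMonoidHom = ⊥ := by
      rw [Subgroup.map_commutator, hVg, h5]
    rwa [Subgroup.map_eq_bot_iff_of_injective _ (MulAut.conj g).injective] at h6
  · intro B hB hB2 hB3
    have h5 := h4 (B.map (MulAut.conj g⁻¹).toMonoidHom) (by
      rw [← hcancel' A]; exact Subgroup.map_mono hB) (by
      have := isBestOffenderOn_map (MulAut.conj g⁻¹) hB2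
      rwa [hVg'] at this) (by
      intro h6
      apply hB3
      have h7 : (⁅V, B⁆).map (MulAut.conj g⁻¹).toMonoidHom = ⊥ := by
        rw [Subgroup.map_commutator, hVg', h6]
      rwa [Subgroup.map_eq_bot_iff_of_injective _ (MulAut.conj g⁻¹).injective] at h7)
    rw [← h5, hcancel]
  · rw [Subgroup.map_sup, Subgroup.map_commutator]
    have hQ : ((pPrimeCore p ↥H).map H.subtype).map (MulAut.conj g).toMonoidHom =
        (pPrimeCore p ↥H).map H.subtype :=
      FFFamily.mem_normalizer_iff_map.1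
        (FFBridge.normalizer_le_normalizer_map H _ (Lib.Cores.pPrimeCore_characteristic p) hH)
    rw [hQ]

/-- The structure theorem S0617 as an `FFFam`. -/
theorem fffam [Finite Γ] {p : ℕ} [Fact p.Prime] (V H : Subgroup Γ)
    (hV : IsElementaryAbelian p V) (hHV : H ≤ normalizer (V : Set Γ))
    (hf : H ⊓ centralizer (V : Set Γ) = ⊥)
    (hS1 : centralizer (pPrimeCore p ↥H : Set ↥H) ≤ pPrimeCore p ↥H)
    (hS3 : H = ⨆ A : {A : Subgroup Γ // A ≤ H ∧ IsBestOffenderOn p V A}, (A : Subgroup Γ))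
    (hH1 : H ≠ ⊥) : FFFamily.FFFam p V H (comps p V H) := by
  obtain ⟨h1, h2, h3, h4, h5, h6⟩ := S0617.result V H hV hHV hf hS1 hS3 hH1
  exact
    { hp := h1
      ab := hV.1
      nrm := hHV
      faithful := hf
      nrmE := fun E hE => (h2 ⟨E, hE⟩).1
      iso := fun E hE => (h2 ⟨E, hE⟩).2.1
      cardE := fun E hE => (h2 ⟨E, hE⟩).2.2
      indep := h3
      sup := h4
      indepV := h5
      supV := h6 }

end Cfsg.Agent.PLocal.FFTransport
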