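import Mathlib
import Cfsg.Prelude.Def_PLocal
import Cfsg.Prelude.Def_Local
import Cfsg.Agent.PLocal.ThompsonJ
import Cfsg.Agent.PLocal.ThompsonFrattini
import Cfsg.Agent.PLocal.FFBridge
import Cfsg.Agent.PLocal.FFFamily
import Cfsg.Agent.PLocal.FFTransport
import Cfsg.Agent.S0022

/-!
Coprime operators on a `p`-separable group `K` with `O_{p'}(K) = 1`: set-up for S0620 and S0621.
-/

set_option autoImplicit false

namespace Cfsg.Agent.PLocal.FFCoprime

open Subgroup Cfsg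

universe u

/-- The subgroup generated by the `Ω₁(Z(S))`. -/
def omegaJoin (p : ℕ) (K : Type u) [Group K] : Subgroup K :=
  ⨆ S : Sylow p K, omegaOne p ((S : Subgroup K) ⊓ centralizer ((S : Subgroup K) : Set K))

theorem omegaJoin_def (p : ℕ) (K : Type u) [Group K] : omegaJoin p K =
    ⨆ S : Sylow p K, omegaOne p ((S : Subgroup K) ⊓ centralizer ((S : Subgroup K) : Set K)) := rfl

theorem omegaOne_map_le {K : Type u} [Group K] (e : K ≃* K) (p : ℕ) (U : Subgroup K) :
    (omegaOne p U).map e.toMonoidHom ≤ omegaOne p (U.map e.toMonoidHom) := by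
  rw [Subgroup.map_le_iff_le_comap]
  unfold omegaOne
  rw [Subgroup.closure_le]
  rintro x ⟨hx, hxp⟩
  apply Subgroup.subset_closure
  exact ⟨⟨x, hx, rfl⟩, by
    change (e x) ^ p = 1
    rw [← map_pow, hxp, map_one]⟩

/-- `⟨Ω₁(Z(S))⟩` is characteristic. -/
theorem omegaJoin_characteristic (p : ℕ) (K : Type u) [Group K] :
    (omegaJoin p K).Characteristic := by
  rw [Subgroup.characteristic_iff_map_le]
  intro e
  rw [omegaJoin_def, Subgroup.map_iSup]
  refine iSup_le fun S => ?_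
  refine (omegaOne_map_le e p _).trans ?_
  have h1 : ((S : Subgroup K) ⊓ centralizer ((S : Subgroup K) : Set K)).map e.toMonoidHom =
      ((e • S : Sylow p K) : Subgroup K) ⊓ centralizer (((e • S : Sylow p K) : Subgroup K) : Set K) := by
    rw [Subgroup.map_inf _ _ _ e.injective, FFTransport.map_centralizer]
    rfl
  rw [h1]
  exact le_iSup (fun S : Sylow p K =>
    omegaOne p ((S : Subgroup K) ⊓ centralizer ((S : Subgroup K) : Set K))) (e • S)

/-- The set-up: an ambient finite group in which `K / C_K(V)` and the operator group act on `V`. -/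
theorem exists_setup {G : Type u} [Group G] [Finite G] {p : ℕ} [Fact p.Prime] {q : ℕ}
    [Fact q.Prime] (K X : Subgroup G) (hXK : X ≤ normalizer (K : Set G))
    (hX : IsElementaryAbelian q X) (hq : ¬ q ∣ Nat.card K) (V : Subgroup K)
    (hVc : V.Characteristic) :
    ∃ (Γ : Type u) (_ : Group Γ) (_ : Finite Γ) (f : K →* Γ) (j : V →* Γ) (Y : Subgroup Γ),
      FFBridge.Compat V f j ∧ (∀ k : K, f k = 1 ↔ k ∈ centralizer (V : Set K)) ∧
      Y ≤ normalizer (j.range : Set Γ) ∧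
      (∀ C : Subgroup K, C.Characteristic → Y ≤ normalizer ((C.map f : Subgroup Γ) : Set Γ)) ∧
      IsPGroup q Y ∧
      (∀ C : Subgroup K, ¬ q ∣ Nat.card (C.map f)) ∧
      (∀ v : V, j v ∈ centralizer (Y : Set Γ) → ((v : K) : G) ∈ centralizer (X : Set G)) ∧
      (∀ δ ∈ f.range, δ ∈ centralizer (Y : Set Γ) →
        ∃ k : K, (k : G) ∈ centralizer (X : Set G) ∧ f k = δ) := by
  set V' : Subgroup G := V.map K.subtype with hV'
  have hV'K : V' ≤ K := Subgroup.map_subtype_le _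
  have hNKV : normalizer (K : Set G) ≤ normalizer (V' : Set G) :=
    FFBridge.normalizer_le_normalizer_map K V hVc
  have hKN : K ≤ normalizer (V' : Set G) := Subgroup.le_normalizer.trans hNKV
  have hXN : X ≤ normalizer (V' : Set G) := hXK.trans hNKV
  obtain ⟨Γ, hΓ, hfin, ρ, i, hi, hact, hker, hinf⟩ := FFBridge.exists_ambient V'
  let e : V ≃* V' := V.equivMapOfInjective K.subtype K.subtype_injective
  have he : ∀ v : V, ((e v : V') : G) = ((v : K) : G) := fun v => rfl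
  let f : K →* Γ := ρ.comp (Subgroup.inclusion hKN)
  let g : X →* Γ := ρ.comp (Subgroup.inclusion hXN)
  let j : V →* Γ := i.comp e.toMonoidHom
  have hf : ∀ k : K, f k = ρ ⟨k, hKN k.2⟩ := fun _ => rfl
  have hg : ∀ x : X, g x = ρ ⟨x, hXN x.2⟩ := fun _ => rfl
  have hj : ∀ v : V, j v = i (e v) := fun _ => rfl
  have hXq : IsPGroup q X := ThompsonJ.isPGroup_of_isElementaryAbelian hX
  have hfker : ∀ k : K, f k = 1 ↔ k ∈ centralizer (V : Set K) := by
    intro k
    rw [hf, hker, Subgroup.mem_centralizer_iff, Subgroup.mem_centralizer_iff]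
    constructor
    · intro h v hv
      exact Subtype.ext (h v ⟨v, hv, rfl⟩)
    · rintro h _ ⟨v, hv, rfl⟩
      exact congrArg Subtype.val (h v hv)
  -- conjugation formula for `x ∈ X`, `k ∈ K`
  have hconj : ∀ (x : X) (k : K), g x * f k * (g x)⁻¹ =
      f ⟨x * k * (x : G)⁻¹, (Subgroup.mem_normalizer_iff.1 (hXK x.2) k).1 k.2⟩ := by
    intro x k
    rw [hf, hf, hg, ← map_inv, ← map_mul, ← map_mul]
    congr 1
  have hactj : ∀ (x : X) (v : V), g x * j v * (g x)⁻¹ =
      i ⟨x * ((v : K) : G) * (x : G)⁻¹, (Subgroup.mem_normalizer_iff.1 (hXN x.2) _).1 (e v).2⟩ := by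
    intro x v
    exact hact ⟨x, hXN x.2⟩ (e v) _ rfl
  refine ⟨Γ, hΓ, hfin, f, j, g.range, ⟨?_, ?_⟩, hfker, ?_, ?_, ?_, ?_, ?_, ?_⟩
  · exact hi.comp e.injective
  · intro k v w hw
    refine hact ⟨k, hKN k.2⟩ (e v) (e w) ?_
    rw [he, he, hw]; rfl
  · rintro _ ⟨x, rfl⟩
    have hsub : ∀ x : X, ∀ v : V, g x * j v * (g x)⁻¹ ∈ j.range := by
      intro x v
      rw [hactj]
      refine ⟨e.symm ⟨_, (Subgroup.mem_normalizer_iff.1 (hXN x.2) _).1 (e v).2⟩, ?_⟩
      rw [hj, e.apply_symm_apply]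
      rfl
    rw [Subgroup.mem_normalizer_iff]
    intro y
    constructor
    · rintro ⟨v, rfl⟩
      exact hsub x v
    · rintro ⟨v, hv⟩
      have h1 := hsub x⁻¹ v
      rw [hv, map_inv] at h1
      have h2 : (g x)⁻¹ * (g x * y * (g x)⁻¹) * (g x)⁻¹⁻¹ = y := by group
      rwa [h2] at h1
  · intro C hC
    have hCn : normalizer (K : Set G) ≤ normalizer ((C.map K.subtype : Subgroup G) : Set G) :=
      FFBridge.normalizer_le_normalizer_map K C hC
    have hsub : ∀ x : X, ∀ k ∈ C, g x * f k * (g x)⁻¹ ∈ C.map f := by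
      intro x k hk
      rw [hconj]
      have h1 : (x : G) * k * (x : G)⁻¹ ∈ C.map K.subtype :=
        (Subgroup.mem_normalizer_iff.1 (hCn (hXK x.2)) k).1 ⟨k, hk, rfl⟩
      obtain ⟨c, hc, hc'⟩ := h1
      refine ⟨c, hc, ?_⟩
      congr 1
      exact Subtype.ext hc'
    rintro _ ⟨x, rfl⟩
    rw [Subgroup.mem_normalizer_iff]
    intro y
    constructor
    · rintro ⟨k, hk, rfl⟩
      exact hsub x k hk
    · rintro ⟨k, hk, hk'⟩
      have h1 := hsub x⁻¹ k hk
      rw [hk', map_inv] at h1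
      have h2 : (g x)⁻¹ * (g x * y * (g x)⁻¹) * (g x)⁻¹⁻¹ = y := by group
      rwa [h2] at h1
  · exact hXq.of_surjective g.rangeRestrict g.rangeRestrict_surjective
  · intro C h1
    apply hq
    refine h1.trans ?_
    exact (Subgroup.card_map_dvd C f).trans (Subgroup.card_subgroup_dvd_card C)
  · intro v hv
    rw [Subgroup.mem_centralizer_iff] at hv ⊢
    intro x hx
    have h1 := hv (g ⟨x, hx⟩) ⟨⟨x, hx⟩, rfl⟩
    have h2 := hactj ⟨x, hx⟩ v
    rw [h1] at h2
    have h3 : j v = i ⟨x * ((v : K) : G) * (x : G)⁻¹,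
        (Subgroup.mem_normalizer_iff.1 (hXN hx) _).1 (e v).2⟩ := by
      rw [← h2]; group
    rw [hj] at h3
    have h4 := congrArg Subtype.val (hi h3)
    have h5 : ((v : K) : G) = x * ((v : K) : G) * x⁻¹ := h4
    calc x * ((v : K) : G) = (x * ((v : K) : G) * x⁻¹) * x := by group
      _ = ((v : K) : G) * x := by rw [← h5]
  · rintro _ ⟨k, rfl⟩ hδ
    rw [Subgroup.mem_centralizer_iff] at hδ
    have hcop : (Nat.card X).Coprime (Nat.card K) := by
      obtain ⟨n, hn⟩ := IsPGroup.iff_card.1 hXq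
      rw [hn]
      exact Nat.Coprime.pow_left n ((Nat.Prime.coprime_iff_not_dvd Fact.out).2 hq)
    have hsolv : Group.IsSolvable X := by
      have : IsMulCommutative X := hX.1
      exact Group.isSolvable_of_comm (fun a b => this.is_comm.comm a b)
    let N : Subgroup G := f.ker.map K.subtype
    have hNK : N ≤ K := Subgroup.map_subtype_le _
    have hNmem : ∀ y (hy : y ∈ K), y ∈ N ↔ f ⟨y, hy⟩ = 1 := by
      intro y hy
      constructor
      · rintro ⟨z, hz, hz'⟩
        have : z = ⟨y, hy⟩ := Subtype.ext hz'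
        rw [← this]; exact hz
      · intro h
        exact ⟨⟨y, hy⟩, h, rfl⟩
    have hNn : K ≤ normalizer (N : Set G) := by
      intro y hy
      rw [Subgroup.mem_normalizer_iff]
      intro z
      constructor
      · intro hz
        have hzK := hNK hz
        rw [hNmem z hzK] at hz
        rw [hNmem _ (K.mul_mem (K.mul_mem hy hzK) (K.inv_mem hy))]
        have : (⟨y * z * y⁻¹, K.mul_mem (K.mul_mem hy hzK) (K.inv_mem hy)⟩ : K) =
          ⟨y, hy⟩ * ⟨z, hzK⟩ * (⟨y, hy⟩)⁻¹ := rfl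
        rw [this, map_mul, map_mul, hz, map_inv]; group
      · intro hz
        have hzK' := hNK hz
        have hzK : z ∈ K := by
          have := K.mul_mem (K.mul_mem (K.inv_mem hy) hzK') hy
          have e1 : y⁻¹ * (y * z * y⁻¹) * y = z := by group
          rwa [e1] at this
        rw [hNmem _ hzK'] at hz
        rw [hNmem z hzK]
        have : (⟨y * z * y⁻¹, hzK'⟩ : K) = ⟨y, hy⟩ * ⟨z, hzK⟩ * (⟨y, hy⟩)⁻¹ := rfl
        rw [this, map_mul, map_mul, map_inv] at hz
        calc f ⟨z, hzK⟩ = (f ⟨y, hy⟩)⁻¹ * (f ⟨y, hy⟩ * f ⟨z, hzK⟩ * (f ⟨y, hy⟩)⁻¹) * f ⟨y, hy⟩ := by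
              group
          _ = 1 := by rw [hz]; group
    have hNX : X ≤ normalizer (N : Set G) := by
      have hkc : ∀ x : X, ∀ z ∈ N, (x : G) * z * (x : G)⁻¹ ∈ N := by
        rintro x z hz
        have hzK := hNK hz
        have hxz : (x : G) * z * (x : G)⁻¹ ∈ K := (Subgroup.mem_normalizer_iff.1 (hXK x.2) z).1 hzK
        rw [hNmem z hzK] at hz
        rw [hNmem _ hxz]
        have := hconj x ⟨z, hzK⟩
        rw [hz] at this
        rw [← this]; group
      intro x hx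
      rw [Subgroup.mem_normalizer_iff]
      intro z
      constructor
      · intro hz
        exact hkc ⟨x, hx⟩ z hz
      · intro hz
        have h1 := hkc ⟨x, hx⟩⁻¹ _ hz
        have h2 : ((⟨x, hx⟩⁻¹ : X) : G) * (x * z * x⁻¹) * ((⟨x, hx⟩⁻¹ : X) : G)⁻¹ = z := by
          change x⁻¹ * (x * z * x⁻¹) * x⁻¹⁻¹ = z
          group
        rwa [h2] at h1
    obtain ⟨c, hc, hc'⟩ := S0022.result X K hXK hcop (Or.inl hsolv) N hNK hNn hNX k k.2 (by
      intro x hx
      have hxk : x * (k : G) * x⁻¹ ∈ K := (Subgroup.mem_normalizer_iff.1 (hXK hx) k).1 k.2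
      rw [hNmem _ (K.mul_mem hxk (K.inv_mem k.2))]
      have h1 := hconj ⟨x, hx⟩ k
      have h2 := hδ (g ⟨x, hx⟩) ⟨⟨x, hx⟩, rfl⟩
      have h3 : (⟨x * (k : G) * x⁻¹ * (k : G)⁻¹, K.mul_mem hxk (K.inv_mem k.2)⟩ : K) =
        ⟨x * (k : G) * x⁻¹, hxk⟩ * k⁻¹ := rfl
      rw [h3, map_mul, map_inv, ← h1, h2]
      group)
    refine ⟨⟨c, (Subgroup.mem_inf.1 hc).1⟩, (Subgroup.mem_inf.1 hc).2, ?_⟩
    rw [hNmem _ (K.mul_mem (K.inv_mem k.2) (Subgroup.mem_inf.1 hc).1)] at hc'
    have h3 : (⟨(k : G)⁻¹ * c, K.mul_mem (K.inv_mem k.2) (Subgroup.mem_inf.1 hc).1⟩ : K) =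
      k⁻¹ * ⟨c, (Subgroup.mem_inf.1 hc).1⟩ := rfl
    rw [h3, map_mul, map_inv] at hc'
    calc f ⟨c, (Subgroup.mem_inf.1 hc).1⟩ = f k * ((f k)⁻¹ * f ⟨c, (Subgroup.mem_inf.1 hc).1⟩) := by
          group
      _ = f k := by rw [hc', mul_one]

end Cfsg.Agent.PLocal.FFCoprime
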