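import Mathlib
import Cfsg.Agent.Lib.Cores
import Cfsg.Prelude.Def_Transfer

set_option autoImplicit false

namespace Cfsg.Agent.PLocal.OffenderBound

/-- the product of `h^j x` over `j < p` is fixed by `h` when `h^p = 1`. -/
theorem prod_pow_fixed {M : Type*} [CommGroup M] (h : Monoid.End M) (p : ℕ) (hp : h ^ p = 1) (x : M) :
    h (∏ j ∈ Finset.range p, (h ^ j) x) = ∏ j ∈ Finset.range p, (h ^ j) x := by
  rw [map_prod]
  have h1 : ∀ j, h ((h ^ j) x) = (h ^ (j + 1)) x := by
    intro j
    rw [pow_succ']
    rfl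
  simp_rw [h1]
  rcases Nat.eq_zero_or_pos p with rfl | hpos
  · simp
  · obtain ⟨m, rfl⟩ : ∃ m, p = m + 1 := ⟨p - 1, by omega⟩
    rw [Finset.prod_range_succ, Finset.prod_range_succ' (fun j => (h ^ j) x), hp, pow_zero]

theorem key {M : Type*} [CommGroup M] (p : ℕ) (hp : p.Prime) (f g : Monoid.End M) (hfg : Commute f g)
    (hf : f ^ p = 1) (hg : g ^ p = 1) (F : Subgroup M) (hF : ∀ x ∈ F, f x = x)
    (h1 : ∀ x, g x = x → x ∈ F) (h2 : ∀ i : ℕ, ∀ x, (f * g ^ i) x = x → x ∈ F) (x : M) :
    x ^ p ∈ F := by
  -- P i = ∏_{j<p} (f g^i)^j x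
  have hP : ∀ i : ℕ, ∏ j ∈ Finset.range p, ((f * g ^ i) ^ j) x ∈ F := by
    intro i
    apply h2 i
    apply prod_pow_fixed
    rw [(hfg.pow_right i).mul_pow, hf, ← pow_mul, mul_comm i p, pow_mul, hg, one_pow, one_mul]
  have hY : ∀ j : ℕ, j ∈ Finset.range p → j ≠ 0 → ∏ i ∈ Finset.range p, ((g ^ j) ^ i) x ∈ F := by
    intro j hj hj0
    apply h1
    have hfix := prod_pow_fixed (g ^ j) p (by rw [← pow_mul, mul_comm, pow_mul, hg, one_pow]) x
    set y := ∏ i ∈ Finset.range p, ((g ^ j) ^ i) x with hy
    have hpowfix : ∀ k : ℕ, ((g ^ j) ^ k) y = y := by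
      intro k
      induction k with
      | zero => simp
      | succ k ih =>
        rw [pow_succ]
        change ((g ^ j) ^ k) ((g ^ j) y) = y
        rw [hfix, ih]
    have hcop : Nat.Coprime j p := by
      rw [Nat.coprime_comm, hp.coprime_iff_not_dvd]
      intro hd
      exact hj0 (Nat.eq_zero_of_dvd_of_lt hd (Finset.mem_range.mp hj))
    obtain ⟨k, -, hk⟩ := Nat.exists_mul_mod_eq_one_of_coprime hcop hp.one_lt
    have := hpowfix k
    rw [← pow_mul] at this
    have h3 : g ^ (j * k) = g := by
      conv_lhs => rw [← Nat.div_add_mod (j * k) p]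
      rw [pow_add, pow_mul, hg, one_pow, one_mul, hk, pow_one]
    rwa [h3] at this
  have hprod : ∏ i ∈ Finset.range p, ∏ j ∈ Finset.range p, ((f * g ^ i) ^ j) x ∈ F :=
    Subgroup.prod_mem _ (fun i _ => hP i)
  rw [Finset.prod_comm] at hprod
  have hcol : ∀ j : ℕ, ∏ i ∈ Finset.range p, ((f * g ^ i) ^ j) x =
      (f ^ j) (∏ i ∈ Finset.range p, ((g ^ j) ^ i) x) := by
    intro j
    rw [map_prod]
    apply Finset.prod_congr rfl
    intro i _
    rw [(hfg.pow_right i).mul_pow, ← pow_mul, ← pow_mul, mul_comm i j]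
    rfl
  have hffix : ∀ j : ℕ, ∀ y ∈ F, (f ^ j) y = y := by
    intro j y hy
    induction j with
    | zero => simp
    | succ k ih =>
      rw [pow_succ]
      change (f ^ k) (f y) = y
      rw [hF y hy, ih]
  obtain ⟨m, rfl⟩ : ∃ m, p = m + 1 := ⟨p - 1, by have := hp.pos; omega⟩
  rw [Finset.prod_range_succ'] at hprod
  have hrest : ∏ k ∈ Finset.range m, ∏ i ∈ Finset.range (m + 1), ((f * g ^ i) ^ (k + 1)) x ∈ F := by
    apply Subgroup.prod_mem
    intro k hk
    rw [hcol]
    have hk' : k + 1 ∈ Finset.range (m + 1) := by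
      rw [Finset.mem_range] at hk ⊢
      omega
    rw [hffix (k + 1) _ (hY (k + 1) hk' (by omega))]
    exact hY (k + 1) hk' (by omega)
  have h0 : ∏ i ∈ Finset.range (m + 1), ((f * g ^ i) ^ 0) x ∈ F :=
    (Subgroup.mul_mem_cancel_left F hrest).mp hprod
  simpa using h0


/-- restriction of an action by automorphisms to an invariant subgroup. -/
def restrict {A Q : Type*} [Group A] [Group Q] (ψ : A →* MulAut Q) (K : Subgroup Q)
    (hK : ∀ a, ∀ x ∈ K, ψ a x ∈ K) : A →* MulAut K where
  toFun a :=
    { toFun := fun x => ⟨ψ a x, hK a x x.2⟩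
      invFun := fun x => ⟨ψ a⁻¹ x, hK a⁻¹ x x.2⟩
      left_inv := fun x => by
        apply Subtype.ext
        change ψ a⁻¹ (ψ a x) = x
        rw [← MulAut.mul_apply, ← map_mul, inv_mul_cancel, map_one, MulAut.one_apply]
      right_inv := fun x => by
        apply Subtype.ext
        change ψ a (ψ a⁻¹ x) = x
        rw [← MulAut.mul_apply, ← map_mul, mul_inv_cancel, map_one, MulAut.one_apply]
      map_mul' := fun x y => by
        apply Subtype.ext
        change ψ a (x * y) = ψ a x * ψ a y
        rw [map_mul] }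
  map_one' := by
    ext x
    change ψ 1 x = x
    rw [map_one, MulAut.one_apply]
  map_mul' a b := by
    ext x
    change ψ (a * b) x = ψ a (ψ b x)
    rw [map_mul, MulAut.mul_apply]

theorem restrict_apply {A Q : Type*} [Group A] [Group Q] (ψ : A →* MulAut Q) (K : Subgroup Q)
    (hK : ∀ a, ∀ x ∈ K, ψ a x ∈ K) (a : A) (x : K) : ((restrict ψ K hK a x : K) : Q) = ψ a x := rfl

theorem exists_fixed_in_coset {A Q : Type*} [Group A] [Group Q] {p : ℕ} [Fact p.Prime]
    (ψ : A →* MulAut Q) (hA : IsPGroup p A) (N : Subgroup Q) (hN : ¬ p ∣ Nat.card N)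
    [Finite N]
    (hinv : ∀ a, ∀ n ∈ N, ψ a n ∈ N) (x : Q) (hx : ∀ a, x⁻¹ * ψ a x ∈ N) :
    ∃ n ∈ N, ∀ a, ψ a (x * n) = x * n := by
  let act : MulAction A N :=
    { smul := fun a n => ⟨x⁻¹ * ψ a (x * n), by
        rw [map_mul, ← mul_assoc]
        exact N.mul_mem (hx a) (hinv a n n.2)⟩
      one_smul := fun n => by
        apply Subtype.ext
        change x⁻¹ * ψ 1 (x * n) = n
        rw [map_one, MulAut.one_apply, inv_mul_cancel_left]
      mul_smul := fun a b n => by
        apply Subtype.ext
        change x⁻¹ * ψ (a * b) (x * n) = x⁻¹ * ψ a (x * (x⁻¹ * ψ b (x * n)))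
        rw [mul_inv_cancel_left, map_mul ψ, MulAut.mul_apply] }
  obtain ⟨n, hn⟩ := hA.nonempty_fixed_point_of_prime_not_dvd_card N hN
  refine ⟨n, n.2, fun a => ?_⟩
  have h := congrArg (Subtype.val) (hn a)
  change x⁻¹ * ψ a (x * n) = n at h
  rw [inv_mul_eq_iff_eq_mul] at h
  exact h

theorem exists_invariant_sylow {A Q : Type*} [Group A] [Group Q] [Finite Q] {p : ℕ} [Fact p.Prime]
    (ψ : A →* MulAut Q) (hA : IsPGroup p A) (hQ : (Nat.card Q).Coprime p) (q : ℕ) [Fact q.Prime] :
    ∃ S : Sylow q Q, ∀ a, ∀ x ∈ S, ψ a x ∈ S := by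
  let act : MulAction A (Sylow q Q) := MulAction.compHom _ ψ
  have hcard : ¬ p ∣ Nat.card (Sylow q Q) := by
    intro hd
    obtain ⟨S⟩ : Nonempty (Sylow q Q) := inferInstance
    have h1 : Nat.card (Sylow q Q) ∣ Nat.card Q := by
      rw [S.card_eq_index_normalizer]
      exact Subgroup.index_dvd_card _
    have h2 : p ∣ Nat.card Q := hd.trans h1
    have := (Nat.Prime.coprime_iff_not_dvd (Fact.out (p := p.Prime))).mp hQ.symm
    exact this h2
  obtain ⟨S, hS⟩ := hA.nonempty_fixed_point_of_prime_not_dvd_card (Sylow q Q) hcard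
  refine ⟨S, fun a x hx => ?_⟩
  have h := hS a
  have h' : (ψ a) • S = S := h
  rw [← h']
  exact ⟨x, hx, rfl⟩


theorem exists_fixed_in_coset_of_single {A Q : Type*} [Group A] [Group Q] {p : ℕ} [Fact p.Prime]
    (ψ : A →* MulAut Q) (hA : IsPGroup p A) (N : Subgroup Q) (hN : ¬ p ∣ Nat.card N)
    [Finite N]
    (hinv : ∀ a, ∀ n ∈ N, ψ a n ∈ N) (x : Q) (b : A) (hx : x⁻¹ * ψ b x ∈ N) :
    ∃ n ∈ N, ψ b (x * n) = x * n := by
  let B : Subgroup A :=
    { carrier := {c | x⁻¹ * ψ c x ∈ N}
      one_mem' := by
        change x⁻¹ * ψ 1 x ∈ N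
        rw [map_one, MulAut.one_apply, inv_mul_cancel]
        exact N.one_mem
      mul_mem' := by
        intro c d hc hd
        change x⁻¹ * ψ (c * d) x ∈ N
        have : x⁻¹ * ψ (c * d) x = (x⁻¹ * ψ c x) * ψ c (x⁻¹ * ψ d x) := by
          rw [map_mul, map_mul, map_inv, MulAut.mul_apply]
          group
        rw [this]
        exact N.mul_mem hc (hinv c _ hd)
      inv_mem' := by
        intro c hc
        change x⁻¹ * ψ c⁻¹ x ∈ N
        have h1 : ψ c⁻¹ (x⁻¹ * ψ c x) ∈ N := hinv _ _ hc
        have h2 : x⁻¹ * ψ c⁻¹ x = (ψ c⁻¹ (x⁻¹ * ψ c x))⁻¹ := by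
          rw [map_mul (ψ c⁻¹), map_inv (ψ c⁻¹), ← MulAut.mul_apply, ← map_mul ψ, inv_mul_cancel,
            map_one, MulAut.one_apply]
          group
        rw [h2]
        exact N.inv_mem h1 }
  obtain ⟨n, hn, h⟩ := exists_fixed_in_coset (p := p) (ψ.comp B.subtype) (hA.to_subgroup B) N hN
    (fun c m hm => hinv c m hm) x (fun c => c.2)
  exact ⟨n, hn, h ⟨b, hx⟩⟩

/-- Two-generator form of the generation theorem for coprime action. -/
theorem two_gen.{u} {A : Type*} [CommGroup A] {p : ℕ} [hp : Fact p.Prime] (hA : ∀ a : A, a ^ p = 1)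
    (a b : A) : ∀ (n : ℕ) {Q : Type u} [Group Q] [Finite Q] (_ : Nat.card Q ≤ n)
      (_ : (Nat.card Q).Coprime p) (ψ : A →* MulAut Q)
      (_ : ∀ x : Q, ψ b x = x → ∀ c, ψ c x = x)
      (_ : ∀ (i : ℕ) (x : Q), ψ (a * b ^ i) x = x → ∀ c, ψ c x = x), ∀ (x : Q) (c : A), ψ c x = x := by
  have hApg : IsPGroup p A := fun x => ⟨1, by rw [pow_one]; exact hA x⟩
  intro n
  induction n with
  | zero =>
    intro Q _ _ hn
    have := Nat.card_pos (α := Q)
    omega
  | succ n ih =>
    intro Q _ _ hn hQ ψ h1 h2
    -- induction for proper invariant subgroups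
    have hsub : ∀ K : Subgroup Q, (∀ c, ∀ x ∈ K, ψ c x ∈ K) → K ≠ ⊤ → ∀ x ∈ K, ∀ c, ψ c x = x := by
      intro K hK hKt x hx c
      have hcard : Nat.card K < Nat.card Q := by
        by_contra hcon
        push Not at hcon
        exact hKt (Subgroup.eq_top_of_le_card K hcon)
      have hcop : (Nat.card K).Coprime p := Nat.Coprime.coprime_dvd_left (Subgroup.card_subgroup_dvd_card K) hQ
      have := ih (Q := K) (by omega) hcop (restrict ψ K hK)
        (fun y hy c => by
          apply Subtype.ext
          rw [restrict_apply]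
          apply h1
          have := congrArg Subtype.val hy
          rwa [restrict_apply] at this)
        (fun i y hy c => by
          apply Subtype.ext
          rw [restrict_apply]
          apply h2 i
          have := congrArg Subtype.val hy
          rwa [restrict_apply] at this) ⟨x, hx⟩ c
      have := congrArg Subtype.val this
      rwa [restrict_apply] at this
    -- fixed points
    let F : Subgroup Q :=
      { carrier := {x | ∀ c, ψ c x = x}
        one_mem' := fun c => map_one _
        mul_mem' := by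
          intro x y hx hy c
          rw [map_mul, hx c, hy c]
        inv_mem' := by
          intro x hx c
          rw [map_inv, hx c] }
    have hF : F = ⊤ := by
      by_contra hFt
      -- some Sylow is not in F
      have hex : ∃ (q : ℕ) (_ : Fact q.Prime), ∀ S : Sylow q Q, ¬ (S : Subgroup Q) ≤ F := by
        by_contra hcon
        push Not at hcon
        apply hFt
        apply Cfsg.Agent.Lib.Cores.eq_top_of_sylow_le
        intro q hq
        exact hcon q hq
      obtain ⟨q, hq, hS⟩ := hex
      obtain ⟨S, hSinv⟩ := exists_invariant_sylow ψ hApg hQ q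
      have hStop : (S : Subgroup Q) = ⊤ := by
        by_contra hne
        exact hS S (hsub S hSinv hne)
      have hQq : IsPGroup q Q := by
        have := S.isPGroup'
        rw [hStop] at this
        exact this.of_equiv Subgroup.topEquiv
      have hnt : Nontrivial Q := by
        by_contra hcon
        rw [not_nontrivial_iff_subsingleton] at hcon
        exact hFt (Subsingleton.elim _ _)
      have hnil : Group.IsNilpotent Q := hQq.isNilpotent
      have hsol : Group.IsSolvable Q := inferInstance
      have hcomm : commutator Q ≠ ⊤ := (Group.IsSolvable.commutator_lt_top_of_nontrivial Q).ne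
      have hcinv : ∀ c, ∀ x ∈ commutator Q, ψ c x ∈ commutator Q := by
        intro c x hx
        have h := Subgroup.characteristic_iff_map_le.mp (inferInstance : (commutator Q).Characteristic) (ψ c)
        exact h ⟨x, hx, rfl⟩
      have hcF : commutator Q ≤ F := hsub _ hcinv hcomm
      have hNp : ¬ p ∣ Nat.card (commutator Q) := by
        intro hd
        have h2 : p ∣ Nat.card Q := hd.trans (Subgroup.card_subgroup_dvd_card _)
        exact (Nat.Prime.coprime_iff_not_dvd hp.out).mp hQ.symm h2
      -- the endomorphisms of the abelianization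
      let E : A →* Monoid.End (Abelianization Q) :=
        { toFun := fun c => Abelianization.map (ψ c).toMonoidHom
          map_one' := by
            ext x
            obtain ⟨x, rfl⟩ := QuotientGroup.mk_surjective x
            change Abelianization.of (ψ 1 x) = Abelianization.of x
            rw [map_one, MulAut.one_apply]
          map_mul' := by
            intro c d
            ext x
            obtain ⟨x, rfl⟩ := QuotientGroup.mk_surjective x
            change Abelianization.of (ψ (c * d) x) = Abelianization.of (ψ c (ψ d x))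
            rw [map_mul, MulAut.mul_apply] }
      have hEof : ∀ c x, E c (Abelianization.of x) = Abelianization.of (ψ c x) := fun c x => rfl
      have hlift : ∀ c : A, (∀ x : Q, ψ c x = x → ∀ d, ψ d x = x) →
          ∀ y, E c y = y → y ∈ F.map (Abelianization.of (G := Q)) := by
        intro c hc y hy
        obtain ⟨x, rfl⟩ := QuotientGroup.mk_surjective y
        change E c (Abelianization.of x) = Abelianization.of x at hy
        rw [hEof] at hy
        have hmem : x⁻¹ * ψ c x ∈ commutator Q := by
          have := (QuotientGroup.eq (s := commutator Q) (a := x) (b := ψ c x)).mp hy.symm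
          exact this
        obtain ⟨m, hm, hfix⟩ := exists_fixed_in_coset_of_single ψ hApg (commutator Q) hNp hcinv x c hmem
        refine ⟨x * m, hc _ hfix, ?_⟩
        rw [map_mul]
        have : Abelianization.of m = 1 := (QuotientGroup.eq_one_iff m).mpr hm
        rw [this, mul_one]
        rfl
      have hfin : ∀ x : Q, x ∈ F := by
        intro x
        have hxp : x ^ p ∈ F := by
          have hkey := key p hp.out (E a) (E b)
            (by rw [Commute, SemiconjBy, ← map_mul, ← map_mul, mul_comm])
            (by rw [← map_pow, hA, map_one]) (by rw [← map_pow, hA, map_one])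
            (F.map (Abelianization.of (G := Q)))
            (by
              rintro _ ⟨z, hz, rfl⟩
              rw [hEof, hz a])
            (fun y hy => hlift b h1 y hy)
            (fun i y hy => hlift (a * b ^ i) (h2 i) y (by rw [map_mul, map_pow]; exact hy))
            (Abelianization.of x)
          obtain ⟨z, hz, hzx⟩ := hkey
          rw [← map_pow] at hzx
          have hmem : z⁻¹ * x ^ p ∈ commutator Q :=
            (QuotientGroup.eq (s := commutator Q) (a := z) (b := x ^ p)).mp hzx
          have := F.mul_mem hz (hcF hmem)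
          rwa [mul_inv_cancel_left] at this
        have hcard : x ^ Nat.card Q = 1 := pow_card_eq_one'
        have := (Subgroup.zpowers x)
        -- x = x^(p u + |Q| v)
        have hb : (x ^ (p : ℤ)) ^ (Nat.gcdB (Nat.card Q) p) = x := by
          have hg := Nat.gcd_eq_gcd_ab (Nat.card Q) p
          rw [Nat.Coprime.gcd_eq_one hQ] at hg
          conv_rhs => rw [← zpow_one x]
          have : (1 : ℤ) = (Nat.card Q : ℤ) * Nat.gcdA (Nat.card Q) p + p * Nat.gcdB (Nat.card Q) p := by
            exact_mod_cast hg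
          rw [this, zpow_add, zpow_mul, zpow_mul, zpow_natCast x (Nat.card Q), hcard, one_zpow, one_mul]
        rw [← hb]
        apply F.zpow_mem
        rw [zpow_natCast]
        exact hxp
      exact hFt (top_unique fun x _ => hfin x)
    intro x c
    have : x ∈ F := by rw [hF]; trivial
    exact this c


/-- Coprime action: if an elementary abelian `p`-group `A` acts non-trivially on a `p'`-group `Q`, then some
hyperplane `B` of `A` has a fixed point which is not fixed by `A`. -/
theorem exists_hyperplane {A Q : Type*} [CommGroup A] [Finite A] [Group Q] [Finite Q] {p : ℕ}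
    [hp : Fact p.Prime] (hA : ∀ a : A, a ^ p = 1) (hQ : (Nat.card Q).Coprime p) (ψ : A →* MulAut Q)
    (hne : ∃ (x : Q) (a : A), ψ a x ≠ x) :
    ∃ B : Subgroup A, Nat.card B * p = Nat.card A ∧
      ∃ x : Q, (∀ b ∈ B, ψ b x = x) ∧ ∃ a : A, ψ a x ≠ x := by
  obtain ⟨x₀, a₀, hx₀⟩ := hne
  let S : Set (Subgroup A) := {B | ∃ x : Q, (∀ b ∈ B, ψ b x = x) ∧ ∃ a : A, ψ a x ≠ x}
  have hSne : S.Nonempty := by
    refine ⟨⊥, x₀, ?_, a₀, hx₀⟩
    intro b hb
    rw [Subgroup.mem_bot] at hb
    rw [hb, map_one, MulAut.one_apply]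
  obtain ⟨B, hBS, hBmax⟩ := (Set.toFinite S).exists_maximal hSne
  refine ⟨B, ?_, hBS⟩
  -- elements outside `B`
  have hstab : ∀ c : A, c ∉ B → ∀ x : Q, (∀ b ∈ B, ψ b x = x) → ψ c x = x → ∀ d, ψ d x = x := by
    intro c hc x hx hcx
    by_contra hcon
    push Not at hcon
    let T : Subgroup A :=
      { carrier := {a | ψ a x = x}
        one_mem' := by
          change ψ 1 x = x
          rw [map_one, MulAut.one_apply]
        mul_mem' := by
          intro a b ha hb
          change ψ (a * b) x = x
          rw [map_mul, MulAut.mul_apply, hb, ha]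
        inv_mem' := by
          intro a ha
          change ψ a⁻¹ x = x
          have ha' : ψ a x = x := ha
          conv_lhs => rw [← ha']
          rw [← MulAut.mul_apply, ← map_mul, inv_mul_cancel, map_one, MulAut.one_apply] }
    have hTS : T ∈ S := ⟨x, fun b hb => hb, hcon⟩
    have hBT : B ≤ T := fun b hb => hx b hb
    exact hc (hBmax hTS hBT hcx)
  have hBtop : B ≠ ⊤ := by
    obtain ⟨x, hx, a, ha⟩ := hBS
    intro h
    exact ha (hx a (by rw [h]; trivial))
  obtain ⟨b, hb⟩ : ∃ b, b ∉ B := by
    by_contra hcon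
    push Not at hcon
    exact hBtop (top_unique fun x _ => hcon x)
  by_contra hcard
  have hB1 : B ⊔ Subgroup.zpowers b ≠ ⊤ := by
    intro htop
    apply hcard
    have hmap : (Subgroup.zpowers b).map (QuotientGroup.mk' B) = ⊤ := by
      have h1 : (B ⊔ Subgroup.zpowers b).map (QuotientGroup.mk' B) = ⊤ := by
        rw [htop]
        exact Subgroup.map_top_of_surjective _ (QuotientGroup.mk'_surjective B)
      rw [Subgroup.map_sup] at h1
      have h2 : B.map (QuotientGroup.mk' B) = ⊥ := by
        rw [Subgroup.map_eq_bot_iff, QuotientGroup.ker_mk']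
      rwa [h2, bot_sup_eq] at h1
    rw [MonoidHom.map_zpowers] at hmap
    have h3 : Nat.card (A ⧸ B) = orderOf (QuotientGroup.mk' B b) := by
      rw [← Nat.card_zpowers, hmap, Subgroup.card_top]
    have h4 : orderOf (QuotientGroup.mk' B b) ∣ p := by
      apply orderOf_dvd_of_pow_eq_one
      rw [← map_pow, hA, map_one]
    have h5 : orderOf (QuotientGroup.mk' B b) ≠ 1 := by
      intro h
      rw [orderOf_eq_one_iff] at h
      exact hb ((QuotientGroup.eq_one_iff b).mp h)
    have h6 : orderOf (QuotientGroup.mk' B b) = p := ((Nat.dvd_prime hp.out).mp h4).resolve_left h5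
    rw [Subgroup.card_eq_card_quotient_mul_card_subgroup B, h3, h6, mul_comm]
  obtain ⟨a, ha⟩ : ∃ a, a ∉ B ⊔ Subgroup.zpowers b := by
    by_contra hcon
    push Not at hcon
    exact hB1 (top_unique fun x _ => hcon x)
  have hab : ∀ i : ℕ, a * b ^ i ∉ B := by
    intro i h
    apply ha
    have h1 : a = (a * b ^ i) * (b ^ i)⁻¹ := by group
    rw [h1]
    exact (B ⊔ Subgroup.zpowers b).mul_mem ((le_sup_left : B ≤ _) h)
      ((B ⊔ Subgroup.zpowers b).inv_mem
        ((le_sup_right : Subgroup.zpowers b ≤ B ⊔ Subgroup.zpowers b) ⟨i, by simp⟩))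
  let Q1 : Subgroup Q :=
    { carrier := {x | ∀ b ∈ B, ψ b x = x}
      one_mem' := fun b _ => map_one _
      mul_mem' := by
        intro x y hx hy b hb
        rw [map_mul, hx b hb, hy b hb]
      inv_mem' := by
        intro x hx b hb
        rw [map_inv, hx b hb] }
  have hQ1 : ∀ c, ∀ x ∈ Q1, ψ c x ∈ Q1 := by
    intro c x hx d hd
    rw [← MulAut.mul_apply, ← map_mul, mul_comm, map_mul, MulAut.mul_apply, hx d hd]
  have hall := two_gen hA a b (Nat.card Q1) (Q := Q1) le_rfl
    (Nat.Coprime.coprime_dvd_left (Subgroup.card_subgroup_dvd_card Q1) hQ) (restrict ψ Q1 hQ1)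
    (fun x hx c => by
      apply Subtype.ext
      rw [restrict_apply]
      have := congrArg Subtype.val hx
      rw [restrict_apply] at this
      exact hstab b hb x x.2 this c)
    (fun i x hx c => by
      apply Subtype.ext
      rw [restrict_apply]
      have := congrArg Subtype.val hx
      rw [restrict_apply] at this
      exact hstab _ (hab i) x x.2 this c)
  obtain ⟨x, hx, c, hc⟩ := hBS
  apply hc
  have := congrArg Subtype.val (hall ⟨x, hx⟩ c)
  rwa [restrict_apply] at this

/-- fixed points of a subgroup `A` acting through `φ`. -/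
def fix {H V : Type*} [Group H] [Group V] (φ : H →* MulAut V) (A : Subgroup H) : Subgroup V where
  carrier := {v | ∀ a ∈ A, φ a v = v}
  one_mem' := fun a _ => map_one _
  mul_mem' := by
    intro x y hx hy a ha
    rw [map_mul, hx a ha, hy a ha]
  inv_mem' := by
    intro x hx a ha
    rw [map_inv, hx a ha]

theorem mem_fix {H V : Type*} [Group H] [Group V] (φ : H →* MulAut V) (A : Subgroup H) (v : V) :
    v ∈ fix φ A ↔ ∀ a ∈ A, φ a v = v := Iff.rfl

/-- If `r` has order prime to `p`, commutes with the `p`-group `B` and fixes all fixed points of `B` on the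
abelian `p`-group `V`, then `r` acts trivially on `V`. -/
theorem trivial_of_trivial_on_fix {H V : Type*} [Group H] [CommGroup V] [Finite V] {p : ℕ}
    [hp : Fact p.Prime] (φ : H →* MulAut V) (hV : IsPGroup p V) (B : Subgroup H) (hB : IsPGroup p B)
    (r : H) (hr : (orderOf r).Coprime p) (hrB : ∀ b ∈ B, r * b = b * r)
    (hfix : ∀ v ∈ fix φ B, φ r v = v) : φ r = 1 := by
  -- the norm map
  let N : V →* V := ∏ i ∈ Finset.range (orderOf r), (φ (r ^ i)).toMonoidHom
  have hN : ∀ v, N v = ∏ i ∈ Finset.range (orderOf r), (φ (r ^ i)) v := by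
    intro v
    simp only [N, MonoidHom.finsetProd_apply]
    rfl
  have hNr : ∀ v, N (φ r v) = N v := by
    intro v
    rw [hN, hN]
    have h1 : ∀ i, φ (r ^ i) (φ r v) = φ (r ^ (i + 1)) v := by
      intro i
      rw [pow_succ, map_mul, MulAut.mul_apply]
    simp_rw [h1]
    rcases Nat.eq_zero_or_pos (orderOf r) with h0 | hpos
    · rw [h0]; simp
    · obtain ⟨m, hm⟩ : ∃ m, orderOf r = m + 1 := ⟨orderOf r - 1, by omega⟩
      rw [hm, Finset.prod_range_succ, Finset.prod_range_succ' (fun i => φ (r ^ i) v), ← hm,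
        pow_orderOf_eq_one, pow_zero]
  have hNB : ∀ b ∈ B, ∀ v, N (φ b v) = φ b (N v) := by
    intro b hb v
    rw [hN, hN, map_prod]
    apply Finset.prod_congr rfl
    intro i _
    rw [← MulAut.mul_apply, ← MulAut.mul_apply, ← map_mul, ← map_mul]
    have : Commute r b := hrB b hb
    rw [(this.pow_left i).eq]
  have hker : N.ker = ⊥ := by
    by_contra hne
    have hinv : ∀ b : B, ∀ v ∈ N.ker, φ b v ∈ N.ker := by
      intro b v hv
      rw [MonoidHom.mem_ker] at hv ⊢
      rw [hNB b b.2, hv, map_one]
    let act : MulAction B N.ker :=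
      { smul := fun b v => ⟨φ b v, hinv b v v.2⟩
        one_smul := fun v => by
          apply Subtype.ext
          change φ ((1 : B) : H) v = v
          rw [OneMemClass.coe_one, map_one, MulAut.one_apply]
        mul_smul := fun b c v => by
          apply Subtype.ext
          change φ ((b * c : B) : H) v = φ b (φ c v)
          rw [Subgroup.coe_mul, map_mul, MulAut.mul_apply] }
    have hdvd : p ∣ Nat.card N.ker := by
      have hK := hV.to_subgroup N.ker
      obtain ⟨n, hn⟩ := hK.exists_card_eq
      rcases Nat.eq_zero_or_pos n with h0 | hpos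
      · rw [h0, pow_zero, Subgroup.card_eq_one] at hn
        exact absurd hn hne
      · rw [hn]
        exact dvd_pow_self p hpos.ne'
    have h1 : (1 : N.ker) ∈ MulAction.fixedPoints B N.ker := by
      intro b
      apply Subtype.ext
      change φ b ((1 : N.ker) : V) = ((1 : N.ker) : V)
      rw [OneMemClass.coe_one, map_one]
    obtain ⟨v, hv, hv1⟩ := hB.exists_fixed_point_of_prime_dvd_card_of_fixed_point N.ker hdvd h1
    apply hv1
    apply Subtype.ext
    have hvfix : (v : V) ∈ fix φ B := by
      intro b hb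
      have := congrArg Subtype.val (hv ⟨b, hb⟩)
      exact this
    have hrv : ∀ i : ℕ, φ (r ^ i) (v : V) = v := by
      intro i
      induction i with
      | zero => rw [pow_zero, map_one, MulAut.one_apply]
      | succ i ih => rw [pow_succ, map_mul, MulAut.mul_apply, hfix v hvfix, ih]
    have hNv : (v : V) ^ orderOf r = 1 := by
      have h2 : N v = 1 := v.2
      rw [hN] at h2
      simp_rw [hrv] at h2
      rwa [Finset.prod_const, Finset.card_range] at h2
    obtain ⟨k, hk⟩ := hV (v : V)
    have h3 : orderOf (v : V) ∣ p ^ k := orderOf_dvd_of_pow_eq_one hk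
    have h4 : orderOf (v : V) ∣ orderOf r := orderOf_dvd_of_pow_eq_one hNv
    have h5 : orderOf (v : V) = 1 := Nat.eq_one_of_dvd_coprimes (Nat.Coprime.pow_right k hr) h4 h3
    rw [orderOf_eq_one_iff] at h5
    rw [h5]
    rfl
  have hinj : Function.Injective N := (MonoidHom.ker_eq_bot_iff N).mp hker
  ext v
  rw [MulAut.one_apply]
  exact hinj (hNr v)

theorem card_mul_card_fix_le {H V : Type*} [Group H] [Finite H] [CommGroup V] [Finite V] {p : ℕ}
    [hp : Fact p.Prime] (φ : H →* MulAut V) (hV : IsPGroup p V) (Q : Subgroup H) [hQn : Q.Normal]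
    (hQ : (Nat.card Q).Coprime p) (hQV : ∀ x ∈ Q, φ x = 1 → x = 1) :
    ∀ (n : ℕ) (A : Subgroup H) (_ : Nat.card A ≤ n) (_ : Cfsg.IsElementaryAbelian p A)
      (_ : A ⊓ Subgroup.centralizer (Q : Set H) = ⊥), Nat.card A * Nat.card (fix φ A) ≤ Nat.card V := by
  intro n
  induction n with
  | zero =>
    intro A hn
    have := Nat.card_pos (α := A)
    omega
  | succ n ih =>
    intro A hn hA hAQ
    by_cases hA1 : A = ⊥
    · subst hA1
      rw [Subgroup.card_bot, one_mul]
      exact Subgroup.card_le_card_group _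
    obtain ⟨hAc, hAp⟩ := hA
    -- a nontrivial element acting non-trivially
    obtain ⟨a₀, ha₀, ha₁⟩ : ∃ a ∈ A, a ≠ 1 := by
      rw [Subgroup.eq_bot_iff_forall] at hA1
      push Not at hA1
      exact hA1
    have hex : ∃ x ∈ Q, a₀ * x ≠ x * a₀ := by
      by_contra hcon
      push Not at hcon
      have : a₀ ∈ A ⊓ Subgroup.centralizer (Q : Set H) :=
        ⟨ha₀, Subgroup.mem_centralizer_iff.mpr fun x hx => (hcon x hx).symm⟩
      rw [hAQ, Subgroup.mem_bot] at this
      exact ha₁ this
    obtain ⟨x₀, hx₀, hx₁⟩ := hex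
    let ψ : A →* MulAut Q := (MulAut.conjNormal (H := Q)).comp A.subtype
    have hψ : ∀ (a : A) (x : Q), ((ψ a x : Q) : H) = a * x * (a : H)⁻¹ := fun a x =>
      MulAut.conjNormal_apply (a : H) x
    let _ : CommGroup A := { (inferInstance : Group A) with mul_comm := fun a b => hAc.is_comm.comm a b }
    obtain ⟨B', hB'card, x, hxB, a, hxa⟩ := exists_hyperplane (A := A) (Q := Q) (p := p)
      (fun a => Subtype.ext (by rw [SubmonoidClass.coe_pow]; exact hAp a a.2)) hQ ψ
      ⟨⟨x₀, hx₀⟩, ⟨a₀, ha₀⟩, by
        intro h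
        have := congrArg Subtype.val h
        rw [hψ] at this
        apply hx₁
        have h' : a₀ * x₀ * a₀⁻¹ = x₀ := this
        rw [mul_inv_eq_iff_eq_mul] at h'
        exact h'⟩
    let B : Subgroup H := B'.map A.subtype
    have hBA : B ≤ A := Subgroup.map_subtype_le B'
    have hBcard : Nat.card B * p = Nat.card A := by
      rw [← hB'card]
      congr 1
      exact Nat.card_congr (B'.equivMapOfInjective A.subtype A.subtype_injective).toEquiv.symm
    have hpos : 0 < Nat.card B := Nat.card_pos
    have hlt : Nat.card B < Nat.card A := by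
      rw [← hBcard]
      exact lt_mul_of_one_lt_right hpos hp.out.one_lt
    have hBp : ∀ b ∈ B, b ^ p = 1 := fun b hb => hAp b (hBA hb)
    have hBpg : IsPGroup p B := fun b => ⟨1, by
      apply Subtype.ext
      rw [pow_one, SubmonoidClass.coe_pow]
      exact hBp b b.2⟩
    have hcomm : ∀ c ∈ A, ∀ d ∈ A, c * d = d * c := by
      intro c hc d hd
      have := hAc.is_comm.comm (⟨c, hc⟩ : A) ⟨d, hd⟩
      exact congrArg Subtype.val this
    have hBel : Cfsg.IsElementaryAbelian p B :=
      ⟨⟨⟨fun b c => Subtype.ext (hcomm b (hBA b.2) c (hBA c.2))⟩⟩, hBp⟩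
    have hBQ : B ⊓ Subgroup.centralizer (Q : Set H) = ⊥ := by
      rw [eq_bot_iff, ← hAQ]
      exact inf_le_inf_right _ hBA
    have hIH := ih B (by omega) hBel hBQ
    have hle : fix φ A ≤ fix φ B := fun v hv b hb => hv b (hBA hb)
    have hnle : ¬ fix φ B ≤ fix φ A := by
      intro hcon
      -- the commutator of `x` and `a`
      set r : H := (x : H)⁻¹ * a * x * (a : H)⁻¹ with hr
      have hxb : ∀ b ∈ B, b * (x : H) = x * b := by
        rintro _ ⟨b, hb, rfl⟩
        have := congrArg Subtype.val (hxB b hb)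
        rw [hψ, mul_inv_eq_iff_eq_mul] at this
        exact this
      have hab : ∀ b ∈ B, b * (a : H) = a * b := fun b hb => hcomm b (hBA hb) a a.2
      have hrQ : r ∈ Q := by
        have h1 : (a : H) * x * (a : H)⁻¹ ∈ Q := hQn.conj_mem x x.2 a
        have h2 := Q.mul_mem (Q.inv_mem x.2) h1
        rw [hr]
        convert h2 using 1
        group
      have hr1 : r ≠ 1 := by
        intro h
        apply hxa
        apply Subtype.ext
        rw [hψ]
        rw [hr] at h
        have : (x : H)⁻¹ * ((a : H) * x * (a : H)⁻¹) = 1 := by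
          rw [← h]; group
        rw [inv_mul_eq_one] at this
        exact this.symm
      have hrB : ∀ b ∈ B, r * b = b * r := by
        intro b hb
        have c1 : Commute b (x : H) := hxb b hb
        have c2 : Commute b (a : H) := hab b hb
        have c3 : Commute b r := ((c1.inv_right.mul_right c2).mul_right c1).mul_right c2.inv_right
        exact c3.symm.eq
      have hord : (orderOf r).Coprime p := by
        have h1 : orderOf (⟨r, hrQ⟩ : Q) ∣ Nat.card Q := orderOf_dvd_natCard _
        rw [Subgroup.orderOf_mk] at h1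
        exact Nat.Coprime.coprime_dvd_left h1 hQ
      have hfixr : ∀ v ∈ fix φ B, φ r v = v := by
        intro v hv
        have hvA : v ∈ fix φ A := hcon hv
        have h1 : φ (a : H)⁻¹ v = v := hvA _ (A.inv_mem a.2)
        have hxv : φ (x : H) v ∈ fix φ B := by
          intro b hb
          rw [← MulAut.mul_apply, ← map_mul, hxb b hb, map_mul, MulAut.mul_apply, hv b hb]
        have h2 : φ (a : H) (φ (x : H) v) = φ (x : H) v := hcon hxv a a.2
        rw [hr, map_mul, map_mul, map_mul, MulAut.mul_apply, MulAut.mul_apply, MulAut.mul_apply, h1, h2,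
          ← MulAut.mul_apply, ← map_mul, inv_mul_cancel, map_one, MulAut.one_apply]
      exact hr1 (hQV r hrQ (trivial_of_trivial_on_fix φ hV B hBpg r hord hrB hfixr))
    -- the index of `fix A` in `fix B` is at least `p`
    have hindex : Nat.card (fix φ A) * p ≤ Nat.card (fix φ B) := by
      have h1 : Nat.card (fix φ A) * (fix φ A).relIndex (fix φ B) = Nat.card (fix φ B) := by
        have := Subgroup.relIndex_mul_relIndex ⊥ (fix φ A) (fix φ B) bot_le hle
        rwa [Subgroup.relIndex_bot_left, Subgroup.relIndex_bot_left] at this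
      have h2 : (fix φ A).relIndex (fix φ B) ≠ 1 := by
        intro h
        exact hnle (Subgroup.relIndex_eq_one.mp h)
      have h3 : ∃ k, (fix φ A).relIndex (fix φ B) = p ^ k := by
        have h4 : (fix φ A).relIndex (fix φ B) ∣ Nat.card V :=
          (Dvd.intro_left _ h1).trans (Subgroup.card_subgroup_dvd_card _)
        obtain ⟨m, hm⟩ := hV.exists_card_eq
        rw [hm] at h4
        obtain ⟨k, _, hk⟩ := (Nat.dvd_prime_pow hp.out).mp h4
        exact ⟨k, hk⟩
      obtain ⟨k, hk⟩ := h3
      have h5 : p ≤ (fix φ A).relIndex (fix φ B) := by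
        rw [hk]
        rcases Nat.eq_zero_or_pos k with h0 | hkpos
        · rw [hk, h0, pow_zero] at h2
          exact absurd rfl h2
        · exact Nat.le_self_pow hkpos.ne' p
      calc Nat.card (fix φ A) * p ≤ Nat.card (fix φ A) * (fix φ A).relIndex (fix φ B) :=
            Nat.mul_le_mul_left _ h5
        _ = _ := h1
    calc Nat.card A * Nat.card (fix φ A) = Nat.card B * (Nat.card (fix φ A) * p) := by
          rw [← hBcard]; ring
      _ ≤ Nat.card B * Nat.card (fix φ B) := Nat.mul_le_mul_left _ hindex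
      _ ≤ Nat.card V := hIH

end Cfsg.Agent.PLocal.OffenderBound
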