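import Mathlib.GroupTheory.Sylow
import Mathlib.GroupTheory.Nilpotent
import Mathlib.GroupTheory.Subgroup.Centralizer
import Cfsg.Prelude.Def_Transfer
import Cfsg.Prelude.Def_PLocal
import Cfsg.Agent.PLocal.SylowFixed

set_option autoImplicit false

open scoped commutatorElement

/-! Helpers for the Timmesfeld replacement theorem (best offenders on an abelian subgroup `V`). -/

namespace Cfsg.Agent.PLocal.Timmesfeld

/-- If `A` acts on `V` by conjugation with `A' ≤ C(V)`, then the conjugations by elements of `A` commute. -/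
theorem conj_conj_comm {G : Type*} [Group G] {V A : Subgroup G}
    (hAA : ⁅A, A⁆ ≤ Subgroup.centralizer (V : Set G)) {a b v : G} (ha : a ∈ A) (hb : b ∈ A) (hv : v ∈ V) :
    a * (b * v * b⁻¹) * a⁻¹ = b * (a * v * a⁻¹) * b⁻¹ := by
  have h1 : ⁅b⁻¹, a⁻¹⁆ ∈ Subgroup.centralizer (V : Set G) :=
    hAA (Subgroup.commutator_mem_commutator (inv_mem hb) (inv_mem ha))
  have h2 := Subgroup.mem_centralizer_iff.1 h1 v hv
  calc a * (b * v * b⁻¹) * a⁻¹ = a * b * (v * ⁅b⁻¹, a⁻¹⁆) * (b * a)⁻¹ := by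
        rw [commutatorElement_def]; group
    _ = a * b * (⁅b⁻¹, a⁻¹⁆ * v) * (b * a)⁻¹ := by rw [h2]
    _ = b * (a * v * a⁻¹) * b⁻¹ := by rw [commutatorElement_def]; group

/-- `|B₁| |B₂| ≤ |B₁ ∩ B₂| |B₃|` for subgroups `B₁, B₂ ≤ B₃` of a finite group. -/
theorem card_mul_card_le {G : Type*} [Group G] [Finite G] {B₁ B₂ B₃ : Subgroup G} (h₁ : B₁ ≤ B₃)
    (h₂ : B₂ ≤ B₃) :
    Nat.card B₁ * Nat.card B₂ ≤ Nat.card (B₁ ⊓ B₂ : Subgroup G) * Nat.card B₃ := by
  have e1 : Nat.card (B₁ ⊓ B₂ : Subgroup G) * B₂.relIndex B₁ = Nat.card B₁ := by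
    have h := Subgroup.relIndex_mul_relIndex (⊥ : Subgroup G) (B₁ ⊓ B₂) B₁ bot_le inf_le_left
    rw [Subgroup.relIndex_bot_left, Subgroup.relIndex_bot_left, Subgroup.inf_relIndex_left] at h
    exact h
  have e2 : Nat.card B₂ * B₂.relIndex B₃ = Nat.card B₃ := by
    have h := Subgroup.relIndex_mul_relIndex (⊥ : Subgroup G) B₂ B₃ bot_le h₂
    rw [Subgroup.relIndex_bot_left, Subgroup.relIndex_bot_left] at h
    exact h
  have e3 : B₂.relIndex B₁ ≤ B₂.relIndex B₃ := by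
    refine Subgroup.relIndex_le_of_le_right h₁ ?_
    intro h0
    rw [h0, mul_zero] at e2
    exact (Nat.card_pos (α := B₃)).ne e2
  calc Nat.card B₁ * Nat.card B₂ = Nat.card (B₁ ⊓ B₂ : Subgroup G) * (Nat.card B₂ * B₂.relIndex B₁) := by
        rw [← e1]; ring
    _ ≤ Nat.card (B₁ ⊓ B₂ : Subgroup G) * (Nat.card B₂ * B₂.relIndex B₃) := by gcongr
    _ = _ := by rw [e2]

/-- The measure `|C_A(W)| |W|`. -/
noncomputable def meas {G : Type*} [Group G] (A W : Subgroup G) : ℕ :=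
  Nat.card (A ⊓ Subgroup.centralizer (W : Set G) : Subgroup G) * Nat.card W

theorem meas_def {G : Type*} [Group G] (A W : Subgroup G) : meas A W =
    Nat.card (A ⊓ Subgroup.centralizer (W : Set G) : Subgroup G) * Nat.card W := rfl

theorem centralizer_sup {G : Type*} [Group G] (W₁ W₂ : Subgroup G) :
    Subgroup.centralizer ((W₁ ⊔ W₂ : Subgroup G) : Set G) =
      Subgroup.centralizer (W₁ : Set G) ⊓ Subgroup.centralizer (W₂ : Set G) := by
  refine le_antisymm (le_inf (Subgroup.centralizer_le ?_) (Subgroup.centralizer_le ?_)) ?_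
  · exact SetLike.coe_subset_coe.2 le_sup_left
  · exact SetLike.coe_subset_coe.2 le_sup_right
  · rintro g ⟨h1, h2⟩
    have : W₁ ⊔ W₂ ≤ Subgroup.centralizer ({g} : Set G) := by
      refine sup_le ?_ ?_
      · intro w hw
        rw [Subgroup.mem_centralizer_singleton_iff]
        exact Subgroup.mem_centralizer_iff.1 h1 w hw
      · intro w hw
        rw [Subgroup.mem_centralizer_singleton_iff]
        exact Subgroup.mem_centralizer_iff.1 h2 w hw
    rw [Subgroup.mem_centralizer_iff]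
    intro w hw
    exact Subgroup.mem_centralizer_singleton_iff.1 (this hw)

/-- Supermodularity of the measure. -/
theorem meas_mul_meas_le {G : Type*} [Group G] [Finite G] (A W₁ W₂ : Subgroup G) :
    meas A W₁ * meas A W₂ ≤ meas A (W₁ ⊔ W₂) * meas A (W₁ ⊓ W₂) := by
  have h1 : Nat.card (A ⊓ Subgroup.centralizer (W₁ : Set G) : Subgroup G) *
      Nat.card (A ⊓ Subgroup.centralizer (W₂ : Set G) : Subgroup G) ≤
      Nat.card (A ⊓ Subgroup.centralizer ((W₁ ⊔ W₂ : Subgroup G) : Set G) : Subgroup G) *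
      Nat.card (A ⊓ Subgroup.centralizer ((W₁ ⊓ W₂ : Subgroup G) : Set G) : Subgroup G) := by
    have h := card_mul_card_le
      (B₁ := A ⊓ Subgroup.centralizer (W₁ : Set G)) (B₂ := A ⊓ Subgroup.centralizer (W₂ : Set G))
      (B₃ := A ⊓ Subgroup.centralizer ((W₁ ⊓ W₂ : Subgroup G) : Set G))
      (inf_le_inf_left _ (Subgroup.centralizer_le (SetLike.coe_subset_coe.2 inf_le_left)))
      (inf_le_inf_left _ (Subgroup.centralizer_le (SetLike.coe_subset_coe.2 inf_le_right)))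
    rwa [← inf_inf_distrib_left, ← centralizer_sup] at h
  have h2 : Nat.card W₁ * Nat.card W₂ ≤
      Nat.card (W₁ ⊓ W₂ : Subgroup G) * Nat.card (W₁ ⊔ W₂ : Subgroup G) :=
    card_mul_card_le le_sup_left le_sup_right
  rw [meas_def, meas_def, meas_def, meas_def]
  calc _ = (Nat.card (A ⊓ Subgroup.centralizer (W₁ : Set G) : Subgroup G) *
      Nat.card (A ⊓ Subgroup.centralizer (W₂ : Set G) : Subgroup G)) *
        (Nat.card W₁ * Nat.card W₂) := by ring
    _ ≤ _ := Nat.mul_le_mul h1 h2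
    _ = _ := by ring

/-- The subgroup generated by the commutators `[u, a]`, `a ∈ A`. -/
def elemComm {G : Type*} [Group G] (A : Subgroup G) (u : G) : Subgroup G :=
  Subgroup.closure {g : G | ∃ a ∈ A, ⁅u, a⁆ = g}

theorem elemComm_def {G : Type*} [Group G] (A : Subgroup G) (u : G) :
  elemComm A u = Subgroup.closure {g : G | ∃ a ∈ A, ⁅u, a⁆ = g} := rfl

theorem commutator_mem_of_mem {G : Type*} [Group G] {V A : Subgroup G}
    (hAV : A ≤ Subgroup.normalizer (V : Set G)) {u a : G} (hu : u ∈ V) (ha : a ∈ A) : ⁅u, a⁆ ∈ V := by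
  rw [commutatorElement_def, mul_assoc, mul_assoc]
  refine mul_mem hu ?_
  rw [← mul_assoc]
  exact (Subgroup.mem_normalizer_iff.1 (hAV ha) _).1 (inv_mem hu)

theorem elemComm_le {G : Type*} [Group G] {V A : Subgroup G}
    (hAV : A ≤ Subgroup.normalizer (V : Set G)) {u : G} (hu : u ∈ V) : elemComm A u ≤ V := by
  refine (Subgroup.closure_le _).2 ?_
  rintro g ⟨a, ha, rfl⟩
  exact commutator_mem_of_mem hAV hu ha

/-- The key computation. -/
theorem key_commute {G : Type*} [Group G] {V A : Subgroup G} (hVc : ∀ x ∈ V, ∀ y ∈ V, x * y = y * x)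
    (hAV : A ≤ Subgroup.normalizer (V : Set G)) (hAA : ⁅A, A⁆ ≤ Subgroup.centralizer (V : Set G))
    {u a b c : G} (hu : u ∈ V) (ha : a ∈ A) (hb : b ∈ A) (hc : c ∈ A)
    (h : c * (⁅u, a⁆⁻¹ * ⁅u, b⁆) = ⁅u, a⁆⁻¹ * ⁅u, b⁆ * c) :
    (a⁻¹ * b) * ⁅u, c⁆ = ⁅u, c⁆ * (a⁻¹ * b) := by
  have hconj : ∀ {x v : G}, x ∈ A → v ∈ V → x * v * x⁻¹ ∈ V := fun hx hv =>
    (Subgroup.mem_normalizer_iff.1 (hAV hx) _).1 hv
  -- abbreviations: images of `u` under `a`, `b`, `c`
  have hau := hconj ha hu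
  have hbu := hconj hb hu
  have hcu := hconj hc hu
  -- `c` fixes `(a • u) * (b • u)⁻¹`
  have h1 : ⁅u, a⁆⁻¹ * ⁅u, b⁆ = (a * u * a⁻¹) * (b * u * b⁻¹)⁻¹ := by
    rw [commutatorElement_def, commutatorElement_def]
    group
  rw [h1] at h
  have h2 : (c * (a * u * a⁻¹) * c⁻¹) * (c * (b * u * b⁻¹) * c⁻¹)⁻¹ =
      (a * u * a⁻¹) * (b * u * b⁻¹)⁻¹ := by
    calc _ = (c * ((a * u * a⁻¹) * (b * u * b⁻¹)⁻¹)) * c⁻¹ := by group
      _ = ((a * u * a⁻¹) * (b * u * b⁻¹)⁻¹) * c * c⁻¹ := by rw [h]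
      _ = _ := by group
  rw [conj_conj_comm hAA hc ha hu, conj_conj_comm hAA hc hb hu] at h2
  have hacu := hconj ha hcu
  have hbcu := hconj hb hcu
  -- now `(a • c • u) * (b • c • u)⁻¹ = (a • u) * (b • u)⁻¹`
  have h3 : a * (c * u * c⁻¹) * a⁻¹ * (a * u * a⁻¹)⁻¹ = b * (c * u * c⁻¹) * b⁻¹ * (b * u * b⁻¹)⁻¹ := by
    have h4 : a * (c * u * c⁻¹) * a⁻¹ = ((a * u * a⁻¹) * (b * u * b⁻¹)⁻¹) * (b * (c * u * c⁻¹) * b⁻¹) := by
      rw [← h2]; group
    have h5 := hVc _ (mul_mem (mul_mem (inv_mem hbu) hbcu) (inv_mem hau)) _ hau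
    have h6 := hVc _ (inv_mem hbu) _ hbcu
    calc a * (c * u * c⁻¹) * a⁻¹ * (a * u * a⁻¹)⁻¹ =
          (a * u * a⁻¹) * ((b * u * b⁻¹)⁻¹ * (b * (c * u * c⁻¹) * b⁻¹) * (a * u * a⁻¹)⁻¹) := by
            rw [h4]; group
      _ = ((b * u * b⁻¹)⁻¹ * (b * (c * u * c⁻¹) * b⁻¹) * (a * u * a⁻¹)⁻¹) * (a * u * a⁻¹) := h5.symm
      _ = (b * u * b⁻¹)⁻¹ * (b * (c * u * c⁻¹) * b⁻¹) := by group
      _ = _ := h6
  -- so `a • ((c • u) * u⁻¹) = b • ((c • u) * u⁻¹)`
  have h5 : a * ⁅u, c⁆⁻¹ * a⁻¹ = b * ⁅u, c⁆⁻¹ * b⁻¹ := by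
    have e : ⁅u, c⁆⁻¹ = (c * u * c⁻¹) * u⁻¹ := by rw [commutatorElement_def]; group
    rw [e]
    calc a * ((c * u * c⁻¹) * u⁻¹) * a⁻¹ = a * (c * u * c⁻¹) * a⁻¹ * (a * u * a⁻¹)⁻¹ := by group
      _ = b * (c * u * c⁻¹) * b⁻¹ * (b * u * b⁻¹)⁻¹ := h3
      _ = _ := by group
  have h6 : a * ⁅u, c⁆ * a⁻¹ = b * ⁅u, c⁆ * b⁻¹ := by
    have := congrArg (·⁻¹) h5
    simpa [mul_assoc] using this
  calc (a⁻¹ * b) * ⁅u, c⁆ = a⁻¹ * (b * ⁅u, c⁆ * b⁻¹) * b := by group
    _ = a⁻¹ * (a * ⁅u, c⁆ * a⁻¹) * b := by rw [h6]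
    _ = _ := by group

/-- `|A| |C_V(A)| ≤ |C_A(W)| |W|` for `W = [u, A] C_V(A)`. -/
theorem le_meas_elemComm {G : Type*} [Group G] [Finite G] {V A : Subgroup G}
    (hVc : ∀ x ∈ V, ∀ y ∈ V, x * y = y * x)
    (hAV : A ≤ Subgroup.normalizer (V : Set G)) (hAA : ⁅A, A⁆ ≤ Subgroup.centralizer (V : Set G))
    {u : G} (hu : u ∈ V) :
    Nat.card A * Nat.card (V ⊓ Subgroup.centralizer (A : Set G) : Subgroup G) ≤
      meas A (elemComm A u ⊔ (V ⊓ Subgroup.centralizer (A : Set G))) := by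
  set C : Subgroup G := V ⊓ Subgroup.centralizer (A : Set G) with hC
  set W : Subgroup G := elemComm A u ⊔ C with hW
  set B : Subgroup G := A ⊓ Subgroup.centralizer (W : Set G) with hB
  have e1 : Nat.card B * B.relIndex A = Nat.card A := by
    have h := Subgroup.relIndex_mul_relIndex (⊥ : Subgroup G) B A bot_le inf_le_left
    rw [Subgroup.relIndex_bot_left, Subgroup.relIndex_bot_left] at h
    exact h
  have e2 : Nat.card C * C.relIndex W = Nat.card W := by
    have h := Subgroup.relIndex_mul_relIndex (⊥ : Subgroup G) C W bot_le le_sup_right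
    rw [Subgroup.relIndex_bot_left, Subgroup.relIndex_bot_left] at h
    exact h
  have hmem : ∀ a : A, ⁅u, (a : G)⁆ ∈ W := fun a =>
    Subgroup.mem_sup_left (Subgroup.subset_closure ⟨a, a.2, rfl⟩)
  have e3 : B.relIndex A ≤ C.relIndex W := by
    refine Nat.card_le_card_of_injective
      (fun q : A ⧸ B.subgroupOf A => (QuotientGroup.mk ⟨⁅u, (q.out : G)⁆, hmem q.out⟩ : W ⧸ C.subgroupOf W)) ?_
    intro q q' hqq
    have h1 : (⁅u, (q.out : G)⁆⁻¹ * ⁅u, (q'.out : G)⁆) ∈ C := by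
      have := QuotientGroup.eq.1 hqq
      rw [Subgroup.mem_subgroupOf] at this
      exact this
    have h2 : ((q.out : G)⁻¹ * (q'.out : G)) ∈ B := by
      refine Subgroup.mem_inf.2 ⟨mul_mem (inv_mem q.out.2) q'.out.2, ?_⟩
      have h3 : W ≤ Subgroup.centralizer ({(q.out : G)⁻¹ * (q'.out : G)} : Set G) := by
        refine sup_le ((Subgroup.closure_le _).2 ?_) ?_
        · rintro x ⟨c, hc, rfl⟩
          rw [SetLike.mem_coe, Subgroup.mem_centralizer_singleton_iff]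
          exact (key_commute hVc hAV hAA hu q.out.2 q'.out.2 hc
            (Subgroup.mem_centralizer_iff.1 h1.2 c hc)).symm
        · intro x hx
          rw [Subgroup.mem_centralizer_singleton_iff]
          exact (Subgroup.mem_centralizer_iff.1 hx.2 _ (mul_mem (inv_mem q.out.2) q'.out.2)).symm
      rw [Subgroup.mem_centralizer_iff]
      intro x hx
      exact Subgroup.mem_centralizer_singleton_iff.1 (h3 hx)
    have h4 : (QuotientGroup.mk q.out : A ⧸ B.subgroupOf A) = QuotientGroup.mk q'.out := by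
      refine QuotientGroup.eq.2 ?_
      rw [Subgroup.mem_subgroupOf]
      exact h2
    rwa [QuotientGroup.out_eq', QuotientGroup.out_eq'] at h4
  rw [meas_def]
  calc Nat.card A * Nat.card C = Nat.card B * B.relIndex A * Nat.card C := by rw [e1]
    _ ≤ Nat.card B * C.relIndex W * Nat.card C := by gcongr
    _ = Nat.card B * (Nat.card C * C.relIndex W) := by ring
    _ = _ := by rw [e2]

/-- A subgroup `W` of the nilpotent subgroup `H` with `W ≤ [W, H]` is trivial. -/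
theorem eq_bot_of_le_commutator {G : Type*} [Group G] {H W : Subgroup G} (hH : Group.IsNilpotent H)
    (hWH : W ≤ H) (hW : W ≤ ⁅W, H⁆) : W = ⊥ := by
  obtain ⟨n, hn⟩ := (Subgroup.isNilpotent_iff_lowerCentralSeries H).1 hH
  have h : ∀ k, W ≤ H.lowerCentralSeries k := by
    intro k
    induction k with
    | zero => exact hWH
    | succ k ih => exact hW.trans (Subgroup.commutator_mono ih le_rfl)
  exact le_bot_iff.1 (hn ▸ h n)

/-- If `A` normalizes the elementary abelian `p`-group `V`, `p`-th powers of elements of `A` centralize `V` and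
`V = [V, A] C_V(A)`, then `[V, A] = 1`. -/
theorem commutator_eq_bot_aux {G : Type*} [Group G] [Finite G] {p : ℕ} [Fact p.Prime] {V A : Subgroup G}
    (hV : Cfsg.IsElementaryAbelian p V) (hAV : A ≤ Subgroup.normalizer (V : Set G))
    (hAp : ∀ a ∈ A, a ^ p ∈ Subgroup.centralizer (V : Set G))
    (h1 : V ≤ ⁅V, A⁆ ⊔ (V ⊓ Subgroup.centralizer (A : Set G))) : ⁅V, A⁆ = ⊥ := by
  have hVc : ∀ x ∈ V, ∀ y ∈ V, x * y = y * x := fun x hx y hy =>
    congrArg Subtype.val (hV.1.1.1 (⟨x, hx⟩ : V) (⟨y, hy⟩ : V))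
  have hVA : ⁅V, A⁆ ≤ V := by
    rw [Subgroup.commutator_le]
    intro u hu a ha
    exact commutator_mem_of_mem hAV hu ha
  have hnorm : ((Subgroup.centralizer (V : Set G)).subgroupOf A).Normal := by
    constructor
    intro n hn g
    rw [Subgroup.mem_subgroupOf, Subgroup.mem_centralizer_iff] at hn ⊢
    intro v hv
    have hv' : (g : G)⁻¹ * v * (g : G) ∈ V := by
      have := (Subgroup.mem_normalizer_iff.1 (hAV (inv_mem g.2)) v).1 hv
      rwa [inv_inv] at this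
    have := hn _ hv'
    push_cast
    calc v * ((g : G) * n * (g : G)⁻¹) = g * (((g : G)⁻¹ * v * (g : G)) * n) * (g : G)⁻¹ := by group
      _ = g * (n * ((g : G)⁻¹ * v * (g : G))) * (g : G)⁻¹ := by rw [this]
      _ = _ := by group
  obtain ⟨P⟩ : Nonempty (Sylow p A) := inferInstance
  have hquot : IsPGroup p (A ⧸ (Subgroup.centralizer (V : Set G)).subgroupOf A) := by
    intro q
    obtain ⟨a, rfl⟩ := QuotientGroup.mk_surjective q
    refine ⟨1, ?_⟩
    rw [pow_one, ← QuotientGroup.mk_pow, QuotientGroup.eq_one_iff, Subgroup.mem_subgroupOf]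
    push_cast
    exact hAp a a.2
  have hdec : ∀ a ∈ A, ∃ s ∈ (P : Subgroup A).map A.subtype, ∃ c ∈ Subgroup.centralizer (V : Set G),
      a = s * c := by
    intro a ha
    obtain ⟨s, hs, c, hc, hsc⟩ := Cfsg.Agent.PLocal.SylowFixed.exists_mul_of_mk_mem
      ((Subgroup.centralizer (V : Set G)).subgroupOf A) ⊤ (hquot.to_subgroup ⊤) P
      (g := ⟨a, ha⟩) (Subgroup.mem_top _)
    refine ⟨s, ⟨s, hs, rfl⟩, c, hc, ?_⟩
    exact congrArg Subtype.val hsc
  set P' : Subgroup G := (P : Subgroup A).map A.subtype with hP'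
  have hP'A : P' ≤ A := Subgroup.map_subtype_le _
  have hP'p : IsPGroup p P' := P.2.map _
  have hVp : IsPGroup p V := fun x => ⟨1, by
    rw [pow_one]
    exact Subtype.ext (hV.2 x x.2)⟩
  have hH : IsPGroup p (V ⊔ P' : Subgroup G) := hVp.to_sup_of_normal_left' hP'p (hP'A.trans hAV)
  have hnil : Group.IsNilpotent (V ⊔ P' : Subgroup G) := hH.isNilpotent
  refine eq_bot_of_le_commutator hnil (hVA.trans le_sup_left) ?_
  -- the subgroup of those `v ∈ V` with `[v, A] ≤ [[V, A], P']`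
  let K : Subgroup G :=
    { carrier := {v | v ∈ V ∧ ∀ a ∈ A, ⁅v, a⁆ ∈ ⁅⁅V, A⁆, P'⁆}
      one_mem' := ⟨one_mem _, fun a _ => by rw [commutatorElement_one_left]; exact one_mem _⟩
      mul_mem' := by
        rintro x y ⟨hx, hx'⟩ ⟨hy, hy'⟩
        refine ⟨mul_mem hx hy, fun a ha => ?_⟩
        have e : ⁅x * y, a⁆ = ⁅y, a⁆ * ⁅x, a⁆ := by
          have := hVc x hx _ (commutator_mem_of_mem hAV hy ha)
          calc ⁅x * y, a⁆ = (x * ⁅y, a⁆) * x⁻¹ * ⁅x, a⁆ := by
                simp only [commutatorElement_def]; group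
            _ = (⁅y, a⁆ * x) * x⁻¹ * ⁅x, a⁆ := by rw [this]
            _ = _ := by group
        rw [e]
        exact mul_mem (hy' a ha) (hx' a ha)
      inv_mem' := by
        rintro x ⟨hx, hx'⟩
        refine ⟨inv_mem hx, fun a ha => ?_⟩
        have e : ⁅x⁻¹, a⁆ = ⁅x, a⁆⁻¹ := by
          have := hVc x⁻¹ (inv_mem hx) _ (inv_mem (commutator_mem_of_mem hAV hx ha))
          calc ⁅x⁻¹, a⁆ = (x⁻¹ * ⁅x, a⁆⁻¹) * x := by
                simp only [commutatorElement_def]; group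
            _ = (⁅x, a⁆⁻¹ * x⁻¹) * x := by rw [this]
            _ = _ := by group
        rw [e]
        exact inv_mem (hx' a ha) }
  have hVK : V ≤ K := by
    refine h1.trans (sup_le ?_ ?_)
    · intro w hw
      refine ⟨hVA hw, fun a ha => ?_⟩
      obtain ⟨s, hs, c, hc, rfl⟩ := hdec a ha
      have e : ⁅w, s * c⁆ = ⁅w, s⁆ := by
        have := Subgroup.mem_centralizer_iff.1 hc w (hVA hw)
        calc ⁅w, s * c⁆ = w * s * (c * w⁻¹) * c⁻¹ * s⁻¹ := by
              simp only [commutatorElement_def]; group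
          _ = w * s * (w⁻¹ * c) * c⁻¹ * s⁻¹ := by
              rw [show c * w⁻¹ = w⁻¹ * c by
                rw [mul_inv_eq_iff_eq_mul, mul_assoc, ← this, inv_mul_cancel_left]]
          _ = _ := by simp only [commutatorElement_def]; group
      rw [e]
      exact Subgroup.commutator_mem_commutator hw hs
    · rintro c ⟨hcV, hcA⟩
      refine ⟨hcV, fun a ha => ?_⟩
      have : ⁅c, a⁆ = 1 := by
        rw [commutatorElement_eq_one_iff_mul_comm]
        exact (Subgroup.mem_centralizer_iff.1 hcA a ha).symm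
      rw [this]
      exact one_mem _
  have h2 : ⁅V, A⁆ ≤ ⁅⁅V, A⁆, P'⁆ := by
    rw [Subgroup.commutator_le (H₃ := ⁅⁅V, A⁆, P'⁆)]
    intro v hv a ha
    exact (hVK hv).2 a ha
  exact h2.trans (Subgroup.commutator_mono le_rfl le_sup_right)

end Cfsg.Agent.PLocal.Timmesfeld
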