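import Mathlib
import Cfsg.Agent.PLocal.Timmesfeld

set_option autoImplicit false

/-!
# Quadratic offenders for groups of automorphisms of an elementary abelian 2-group

For a subgroup `B` of `MulAut V` (`V` a finite abelian group): fixed points `fixV B`, commutator
`comm B`, best offenders and the Timmesfeld replacement: an abelian 2-group `B ≠ 1` with
`|V| ≤ |B| * |C_V(B)|` contains a quadratic best offender (`exists_good`).
-/

namespace Cfsg.Agent.PLocal.SFourBasic

universe u v

section defs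

variable {V : Type v} [CommGroup V]

/-- The fixed points in `V` of a group of automorphisms. -/
def fixV (B : Subgroup (MulAut V)) : Subgroup V where
  carrier := {v | ∀ b ∈ B, b v = v}
  one_mem' := fun b _ => map_one b
  mul_mem' := by
    intro x y hx hy b hb
    rw [map_mul, hx b hb, hy b hb]
  inv_mem' := by
    intro x hx b hb
    rw [map_inv, hx b hb]

theorem mem_fixV {B : Subgroup (MulAut V)} {v : V} : v ∈ fixV B ↔ ∀ b ∈ B, b v = v := Iff.rfl

theorem fixV_anti {A B : Subgroup (MulAut V)} (h : A ≤ B) : fixV B ≤ fixV A :=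
  fun _ hv b hb => hv b (h hb)

theorem fixV_bot : fixV (⊥ : Subgroup (MulAut V)) = ⊤ := by
  rw [eq_top_iff]
  intro v _ b hb
  rw [Subgroup.mem_bot.1 hb, MulAut.one_apply]

/-- The elements of `B` fixing `W` pointwise. -/
def cen (B : Subgroup (MulAut V)) (W : Subgroup V) : Subgroup (MulAut V) where
  carrier := {b | b ∈ B ∧ ∀ w ∈ W, b w = w}
  one_mem' := ⟨one_mem _, fun _ _ => rfl⟩
  mul_mem' := by
    rintro x y ⟨hx, hx'⟩ ⟨hy, hy'⟩
    refine ⟨mul_mem hx hy, fun w hw => ?_⟩
    rw [MulAut.mul_apply, hy' w hw, hx' w hw]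
  inv_mem' := by
    rintro x ⟨hx, hx'⟩
    refine ⟨inv_mem hx, fun w hw => ?_⟩
    conv_lhs => rw [← hx' w hw]
    exact MulAut.inv_apply_self V x w

theorem mem_cen {B : Subgroup (MulAut V)} {W : Subgroup V} {b : MulAut V} :
    b ∈ cen B W ↔ b ∈ B ∧ ∀ w ∈ W, b w = w := Iff.rfl

theorem cen_le (B : Subgroup (MulAut V)) (W : Subgroup V) : cen B W ≤ B := fun _ h => h.1

theorem cen_anti (B : Subgroup (MulAut V)) {W W' : Subgroup V} (h : W ≤ W') :
    cen B W' ≤ cen B W := fun _ hb => ⟨hb.1, fun w hw => hb.2 w (h hw)⟩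

theorem cen_sup (B : Subgroup (MulAut V)) (W W' : Subgroup V) :
    cen B (W ⊔ W') = cen B W ⊓ cen B W' := by
  apply le_antisymm
  · exact le_inf (cen_anti B le_sup_left) (cen_anti B le_sup_right)
  · rintro b ⟨⟨hb, h1⟩, -, h2⟩
    refine ⟨hb, fun w hw => ?_⟩
    obtain ⟨x, hx, y, hy, rfl⟩ := Subgroup.mem_sup.1 hw
    rw [map_mul, h1 x hx, h2 y hy]

theorem le_fixV_cen (B : Subgroup (MulAut V)) (W : Subgroup V) : W ≤ fixV (cen B W) :=
  fun w hw _ hb => hb.2 w hw

/-- `[v, B]` -/
def commv (B : Subgroup (MulAut V)) (v : V) : Subgroup V :=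
  Subgroup.closure {g | ∃ b ∈ B, b v * v⁻¹ = g}

theorem mem_commv {B : Subgroup (MulAut V)} {v : V} {b : MulAut V} (hb : b ∈ B) :
    b v * v⁻¹ ∈ commv B v := Subgroup.subset_closure ⟨b, hb, rfl⟩

theorem commv_le {B : Subgroup (MulAut V)} {v : V} {W : Subgroup V} :
    commv B v ≤ W ↔ ∀ b ∈ B, b v * v⁻¹ ∈ W := by
  constructor
  · intro h b hb
    exact h (mem_commv hb)
  · intro h
    refine (Subgroup.closure_le _).2 ?_
    rintro g ⟨b, hb, rfl⟩
    exact h b hb

/-- `[V, B]` -/
def comm (B : Subgroup (MulAut V)) : Subgroup V := ⨆ v : V, commv B v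

theorem mem_comm {B : Subgroup (MulAut V)} {b : MulAut V} (hb : b ∈ B) (v : V) :
    b v * v⁻¹ ∈ comm B := le_iSup (commv B) v (mem_commv hb)

theorem comm_le {B : Subgroup (MulAut V)} {W : Subgroup V} :
    comm B ≤ W ↔ ∀ b ∈ B, ∀ v, b v * v⁻¹ ∈ W := by
  constructor
  · intro h b hb v
    exact h (mem_comm hb v)
  · intro h
    exact iSup_le fun v => commv_le.2 fun b hb => h b hb v

/-- Quadratic best offenders. -/
structure Good (B : Subgroup (MulAut V)) : Prop where
  ne : B ≠ ⊥
  quad : ∀ a ∈ B, ∀ b ∈ B, ∀ v : V, a (b v * v⁻¹) = b v * v⁻¹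
  off : Nat.card V ≤ Nat.card B * Nat.card (fixV B)
  best : ∀ E ≤ B, Nat.card E * Nat.card (fixV E) ≤ Nat.card B * Nat.card (fixV B)

end defs

section timmesfeld

variable {V : Type v} [CommGroup V] [Finite V]

/-- The key counting inequality. -/
theorem card_le_commv (B : Subgroup (MulAut V)) (hB : ∀ a ∈ B, ∀ b ∈ B, a * b = b * a) (v : V) :
    Nat.card B * Nat.card (fixV B) ≤
      Nat.card (cen B (commv B v ⊔ fixV B)) * Nat.card (commv B v ⊔ fixV B : Subgroup V) := by
  classical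
  set F := fixV B with hF
  set W := commv B v ⊔ F with hW
  set E := cen B W with hE
  have hFW : F ≤ W := le_sup_right
  -- the map
  let Q := ↥W ⧸ (F.subgroupOf W)
  let f : B → Q := fun b =>
    QuotientGroup.mk (⟨(b : MulAut V) v * v⁻¹, (le_sup_left : commv B v ≤ W) (mem_commv b.2)⟩ : W)
  have hf : ∀ b b' : B, f b = f b' → (b : MulAut V)⁻¹ * b' ∈ E := by
    intro b b' h
    have h1 : ((b : MulAut V) v * v⁻¹)⁻¹ * ((b' : MulAut V) v * v⁻¹) ∈ F := by
      have h2 := QuotientGroup.eq.1 h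
      rw [Subgroup.mem_subgroupOf] at h2
      exact h2
    have h4 : ((b : MulAut V) v)⁻¹ * (b' : MulAut V) v ∈ F := by
      convert h1 using 1
      rw [mul_inv_rev, inv_inv, mul_assoc, mul_comm v, mul_assoc, mul_assoc,
        inv_mul_cancel, mul_one]
    have h3 : (b : MulAut V)⁻¹ (((b : MulAut V) v)⁻¹ * (b' : MulAut V) v) ∈ F := by
      rw [h4 _ (inv_mem b.2)]
      exact h4
    set c : MulAut V := (b : MulAut V)⁻¹ * b' with hc
    have hcB : c ∈ B := mul_mem (inv_mem b.2) b'.2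
    have h5 : (b : MulAut V)⁻¹ (((b : MulAut V) v)⁻¹ * (b' : MulAut V) v) = c v * v⁻¹ := by
      rw [map_mul, map_inv, MulAut.inv_apply_self, mul_comm]
      rfl
    rw [h5] at h3
    refine ⟨hcB, ?_⟩
    have h6 : W ≤ fixV (Subgroup.zpowers c) := by
      refine sup_le (commv_le.2 ?_) ?_
      · intro a ha
        have h7 : c (a v * v⁻¹) = a v * v⁻¹ := by
          have e1 : c (a v) = a (c v) := by
            rw [← MulAut.mul_apply, ← MulAut.mul_apply, hB c hcB a ha]
          have e2 : a (c v) = (c v * v⁻¹) * a v := by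
            have e3 : c v = (c v * v⁻¹) * v := by rw [inv_mul_cancel_right]
            conv_lhs => rw [e3]
            rw [map_mul, h3 a ha]
          rw [map_mul, map_inv, e1, e2, mul_comm (c v * v⁻¹), mul_assoc, mul_assoc,
            mul_comm v⁻¹, mul_inv_cancel_left]
        rintro b hb
        obtain ⟨k, rfl⟩ := Subgroup.mem_zpowers_iff.1 hb
        exact (Subgroup.zpowers_le (H := MulAction.stabilizer (MulAut V) (a v * v⁻¹)).2 h7)
          (Subgroup.zpow_mem_zpowers c k)
      · exact fixV_anti (Subgroup.zpowers_le.2 hcB)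
    intro w hw
    exact h6 hw c (Subgroup.mem_zpowers c)
  -- count
  have hfib : ∀ q : Q, Nat.card {b : B // f b = q} ≤ Nat.card E := by
    intro q
    by_cases hne : Nonempty {b : B // f b = q}
    · obtain ⟨b₀⟩ := hne
      refine Nat.card_le_card_of_injective
        (fun b => (⟨(b₀.1 : MulAut V)⁻¹ * (b.1 : MulAut V), hf _ _ (b₀.2.trans b.2.symm)⟩ : E)) ?_
      intro b b' hbb
      have := congrArg Subtype.val hbb
      exact Subtype.ext (Subtype.ext (mul_left_cancel this))
    · rw [not_nonempty_iff] at hne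
      rw [Nat.card_of_isEmpty]
      exact Nat.zero_le _
  have hcardB : Nat.card B ≤ Nat.card Q * Nat.card E := by
    have e : B ≃ Σ q : Q, {b : B // f b = q} := (Equiv.sigmaFiberEquiv f).symm
    have : Fintype Q := Fintype.ofFinite Q
    rw [Nat.card_congr e, Nat.card_sigma]
    calc ∑ q : Q, Nat.card {b : B // f b = q} ≤ ∑ _q : Q, Nat.card E :=
          Finset.sum_le_sum fun q _ => hfib q
      _ = Nat.card Q * Nat.card E := by
          rw [Finset.sum_const, Finset.card_univ, smul_eq_mul, ← Nat.card_eq_fintype_card]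
  have hcardW : Nat.card W = Nat.card Q * Nat.card F := by
    have h := Subgroup.card_eq_card_quotient_mul_card_subgroup (F.subgroupOf W)
    rw [h]
    congr 1
    exact Nat.card_congr (Subgroup.subgroupOfEquivOfLe hFW).toEquiv
  calc Nat.card B * Nat.card F ≤ (Nat.card Q * Nat.card E) * Nat.card F :=
        Nat.mul_le_mul_right _ hcardB
    _ = Nat.card E * (Nat.card Q * Nat.card F) := by ring
    _ = Nat.card E * Nat.card W := by rw [hcardW]

/-- submodularity -/
theorem submod (B : Subgroup (MulAut V)) (W₁ W₂ : Subgroup V) :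
    (Nat.card (cen B W₁) * Nat.card W₁) * (Nat.card (cen B W₂) * Nat.card W₂) ≤
      (Nat.card (cen B (W₁ ⊔ W₂)) * Nat.card (W₁ ⊔ W₂ : Subgroup V)) *
        (Nat.card (cen B (W₁ ⊓ W₂)) * Nat.card (W₁ ⊓ W₂ : Subgroup V)) := by
  have h1 := Timmesfeld.card_mul_card_le (B₁ := cen B W₁) (B₂ := cen B W₂)
    (B₃ := cen B (W₁ ⊓ W₂)) (cen_anti B inf_le_left) (cen_anti B inf_le_right)
  have h2 := Timmesfeld.card_mul_card_le (B₁ := W₁) (B₂ := W₂) (B₃ := W₁ ⊔ W₂)
    le_sup_left le_sup_right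
  rw [cen_sup]
  calc _ = (Nat.card (cen B W₁) * Nat.card (cen B W₂)) * (Nat.card W₁ * Nat.card W₂) := by ring
    _ ≤ (Nat.card (cen B W₁ ⊓ cen B W₂ : Subgroup (MulAut V)) * Nat.card (cen B (W₁ ⊓ W₂))) *
        (Nat.card (W₁ ⊓ W₂ : Subgroup V) * Nat.card (W₁ ⊔ W₂ : Subgroup V)) :=
        Nat.mul_le_mul h1 h2
    _ = _ := by ring

theorem le_comm_sup (B : Subgroup (MulAut V)) (hB : ∀ a ∈ B, ∀ b ∈ B, a * b = b * a)
    (best : ∀ E ≤ B, Nat.card E * Nat.card (fixV E) ≤ Nat.card B * Nat.card (fixV B)) :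
    Nat.card B * Nat.card (fixV B) ≤
      Nat.card (cen B (comm B ⊔ fixV B)) * Nat.card (comm B ⊔ fixV B : Subgroup V) := by
  classical
  set m := Nat.card B * Nat.card (fixV B) with hm
  have hmpos : 0 < m := Nat.mul_pos Nat.card_pos Nat.card_pos
  have hle : ∀ W : Subgroup V, Nat.card (cen B W) * Nat.card W ≤ m := fun W =>
    (Nat.mul_le_mul_left _ (Subgroup.card_le_of_le (le_fixV_cen B W))).trans (best _ (cen_le B W))
  have hsup : ∀ W₁ W₂ : Subgroup V, m ≤ Nat.card (cen B W₁) * Nat.card W₁ →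
      m ≤ Nat.card (cen B W₂) * Nat.card W₂ →
      m ≤ Nat.card (cen B (W₁ ⊔ W₂)) * Nat.card (W₁ ⊔ W₂ : Subgroup V) := by
    intro W₁ W₂ h1 h2
    have h3 := submod B W₁ W₂
    have h4 := hle (W₁ ⊓ W₂)
    by_contra hlt
    push Not at hlt
    have h5 : (Nat.card (cen B (W₁ ⊔ W₂)) * Nat.card (W₁ ⊔ W₂ : Subgroup V)) *
        (Nat.card (cen B (W₁ ⊓ W₂)) * Nat.card (W₁ ⊓ W₂ : Subgroup V)) < m * m := by
      refine lt_of_le_of_lt (Nat.mul_le_mul_left _ h4) ?_
      exact Nat.mul_lt_mul_of_pos_right hlt hmpos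
    have h6 : m * m ≤ (Nat.card (cen B W₁) * Nat.card W₁) * (Nat.card (cen B W₂) * Nat.card W₂) :=
      Nat.mul_le_mul h1 h2
    exact absurd (h6.trans h3) (not_le.2 h5)
  -- finite sup
  have : Fintype V := Fintype.ofFinite V
  have key : ∀ s : Finset V, m ≤ Nat.card (cen B ((s.sup (commv B)) ⊔ fixV B)) *
      Nat.card ((s.sup (commv B)) ⊔ fixV B : Subgroup V) := by
    intro s
    induction s using Finset.induction_on with
    | empty =>
      rw [Finset.sup_empty, bot_sup_eq]
      have : cen B (fixV B) = B :=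
        le_antisymm (cen_le B _) fun b hb => ⟨hb, fun w hw => hw b hb⟩
      rw [this]
    | insert v s _ ih =>
      rw [Finset.sup_insert]
      have : commv B v ⊔ s.sup (commv B) ⊔ fixV B =
          (commv B v ⊔ fixV B) ⊔ (s.sup (commv B) ⊔ fixV B) := by
        rw [sup_sup_sup_comm, sup_idem]
      rw [this]
      exact hsup _ _ (card_le_commv B hB v) ih
  have hcomm : (Finset.univ : Finset V).sup (commv B) = comm B := by
    rw [Finset.sup_univ_eq_iSup]
    rfl
  have := key Finset.univ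
  rwa [hcomm] at this

end timmesfeld

section actions

variable {H : Type u} [Group H] {V : Type v} [CommGroup V]

/-- The action on an invariant subgroup. -/
def subHom (φ : H →* MulAut V) (W : Subgroup V) (hW : ∀ h : H, ∀ w ∈ W, φ h w ∈ W) :
    H →* MulAut W where
  toFun h :=
    { toFun := fun w => ⟨φ h w, hW h w w.2⟩
      invFun := fun w => ⟨φ h⁻¹ w, hW h⁻¹ w w.2⟩
      left_inv := fun w => Subtype.ext (by
        show φ h⁻¹ (φ h w) = w
        rw [← MulAut.mul_apply, ← map_mul, inv_mul_cancel, map_one, MulAut.one_apply])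
      right_inv := fun w => Subtype.ext (by
        show φ h (φ h⁻¹ w) = w
        rw [← MulAut.mul_apply, ← map_mul, mul_inv_cancel, map_one, MulAut.one_apply])
      map_mul' := fun x y => Subtype.ext (map_mul (φ h) (x : V) (y : V)) }
  map_one' := by
    ext w
    show φ 1 (w : V) = w
    rw [map_one, MulAut.one_apply]
  map_mul' h k := by
    ext w
    show φ (h * k) (w : V) = φ h (φ k w)
    rw [map_mul, MulAut.mul_apply]

theorem subHom_apply (φ : H →* MulAut V) (W : Subgroup V) (hW : ∀ h : H, ∀ w ∈ W, φ h w ∈ W)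
    (h : H) (w : W) : ((subHom φ W hW h w : W) : V) = φ h (w : V) := rfl

theorem mem_ker_subHom {φ : H →* MulAut V} {W : Subgroup V} {hW : ∀ h : H, ∀ w ∈ W, φ h w ∈ W}
    {h : H} : h ∈ (subHom φ W hW).ker ↔ ∀ w ∈ W, φ h w = w := by
  rw [MonoidHom.mem_ker]
  constructor
  · intro hh w hw
    have := congrArg (fun f : MulAut W => ((f (⟨w, hw⟩ : W) : W) : V)) hh
    exact this
  · intro hh
    ext w
    exact hh w w.2

/-- The action on the quotient by an invariant subgroup. -/
def quotHom (φ : H →* MulAut V) (W : Subgroup V) (hW : ∀ h : H, ∀ w ∈ W, φ h w ∈ W) :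
    H →* MulAut (V ⧸ W) where
  toFun h := QuotientGroup.congr W W (φ h) (by
    apply le_antisymm
    · rintro _ ⟨w, hw, rfl⟩
      exact hW h w hw
    · intro w hw
      refine ⟨φ h⁻¹ w, hW h⁻¹ w hw, ?_⟩
      show φ h (φ h⁻¹ w) = w
      rw [← MulAut.mul_apply, ← map_mul, mul_inv_cancel, map_one, MulAut.one_apply])
  map_one' := by
    ext q
    induction q using QuotientGroup.induction_on with
    | H v =>
      show (QuotientGroup.mk (φ 1 v) : V ⧸ W) = QuotientGroup.mk v
      rw [map_one, MulAut.one_apply]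
  map_mul' h k := by
    ext q
    induction q using QuotientGroup.induction_on with
    | H v =>
      show (QuotientGroup.mk (φ (h * k) v) : V ⧸ W) = QuotientGroup.mk (φ h (φ k v))
      rw [map_mul, MulAut.mul_apply]

theorem quotHom_mk (φ : H →* MulAut V) (W : Subgroup V) (hW : ∀ h : H, ∀ w ∈ W, φ h w ∈ W)
    (h : H) (v : V) : quotHom φ W hW h (QuotientGroup.mk v) = QuotientGroup.mk (φ h v) := rfl

theorem mem_ker_quotHom {φ : H →* MulAut V} {W : Subgroup V} {hW : ∀ h : H, ∀ w ∈ W, φ h w ∈ W}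
    {h : H} : h ∈ (quotHom φ W hW).ker ↔ ∀ v, φ h v * v⁻¹ ∈ W := by
  rw [MonoidHom.mem_ker]
  constructor
  · intro hh v
    have : (QuotientGroup.mk (φ h v) : V ⧸ W) = QuotientGroup.mk v :=
      congrArg (fun f : MulAut (V ⧸ W) => f (QuotientGroup.mk v)) hh
    have h2 := QuotientGroup.eq.1 this.symm
    rwa [mul_comm] at h2
  · intro hh
    ext q
    induction q using QuotientGroup.induction_on with
    | H v =>
      show (QuotientGroup.mk (φ h v) : V ⧸ W) = QuotientGroup.mk v
      refine (QuotientGroup.eq.2 ?_).symm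
      rw [mul_comm]
      exact hh v

/-- A 2-group acting on a nontrivial finite 2-group has a nontrivial fixed point. -/
theorem exists_fixed [Finite V] [Nontrivial V] (hV : IsPGroup 2 V) (φ : H →* MulAut V)
    (A : Subgroup H) (hA : IsPGroup 2 A) : ∃ v : V, v ≠ 1 ∧ ∀ a ∈ A, φ a v = v := by
  let act : MulAction A V :=
    { smul := fun a v => φ a v
      one_smul := fun v => by
        show φ 1 v = v
        rw [map_one, MulAut.one_apply]
      mul_smul := fun a b v => by
        show φ (a * b) v = φ a (φ b v)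
        rw [map_mul, MulAut.mul_apply] }
  have hmod := hA.card_modEq_card_fixedPoints V
  have hne : Nonempty (MulAction.fixedPoints A V) := ⟨⟨1, fun a => map_one (φ a)⟩⟩
  have hdvd : 2 ∣ Nat.card V := by
    obtain ⟨n, hn⟩ := IsPGroup.iff_card.1 hV
    rw [hn]
    apply dvd_pow_self
    rintro rfl
    rw [pow_zero] at hn
    have := (Nat.card_eq_one_iff_unique.1 hn).1
    exact not_subsingleton V this
  have h2 : 2 ∣ Nat.card (MulAction.fixedPoints A V) :=
    (hmod.dvd_iff (dvd_refl 2)).1 hdvd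
  have h3 : 1 < Nat.card (MulAction.fixedPoints A V) := by
    have : 0 < Nat.card (MulAction.fixedPoints A V) := Nat.card_pos
    omega
  have hnt : Nontrivial (MulAction.fixedPoints A V) := Finite.one_lt_card_iff_nontrivial.1 h3
  obtain ⟨w, hw⟩ := exists_ne (⟨1, fun a => map_one (φ a)⟩ : MulAction.fixedPoints A V)
  exact ⟨w, fun h => hw (Subtype.ext h), fun a ha => w.2 ⟨a, ha⟩⟩

end actions

section good

variable {V : Type v} [CommGroup V] [Finite V]

theorem comm_sup_fixV_ne_top (hV : IsPGroup 2 V) (B : Subgroup (MulAut V)) (hB : IsPGroup 2 B)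
    (hne : fixV B ≠ ⊤) : comm B ⊔ fixV B ≠ ⊤ := by
  classical
  -- a maximal proper `B`-invariant subgroup containing `fixV B`
  let S : Set (Subgroup V) := {X | X ≠ ⊤ ∧ fixV B ≤ X ∧ ∀ b : B, ∀ x ∈ X, (b : MulAut V) x ∈ X}
  have hS : S.Nonempty := ⟨fixV B, hne, le_rfl, fun b x hx => by rw [hx b b.2]; exact hx⟩
  obtain ⟨X, hXmax⟩ := S.toFinite.exists_maximal hS
  obtain ⟨hXtop, hFX, hXinv⟩ := hXmax.prop
  let φ : B →* MulAut V := B.subtype
  let ψ := quotHom φ X hXinv
  have hnt : Nontrivial (V ⧸ X) := by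
    rw [QuotientGroup.nontrivial_iff]
    exact hXtop
  have hq : IsPGroup 2 (V ⧸ X) := hV.to_quotient X
  obtain ⟨q, hq1, hqfix⟩ := exists_fixed hq ψ ⊤ (by
    exact hB.of_equiv Subgroup.topEquiv.symm)
  obtain ⟨v, rfl⟩ := QuotientGroup.mk_surjective q
  -- the preimage of the fixed points
  let Y : Subgroup V := (fixV (ψ.range)).comap (QuotientGroup.mk' X)
  have hXY : X ≤ Y := by
    intro x hx
    show (QuotientGroup.mk' X) x ∈ fixV ψ.range
    have : (QuotientGroup.mk' X) x = 1 := (QuotientGroup.eq_one_iff x).2 hx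
    rw [this]
    exact one_mem _
  have hvY : v ∈ Y := by
    rintro _ ⟨b, rfl⟩
    exact hqfix b (Subgroup.mem_top _)
  have hvX : v ∉ X := fun h => hq1 ((QuotientGroup.eq_one_iff v).2 h)
  have hY : Y = ⊤ := by
    by_contra hYtop
    have hYS : Y ∈ S := by
      refine ⟨hYtop, hFX.trans hXY, fun b y hy => ?_⟩
      show (QuotientGroup.mk (φ b y) : V ⧸ X) ∈ fixV ψ.range
      have h1 : (QuotientGroup.mk (φ b y) : V ⧸ X) = QuotientGroup.mk y :=
        hy (ψ b) ⟨b, rfl⟩
      rw [h1]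
      exact hy
    exact hvX (hXmax.le_of_ge hYS hXY hvY)
  have hcomm : comm B ≤ X := by
    rw [comm_le]
    intro b hb v
    have hv : v ∈ Y := hY ▸ Subgroup.mem_top v
    have h1 : (QuotientGroup.mk (φ ⟨b, hb⟩ v) : V ⧸ X) = QuotientGroup.mk v :=
      hv (ψ ⟨b, hb⟩) ⟨_, rfl⟩
    have h2 := QuotientGroup.eq.1 h1.symm
    rwa [mul_comm] at h2
  intro htop
  exact hXtop (eq_top_iff.2 (htop ▸ sup_le hcomm hFX))

omit [Finite V] in
theorem fixV_eq_top_iff {B : Subgroup (MulAut V)} : fixV B = ⊤ ↔ B = ⊥ := by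
  constructor
  · intro h
    rw [eq_bot_iff]
    intro b hb
    rw [Subgroup.mem_bot]
    ext v
    exact (h ▸ Subgroup.mem_top v : v ∈ fixV B) b hb
  · rintro rfl
    exact fixV_bot

/-- Existence of quadratic best offenders inside an abelian offender. -/
theorem exists_good (hV : IsPGroup 2 V) (B : Subgroup (MulAut V)) (hB : IsPGroup 2 B)
    (hcomm : ∀ a ∈ B, ∀ b ∈ B, a * b = b * a) (hne : B ≠ ⊥)
    (hoff : Nat.card V ≤ Nat.card B * Nat.card (fixV B)) : ∃ D ≤ B, Good D := by
  classical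
  -- choose `B'` nontrivial with maximal product
  let S : Set (Subgroup (MulAut V)) := {E | E ≤ B ∧ E ≠ ⊥}
  obtain ⟨B', hB'S, hmax⟩ := S.toFinite.exists_maximalFor
    (fun E : Subgroup (MulAut V) => Nat.card E * Nat.card (fixV E)) S ⟨B, le_rfl, hne⟩
  have hB'B : B' ≤ B := hB'S.1
  have hB'ne : B' ≠ ⊥ := hB'S.2
  set m := Nat.card B' * Nat.card (fixV B') with hm
  have hle : ∀ E ≤ B, E ≠ ⊥ → Nat.card E * Nat.card (fixV E) ≤ m := by
    intro E hE hEne
    rcases le_total (Nat.card E * Nat.card (fixV E)) m with h | h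
    · exact h
    · exact hmax ⟨hE, hEne⟩ h
  have hVm : Nat.card V ≤ m := hoff.trans (hle B le_rfl hne)
  have hbest : ∀ E ≤ B', Nat.card E * Nat.card (fixV E) ≤ m := by
    intro E hE
    by_cases hEne : E = ⊥
    · rw [hEne, fixV_bot, Subgroup.card_bot, one_mul, Subgroup.card_top]
      exact hVm
    · exact hle E (hE.trans hB'B) hEne
  have hcomm' : ∀ a ∈ B', ∀ b ∈ B', a * b = b * a := fun a ha b hb =>
    hcomm a (hB'B ha) b (hB'B hb)
  have hW := le_comm_sup B' hcomm' hbest
  set W := comm B' ⊔ fixV B' with hWdef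
  set D := cen B' W with hD
  have hWD : W ≤ fixV D := le_fixV_cen B' W
  have hmD : m ≤ Nat.card D * Nat.card (fixV D) :=
    hW.trans (Nat.mul_le_mul_left _ (Subgroup.card_le_of_le hWD))
  refine ⟨D, (cen_le B' W).trans hB'B, ?_, ?_, hVm.trans hmD, fun E hE =>
    (hbest E (hE.trans (cen_le B' W))).trans hmD⟩
  · intro hbot
    have h1 : m ≤ Nat.card W := by
      have : Nat.card D = 1 := by rw [hbot, Subgroup.card_bot]
      rw [this, one_mul] at hW
      exact hW
    have h2 : W = ⊤ := by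
      apply Subgroup.eq_top_of_le_card
      exact hVm.trans h1
    exact comm_sup_fixV_ne_top hV B' (hB.to_le hB'B) (fun h => hB'ne (fixV_eq_top_iff.1 h)) h2
  · rintro a ⟨-, ha⟩ b ⟨hb, -⟩ v
    exact ha _ ((le_sup_left : comm B' ≤ W) (mem_comm hb v))

end good

end Cfsg.Agent.PLocal.SFourBasic
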