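import Mathlib
import Cfsg.Prelude.Def_Solvable
import Cfsg.Agent.Lib.Cores
import Cfsg.Agent.Lib.SylowNormalInf
import Cfsg.Agent.PLocal.ConjFunctor
import Cfsg.Agent.PLocal.SFourBasic

set_option autoImplicit false

/-!
# No offenders in minimal parabolic groups without sections `S₃`
-/

namespace Cfsg.Agent.PLocal.SFourOffender

open Cfsg.Agent.PLocal.SFourBasic

universe u v

section conj

variable {V : Type v} [CommGroup V]

theorem mem_map_conj {G : Type*} [Group G] {B : Subgroup G} {g b : G} :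
    b ∈ B.map (MulAut.conj g).toMonoidHom ↔ g⁻¹ * b * g ∈ B := by
  constructor
  · rintro ⟨c, hc, rfl⟩
    show g⁻¹ * (g * c * g⁻¹) * g ∈ B
    have : g⁻¹ * (g * c * g⁻¹) * g = c := by group
    rw [this]
    exact hc
  · intro h
    refine ⟨_, h, ?_⟩
    show g * (g⁻¹ * b * g) * g⁻¹ = b
    group

theorem fixV_conj (B : Subgroup (MulAut V)) (g : MulAut V) :
    fixV (B.map (MulAut.conj g).toMonoidHom) = (fixV B).map g.toMonoidHom := by
  ext v
  constructor
  · intro h
    refine ⟨g⁻¹ v, ?_, MulAut.apply_inv_self V g v⟩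
    intro b hb
    have h1 := h (g * b * g⁻¹) ⟨b, hb, rfl⟩
    rw [MulAut.mul_apply, MulAut.mul_apply] at h1
    apply g.injective
    rw [h1, MulAut.apply_inv_self]
  · rintro ⟨w, hw, rfl⟩ b hb
    rw [mem_map_conj] at hb
    have h1 := hw _ hb
    rw [MulAut.mul_apply, MulAut.mul_apply] at h1
    show b (g w) = g w
    conv_rhs => rw [← h1]
    rw [MulAut.apply_inv_self]

theorem card_fixV_conj [Finite V] (B : Subgroup (MulAut V)) (g : MulAut V) :
    Nat.card (fixV (B.map (MulAut.conj g).toMonoidHom)) = Nat.card (fixV B) := by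
  rw [fixV_conj, Subgroup.card_map_of_injective g.injective]

theorem good_conj [Finite V] {B : Subgroup (MulAut V)} (hB : Good B) (g : MulAut V) :
    Good (B.map (MulAut.conj g).toMonoidHom) := by
  have hcard : ∀ E : Subgroup (MulAut V), Nat.card (E.map (MulAut.conj g).toMonoidHom) = Nat.card E :=
    fun E => Subgroup.card_map_of_injective (MulAut.conj g).injective
  refine ⟨?_, ?_, ?_, ?_⟩
  · intro h
    exact hB.ne ((Subgroup.map_eq_bot_iff_of_injective _ (MulAut.conj g).injective).1 h)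
  · intro a ha b hb v
    rw [mem_map_conj] at ha hb
    have h1 := hB.quad _ ha _ hb (g⁻¹ v)
    have h2 : (g⁻¹ * b * g) (g⁻¹ v) * (g⁻¹ v)⁻¹ = g⁻¹ (b v * v⁻¹) := by
      rw [MulAut.mul_apply, MulAut.mul_apply, MulAut.apply_inv_self, map_mul, map_inv]
    rw [h2, MulAut.mul_apply, MulAut.mul_apply, MulAut.apply_inv_self] at h1
    exact g⁻¹.injective h1
  · rw [hcard, card_fixV_conj]
    exact hB.off
  · intro E hE
    rw [hcard, card_fixV_conj]
    have h1 : E.map (MulAut.conj g⁻¹).toMonoidHom ≤ B := by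
      rintro _ ⟨e, he, rfl⟩
      have := hE he
      rw [mem_map_conj] at this
      show g⁻¹ * e * g⁻¹⁻¹ ∈ B
      rwa [inv_inv]
    have h2 := hB.best _ h1
    rwa [Subgroup.card_map_of_injective (MulAut.conj g⁻¹).injective, card_fixV_conj] at h2

theorem good_comm {B : Subgroup (MulAut V)} (hB : Good B) :
    ∀ a ∈ B, ∀ b ∈ B, a * b = b * a := by
  intro a ha b hb
  ext v
  have h1 := hB.quad a ha b hb v
  have h2 := hB.quad b hb a ha v
  rw [map_mul, map_inv] at h1 h2
  have h3 : a (b v) = b v * v⁻¹ * a v := by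
    rw [← h1, inv_mul_cancel_right]
  have h4 : b (a v) = a v * v⁻¹ * b v := by
    rw [← h2, inv_mul_cancel_right]
  rw [MulAut.mul_apply, MulAut.mul_apply, h3, h4, mul_comm (b v) v⁻¹, mul_comm (a v) v⁻¹,
    mul_assoc, mul_assoc, mul_comm (b v)]

end conj

section sthree

variable {H : Type u} [Group H] {V : Type v} [CommGroup V]

/-- No section of the image of `φ` is isomorphic to the symmetric group of degree three. -/
def NoS3 (φ : H →* MulAut V) : Prop :=
  ¬ ∃ (D : Subgroup H) (ψ : D →* Equiv.Perm (Fin 3)), Function.Surjective ψ ∧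
    ∀ d : D, φ d = 1 → ψ d = 1

theorem noS3_sub {φ : H →* MulAut V} (h : NoS3 φ) (P : Subgroup H) (W : Subgroup V)
    (hW : ∀ x : P, ∀ w ∈ W, (φ.comp P.subtype) x w ∈ W) :
    NoS3 (subHom (φ.comp P.subtype) W hW) := by
  rintro ⟨D, ψ, hψ, hker⟩
  apply h
  let e := D.equivMapOfInjective P.subtype P.subtype_injective
  refine ⟨D.map P.subtype, ψ.comp e.symm.toMonoidHom, hψ.comp e.symm.surjective, ?_⟩
  intro d hd
  apply hker
  ext w
  obtain ⟨d', rfl⟩ := e.surjective d
  have h1 : ((e d' : H)) = ((d' : P) : H) := rfl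
  rw [h1] at hd
  show φ ((e.symm (e d') : P) : H) (w : V) = w
  rw [MulEquiv.symm_apply_apply, hd, MulAut.one_apply]

theorem noS3_quot {φ : H →* MulAut V} (h : NoS3 φ) (W : Subgroup V)
    (hW : ∀ x : H, ∀ w ∈ W, φ x w ∈ W) : NoS3 (quotHom φ W hW) := by
  rintro ⟨D, ψ, hψ, hker⟩
  apply h
  refine ⟨D, ψ, hψ, fun d hd => hker d ?_⟩
  ext q
  induction q using QuotientGroup.induction_on with
  | H v =>
    rw [quotHom_mk, hd, MulAut.one_apply, MulAut.one_apply]

/-- Two transvection-like elements produce a section `S₃`. -/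
theorem not_noS3 {φ : H →* MulAut V} {v w : V} {a b : H} (hv : v * v = 1) (hw : w * w = 1)
    (hv1 : v ≠ 1) (hw1 : w ≠ 1) (hvw : v ≠ w) (hav : φ a v = v * w) (haw : φ a w = w)
    (hbw : φ b w = w * v) (hbv : φ b v = v) : ¬ NoS3 φ := by
  intro h
  apply h
  let e : Fin 3 → V := ![v, w, v * w]
  have he : Function.Injective e := by
    have h1 : v ≠ v * w := fun h => hw1 (by simpa using h)
    have h2 : w ≠ v * w := fun h => hv1 (by simpa using h)
    intro i j hij
    fin_cases i <;> fin_cases j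
    · rfl
    · exact absurd hij hvw
    · exact absurd hij h1
    · exact absurd hij.symm hvw
    · rfl
    · exact absurd hij h2
    · exact absurd hij.symm h1
    · exact absurd hij.symm h2
    · rfl
  let R : Set V := Set.range e
  let D : Subgroup H :=
    { carrier := {g | ∀ x, φ g x ∈ R ↔ x ∈ R}
      one_mem' := fun x => by rw [map_one, MulAut.one_apply]
      mul_mem' := fun {g k} hg hk x => by
        rw [map_mul, MulAut.mul_apply]
        exact (hg _).trans (hk _)
      inv_mem' := fun {g} hg x => by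
        rw [← hg (φ g⁻¹ x), ← MulAut.mul_apply, ← map_mul, mul_inv_cancel, map_one,
          MulAut.one_apply] }
  let ψ₀ : D →* Equiv.Perm R :=
    { toFun := fun d => Equiv.Perm.subtypePerm ((φ d).toEquiv : Equiv.Perm V) d.2
      map_one' := by
        ext x
        show φ (1 : H) (x : V) = x
        rw [map_one, MulAut.one_apply]
      map_mul' := fun d d' => by
        ext x
        show φ ((d : H) * d') (x : V) = φ d (φ d' x)
        rw [map_mul, MulAut.mul_apply] }
  let f : R ≃ Fin 3 := (Equiv.ofInjective e he).symm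
  have hfsymm : ∀ i : Fin 3, ((f.symm i : R) : V) = e i := fun i => rfl
  let ψ : D →* Equiv.Perm (Fin 3) := f.permCongrHom.toMonoidHom.comp ψ₀
  have hψ : ∀ (d : D) (i j : Fin 3), φ d (e i) = e j → ψ d i = j := by
    intro d i j hij
    show f (ψ₀ d (f.symm i)) = j
    have h1 : ψ₀ d (f.symm i) = f.symm j := Subtype.ext hij
    rw [h1, Equiv.apply_symm_apply]
  have hmem : ∀ g : H, (∀ i, ∃ j, φ g (e i) = e j) → (∀ i, ∃ j, φ g⁻¹ (e i) = e j) → g ∈ D := by
    intro g h1 h2 x
    constructor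
    · rintro ⟨i, hi⟩
      obtain ⟨j, hj⟩ := h2 i
      rw [hi, ← MulAut.mul_apply, ← map_mul, inv_mul_cancel, map_one, MulAut.one_apply] at hj
      exact ⟨j, hj.symm⟩
    · rintro ⟨i, rfl⟩
      obtain ⟨j, hj⟩ := h1 i
      exact ⟨j, hj.symm⟩
  have haa : ∀ i, φ a (e i) = e (Equiv.swap 0 2 i) := by
    intro i
    fin_cases i
    · exact hav
    · exact haw
    · show φ a (v * w) = v
      rw [map_mul, hav, haw, mul_assoc, hw, mul_one]
  have hbb : ∀ i, φ b (e i) = e (Equiv.swap 1 2 i) := by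
    intro i
    fin_cases i
    · exact hbv
    · show φ b w = v * w
      rw [hbw, mul_comm]
    · show φ b (v * w) = w
      rw [map_mul, hbv, hbw, mul_comm w, ← mul_assoc, hv, one_mul]
  have hinv : ∀ (g : H) (s : Equiv.Perm (Fin 3)), (∀ i, φ g (e i) = e (s i)) →
      ∀ i, φ g⁻¹ (e i) = e (s⁻¹ i) := by
    intro g s hs i
    have := hs (s⁻¹ i)
    have h1 : s (s⁻¹ i) = i := s.apply_symm_apply i
    rw [h1] at this
    rw [← this, ← MulAut.mul_apply, ← map_mul, inv_mul_cancel, map_one, MulAut.one_apply]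
  have haD : a ∈ D := hmem a (fun i => ⟨_, haa i⟩) (fun i => ⟨_, hinv a _ haa i⟩)
  have hbD : b ∈ D := hmem b (fun i => ⟨_, hbb i⟩) (fun i => ⟨_, hinv b _ hbb i⟩)
  have hψa : ψ ⟨a, haD⟩ = Equiv.swap 0 2 := Equiv.ext fun i => hψ _ _ _ (haa i)
  have hψb : ψ ⟨b, hbD⟩ = Equiv.swap 1 2 := Equiv.ext fun i => hψ _ _ _ (hbb i)
  refine ⟨D, ψ, ?_, ?_⟩
  · intro σ
    have hσ : ∀ σ : Equiv.Perm (Fin 3), σ = 1 ∨ σ = Equiv.swap 0 2 ∨ σ = Equiv.swap 1 2 ∨
        σ = Equiv.swap 0 2 * Equiv.swap 1 2 ∨ σ = Equiv.swap 1 2 * Equiv.swap 0 2 ∨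
        σ = Equiv.swap 0 2 * Equiv.swap 1 2 * Equiv.swap 0 2 := by decide
    rcases hσ σ with h | h | h | h | h | h
    · exact ⟨1, by rw [map_one, h]⟩
    · exact ⟨⟨a, haD⟩, by rw [hψa, h]⟩
    · exact ⟨⟨b, hbD⟩, by rw [hψb, h]⟩
    · exact ⟨⟨a, haD⟩ * ⟨b, hbD⟩, by rw [map_mul, hψa, hψb, h]⟩
    · exact ⟨⟨b, hbD⟩ * ⟨a, haD⟩, by rw [map_mul, hψa, hψb, h]⟩
    · exact ⟨⟨a, haD⟩ * ⟨b, hbD⟩ * ⟨a, haD⟩, by rw [map_mul, map_mul, hψa, hψb, h]⟩
  · intro d hd
    refine Equiv.ext fun i => hψ _ _ _ ?_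
    rw [hd, MulAut.one_apply]
    rfl

theorem noS3_restrict {φ : H →* MulAut V} (h : NoS3 φ) (P : Subgroup H) :
    NoS3 (φ.comp P.subtype) := by
  rintro ⟨D, ψ, hψ, hker⟩
  apply h
  let e := D.equivMapOfInjective P.subtype P.subtype_injective
  refine ⟨D.map P.subtype, ψ.comp e.symm.toMonoidHom, hψ.comp e.symm.surjective, ?_⟩
  intro d hd
  apply hker
  obtain ⟨d', rfl⟩ := e.surjective d
  have h1 : ((e d' : H)) = ((d' : P) : H) := rfl
  rw [h1] at hd
  show φ ((e.symm (e d') : P) : H) = 1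
  rw [MulEquiv.symm_apply_apply, hd]

theorem noS3_subHom {φ : H →* MulAut V} (h : NoS3 φ) (W : Subgroup V)
    (hW : ∀ x : H, ∀ w ∈ W, φ x w ∈ W) : NoS3 (subHom φ W hW) := by
  rintro ⟨D, ψ, hψ, hker⟩
  apply h
  refine ⟨D, ψ, hψ, fun d hd => hker d ?_⟩
  ext w
  show φ d (w : V) = w
  rw [hd, MulAut.one_apply]

end sthree

section offender

open Cfsg Cfsg.Agent.Lib

/-- The configuration of the no-offender theorem. -/
structure Cfg {H : Type u} [Group H] {V : Type v} [CommGroup V] (φ : H →* MulAut V)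
    (T : Sylow 2 H) (M : Subgroup H) : Prop where
  exp : ∀ v : V, v * v = 1
  le : (T : Subgroup H) ≤ M
  ne : M ≠ ⊤
  max : ∀ X : Subgroup H, (T : Subgroup H) ≤ X → X ≠ ⊤ → X ≤ M
  core : pCore 2 H ≤ φ.ker
  ker : φ.ker ≤ M
  noS3 : NoS3 φ

/-- No subgroup of `T` with abelian image is an offender. -/
def NoOff {H : Type u} [Group H] {V : Type v} [CommGroup V] (φ : H →* MulAut V)
    (T : Sylow 2 H) : Prop :=
  ∀ A : Subgroup H, A ≤ (T : Subgroup H) → (∀ a ∈ A, ∀ b ∈ A, φ a * φ b = φ b * φ a) →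
    ¬ A ≤ φ.ker → Nat.card (A.map φ) * Nat.card (fixV (A.map φ)) < Nat.card V

/-- Induction hypothesis. -/
def IHyp (n : ℕ) : Prop :=
  ∀ (H : Type u) [Group H] [Finite H] (V : Type v) [CommGroup V] [Finite V] (φ : H →* MulAut V)
    (T : Sylow 2 H) (M : Subgroup H), Nat.card H + Nat.card V < n → Cfg φ T M → NoOff φ T

variable {H : Type u} [Group H] {V : Type v} [CommGroup V]

theorem isPGroup_of_exp (h : ∀ v : V, v * v = 1) : IsPGroup 2 V := fun v => ⟨1, by
  rw [pow_one, pow_two, h]⟩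

/-- Frattini. -/
theorem inf_le_pCore [Finite H] (T : Sylow 2 H) {M : Subgroup H} (hne : M ≠ ⊤)
    (hmax : ∀ X : Subgroup H, (T : Subgroup H) ≤ X → X ≠ ⊤ → X ≤ M) (N : Subgroup H) [hN' : N.Normal]
    (hN : N ≤ M) : (T : Subgroup H) ⊓ N ≤ pCore 2 H := by
  have : Fact (Nat.Prime 2) := ⟨Nat.prime_two⟩
  have h1 := SylowNormalInf.normalizer_inf_sup_eq_top T N
  have h2 : (T : Subgroup H) ≤ Subgroup.normalizer (((T : Subgroup H) ⊓ N : Subgroup H) : Set H) := by
    intro t ht
    rw [Subgroup.mem_normalizer_iff]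
    intro x
    constructor
    · rintro ⟨h3, h4⟩
      exact ⟨(T : Subgroup H).mul_mem ((T : Subgroup H).mul_mem ht h3)
        ((T : Subgroup H).inv_mem ht), hN'.conj_mem x h4 t⟩
    · rintro ⟨h3, h4⟩
      have e : x = t⁻¹ * (t * x * t⁻¹) * t := by group
      constructor
      · rw [e]
        exact (T : Subgroup H).mul_mem ((T : Subgroup H).mul_mem
          ((T : Subgroup H).inv_mem ht) h3) ht
      · rw [e]
        have := hN'.conj_mem _ h4 t⁻¹
        rwa [inv_inv] at this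
  have h3 : Subgroup.normalizer (((T : Subgroup H) ⊓ N : Subgroup H) : Set H) = ⊤ := by
    by_contra hcon
    apply hne
    rw [eq_top_iff, ← h1]
    exact sup_le (hmax _ h2 hcon) hN
  have h4 : ((T : Subgroup H) ⊓ N : Subgroup H).Normal := Subgroup.normalizer_eq_top_iff.1 h3
  exact Cores.le_pCore h4 (T.isPGroup'.to_le inf_le_left)

theorem card_map_eq (φ : H →* MulAut V) {V' : Type*} [CommGroup V'] (ψ : H →* MulAut V')
    (A : Subgroup H) (h : ∀ a ∈ A, a ∈ φ.ker ↔ a ∈ ψ.ker) :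
    Nat.card (A.map φ) = Nat.card (A.map ψ) := by
  rw [← Subgroup.relIndex_ker, ← Subgroup.relIndex_ker, ← Subgroup.inf_relIndex_right,
    ← Subgroup.inf_relIndex_right ψ.ker]
  congr 1
  ext a
  constructor
  · rintro ⟨h1, h2⟩
    exact ⟨(h a h2).1 h1, h2⟩
  · rintro ⟨h1, h2⟩
    exact ⟨(h a h2).2 h1, h2⟩

theorem card_map_eq_mul [Finite V] (φ : H →* MulAut V) (A : Subgroup H)
    (W : Subgroup V) (ψ : H →* MulAut W) (hψ : ∀ h : H, h ∈ ψ.ker ↔ ∀ w ∈ W, φ h w = w) :
    Nat.card (A.map φ) = Nat.card (cen (A.map φ) W) * Nat.card (A.map ψ) := by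
    have e1 : Nat.card (A.map φ) = φ.ker.relIndex A := by rw [Subgroup.relIndex_ker]
    have e2 : Nat.card (A.map ψ) = ψ.ker.relIndex A := by rw [Subgroup.relIndex_ker]
    have e0 : (A ⊓ ψ.ker).map φ = cen (A.map φ) W := by
      ext b
      constructor
      · rintro ⟨a, ⟨ha, h⟩, rfl⟩
        exact ⟨⟨a, ha, rfl⟩, (hψ a).1 h⟩
      · rintro ⟨⟨a, ha, rfl⟩, h⟩
        exact ⟨a, ⟨ha, (hψ a).2 h⟩, rfl⟩
    have e3 : Nat.card (cen (A.map φ) W) = φ.ker.relIndex (A ⊓ ψ.ker) := by
      rw [Subgroup.relIndex_ker, e0]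
    have hker : φ.ker ≤ ψ.ker := by
      intro a ha
      rw [hψ]
      intro w _
      rw [MonoidHom.mem_ker.1 ha, MulAut.one_apply]
    have e4 := Subgroup.relIndex_mul_relIndex (φ.ker ⊓ A) (A ⊓ ψ.ker) A
      (le_inf inf_le_right (inf_le_left.trans hker)) inf_le_left
    rw [e1, e2, e3]
    rw [Subgroup.inf_relIndex_right] at e4
    have e5 : (φ.ker ⊓ A).relIndex (A ⊓ ψ.ker) = φ.ker.relIndex (A ⊓ ψ.ker) := by
      rw [← Subgroup.inf_relIndex_right, ← Subgroup.inf_relIndex_right φ.ker]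
      congr 1
      rw [inf_assoc]
      congr 1
      rw [← inf_assoc, inf_idem]
    have e6 : (A ⊓ ψ.ker).relIndex A = ψ.ker.relIndex A := by
      rw [inf_comm, Subgroup.inf_relIndex_right]
    rw [e5, e6] at e4
    exact e4.symm

/-- Best offenders act as offenders on invariant subgroups. -/
theorem card_le_of_good [Finite V] (φ : H →* MulAut V) (A : Subgroup H) (hA : Good (A.map φ))
    (W : Subgroup V) (hW : ∀ x : H, ∀ w ∈ W, φ x w ∈ W) :
    Nat.card W ≤ Nat.card (A.map (subHom φ W hW)) * Nat.card (fixV (A.map (subHom φ W hW))) := by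
  have h1 := card_map_eq_mul φ A W (subHom φ W hW) (fun h => mem_ker_subHom)
  have hfix : ∀ v : V, v ∈ W ⊓ fixV (A.map φ) → ∀ hv : v ∈ W,
      (⟨v, hv⟩ : W) ∈ fixV (A.map (subHom φ W hW)) := by
    rintro v ⟨_, hv2⟩ hv _ ⟨a, ha, rfl⟩
    exact Subtype.ext (hv2 _ ⟨a, ha, rfl⟩)
  generalize subHom φ W hW = ψ at h1 hfix ⊢
  generalize A.map φ = B at hA h1 hfix
  have h2 := hA.best (cen B W) (cen_le B W)
  set E := cen B W with hE
  set F := fixV B with hF
  have hEpos : 0 < Nat.card E := Nat.card_pos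
  have h3 : Nat.card (fixV E) ≤ Nat.card (A.map ψ) * Nat.card F := by
    rw [h1, mul_assoc] at h2
    exact Nat.le_of_mul_le_mul_left h2 hEpos
  have h4 := Timmesfeld.card_mul_card_le (B₁ := W) (B₂ := F) (B₃ := fixV E)
    (le_fixV_cen B W) (fixV_anti (cen_le B W))
  have hFpos : 0 < Nat.card F := Nat.card_pos
  have h5 : Nat.card W * Nat.card F ≤
      (Nat.card (A.map ψ) * Nat.card (W ⊓ F : Subgroup V)) * Nat.card F := by
    calc _ ≤ _ := h4
      _ ≤ Nat.card (W ⊓ F : Subgroup V) * (Nat.card (A.map ψ) * Nat.card F) :=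
        Nat.mul_le_mul_left _ h3
      _ = _ := by ring
  have h6 := Nat.le_of_mul_le_mul_right h5 hFpos
  refine h6.trans (Nat.mul_le_mul_left _ ?_)
  refine Nat.card_le_card_of_injective
    (fun v => (⟨⟨v, v.2.1⟩, hfix v v.2 v.2.1⟩ : fixV (A.map ψ))) ?_
  intro v v' h
  exact Subtype.ext (congrArg (fun z : fixV (A.map ψ) => ((z : W) : V)) h)

theorem mem_fixV_range {φ : H →* MulAut V} {v : V} : v ∈ fixV φ.range ↔ ∀ h, φ h v = v := by
  constructor
  · intro hv h
    exact hv _ ⟨h, rfl⟩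
  · rintro hv _ ⟨h, rfl⟩
    exact hv h

/-- The elements acting trivially modulo an invariant subgroup / the elements fixing `W`. -/
theorem eq_bot_of_good_le_ker {φ : H →* MulAut V} {A : Subgroup H} (hA : Good (A.map φ))
    (h : A ≤ φ.ker) : False :=
  hA.ne ((Subgroup.map_eq_bot_iff _).2 h)

/-- Step 0: no fixed points. -/
theorem step0 [Finite H] [Finite V] {φ : H →* MulAut V} {T : Sylow 2 H} {M : Subgroup H}
    (hC : Cfg φ T M) (hIH : IHyp.{u, v} (Nat.card H + Nat.card V)) (hF : fixV φ.range ≠ ⊥) :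
    NoOff φ T := by
  have : Fact (Nat.Prime 2) := ⟨Nat.prime_two⟩
  have hinv : ∀ x : H, ∀ w ∈ fixV φ.range, φ x w ∈ fixV φ.range := by
    intro x w hw
    rw [hw _ ⟨x, rfl⟩]
    exact hw
  set F := fixV φ.range with hFdef
  have hFpos : 1 < Nat.card F := by
    rw [Finite.one_lt_card_iff_nontrivial]
    exact (Subgroup.nontrivial_iff_ne_bot F).2 hF
  have hcardV : Nat.card V = Nat.card (V ⧸ F) * Nat.card F :=
    Subgroup.card_eq_card_quotient_mul_card_subgroup F
  have hlt : Nat.card (V ⧸ F) < Nat.card V := by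
    rw [hcardV]
    have : 0 < Nat.card (V ⧸ F) := Nat.card_pos
    nlinarith
  set ψ := quotHom φ F hinv with hψ
  have hkle : φ.ker ≤ ψ.ker := by
    intro x hx
    rw [mem_ker_quotHom]
    intro v
    rw [MonoidHom.mem_ker.1 hx, MulAut.one_apply, mul_inv_cancel]
    exact one_mem _
  have hsq : ∀ x ∈ ψ.ker, x ^ 2 ^ 1 ∈ φ.ker := by
    intro x hx
    rw [mem_ker_quotHom] at hx
    rw [MonoidHom.mem_ker]
    ext v
    have h1 : φ x v = φ x v * v⁻¹ * v := by rw [inv_mul_cancel_right]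
    have h2 : φ x (φ x v * v⁻¹) = φ x v * v⁻¹ := hx v _ ⟨x, rfl⟩
    have h3 : φ x (φ x v) = φ x v * v⁻¹ * φ x v := by
      conv_lhs => rw [h1]
      rw [map_mul, h2]
    have h4 : v⁻¹ = v := inv_eq_of_mul_eq_one_left (hC.exp v)
    have h5 : φ x (φ x v) = v := by
      rw [h3, h4, mul_comm, ← mul_assoc, hC.exp, one_mul]
    rw [pow_one, pow_two, map_mul, MulAut.mul_apply, h5, MulAut.one_apply]
  have hkM : ψ.ker ≤ M := by
    refine (SylowNormalInf.le_sup_inf T ψ.ker φ.ker (fun x hx => ⟨1, hsq x hx⟩)).trans ?_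
    exact sup_le hC.ker (inf_le_left.trans hC.le)
  have hC' : Cfg ψ T M :=
    { exp := by
        intro q
        induction q using QuotientGroup.induction_on with
        | H v =>
          show (QuotientGroup.mk (v * v) : V ⧸ F) = 1
          rw [hC.exp]
          rfl
      le := hC.le
      ne := hC.ne
      max := hC.max
      core := hC.core.trans hkle
      ker := hkM
      noS3 := noS3_quot hC.noS3 _ _ }
  have hoff := hIH H (V ⧸ F) ψ T M (by omega) hC'
  have hinf := inf_le_pCore T hC.ne hC.max ψ.ker hkM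
  intro A hA hcomm hAker
  have hAk : ∀ a ∈ A, a ∈ φ.ker ↔ a ∈ ψ.ker := fun a ha =>
    ⟨fun h => hkle h, fun h => hC.core (hinf ⟨hA ha, h⟩)⟩
  have h1 := hoff A hA (by
    intro a ha b hb
    ext q
    induction q using QuotientGroup.induction_on with
    | H v =>
      show (QuotientGroup.mk ((φ a * φ b) v) : V ⧸ F) = QuotientGroup.mk ((φ b * φ a) v)
      rw [hcomm a ha b hb]) (fun h => hAker fun a ha => (hAk a ha).2 (h ha))
  rw [card_map_eq φ ψ A hAk]
  have h2 : Nat.card (fixV (A.map φ)) ≤ Nat.card (fixV (A.map ψ)) * Nat.card F := by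
    have hFle : F ≤ fixV (A.map φ) := by
      rintro v hv _ ⟨a, _, rfl⟩
      exact hv _ ⟨a, rfl⟩
    rw [Subgroup.card_eq_card_quotient_mul_card_subgroup (F.subgroupOf (fixV (A.map φ))),
      Nat.card_congr (Subgroup.subgroupOfEquivOfLe hFle).toEquiv]
    refine Nat.mul_le_mul_right _ ?_
    let f : fixV (A.map φ) →* V ⧸ F := (QuotientGroup.mk' F).comp (Subgroup.subtype _)
    have hker : f.ker = F.subgroupOf (fixV (A.map φ)) := by
      ext v
      rw [MonoidHom.mem_ker, Subgroup.mem_subgroupOf]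
      exact QuotientGroup.eq_one_iff (v : V)
    rw [← hker, Nat.card_congr (QuotientGroup.quotientKerEquivRange f).toEquiv]
    refine Subgroup.card_le_of_le ?_
    rintro _ ⟨v, rfl⟩ _ ⟨a, ha, rfl⟩
    have h3 : φ a (v : V) = v := v.2 _ ⟨a, ha, rfl⟩
    show (QuotientGroup.mk (φ a (v : V)) : V ⧸ F) = QuotientGroup.mk (v : V)
    rw [h3]
  calc _ ≤ Nat.card (A.map ψ) * (Nat.card (fixV (A.map ψ)) * Nat.card F) :=
        Nat.mul_le_mul_left _ h2
    _ = (Nat.card (A.map ψ) * Nat.card (fixV (A.map ψ))) * Nat.card F := by ring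
    _ < Nat.card (V ⧸ F) * Nat.card F := Nat.mul_lt_mul_of_pos_right h1 Nat.card_pos
    _ = Nat.card V := hcardV.symm

/-- Step 0': irreducibility. -/
theorem step1 [Finite H] [Finite V] {φ : H →* MulAut V} {T : Sylow 2 H} {M : Subgroup H}
    (hC : Cfg φ T M) (hIH : IHyp.{u, v} (Nat.card H + Nat.card V)) (hF : fixV φ.range = ⊥)
    {A : Subgroup H} (hAT : A ≤ T) (hA : Good (A.map φ)) (W : Subgroup V)
    (hW : ∀ x : H, ∀ w ∈ W, φ x w ∈ W) : W = ⊥ ∨ W = ⊤ := by
  have : Fact (Nat.Prime 2) := ⟨Nat.prime_two⟩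
  by_contra hcon
  push Not at hcon
  obtain ⟨hWbot, hWtop⟩ := hcon
  have hlt : Nat.card W < Nat.card V := by
    have := PLocal.ConjFunctor.card_lt_card_of_lt (lt_top_iff_ne_top.2 hWtop)
    rwa [Subgroup.card_top] at this
  set ψ := subHom φ W hW with hψ
  have hkle : φ.ker ≤ ψ.ker := by
    intro a ha
    rw [mem_ker_subHom]
    intro w _
    rw [MonoidHom.mem_ker.1 ha, MulAut.one_apply]
  have hWnt : Nontrivial W := (Subgroup.nontrivial_iff_ne_bot W).2 hWbot
  have hexpW : ∀ w : W, w * w = 1 := fun w => Subtype.ext (hC.exp w)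
  by_cases hkM : ψ.ker ≤ M
  · have hC' : Cfg ψ T M :=
      { exp := hexpW
        le := hC.le
        ne := hC.ne
        max := hC.max
        core := hC.core.trans hkle
        ker := hkM
        noS3 := noS3_subHom hC.noS3 _ _ }
    have hoff := hIH H W ψ T M (by omega) hC'
    have hinf := inf_le_pCore T hC.ne hC.max ψ.ker hkM
    have h1 := hoff A hAT (by
      intro a ha b hb
      ext w
      show (φ a * φ b) (w : V) = (φ b * φ a) (w : V)
      rw [good_comm hA _ ⟨a, ha, rfl⟩ _ ⟨b, hb, rfl⟩])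
      (fun h => eq_bot_of_good_le_ker hA fun a ha => hC.core (hinf ⟨hAT ha, h ha⟩))
    exact absurd (card_le_of_good φ A hA W hW) (not_le.2 h1)
  · have htop : (T : Subgroup H) ⊔ ψ.ker = ⊤ := by
      by_contra hne
      exact hkM (le_sup_right.trans (hC.max _ le_sup_left hne))
    obtain ⟨w, hw1, hw⟩ := exists_fixed (isPGroup_of_exp hexpW) ψ T T.isPGroup'
    have h2 : (T : Subgroup H) ⊔ ψ.ker ≤
        (MulAction.stabilizer (MulAut W) w).comap ψ := by
      refine sup_le (fun t ht => hw t ht) (fun k hk => ?_)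
      show ψ k w = w
      rw [MonoidHom.mem_ker.1 hk, MulAut.one_apply]
    have h3 : (w : V) ∈ fixV φ.range := by
      rw [mem_fixV_range]
      intro h
      have : h ∈ (T : Subgroup H) ⊔ ψ.ker := htop ▸ Subgroup.mem_top h
      exact congrArg Subtype.val (h2 this : ψ h w = w)
    rw [hF, Subgroup.mem_bot] at h3
    exact hw1 (Subtype.ext h3)

theorem exists_sylow_le [Finite H] {T : Sylow 2 H} {M : Subgroup H} (hTM : (T : Subgroup H) ≤ M)
    (hmax : ∀ X : Subgroup H, (T : Subgroup H) ≤ X → X ≠ ⊤ → X ≤ M) {R : Subgroup H}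
    (hR : IsPGroup 2 R) (hRM : R ≤ M) :
    ∃ T' : Sylow 2 H, R ≤ T' ∧ (T' : Subgroup H) ≤ M ∧
      ∀ X : Subgroup H, (T' : Subgroup H) ≤ X → X ≠ ⊤ → X ≤ M := by
  have : Fact (Nat.Prime 2) := ⟨Nat.prime_two⟩
  obtain ⟨S, hS⟩ := PLocal.ConjFunctor.exists_sylow_of_le hR hRM
  obtain ⟨x, hx, hxS⟩ := PLocal.ConjFunctor.exists_conj_sylow (T.subtype hTM) S
  have h1 : ((T.subtype hTM : Sylow 2 M) : Subgroup M).map M.subtype = T := by
    rw [Sylow.coe_subtype]
    rw [Subgroup.subgroupOf_map_subtype, inf_eq_left.2 hTM]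
  rw [h1] at hxS
  have h2 : ((x • T : Sylow 2 H) : Subgroup H) = (S : Subgroup M).map M.subtype := by
    rw [PLocal.ConjFunctor.map_conj_smul_sylow, hxS]
  refine ⟨x • T, h2 ▸ hS, h2 ▸ Subgroup.map_subtype_le _, ?_⟩
  intro X hX hXtop
  have h3 : (T : Subgroup H) ≤ X.map (MulAut.conj x⁻¹).toMonoidHom := by
    intro t ht
    rw [mem_map_conj, inv_inv]
    apply hX
    rw [PLocal.ConjFunctor.map_conj_smul_sylow]
    exact ⟨t, ht, rfl⟩
  have h4 : X.map (MulAut.conj x⁻¹).toMonoidHom ≠ ⊤ := by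
    intro h
    apply hXtop
    rw [eq_top_iff]
    intro y _
    have : x⁻¹ * y * x ∈ X.map (MulAut.conj x⁻¹).toMonoidHom := h ▸ Subgroup.mem_top _
    rw [mem_map_conj] at this
    convert this using 1
    group
  have h5 := hmax _ h3 h4
  intro y hy
  have h6 : x⁻¹ * y * x ∈ M := h5 (by
    rw [mem_map_conj]
    convert hy using 1
    group)
  have h7 := mul_mem (mul_mem hx h6) (inv_mem hx)
  convert h7 using 1
  group

/-- The join of the subgroups of `R` with good image. -/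
def goodJoin (φ : H →* MulAut V) (R : Subgroup H) : Subgroup H :=
  sSup {A | A ≤ R ∧ Good (A.map φ)}

theorem goodJoin_le (φ : H →* MulAut V) (R : Subgroup H) : goodJoin φ R ≤ R :=
  sSup_le fun _ h => h.1

theorem le_goodJoin {φ : H →* MulAut V} {R A : Subgroup H} (hAR : A ≤ R) (hA : Good (A.map φ)) :
    A ≤ goodJoin φ R := le_sSup ⟨hAR, hA⟩

theorem map_conj_map (φ : H →* MulAut V) (A : Subgroup H) (x : H) :
    (A.map (MulAut.conj x).toMonoidHom).map φ = (A.map φ).map (MulAut.conj (φ x)).toMonoidHom := by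
  ext y
  constructor
  · rintro ⟨_, ⟨a, ha, rfl⟩, rfl⟩
    refine ⟨φ a, ⟨a, ha, rfl⟩, ?_⟩
    show φ x * φ a * (φ x)⁻¹ = φ (x * a * x⁻¹)
    rw [map_mul, map_mul, map_inv]
  · rintro ⟨_, ⟨a, ha, rfl⟩, rfl⟩
    refine ⟨x * a * x⁻¹, ⟨a, ha, rfl⟩, ?_⟩
    show φ (x * a * x⁻¹) = φ x * φ a * (φ x)⁻¹
    rw [map_mul, map_mul, map_inv]

theorem normalizer_le_goodJoin [Finite V] (φ : H →* MulAut V) (R : Subgroup H) :
    Subgroup.normalizer (R : Set H) ≤ Subgroup.normalizer (goodJoin φ R : Set H) := by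
  have key : ∀ x ∈ Subgroup.normalizer (R : Set H), ∀ g ∈ goodJoin φ R,
      x * g * x⁻¹ ∈ goodJoin φ R := by
    intro x hx g hg
    have h1 : goodJoin φ R ≤ (goodJoin φ R).comap (MulAut.conj x).toMonoidHom := by
      refine sSup_le ?_
      rintro A ⟨hAR, hA⟩
      rw [← Subgroup.map_le_iff_le_comap]
      refine le_goodJoin ?_ ?_
      · rintro _ ⟨a, ha, rfl⟩
        exact (Subgroup.mem_normalizer_iff.1 hx a).1 (hAR ha)
      · rw [map_conj_map]
        exact good_conj hA _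
    exact h1 hg
  intro x hx
  rw [Subgroup.mem_normalizer_iff]
  intro g
  constructor
  · exact key x hx g
  · intro h
    have h2 := key x⁻¹ (inv_mem hx) _ h
    convert h2 using 1
    group

/-- Step 2: a proper subgroup containing a `2`-subgroup of `M` with good image lies in `M`. -/
theorem step2 [Finite H] [Finite V] {φ : H →* MulAut V} {T : Sylow 2 H} {M : Subgroup H}
    (hC : Cfg φ T M) (hIH : IHyp.{u, v} (Nat.card H + Nat.card V)) (hF : fixV φ.range = ⊥)
    {A X : Subgroup H} (hA2 : IsPGroup 2 A) (hAM : A ≤ M) (hA : Good (A.map φ)) (hAX : A ≤ X)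
    (hX : X ≠ ⊤) : X ≤ M := by
  classical
  have : Fact (Nat.Prime 2) := ⟨Nat.prime_two⟩
  by_contra hXM
  let PP : Set (Subgroup H) := {R | IsPGroup 2 R ∧ R ≤ M ∧ (∃ A ≤ R, Good (A.map φ)) ∧
    ∃ N : Subgroup H, N ≠ ⊤ ∧ ¬ N ≤ M ∧ R ≤ N}
  obtain ⟨R, hRP, hRmax⟩ := PP.toFinite.exists_maximalFor (fun R : Subgroup H => Nat.card R) PP
    ⟨A, hA2, hAM, ⟨A, le_rfl, hA⟩, X, hX, hXM, hAX⟩
  obtain ⟨hR2, hRM, ⟨A₀, hA₀R, hA₀⟩, N, hNtop, hNM, hRN⟩ := hRP
  have hmaxR : ∀ R' ∈ PP, R < R' → False := fun R' hR' hlt =>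
    absurd (hRmax hR' (Nat.le_of_lt (PLocal.ConjFunctor.card_lt_card_of_lt hlt)))
      (not_le.2 (PLocal.ConjFunctor.card_lt_card_of_lt hlt))
  obtain ⟨T', hRT', hT'M, hT'max⟩ := exists_sylow_le hC.le hC.max hR2 hRM
  have hRneT' : R < (T' : Subgroup H) := by
    refine lt_of_le_of_ne hRT' ?_
    intro h
    exact hNM (hT'max N (h ▸ hRN) hNtop)
  set K := Subgroup.normalizer (goodJoin φ R : Set H) with hK
  have hRK : Subgroup.normalizer (R : Set H) ≤ K := normalizer_le_goodJoin φ R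
  have hKM : K ≤ M := by
    by_contra hKM
    by_cases hKtop : K = ⊤
    · have hn : (goodJoin φ R).Normal := Subgroup.normalizer_eq_top_iff.1 hKtop
      exact eq_bot_of_good_le_ker hA₀ ((le_goodJoin hA₀R hA₀).trans
        ((Cores.le_pCore hn (hR2.to_le (goodJoin_le φ R))).trans hC.core))
    · have h1 := PLocal.ConjFunctor.lt_inf_normalizer T'.isPGroup' hRneT'
      exact hmaxR _ ⟨T'.isPGroup'.to_le inf_le_left, inf_le_left.trans hT'M,
        ⟨A₀, hA₀R.trans h1.le, hA₀⟩, K, hKtop, hKM, inf_le_right.trans hRK⟩ h1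
  -- `R` is a Sylow subgroup of `N`
  have hsylN : ∀ R' : Subgroup H, IsPGroup 2 R' → R' ≤ N → R ≤ R' → R' = R := by
    intro R' hR'2 hR'N hRR'
    by_contra hne
    have h1 := PLocal.ConjFunctor.lt_inf_normalizer hR'2 (lt_of_le_of_ne hRR' (Ne.symm hne))
    exact hmaxR _ ⟨hR'2.to_le inf_le_left, (inf_le_right.trans hRK).trans hKM,
      ⟨A₀, hA₀R.trans h1.le, hA₀⟩, N, hNtop, hNM, inf_le_left.trans hR'N⟩ h1
  -- minimal `P`
  obtain ⟨P, hPmin⟩ := (Set.toFinite {P : Subgroup H | R ≤ P ∧ P ≤ N ∧ ¬ P ≤ M}).exists_minimal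
    ⟨N, hRN, le_rfl, hNM⟩
  obtain ⟨hRP, hPN, hPM⟩ := hPmin.prop
  have hPtop : P ≠ ⊤ := by
    rintro rfl
    exact hNtop (top_le_iff.1 hPN)
  have hsyl : ∀ R' : Subgroup H, IsPGroup 2 R' → R' ≤ P → R ≤ R' → R' = R := fun R' h1 h2 h3 =>
    hsylN R' h1 (h2.trans hPN) h3
  have hPcard : Nat.card P < Nat.card H := by
    have := PLocal.ConjFunctor.card_lt_card_of_lt (lt_top_iff_ne_top.2 hPtop)
    rwa [Subgroup.card_top] at this
  -- the Sylow subgroup of `P`
  obtain ⟨S, hS⟩ := PLocal.ConjFunctor.exists_sylow_of_le hR2 hRP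
  have hSR : (S : Subgroup P).map P.subtype = R :=
    hsyl _ (PLocal.ConjFunctor.isPGroup_map_sylow S) (Subgroup.map_subtype_le _) hS
  have hSR' : (S : Subgroup P) = R.subgroupOf P := by
    rw [← hSR, Subgroup.subgroupOf, Subgroup.comap_map_eq_self_of_injective P.subtype_injective]
  set MP : Subgroup P := M.subgroupOf P with hMP
  have hSMP : (S : Subgroup P) ≤ MP := by
    rw [hSR']
    exact Subgroup.comap_mono hRM
  have hMPtop : MP ≠ ⊤ := by
    rw [hMP, Ne, Subgroup.subgroupOf_eq_top]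
    exact hPM
  have hMPmax : ∀ Y : Subgroup P, (S : Subgroup P) ≤ Y → Y ≠ ⊤ → Y ≤ MP := by
    intro Y hSY hYtop
    by_contra hYM
    have h1 : R ≤ Y.map P.subtype := by
      rw [← hSR]
      exact Subgroup.map_mono hSY
    have h2 : ¬ Y.map P.subtype ≤ M := by
      intro h
      apply hYM
      rw [hMP, Subgroup.subgroupOf, ← Subgroup.map_le_iff_le_comap]
      exact h
    have h3 := hPmin.2 (y := Y.map P.subtype)
      ⟨h1, (Subgroup.map_subtype_le Y).trans hPN, h2⟩ (Subgroup.map_subtype_le Y)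
    apply hYtop
    rw [eq_top_iff]
    intro y _
    obtain ⟨z, hz, hzy⟩ := h3 y.2
    rwa [← Subtype.ext hzy]
  -- the module
  set φ' : P →* MulAut V := φ.comp P.subtype with hφ'
  set W : Subgroup V := fixV ((pCore 2 P).map φ') with hWdef
  have hW : ∀ x : P, ∀ w ∈ W, φ' x w ∈ W := by
    rintro x w hw _ ⟨c, hc, rfl⟩
    have h1 : φ' (x⁻¹ * c * x) w = w := hw _ ⟨x⁻¹ * c * x, by
      have := (Cores.pCore_normal (G := P) 2).conj_mem c hc x⁻¹
      rwa [inv_inv] at this, rfl⟩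
    have h2 : c * x = x * (x⁻¹ * c * x) := by group
    rw [← MulAut.mul_apply, ← map_mul, h2, map_mul, MulAut.mul_apply, h1]
  set ψ := subHom φ' W hW with hψ
  have hcoreψ : pCore 2 P ≤ ψ.ker := by
    intro c hc
    rw [mem_ker_subHom]
    intro w hw
    exact hw _ ⟨c, hc, rfl⟩
  have hcoreS : pCore 2 P ≤ (S : Subgroup P) := Cores.pCore_le_sylow S
  by_cases hkM : ψ.ker ≤ MP
  · have hC' : Cfg ψ S MP :=
      { exp := fun w => Subtype.ext (hC.exp w)
        le := hSMP
        ne := hMPtop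
        max := hMPmax
        core := hcoreψ
        ker := hkM
        noS3 := noS3_subHom (noS3_restrict hC.noS3 P) _ _ }
    have hWV : Nat.card W ≤ Nat.card V := Subgroup.card_le_card_group W
    have hoff := hIH P W ψ S MP (by omega) hC'
    have hinf := inf_le_pCore S hMPtop hMPmax ψ.ker hkM
    -- a good subgroup not in the core
    have hex : ∃ A₁ ≤ R, Good (A₁.map φ) ∧ ¬ A₁ ≤ (pCore 2 P).map P.subtype := by
      by_contra hcon
      push Not at hcon
      have h1 : goodJoin φ R = goodJoin φ ((pCore 2 P).map P.subtype) := by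
        apply le_antisymm
        · refine sSup_le ?_
          rintro A₁ ⟨h2, h3⟩
          exact le_goodJoin (hcon A₁ h2 h3) h3
        · refine sSup_le ?_
          rintro A₁ ⟨h2, h3⟩
          exact le_goodJoin (h2.trans ((Subgroup.map_mono hcoreS).trans hSR.le)) h3
      apply hPM
      refine le_trans ?_ hKM
      rw [hK, h1]
      refine le_trans ?_ (normalizer_le_goodJoin φ _)
      have h2 := Cores.pCore_normal (G := P) 2
      intro x hx
      rw [Subgroup.mem_normalizer_iff]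
      intro y
      constructor
      · rintro ⟨c, hc, rfl⟩
        exact ⟨⟨x, hx⟩ * c * ⟨x, hx⟩⁻¹, h2.conj_mem c hc _, rfl⟩
      · rintro ⟨c, hc, hcy⟩
        have e : y = x⁻¹ * (x * y * x⁻¹) * x := by group
        refine ⟨⟨x, hx⟩⁻¹ * c * ⟨x, hx⟩, ?_, ?_⟩
        · have := h2.conj_mem c hc (⟨x, hx⟩ : P)⁻¹
          rwa [inv_inv] at this
        · rw [e, ← hcy]
          rfl
    obtain ⟨A₁, hA₁R, hA₁, hA₁c⟩ := hex
    set AP : Subgroup P := A₁.subgroupOf P with hAP
    have hAPmap : AP.map φ' = A₁.map φ := by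
      rw [hφ', ← Subgroup.map_map, hAP, Subgroup.subgroupOf_map_subtype,
        inf_eq_left.2 (hA₁R.trans hRP)]
    have hAPS : AP ≤ (S : Subgroup P) := by
      rw [hSR']
      exact Subgroup.comap_mono hA₁R
    have hAPgood : Good (AP.map φ') := by
      rw [hAPmap]
      exact hA₁
    have h1 := hoff AP hAPS (by
      intro a ha b hb
      ext w
      show (φ' a * φ' b) (w : V) = (φ' b * φ' a) (w : V)
      rw [good_comm hAPgood _ ⟨a, ha, rfl⟩ _ ⟨b, hb, rfl⟩]) (by
        intro h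
        apply hA₁c
        have h2 : AP ≤ pCore 2 P := fun a ha => hinf ⟨hAPS ha, h ha⟩
        have h3 := Subgroup.map_mono (f := P.subtype) h2
        rw [hAP, Subgroup.subgroupOf_map_subtype, inf_eq_left.2 (hA₁R.trans hRP)] at h3
        exact h3)
    exact absurd (card_le_of_good φ' AP hAPgood W hW) (not_le.2 h1)
  · -- `P` fixes the fixed points of `T'`
    have htop : (S : Subgroup P) ⊔ ψ.ker = ⊤ := by
      by_contra hne
      exact hkM (le_sup_right.trans (hMPmax _ le_sup_left hne))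
    have hVnt : Nontrivial V := by
      by_contra hnt
      rw [not_nontrivial_iff_subsingleton] at hnt
      apply hA.ne
      rw [← fixV_eq_top_iff, eq_top_iff]
      intro v _
      have : v = 1 := Subsingleton.elim _ _
      rw [this]
      exact one_mem _
    obtain ⟨w, hw1, hw⟩ := exists_fixed (isPGroup_of_exp hC.exp) φ T' T'.isPGroup'
    set C : Subgroup V := fixV ((T' : Subgroup H).map φ) with hCdef
    have hwC : w ∈ C := by
      rintro _ ⟨t, ht, rfl⟩
      exact hw t ht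
    let Q : Subgroup H := (cen (⊤ : Subgroup (MulAut V)) C).comap φ
    have hT'Q : (T' : Subgroup H) ≤ Q := fun t ht => ⟨Subgroup.mem_top _, fun c hc => hc _ ⟨t, ht, rfl⟩⟩
    have hQtop : Q ≠ ⊤ := by
      intro h
      have h1 : w ∈ fixV φ.range := by
        rw [mem_fixV_range]
        intro x
        have : x ∈ Q := h ▸ Subgroup.mem_top x
        exact this.2 w hwC
      rw [hF] at h1
      exact hw1 h1
    have hQM := hT'max Q hT'Q hQtop
    apply hPM
    refine le_trans ?_ hQM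
    have hCW : C ≤ W := by
      rintro c hc _ ⟨k, hk, rfl⟩
      refine hc _ ⟨k, ?_, rfl⟩
      apply hRT'
      rw [← hSR]
      exact ⟨k, hcoreS hk, rfl⟩
    have h1 : (S : Subgroup P) ⊔ ψ.ker ≤ Q.subgroupOf P := by
      refine sup_le ?_ ?_
      · rw [hSR']
        exact Subgroup.comap_mono (hRT'.trans hT'Q)
      · intro k hk
        rw [mem_ker_subHom] at hk
        exact ⟨Subgroup.mem_top _, fun c hc => hk c (hCW hc)⟩
    rw [htop, top_le_iff, Subgroup.subgroupOf_eq_top] at h1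
    exact h1

theorem mem_fixV_map_map {φ : H →* MulAut V} {A : Subgroup H} {x : H} {v : V} :
    v ∈ fixV ((A.map (MulAut.conj x).toMonoidHom).map φ) ↔ φ x⁻¹ v ∈ fixV (A.map φ) := by
  rw [map_conj_map, fixV_conj]
  constructor
  · rintro ⟨w, hw, rfl⟩
    have : φ x⁻¹ ((φ x).toMonoidHom w) = w := by
      show φ x⁻¹ (φ x w) = w
      rw [← MulAut.mul_apply, ← map_mul, inv_mul_cancel, map_one, MulAut.one_apply]
    rw [this]
    exact hw
  · intro h
    refine ⟨_, h, ?_⟩
    show φ x (φ x⁻¹ v) = v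
    rw [← MulAut.mul_apply, ← map_mul, mul_inv_cancel, map_one, MulAut.one_apply]

/-- Step 3: the final contradiction. -/
theorem step3 [Finite H] [Finite V] {φ : H →* MulAut V} {T : Sylow 2 H} {M : Subgroup H}
    (hC : Cfg φ T M) (hIH : IHyp.{u, v} (Nat.card H + Nat.card V)) (hF : fixV φ.range = ⊥)
    {A : Subgroup H} (hAT : A ≤ T) (hA : Good (A.map φ)) : False := by
  classical
  have : Fact (Nat.Prime 2) := ⟨Nat.prime_two⟩
  have hA2 : IsPGroup 2 A := T.isPGroup'.to_le hAT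
  have hAM : A ≤ M := hAT.trans hC.le
  have hVnt : Nontrivial V := by
    by_contra hnt
    rw [not_nontrivial_iff_subsingleton] at hnt
    apply hA.ne
    rw [← fixV_eq_top_iff, eq_top_iff]
    intro v _
    have : v = 1 := Subsingleton.elim _ _
    rw [this]
    exact one_mem _
  -- 3a
  have hgen : ∀ x : H, x ∉ M → A ⊔ A.map (MulAut.conj x).toMonoidHom = ⊤ := by
    intro x hx
    by_contra hne
    have h1 : A.map (MulAut.conj x).toMonoidHom ≤ M :=
      le_sup_right.trans (step2 hC hIH hF hA2 hAM hA le_sup_left hne)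
    have h2 : Good ((A.map (MulAut.conj x).toMonoidHom).map φ) := by
      rw [map_conj_map]
      exact good_conj hA _
    have h3 : M.map (MulAut.conj x).toMonoidHom ≠ ⊤ := by
      intro h
      apply hC.ne
      have h4 : Nat.card (M.map (MulAut.conj x).toMonoidHom) = Nat.card M :=
        Subgroup.card_map_of_injective (MulAut.conj x).injective
      rw [h, Subgroup.card_top] at h4
      exact Subgroup.eq_top_of_card_eq M h4.symm
    have h4 : M.map (MulAut.conj x).toMonoidHom ≤ M :=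
      step2 hC hIH hF (hA2.map _) h1 h2 (Subgroup.map_mono hAM) h3
    have h5 : M.map (MulAut.conj x).toMonoidHom = M :=
      Subgroup.eq_of_le_of_card_ge h4
        (Subgroup.card_map_of_injective (MulAut.conj x).injective).ge
    have h6 : x ∈ Subgroup.normalizer (M : Set H) := by
      rw [Subgroup.mem_normalizer_iff]
      intro m
      constructor
      · intro hm
        rw [← h5]
        exact ⟨m, hm, rfl⟩
      · intro hm
        rw [← h5, mem_map_conj] at hm
        convert hm using 1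
        group
    by_cases h7 : Subgroup.normalizer (M : Set H) = ⊤
    · have h8 : M.Normal := Subgroup.normalizer_eq_top_iff.1 h7
      have h9 := inf_le_pCore T hC.ne hC.max M le_rfl
      rw [inf_eq_left.2 hC.le] at h9
      exact eq_bot_of_good_le_ker hA (hAT.trans (h9.trans hC.core))
    · exact hx (hC.max _ (hC.le.trans Subgroup.le_normalizer) h7 h6)
  -- 3b
  obtain ⟨x, hx⟩ : ∃ x, x ∉ M := by
    by_contra hcon
    push Not at hcon
    exact hC.ne (eq_top_iff.2 fun x _ => hcon x)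
  set Ax := A.map (MulAut.conj x).toMonoidHom with hAx
  have hAAx := hgen x hx
  set Y := fixV (A.map φ) with hY
  set Yx := fixV (Ax.map φ) with hYx
  have hfixgen : ∀ (K L : Subgroup H), K ⊔ L = ⊤ → ∀ v : V, (∀ k ∈ K, φ k v = v) →
      (∀ l ∈ L, φ l v = v) → v = 1 := by
    intro K L hKL v hK hL
    have h1 : K ⊔ L ≤ (MulAction.stabilizer (MulAut V) v).comap φ :=
      sup_le (fun k hk => hK k hk) (fun l hl => hL l hl)
    have h2 : v ∈ fixV φ.range := by
      rw [mem_fixV_range]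
      intro h
      have : h ∈ K ⊔ L := hKL ▸ Subgroup.mem_top h
      exact h1 this
    rwa [hF] at h2
  have hinf : Y ⊓ Yx = ⊥ := by
    rw [eq_bot_iff]
    rintro v ⟨h1, h2⟩
    exact hfixgen A Ax hAAx v (fun k hk => h1 _ ⟨k, hk, rfl⟩) (fun l hl => h2 _ ⟨l, hl, rfl⟩)
  have hgoodx : Good (Ax.map φ) := by
    rw [hAx, map_conj_map]
    exact good_conj hA _
  have hcommle : ∀ B : Subgroup (MulAut V), Good B → comm B ≤ fixV B := fun B hB =>
    comm_le.2 fun b hb v a ha => hB.quad a ha b hb v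
  set U := comm (A.map φ) ⊔ comm (Ax.map φ) with hU
  let S : Subgroup H :=
    { carrier := {h | ∀ v, φ h v * v⁻¹ ∈ U}
      one_mem' := fun v => by
        rw [map_one, MulAut.one_apply, mul_inv_cancel]
        exact one_mem _
      mul_mem' := fun {a b} ha hb v => by
        have h1 := mul_mem (ha (φ b v)) (hb v)
        rw [← mul_assoc, inv_mul_cancel_right] at h1
        rw [map_mul, MulAut.mul_apply]
        exact h1
      inv_mem' := fun {a} ha v => by
        have h1 := inv_mem (ha (φ a⁻¹ v))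
        rw [← MulAut.mul_apply, ← map_mul, mul_inv_cancel, map_one, MulAut.one_apply, mul_inv_rev,
          inv_inv] at h1
        exact h1 }
  have hStop : S = ⊤ := by
    rw [eq_top_iff, ← hAAx]
    refine sup_le ?_ ?_
    · intro a ha v
      exact (le_sup_left : comm (A.map φ) ≤ U) (mem_comm (Subgroup.mem_map_of_mem φ ha) v)
    · intro a ha v
      exact (le_sup_right : comm (Ax.map φ) ≤ U) (mem_comm (Subgroup.mem_map_of_mem φ ha) v)
  have hUinv : ∀ h : H, ∀ w ∈ U, φ h w ∈ U := by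
    intro h w hw
    have h1 : h ∈ S := hStop ▸ Subgroup.mem_top h
    have h2 := mul_mem (h1 w) hw
    rwa [inv_mul_cancel_right] at h2
  have hUtop : U = ⊤ := by
    rcases step1 hC hIH hF hAT hA U hUinv with h | h
    · exfalso
      apply hA.ne
      rw [eq_bot_iff]
      intro b hb
      rw [Subgroup.mem_bot]
      ext v
      have h1 : b v * v⁻¹ ∈ U := (le_sup_left : comm (A.map φ) ≤ U) (mem_comm hb v)
      rw [h, Subgroup.mem_bot, mul_inv_eq_one] at h1
      exact h1
    · exact h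
  have hsup : Y ⊔ Yx = ⊤ := by
    rw [eq_top_iff, ← hUtop]
    exact sup_le_sup (hcommle _ hA) (hcommle _ hgoodx)
  have hcardYx : Nat.card Yx = Nat.card Y := by
    rw [hYx, hAx, map_conj_map, card_fixV_conj]
  have hcardV : Nat.card V ≤ Nat.card Y * Nat.card Y := by
    have h1 : Function.Surjective (fun p : Y × Yx => (p.1 : V) * (p.2 : V)) := by
      intro v
      have : v ∈ Y ⊔ Yx := hsup ▸ Subgroup.mem_top v
      obtain ⟨y, hy, z, hz, rfl⟩ := Subgroup.mem_sup.1 this
      exact ⟨(⟨y, hy⟩, ⟨z, hz⟩), rfl⟩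
    have h2 := Nat.card_le_card_of_surjective _ h1
    rwa [Nat.card_prod, hcardYx] at h2
  have hcardV' : Nat.card Y * Nat.card Y ≤ Nat.card V := by
    have h1 := Timmesfeld.card_mul_card_le (B₁ := Y) (B₂ := Yx) (B₃ := ⊤) le_top le_top
    rwa [hinf, Subgroup.card_bot, one_mul, hcardYx, Subgroup.card_top] at h1
  have hYpos : 0 < Nat.card Y := Nat.card_pos
  have hYB : Nat.card Y ≤ Nat.card (A.map φ) :=
    Nat.le_of_mul_le_mul_right (hcardV'.trans hA.off) hYpos
  -- 3c
  have hfixa : ∀ a ∈ A, φ a ≠ 1 → ∀ v, φ a v = v → v ∈ Y := by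
    intro a ha ha1
    obtain ⟨y, hy⟩ : ∃ y : H, y * a * y⁻¹ ∉ M := by
      by_contra hcon
      push Not at hcon
      have h1 : Subgroup.normalClosure {a} ≤ M := by
        rw [Subgroup.normalClosure, Subgroup.closure_le]
        intro z hz
        obtain ⟨a', ha', hz⟩ := Group.mem_conjugatesOfSet_iff.1 hz
        rw [Set.mem_singleton_iff.1 ha', isConj_iff] at hz
        obtain ⟨c, hc⟩ := hz
        rw [← hc]
        exact hcon c
      have h2 := inf_le_pCore T hC.ne hC.max _ h1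
      exact ha1 (hC.core (h2 ⟨hAT ha, Subgroup.subset_normalClosure rfl⟩))
    set b := y * a * y⁻¹ with hb
    have h1 := hgen b hy
    set Z := fixV ((Subgroup.zpowers a).map φ) with hZ
    have hZmem : ∀ v, φ a v = v → v ∈ Z := by
      intro v hv
      have h2 : Subgroup.zpowers a ≤ (MulAction.stabilizer (MulAut V) v).comap φ :=
        Subgroup.zpowers_le.2 hv
      rintro _ ⟨c, hc, rfl⟩
      exact h2 hc
    set Zy := fixV (((Subgroup.zpowers a).map (MulAut.conj y).toMonoidHom).map φ) with hZy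
    have hcZ : Nat.card Zy = Nat.card Z := by
      rw [hZy, map_conj_map, card_fixV_conj]
    have hinf2 : Zy ⊓ Y = ⊥ := by
      rw [eq_bot_iff]
      rintro v ⟨h2, h3⟩
      have h4 : φ b v = v := h2 _ ⟨b, ⟨a, Subgroup.mem_zpowers a, rfl⟩, rfl⟩
      have h5 : φ b⁻¹ v = v := by
        conv_lhs => rw [← h4]
        rw [← MulAut.mul_apply, ← map_mul, inv_mul_cancel, map_one, MulAut.one_apply]
      refine hfixgen A _ h1 v (fun k hk => h3 _ ⟨k, hk, rfl⟩) ?_
      rintro _ ⟨k, hk, rfl⟩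
      show φ (b * k * b⁻¹) v = v
      rw [map_mul, map_mul, MulAut.mul_apply, MulAut.mul_apply, h5, h3 _ ⟨k, hk, rfl⟩, h4]
    have h2 := Timmesfeld.card_mul_card_le (B₁ := Zy) (B₂ := Y) (B₃ := ⊤) le_top le_top
    rw [hinf2, Subgroup.card_bot, one_mul, hcZ, Subgroup.card_top] at h2
    have h3 : Nat.card Z ≤ Nat.card Y := Nat.le_of_mul_le_mul_right (h2.trans hcardV) hYpos
    have h4 : Y ≤ Z := by
      apply fixV_anti
      apply Subgroup.map_mono
      rwa [Subgroup.zpowers_le]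
    have h5 : Y = Z := Subgroup.eq_of_le_of_card_ge h4 h3
    intro v hv
    rw [h5]
    exact hZmem v hv
  have hfixax : ∀ a ∈ Ax, φ a ≠ 1 → ∀ v, φ a v = v → v ∈ Yx := by
    rintro _ ⟨a, ha, rfl⟩ ha1 v hv
    change φ (x * a * x⁻¹) ≠ 1 at ha1
    change φ (x * a * x⁻¹) v = v at hv
    rw [hYx, hAx, mem_fixV_map_map]
    refine hfixa a ha ?_ _ ?_
    · intro h
      apply ha1
      rw [map_mul, map_mul, h, mul_one, ← map_mul, mul_inv_cancel, map_one]
    · conv_rhs => rw [← hv]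
      rw [← MulAut.mul_apply, ← map_mul, ← MulAut.mul_apply, ← map_mul]
      congr 2
      group
  -- 3d
  have hsurj : ∀ (B : Subgroup (MulAut V)), Good B → Nat.card (fixV B) ≤ Nat.card B →
      ∀ v : V, (∀ b ∈ B, b ≠ 1 → b v ≠ v) → ∀ w ∈ fixV B, ∃ b ∈ B, b v = v * w := by
    intro B hB hcard v hv w hw
    let f : B → fixV B := fun b => ⟨(b : MulAut V) v * v⁻¹, hcommle B hB (mem_comm b.2 v)⟩
    have hf : Function.Injective f := by
      intro b b' h
      have h1 : (b : MulAut V) v = (b' : MulAut V) v :=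
        mul_right_cancel (congrArg Subtype.val h)
      by_contra hne
      refine hv ((b : MulAut V)⁻¹ * b') (mul_mem (inv_mem b.2) b'.2) ?_ ?_
      · intro h2
        exact hne (Subtype.ext (inv_mul_eq_one.1 h2))
      · rw [MulAut.mul_apply, ← h1, MulAut.inv_apply_self]
    have hf2 : Function.Surjective f := by
      have h3 : Nat.card B = Nat.card (fixV B) :=
        le_antisymm (Nat.card_le_card_of_injective f hf) hcard
      exact ((Nat.bijective_iff_injective_and_card f).2 ⟨hf, h3⟩).2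
    obtain ⟨b, hb⟩ := hf2 ⟨w, hw⟩
    refine ⟨b, b.2, ?_⟩
    have h4 : (b : MulAut V) v * v⁻¹ = w := congrArg Subtype.val hb
    rw [← h4, mul_comm v, inv_mul_cancel_right]
  have hYne : Y ≠ ⊥ := by
    intro h
    rw [h, Subgroup.card_bot, mul_one] at hcardV
    have := Finite.one_lt_card (α := V)
    omega
  have hYxne : Yx ≠ ⊥ := by
    intro h
    apply hYne
    rw [h, Subgroup.card_bot] at hcardYx
    exact Subgroup.card_eq_one.1 hcardYx.symm
  obtain ⟨⟨w, hwY⟩, hw1'⟩ := Subgroup.ne_bot_iff_exists_ne_one.1 hYne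
  obtain ⟨⟨v, hvY⟩, hv1'⟩ := Subgroup.ne_bot_iff_exists_ne_one.1 hYxne
  have hw1 : w ≠ 1 := fun h => hw1' (Subtype.ext h)
  have hv1 : v ≠ 1 := fun h => hv1' (Subtype.ext h)
  have hdisj : ∀ z, z ∈ Y → z ∈ Yx → z = 1 := by
    intro z h1 h2
    have : z ∈ Y ⊓ Yx := ⟨h1, h2⟩
    rwa [hinf] at this
  obtain ⟨_, ⟨a, ha, rfl⟩, hav⟩ := hsurj (A.map φ) hA hYB v (by
    rintro _ ⟨a, ha, rfl⟩ ha1 hav
    exact hv1 (hdisj v (hfixa a ha ha1 v hav) hvY)) w hwY
  have hcardBx : Nat.card (Ax.map φ) = Nat.card (A.map φ) := by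
    rw [hAx, map_conj_map]
    exact Subgroup.card_map_of_injective (MulAut.conj (φ x)).injective
  obtain ⟨_, ⟨b, hb, rfl⟩, hbw⟩ := hsurj (Ax.map φ) hgoodx (by
    rw [hcardBx, ← hYx, hcardYx]
    exact hYB) w (by
    rintro _ ⟨a, ha, rfl⟩ ha1 hav
    exact hw1 (hdisj w hwY (hfixax a ha ha1 w hav))) v hvY
  exact not_noS3 (hC.exp v) (hC.exp w) hv1 hw1 (fun h => hv1 (hdisj v (h ▸ hwY) hvY)) hav
    (hwY _ ⟨a, ha, rfl⟩) hbw (hvY _ ⟨b, hb, rfl⟩) hC.noS3

/-- The no-offender theorem. -/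
theorem noOff_aux (n : ℕ) : IHyp.{u, v} n := by
  induction n with
  | zero =>
    intro H _ _ V _ _ φ T M h
    exact absurd h (Nat.not_lt_zero _)
  | succ n ih =>
    intro H _ _ V _ _ φ T M h hC
    have hIH : IHyp.{u, v} (Nat.card H + Nat.card V) := by
      intro H' _ _ V' _ _ φ' T' M' h' hC'
      exact ih H' V' φ' T' M' (by omega) hC'
    by_cases hF : fixV φ.range = ⊥
    · intro A hAT hcomm hAker
      by_contra hcon
      rw [not_lt] at hcon
      obtain ⟨D, hDA, hD⟩ := exists_good (isPGroup_of_exp hC.exp) (A.map φ)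
        ((T.isPGroup'.to_le hAT).map φ) (by
          rintro _ ⟨a, ha, rfl⟩ _ ⟨b, hb, rfl⟩
          exact hcomm a ha b hb) (by
          intro h
          exact hAker ((Subgroup.map_eq_bot_iff _).1 h)) hcon
      have h1 : (A ⊓ D.comap φ).map φ = D := by
        ext d
        constructor
        · rintro ⟨a, ⟨_, ha⟩, rfl⟩
          exact ha
        · intro hd
          obtain ⟨a, ha, rfl⟩ := hDA hd
          exact ⟨a, ⟨ha, hd⟩, rfl⟩
      exact step3 hC hIH hF (A := A ⊓ D.comap φ) (inf_le_left.trans hAT) (h1.symm ▸ hD)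
    · exact step0 hC hIH hF

/-- **No offenders**: `H` a finite group with a unique maximal subgroup `M` containing a Sylow
`2`-subgroup `T`, acting on an elementary abelian `2`-group `V` such that `O₂(H)` acts trivially,
the kernel is in `M` and no section of the image is `S₃`. Then no subgroup `A` of `T` with abelian
nontrivial image satisfies `|V| ≤ |A/C_A(V)| |C_V(A)|`. -/
theorem noOff [Finite H] [Finite V] {φ : H →* MulAut V} {T : Sylow 2 H} {M : Subgroup H}
    (hC : Cfg φ T M) : NoOff φ T :=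
  noOff_aux _ H V φ T M (Nat.lt_succ_self _) hC

end offender

end Cfsg.Agent.PLocal.SFourOffender
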