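import Mathlib
import Cfsg.Agent.PLocal.SFourOffender

set_option autoImplicit false

/-!
# Unoffended subgroups

For a group `H` acting on an abelian group `V` (`φ : H →* MulAut V`), `T ≤ H`, `U ≤ V`:
`Unoff φ T U` says that `U` is `T`-invariant and no subgroup of `T` with abelian image in `Aut U`
is an offender on `U`. Basic lemmas: conjugation, restriction, joins, the largest unoffended
subgroup `wst φ T`.
-/

namespace Cfsg.Agent.PLocal.S4FreeClosureBasic

open Cfsg.Agent.PLocal.SFourBasic Cfsg.Agent.PLocal.SFourOffender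

universe u v

section defs

variable {H : Type u} [Group H] {V : Type v} [CommGroup V]

/-- The fixed points of `A` on `V`. -/
def fx (φ : H →* MulAut V) (A : Subgroup H) : Subgroup V where
  carrier := {v | ∀ a ∈ A, φ a v = v}
  one_mem' := fun a _ => map_one (φ a)
  mul_mem' := by
    intro x y hx hy a ha
    rw [map_mul, hx a ha, hy a ha]
  inv_mem' := by
    intro x hx a ha
    rw [map_inv, hx a ha]

theorem mem_fx {φ : H →* MulAut V} {A : Subgroup H} {v : V} :
    v ∈ fx φ A ↔ ∀ a ∈ A, φ a v = v := Iff.rfl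

/-- The pointwise stabiliser of `U` in `H`. -/
def cn (φ : H →* MulAut V) (U : Subgroup V) : Subgroup H where
  carrier := {h | ∀ u ∈ U, φ h u = u}
  one_mem' := fun u _ => by rw [map_one, MulAut.one_apply]
  mul_mem' := by
    intro x y hx hy u hu
    rw [map_mul, MulAut.mul_apply, hy u hu, hx u hu]
  inv_mem' := by
    intro x hx u hu
    conv_lhs => rw [← hx u hu]
    rw [← MulAut.mul_apply, ← map_mul, inv_mul_cancel, map_one, MulAut.one_apply]

theorem mem_cn {φ : H →* MulAut V} {U : Subgroup V} {h : H} :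
    h ∈ cn φ U ↔ ∀ u ∈ U, φ h u = u := Iff.rfl

theorem fx_eq (φ : H →* MulAut V) (A : Subgroup H) : fx φ A = fixV (A.map φ) := by
  ext v
  constructor
  · rintro h _ ⟨a, ha, rfl⟩
    exact h a ha
  · intro h a ha
    exact h _ ⟨a, ha, rfl⟩

theorem fx_anti (φ : H →* MulAut V) {A B : Subgroup H} (h : A ≤ B) : fx φ B ≤ fx φ A :=
  fun _ hv a ha => hv a (h ha)

theorem cn_anti (φ : H →* MulAut V) {U W : Subgroup V} (h : U ≤ W) : cn φ W ≤ cn φ U :=
  fun _ hv a ha => hv a (h ha)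

theorem fx_sup (φ : H →* MulAut V) (A B : Subgroup H) : fx φ (A ⊔ B) = fx φ A ⊓ fx φ B := by
  apply le_antisymm
  · exact le_inf (fx_anti φ le_sup_left) (fx_anti φ le_sup_right)
  · rintro v ⟨h1, h2⟩
    have h3 : A ⊔ B ≤ (MulAction.stabilizer (MulAut V) v).comap φ :=
      sup_le (fun a ha => h1 a ha) (fun b hb => h2 b hb)
    exact fun a ha => h3 ha

theorem le_fx_iff {φ : H →* MulAut V} {A : Subgroup H} {U : Subgroup V} :
    U ≤ fx φ A ↔ A ≤ cn φ U :=
  ⟨fun h a ha u hu => h hu a ha, fun h u hu a ha => h ha u hu⟩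

theorem ker_le_cn (φ : H →* MulAut V) (U : Subgroup V) : φ.ker ≤ cn φ U := by
  intro h hh u _
  rw [MonoidHom.mem_ker.1 hh, MulAut.one_apply]

theorem cn_top (φ : H →* MulAut V) : cn φ ⊤ = φ.ker := by
  apply le_antisymm
  · intro h hh
    rw [MonoidHom.mem_ker]
    ext v
    exact hh v (Subgroup.mem_top v)
  · exact ker_le_cn φ _

theorem apply_inv_cancel (φ : H →* MulAut V) (h : H) (v : V) : φ h (φ h⁻¹ v) = v := by
  rw [← MulAut.mul_apply, ← map_mul, mul_inv_cancel, map_one, MulAut.one_apply]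

theorem inv_apply_cancel (φ : H →* MulAut V) (h : H) (v : V) : φ h⁻¹ (φ h v) = v := by
  rw [← MulAut.mul_apply, ← map_mul, inv_mul_cancel, map_one, MulAut.one_apply]

/-- The measure `|A / C_A(U)| * |C_U(A)|`. -/
noncomputable def ms (φ : H →* MulAut V) (U : Subgroup V) (A : Subgroup H) : ℕ :=
  (cn φ U).relIndex A * Nat.card (U ⊓ fx φ A : Subgroup V)

/-- `U` is invariant under `A`. -/
def Inv (φ : H →* MulAut V) (A : Subgroup H) (U : Subgroup V) : Prop :=
  ∀ a ∈ A, ∀ u ∈ U, φ a u ∈ U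

/-- `A` acts on `U` as an abelian group. -/
def AbOn (φ : H →* MulAut V) (A : Subgroup H) (U : Subgroup V) : Prop :=
  ∀ a ∈ A, ∀ b ∈ A, ∀ u ∈ U, φ a (φ b u) = φ b (φ a u)

/-- `U` is `T`-unoffended. -/
structure Unoff (φ : H →* MulAut V) (T : Subgroup H) (U : Subgroup V) : Prop where
  inv : Inv φ T U
  off : ∀ A ≤ T, AbOn φ A U → Nat.card U ≤ ms φ U A → A ≤ cn φ U

theorem Inv.mono {φ : H →* MulAut V} {A B : Subgroup H} {U : Subgroup V} (h : Inv φ B U)
    (hAB : A ≤ B) : Inv φ A U := fun a ha => h a (hAB ha)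

theorem AbOn.mono {φ : H →* MulAut V} {A B : Subgroup H} {U : Subgroup V} (h : AbOn φ B U)
    (hAB : A ≤ B) : AbOn φ A U := fun a ha b hb => h a (hAB ha) b (hAB hb)

theorem AbOn.anti {φ : H →* MulAut V} {A : Subgroup H} {U W : Subgroup V} (h : AbOn φ A W)
    (hUW : U ≤ W) : AbOn φ A U := fun a ha b hb u hu => h a ha b hb u (hUW hu)

theorem Unoff.mono {φ : H →* MulAut V} {S T : Subgroup H} {U : Subgroup V} (h : Unoff φ T U)
    (hST : S ≤ T) : Unoff φ S U :=
  ⟨h.inv.mono hST, fun A hA => h.off A (hA.trans hST)⟩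

theorem Inv.iff {φ : H →* MulAut V} {A : Subgroup H} {U : Subgroup V} (h : Inv φ A U) {a : H}
    (ha : a ∈ A) {v : V} : φ a v ∈ U ↔ v ∈ U := by
  constructor
  · intro hv
    have := h _ (inv_mem ha) _ hv
    rwa [inv_apply_cancel] at this
  · exact h a ha v

theorem Inv.sup {φ : H →* MulAut V} {A : Subgroup H} {U W : Subgroup V} (h : Inv φ A U)
    (h' : Inv φ A W) : Inv φ A (U ⊔ W) := by
  intro a ha w hw
  obtain ⟨x, hx, y, hy, rfl⟩ := Subgroup.mem_sup.1 hw
  rw [map_mul]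
  exact Subgroup.mul_mem_sup (h a ha x hx) (h' a ha y hy)

/-- Best offenders restrict. -/
theorem card_le_ms [Finite H] [Finite V] {φ : H →* MulAut V} {A : Subgroup H} {U W : Subgroup V}
    (hbest : ∀ E ≤ A, ms φ U E ≤ ms φ U A) (hWU : W ≤ U) :
    Nat.card W ≤ ms φ W A := by
  set E := A ⊓ cn φ W with hE
  have h1 := hbest E inf_le_left
  unfold ms at h1
  have h2 : (cn φ U).relIndex A = (cn φ U).relIndex E * (cn φ W).relIndex A := by
    have hk : cn φ U ≤ cn φ W := cn_anti φ hWU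
    have e4 := Subgroup.relIndex_mul_relIndex (cn φ U ⊓ A) E A
      (le_inf inf_le_right (inf_le_left.trans hk)) inf_le_left
    rw [Subgroup.inf_relIndex_right] at e4
    have e5 : (cn φ U ⊓ A).relIndex E = (cn φ U).relIndex E := by
      rw [← Subgroup.inf_relIndex_right, ← Subgroup.inf_relIndex_right (cn φ U)]
      congr 1
      rw [hE, inf_assoc]
      congr 1
      rw [← inf_assoc, inf_idem]
    have e6 : E.relIndex A = (cn φ W).relIndex A := by
      rw [hE, inf_comm, Subgroup.inf_relIndex_right]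
    rw [e5, e6] at e4
    exact e4.symm
  rw [h2, mul_assoc] at h1
  have hpos : 0 < (cn φ U).relIndex E :=
    Nat.pos_of_ne_zero (Subgroup.index_ne_zero_of_finite (H := (cn φ U).subgroupOf E))
  have h3 : Nat.card (U ⊓ fx φ E : Subgroup V) ≤
      (cn φ W).relIndex A * Nat.card (U ⊓ fx φ A : Subgroup V) :=
    Nat.le_of_mul_le_mul_left h1 hpos
  have h4 := Timmesfeld.card_mul_card_le (B₁ := W) (B₂ := U ⊓ fx φ A) (B₃ := U ⊓ fx φ E)
    (le_inf hWU (le_fx_iff.2 inf_le_right)) (inf_le_inf_left _ (fx_anti φ inf_le_left))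
  have h5 : (W ⊓ (U ⊓ fx φ A) : Subgroup V) = W ⊓ fx φ A := by
    rw [← inf_assoc, inf_eq_left.2 hWU]
  rw [h5] at h4
  have hF : 0 < Nat.card (U ⊓ fx φ A : Subgroup V) := Nat.card_pos
  unfold ms
  refine Nat.le_of_mul_le_mul_right (c := Nat.card (U ⊓ fx φ A : Subgroup V)) ?_ hF
  calc _ ≤ _ := h4
    _ ≤ Nat.card (W ⊓ fx φ A : Subgroup V) *
        ((cn φ W).relIndex A * Nat.card (U ⊓ fx φ A : Subgroup V)) := Nat.mul_le_mul_left _ h3
    _ = _ := by ring

end defs

section transfer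

variable {H : Type u} [Group H] {V : Type v} [CommGroup V]

/-- Restriction of the acting group and the module. -/
theorem cn_subHom (φ : H →* MulAut V) (P : Subgroup H) (Y : Subgroup V)
    (hY : ∀ x : P, ∀ w ∈ Y, (φ.comp P.subtype) x w ∈ Y) {U : Subgroup V} (hUY : U ≤ Y) :
    cn (subHom (φ.comp P.subtype) Y hY) (U.subgroupOf Y) = (cn φ U).subgroupOf P := by
  ext x
  rw [Subgroup.mem_subgroupOf]
  constructor
  · intro h u hu
    exact congrArg Subtype.val (h ⟨u, hUY hu⟩ hu)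
  · intro h u hu
    exact Subtype.ext (h u hu)

theorem fx_subHom (φ : H →* MulAut V) (P : Subgroup H) (Y : Subgroup V)
    (hY : ∀ x : P, ∀ w ∈ Y, (φ.comp P.subtype) x w ∈ Y) {A : Subgroup H} (hAP : A ≤ P) :
    fx (subHom (φ.comp P.subtype) Y hY) (A.subgroupOf P) = (fx φ A).subgroupOf Y := by
  ext v
  rw [Subgroup.mem_subgroupOf]
  constructor
  · intro h a ha
    exact congrArg Subtype.val (h ⟨a, hAP ha⟩ ha)
  · intro h a ha
    exact Subtype.ext (h a ha)

theorem ms_subHom (φ : H →* MulAut V) (P : Subgroup H) (Y : Subgroup V)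
    (hY : ∀ x : P, ∀ w ∈ Y, (φ.comp P.subtype) x w ∈ Y) {U : Subgroup V} (hUY : U ≤ Y)
    {A : Subgroup H} (hAP : A ≤ P) :
    ms (subHom (φ.comp P.subtype) Y hY) (U.subgroupOf Y) (A.subgroupOf P) = ms φ U A := by
  unfold ms
  rw [cn_subHom φ P Y hY hUY, fx_subHom φ P Y hY hAP, Subgroup.relIndex_subgroupOf hAP]
  congr 1
  exact Nat.card_congr (Subgroup.subgroupOfEquivOfLe
    (inf_le_left.trans hUY : U ⊓ fx φ A ≤ Y)).toEquiv

theorem ms_top (φ : H →* MulAut V) (A : Subgroup H) :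
    ms φ ⊤ A = Nat.card (A.map φ) * Nat.card (fixV (A.map φ)) := by
  unfold ms
  rw [cn_top, Subgroup.relIndex_ker, top_inf_eq, fx_eq]

theorem unoff_subHom_iff (φ : H →* MulAut V) (P : Subgroup H) (Y : Subgroup V)
    (hY : ∀ x : P, ∀ w ∈ Y, (φ.comp P.subtype) x w ∈ Y) {U : Subgroup V} (hUY : U ≤ Y)
    {T : Subgroup H} (hTP : T ≤ P) :
    Unoff (subHom (φ.comp P.subtype) Y hY) (T.subgroupOf P) (U.subgroupOf Y) ↔ Unoff φ T U := by
  have hcard : Nat.card (U.subgroupOf Y) = Nat.card U :=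
    Nat.card_congr (Subgroup.subgroupOfEquivOfLe hUY).toEquiv
  have hab : ∀ A ≤ P, AbOn (subHom (φ.comp P.subtype) Y hY) (A.subgroupOf P) (U.subgroupOf Y) ↔
      AbOn φ A U := by
    intro A hA
    constructor
    · intro h a ha b hb u hu
      exact congrArg Subtype.val (h ⟨a, hA ha⟩ ha ⟨b, hA hb⟩ hb ⟨u, hUY hu⟩ hu)
    · intro h a ha b hb u hu
      exact Subtype.ext (h a ha b hb u hu)
  constructor
  · intro h
    refine ⟨fun t ht u hu => h.inv ⟨t, hTP ht⟩ ht ⟨u, hUY hu⟩ hu, fun A hA hA' hle => ?_⟩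
    have hAP := hA.trans hTP
    have h1 := h.off (A.subgroupOf P) (Subgroup.comap_mono hA) ((hab A hAP).2 hA') (by
      rw [ms_subHom φ P Y hY hUY hAP, hcard]
      exact hle)
    rw [cn_subHom φ P Y hY hUY] at h1
    intro a ha
    exact h1 (show (⟨a, hAP ha⟩ : P) ∈ A.subgroupOf P from ha)
  · intro h
    refine ⟨fun t ht u hu => h.inv t ht u hu, fun A hA hA' hle => ?_⟩
    have hAmap : (A.map P.subtype).subgroupOf P = A :=
      Subgroup.comap_map_eq_self_of_injective P.subtype_injective A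
    have hAP : A.map P.subtype ≤ P := by
      rintro _ ⟨a, _, rfl⟩
      exact a.2
    have hAT : A.map P.subtype ≤ T := by
      rintro _ ⟨a, ha, rfl⟩
      exact hA ha
    rw [← hAmap] at hA' hle ⊢
    rw [ms_subHom φ P Y hY hUY hAP, hcard] at hle
    have h1 := h.off _ hAT ((hab _ hAP).1 hA') hle
    rw [cn_subHom φ P Y hY hUY]
    exact Subgroup.comap_mono h1

/-- Quadratic best offenders. -/
theorem exists_best [Finite H] [Finite V] {φ : H →* MulAut V} (hexp : ∀ v : V, v * v = 1)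
    {A : Subgroup H} (hA2 : IsPGroup 2 A) {U : Subgroup V} (hinv : Inv φ A U)
    (hab : AbOn φ A U) (hne : ¬ A ≤ cn φ U) (hoff : Nat.card U ≤ ms φ U A) :
    ∃ A' ≤ A, ¬ A' ≤ cn φ U ∧ (∀ E ≤ A', ms φ U E ≤ ms φ U A') ∧ Nat.card U ≤ ms φ U A' ∧
      ∀ a ∈ A', ∀ b ∈ A', ∀ u ∈ U, φ a (φ b u * u⁻¹) = φ b u * u⁻¹ := by
  let ψ : A →* MulAut U := subHom (φ.comp A.subtype) U (fun x w hw => hinv x x.2 w hw)
  have hψ : ∀ (a : A) (u : U), ((ψ a u : U) : V) = φ a u := fun _ _ => rfl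
  have hms : ∀ E ≤ A, ms φ U E = Nat.card ((E.subgroupOf A).map ψ) *
      Nat.card (fixV ((E.subgroupOf A).map ψ)) := by
    intro E hE
    rw [← ms_top, ← Subgroup.subgroupOf_self]
    exact (ms_subHom φ A U _ le_rfl hE).symm
  have hAA : A.subgroupOf A = ⊤ := Subgroup.subgroupOf_self A
  obtain ⟨D, hD, hgood⟩ := exists_good (V := U) (isPGroup_of_exp fun v => Subtype.ext (hexp v))
    ψ.range (by
      have : IsPGroup 2 ((⊤ : Subgroup A).map ψ) := (hA2.of_equiv Subgroup.topEquiv.symm).map ψ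
      rwa [← MonoidHom.range_eq_map] at this) (by
      rintro _ ⟨a, rfl⟩ _ ⟨b, rfl⟩
      ext u
      exact hab a a.2 b b.2 u u.2) (by
      intro h
      apply hne
      intro a ha u hu
      have h1 : ψ ⟨a, ha⟩ = 1 := by
        rw [← Subgroup.mem_bot, ← h]
        exact ⟨_, rfl⟩
      have h2 := hψ ⟨a, ha⟩ ⟨u, hu⟩
      rw [h1] at h2
      exact h2.symm) (by
      rw [hms A le_rfl, hAA, ← MonoidHom.range_eq_map] at hoff
      exact hoff)
  set A' : Subgroup H := (D.comap ψ).map A.subtype with hA'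
  have hA'A : A' ≤ A := by
    rintro _ ⟨a, _, rfl⟩
    exact a.2
  have hsub : A'.subgroupOf A = D.comap ψ :=
    Subgroup.comap_map_eq_self_of_injective A.subtype_injective _
  have hmap : (A'.subgroupOf A).map ψ = D := by
    rw [hsub, Subgroup.map_comap_eq, inf_eq_right.2 hD]
  refine ⟨A', hA'A, ?_, ?_, ?_, ?_⟩
  · intro h
    apply hgood.ne
    rw [← hmap, Subgroup.map_eq_bot_iff]
    intro a ha
    rw [MonoidHom.mem_ker]
    ext u
    exact h ha u u.2
  · intro E hE
    rw [hms E (hE.trans hA'A), hms A' hA'A, hmap]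
    refine hgood.best _ ?_
    rw [← hmap]
    exact Subgroup.map_mono (Subgroup.comap_mono hE)
  · rw [hms A' hA'A, hmap]
    exact hgood.off
  · rintro _ ⟨a, ha, rfl⟩ _ ⟨b, hb, rfl⟩ u hu
    exact congrArg Subtype.val (hgood.quad _ ha _ hb ⟨u, hu⟩)

theorem cn_sup (φ : H →* MulAut V) (U W : Subgroup V) : cn φ (U ⊔ W) = cn φ U ⊓ cn φ W := by
  apply le_antisymm
  · exact le_inf (cn_anti φ le_sup_left) (cn_anti φ le_sup_right)
  · rintro a ⟨h1, h2⟩ w hw
    obtain ⟨x, hx, y, hy, rfl⟩ := Subgroup.mem_sup.1 hw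
    rw [map_mul, h1 x hx, h2 y hy]

/-- Joins of unoffended subgroups are unoffended. -/
theorem Unoff.sup [Finite H] [Finite V] {φ : H →* MulAut V} (hexp : ∀ v : V, v * v = 1)
    {T : Subgroup H} (hT : IsPGroup 2 T) {U W : Subgroup V} (hU : Unoff φ T U)
    (hW : Unoff φ T W) : Unoff φ T (U ⊔ W) := by
  refine ⟨hU.inv.sup hW.inv, fun A hA hab hle => ?_⟩
  by_contra hne
  obtain ⟨A', hA', hne', hbest, -, -⟩ := exists_best hexp (hT.to_le hA)
    ((hU.inv.sup hW.inv).mono hA) hab hne hle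
  apply hne'
  rw [cn_sup]
  have hab' := hab.mono hA'
  exact le_inf (hU.off A' (hA'.trans hA) (hab'.anti le_sup_left) (card_le_ms hbest le_sup_left))
    (hW.off A' (hA'.trans hA) (hab'.anti le_sup_right) (card_le_ms hbest le_sup_right))

theorem unoff_bot (φ : H →* MulAut V) (T : Subgroup H) : Unoff φ T ⊥ := by
  refine ⟨fun t _ u hu => ?_, fun A _ _ _ a _ u hu => ?_⟩
  · rw [Subgroup.mem_bot.1 hu, map_one]
    exact one_mem _
  · rw [Subgroup.mem_bot.1 hu, map_one]

/-- The largest unoffended subgroup. -/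
def wst (φ : H →* MulAut V) (T : Subgroup H) : Subgroup V := sSup {U | Unoff φ T U}

theorem le_wst {φ : H →* MulAut V} {T : Subgroup H} {U : Subgroup V} (hU : Unoff φ T U) :
    U ≤ wst φ T := le_sSup hU

theorem unoff_wst [Finite H] [Finite V] {φ : H →* MulAut V} (hexp : ∀ v : V, v * v = 1)
    {T : Subgroup H} (hT : IsPGroup 2 T) : Unoff φ T (wst φ T) := by
  classical
  let S : Set (Subgroup V) := {U | Unoff φ T U}
  obtain ⟨W, hW⟩ := S.toFinite.exists_maximal ⟨⊥, unoff_bot φ T⟩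
  have h1 : wst φ T = W := by
    apply le_antisymm
    · refine sSup_le fun U hU => ?_
      have h2 : U ⊔ W ∈ S := Unoff.sup hexp hT hU hW.prop
      exact le_sup_left.trans (hW.le_of_ge h2 le_sup_right)
    · exact le_wst hW.prop
  rw [h1]
  exact hW.prop

/-- Conjugate of a subgroup. -/
def cj (x : H) (T : Subgroup H) : Subgroup H := T.map (MulAut.conj x).toMonoidHom

/-- Image of a subgroup of the module. -/
def im (φ : H →* MulAut V) (x : H) (U : Subgroup V) : Subgroup V := U.map (φ x).toMonoidHom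

theorem mem_cj {x : H} {T : Subgroup H} {b : H} : b ∈ cj x T ↔ x⁻¹ * b * x ∈ T := mem_map_conj

theorem conj_mem_cj {x : H} {T : Subgroup H} {b : H} (hb : b ∈ T) : x * b * x⁻¹ ∈ cj x T :=
  ⟨b, hb, rfl⟩

theorem cj_mono (x : H) {S T : Subgroup H} (h : S ≤ T) : cj x S ≤ cj x T := Subgroup.map_mono h

theorem cj_cj (x y : H) (T : Subgroup H) : cj x (cj y T) = cj (x * y) T := by
  ext b
  rw [mem_cj, mem_cj, mem_cj]
  have : y⁻¹ * (x⁻¹ * b * x) * y = (x * y)⁻¹ * b * (x * y) := by group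
  rw [this]

theorem cj_one (T : Subgroup H) : cj 1 T = T := by
  ext b
  rw [mem_cj]
  simp

theorem cj_inv_cj (x : H) (T : Subgroup H) : cj x⁻¹ (cj x T) = T := by
  rw [cj_cj, inv_mul_cancel, cj_one]

theorem cj_cj_inv (x : H) (T : Subgroup H) : cj x (cj x⁻¹ T) = T := by
  rw [cj_cj, mul_inv_cancel, cj_one]

theorem cj_le_iff {x : H} {S T : Subgroup H} : cj x S ≤ T ↔ S ≤ cj x⁻¹ T := by
  constructor
  · intro h
    rw [← cj_inv_cj x S]
    exact cj_mono _ h
  · intro h
    rw [← cj_cj_inv x T]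
    exact cj_mono _ h

theorem card_cj (x : H) (T : Subgroup H) : Nat.card (cj x T) = Nat.card T :=
  Subgroup.card_map_of_injective (MulAut.conj x).injective

theorem card_im (φ : H →* MulAut V) (x : H) (U : Subgroup V) :
    Nat.card (im φ x U) = Nat.card U :=
  Subgroup.card_map_of_injective (φ x).injective

theorem cj_eq_of_mem {x : H} {T : Subgroup H} (hx : x ∈ T) : cj x T = T := by
  ext b
  rw [mem_cj]
  constructor
  · intro h
    have := T.mul_mem (T.mul_mem hx h) (T.inv_mem hx)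
    convert this using 1
    group
  · intro h
    exact T.mul_mem (T.mul_mem (T.inv_mem hx) h) hx

theorem cj_eq_of_normal (x : H) (T : Subgroup H) [hT : T.Normal] : cj x T = T := by
  ext b
  rw [mem_cj]
  constructor
  · intro h
    have := hT.conj_mem _ h x
    convert this using 1
    group
  · intro h
    have := hT.conj_mem _ h x⁻¹
    rwa [inv_inv] at this

theorem cj_eq_iff {x : H} {T : Subgroup H} :
    cj x T = T ↔ x ∈ Subgroup.normalizer (T : Set H) := by
  rw [Subgroup.mem_normalizer_iff]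
  constructor
  · intro h b
    constructor
    · intro hb
      rw [← h]
      exact conj_mem_cj hb
    · intro hb
      have h1 : x * b * x⁻¹ ∈ cj x T := by rwa [h]
      rw [mem_cj] at h1
      convert h1 using 1
      group
  · intro h
    ext b
    rw [mem_cj]
    have h1 := h (x⁻¹ * b * x)
    have h2 : x * (x⁻¹ * b * x) * x⁻¹ = b := by group
    rw [h2] at h1
    exact h1

theorem mem_im {φ : H →* MulAut V} {x : H} {U : Subgroup V} {v : V} :
    v ∈ im φ x U ↔ φ x⁻¹ v ∈ U := by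
  constructor
  · rintro ⟨u, hu, rfl⟩
    show φ x⁻¹ (φ x u) ∈ U
    rwa [inv_apply_cancel]
  · intro h
    exact ⟨_, h, apply_inv_cancel φ x v⟩

theorem fx_cj (φ : H →* MulAut V) (x : H) (A : Subgroup H) : fx φ (cj x A) = im φ x (fx φ A) := by
  ext v
  rw [mem_im]
  constructor
  · intro h a ha
    have h1 := h _ (conj_mem_cj (x := x) ha)
    rw [map_mul, map_mul, MulAut.mul_apply, MulAut.mul_apply] at h1
    apply (φ x).injective
    rw [h1, apply_inv_cancel]
  · rintro h _ ⟨a, ha, rfl⟩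
    show φ (x * a * x⁻¹) v = v
    rw [map_mul, map_mul, MulAut.mul_apply, MulAut.mul_apply, h a ha, apply_inv_cancel]

theorem cn_im (φ : H →* MulAut V) (x : H) (U : Subgroup V) : cn φ (im φ x U) = cj x (cn φ U) := by
  ext h
  rw [mem_cj]
  constructor
  · intro hh u hu
    have h1 := hh (φ x u) ⟨u, hu, rfl⟩
    rw [map_mul, map_mul, MulAut.mul_apply, MulAut.mul_apply, h1, inv_apply_cancel]
  · rintro hh _ ⟨u, hu, rfl⟩
    have h1 := hh u hu
    rw [map_mul, map_mul, MulAut.mul_apply, MulAut.mul_apply] at h1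
    show φ h (φ x u) = φ x u
    conv_rhs => rw [← h1]
    rw [apply_inv_cancel]

theorem im_inf (φ : H →* MulAut V) (x : H) (U W : Subgroup V) :
    im φ x (U ⊓ W) = im φ x U ⊓ im φ x W := Subgroup.map_inf _ _ _ (φ x).injective

theorem relIndex_cj (x : H) (A B : Subgroup H) : (cj x A).relIndex (cj x B) = A.relIndex B :=
  Subgroup.relIndex_map_map_of_injective _ _ (MulAut.conj x).injective

theorem ms_cj (φ : H →* MulAut V) (x : H) (U : Subgroup V) (A : Subgroup H) :
    ms φ (im φ x U) (cj x A) = ms φ U A := by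
  unfold ms
  rw [cn_im, fx_cj, ← im_inf, card_im, relIndex_cj]

theorem im_inv_im (φ : H →* MulAut V) (x : H) (U : Subgroup V) : im φ x⁻¹ (im φ x U) = U := by
  ext v
  rw [mem_im, mem_im, inv_inv, inv_apply_cancel]

theorem abOn_cj {φ : H →* MulAut V} {x : H} {A : Subgroup H} {U : Subgroup V}
    (h : AbOn φ A U) : AbOn φ (cj x A) (im φ x U) := by
  rintro _ ⟨a, ha, rfl⟩ _ ⟨b, hb, rfl⟩ _ ⟨u, hu, rfl⟩
  show φ (x * a * x⁻¹) (φ (x * b * x⁻¹) (φ x u)) = φ (x * b * x⁻¹) (φ (x * a * x⁻¹) (φ x u))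
  simp only [map_mul, MulAut.mul_apply, inv_apply_cancel]
  rw [h a ha b hb u hu]

theorem Unoff.cj {φ : H →* MulAut V} {T : Subgroup H} {U : Subgroup V} (h : Unoff φ T U)
    (x : H) : Unoff φ (S4FreeClosureBasic.cj x T) (im φ x U) := by
  refine ⟨?_, ?_⟩
  · rintro _ ⟨t, ht, rfl⟩ _ ⟨u, hu, rfl⟩
    refine ⟨φ t u, h.inv t ht u hu, ?_⟩
    show φ x (φ t u) = φ (x * t * x⁻¹) (φ x u)
    simp only [map_mul, MulAut.mul_apply, inv_apply_cancel]
  · intro A hA hab hle
    have h1 : S4FreeClosureBasic.cj x⁻¹ A ≤ T := by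
      rw [cj_le_iff, inv_inv]
      exact hA
    have h2 := abOn_cj (x := x⁻¹) hab
    rw [im_inv_im] at h2
    have h3 := ms_cj φ x U (S4FreeClosureBasic.cj x⁻¹ A)
    rw [cj_cj_inv] at h3
    rw [card_im, h3] at hle
    have h4 := h.off _ h1 h2 hle
    rw [cj_le_iff, inv_inv] at h4
    rw [cn_im]
    exact h4

theorem im_wst_le [Finite H] [Finite V] {φ : H →* MulAut V} (hexp : ∀ v : V, v * v = 1)
    {T : Subgroup H} (hT : IsPGroup 2 T) {x : H} (hx : cj x T = T) :
    im φ x (wst φ T) ≤ wst φ T := by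
  have h := (unoff_wst (φ := φ) hexp hT).cj x
  rw [hx] at h
  exact le_wst h

end transfer

end Cfsg.Agent.PLocal.S4FreeClosureBasic
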