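import Mathlib
import Cfsg.Agent.PLocal.S4FreeClosureBasic

set_option autoImplicit false

/-!
# The unique maximal subgroup in the closure theorem

Minimal counterexample to: the closure of an unoffended subgroup is unoffended.
-/

namespace Cfsg.Agent.PLocal.S4FreeClosureUniq

open Cfsg.Agent.PLocal.SFourBasic Cfsg.Agent.PLocal.SFourOffender
open Cfsg.Agent.PLocal.S4FreeClosureBasic

universe u v

section general

variable {H : Type u} [Group H] {V : Type v} [CommGroup V]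

/-- The setwise stabiliser of `W`. -/
def stb (φ : H →* MulAut V) (W : Subgroup V) : Subgroup H where
  carrier := {h | ∀ w, φ h w ∈ W ↔ w ∈ W}
  one_mem' := fun w => by rw [map_one, MulAut.one_apply]
  mul_mem' := by
    intro x y hx hy w
    rw [map_mul, MulAut.mul_apply]
    exact (hx _).trans (hy _)
  inv_mem' := by
    intro x hx w
    rw [← hx (φ x⁻¹ w), apply_inv_cancel]

theorem mem_stb {φ : H →* MulAut V} {W : Subgroup V} {h : H} :
    h ∈ stb φ W ↔ ∀ w, φ h w ∈ W ↔ w ∈ W := Iff.rfl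

theorem le_stb_iff {φ : H →* MulAut V} {P : Subgroup H} {W : Subgroup V} :
    P ≤ stb φ W ↔ Inv φ P W := by
  constructor
  · intro h p hp w hw
    exact (h hp w).2 hw
  · intro h p hp w
    exact h.iff hp

/-- A nontrivial abelian `2`-subgroup with `|A| |C_V(A)|` maximal. -/
structure Mx (φ : H →* MulAut V) (A : Subgroup H) : Prop where
  ne : A ≠ ⊥
  two : IsPGroup 2 A
  ab : ∀ a ∈ A, ∀ b ∈ A, a * b = b * a
  max : ∀ E : Subgroup H, IsPGroup 2 E → (∀ a ∈ E, ∀ b ∈ E, a * b = b * a) →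
    Nat.card E * Nat.card (fx φ E) ≤ Nat.card A * Nat.card (fx φ A)

/-- Quadratic action. -/
def Quad (φ : H →* MulAut V) (A : Subgroup H) : Prop :=
  ∀ a ∈ A, ∀ b ∈ A, ∀ v : V, φ a (φ b v * v⁻¹) = φ b v * v⁻¹

theorem fx_bot (φ : H →* MulAut V) : fx φ ⊥ = ⊤ := by
  rw [eq_top_iff]
  intro v _ a ha
  rw [Subgroup.mem_bot.1 ha, map_one, MulAut.one_apply]

theorem ms_top_of_inj {φ : H →* MulAut V} (hφ : Function.Injective φ) (A : Subgroup H) :
    ms φ ⊤ A = Nat.card A * Nat.card (fx φ A) := by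
  rw [ms_top, fx_eq, Subgroup.card_map_of_injective hφ]

theorem cn_top_of_inj {φ : H →* MulAut V} (hφ : Function.Injective φ) : cn φ ⊤ = ⊥ := by
  rw [cn_top, (MonoidHom.ker_eq_bot_iff φ).2 hφ]

theorem Mx.cj {φ : H →* MulAut V} {A : Subgroup H} (h : Mx φ A) (x : H) :
    Mx φ (S4FreeClosureBasic.cj x A) := by
  refine ⟨?_, ?_, ?_, ?_⟩
  · intro h1
    apply h.ne
    rw [← cj_inv_cj x A, h1]
    exact Subgroup.map_bot _
  · exact h.two.map _
  · rintro _ ⟨a, ha, rfl⟩ _ ⟨b, hb, rfl⟩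
    rw [← map_mul, ← map_mul, h.ab a ha b hb]
  · intro E hE hab
    rw [card_cj, fx_cj, card_im]
    exact h.max E hE hab

theorem Mx.card {φ : H →* MulAut V} {A : Subgroup H} (h : Mx φ A) :
    Nat.card V ≤ Nat.card A * Nat.card (fx φ A) := by
  have h1 := h.max ⊥ IsPGroup.of_bot (by
    intro a ha b hb
    rw [Subgroup.mem_bot.1 ha, Subgroup.mem_bot.1 hb])
  rwa [fx_bot, Subgroup.card_bot, one_mul, Subgroup.card_top] at h1

theorem Mx.le_cn [Finite H] [Finite V] {φ : H →* MulAut V} (hφ : Function.Injective φ)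
    {A : Subgroup H} (h : Mx φ A)
    {T : Subgroup H} (hAT : A ≤ T) {W : Subgroup V} (hW : Unoff φ T W) : A ≤ cn φ W := by
  have hbest : ∀ E ≤ A, ms φ ⊤ E ≤ ms φ ⊤ A := by
    intro E hE
    rw [ms_top_of_inj hφ, ms_top_of_inj hφ]
    exact h.max E (h.two.to_le hE) fun a ha b hb => h.ab a (hE ha) b (hE hb)
  refine hW.off A hAT ?_ (card_le_ms hbest le_top)
  intro a ha b hb u _
  rw [← MulAut.mul_apply, ← MulAut.mul_apply, ← map_mul, ← map_mul, h.ab a ha b hb]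

/-- A member of `Mx` contains a quadratic one. -/
theorem Mx.exists_quad [Finite H] [Finite V] {φ : H →* MulAut V} (hφ : Function.Injective φ)
    (hexp : ∀ v : V, v * v = 1) {A : Subgroup H} (h : Mx φ A) :
    ∃ D ≤ A, Mx φ D ∧ Quad φ D := by
  classical
  set B := A.map φ with hB
  have hcardB : Nat.card B = Nat.card A := Subgroup.card_map_of_injective hφ
  have hB2 : IsPGroup 2 B := h.two.map φ
  have hBc : ∀ a ∈ B, ∀ b ∈ B, a * b = b * a := by
    rintro _ ⟨a, ha, rfl⟩ _ ⟨b, hb, rfl⟩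
    rw [← map_mul, ← map_mul, h.ab a ha b hb]
  have hcm : ∀ E ≤ B, (E.comap φ ⊓ A).map φ = E := by
    intro E hE
    ext e
    constructor
    · rintro ⟨a, ⟨ha, _⟩, rfl⟩
      exact ha
    · intro he
      obtain ⟨a, ha, rfl⟩ := hE he
      exact ⟨a, ⟨he, ha⟩, rfl⟩
  have hval : ∀ E ≤ B, Nat.card E * Nat.card (fixV E) =
      Nat.card (E.comap φ ⊓ A : Subgroup H) * Nat.card (fx φ (E.comap φ ⊓ A)) := by
    intro E hE
    rw [fx_eq, hcm E hE, ← Subgroup.card_map_of_injective hφ (K := E.comap φ ⊓ A), hcm E hE]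
  have hvB : Nat.card B * Nat.card (fixV B) = Nat.card A * Nat.card (fx φ A) := by
    rw [hcardB, fx_eq]
  have hbest : ∀ E ≤ B, Nat.card E * Nat.card (fixV E) ≤ Nat.card B * Nat.card (fixV B) := by
    intro E hE
    rw [hval E hE, hvB]
    exact h.max _ (h.two.to_le inf_le_right) fun a ha b hb => h.ab a ha.2 b hb.2
  have hW := le_comm_sup B hBc hbest
  set W := comm B ⊔ fixV B with hWdef
  set D := cen B W with hD
  have hDB : D ≤ B := cen_le B W
  have hmD : Nat.card B * Nat.card (fixV B) ≤ Nat.card D * Nat.card (fixV D) :=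
    hW.trans (Nat.mul_le_mul_left _ (Subgroup.card_le_of_le (le_fixV_cen B W)))
  have hBne : B ≠ ⊥ := fun h1 => h.ne ((Subgroup.map_eq_bot_iff_of_injective _ hφ).1 h1)
  have hDne : D ≠ ⊥ := by
    intro hbot
    have h1 : Nat.card V ≤ Nat.card W := by
      have h2 : Nat.card D = 1 := by rw [hbot, Subgroup.card_bot]
      rw [h2, one_mul] at hW
      refine le_trans ?_ hW
      rw [hvB]
      exact h.card
    exact comm_sup_fixV_ne_top (isPGroup_of_exp hexp) B hB2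
      (fun h3 => hBne (fixV_eq_top_iff.1 h3)) (Subgroup.eq_top_of_le_card _ h1)
  refine ⟨D.comap φ ⊓ A, inf_le_right, ⟨?_, h.two.to_le inf_le_right,
    fun a ha b hb => h.ab a ha.2 b hb.2, ?_⟩, ?_⟩
  · intro hbot
    apply hDne
    rw [← hcm D hDB, hbot, Subgroup.map_bot]
  · intro E hE hEab
    refine (h.max E hE hEab).trans ?_
    rw [← hvB, ← hval D hDB]
    exact hmD
  · rintro a ⟨⟨_, ha⟩, _⟩ b ⟨⟨hb, _⟩, _⟩ v
    exact ha _ ((le_sup_left : comm B ≤ W) (mem_comm hb v))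

/-- 2-subgroups of `M` are `M`-conjugate into `T`. -/
theorem exists_cj_le [Finite H] {T : Sylow 2 H} {M : Subgroup H} (hTM : (T : Subgroup H) ≤ M)
    {A : Subgroup H} (hA : IsPGroup 2 A) (hAM : A ≤ M) : ∃ m ∈ M, cj m A ≤ T := by
  have : Fact (Nat.Prime 2) := ⟨Nat.prime_two⟩
  have h1 : IsPGroup 2 (A.subgroupOf M) := hA.comap_subtype
  obtain ⟨Q, hQ⟩ := h1.exists_le_sylow
  obtain ⟨g, hg⟩ := MulAction.exists_smul_eq M Q (T.subtype hTM)
  refine ⟨g, g.2, ?_⟩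
  rintro _ ⟨a, ha, rfl⟩
  have h2 : (⟨a, hAM ha⟩ : M) ∈ (Q : Subgroup M) := hQ ha
  have h3 : MulAut.conj g ⟨a, hAM ha⟩ ∈ ((g • Q : Sylow 2 M) : Subgroup M) := by
    rw [Sylow.coe_subgroup_smul]
    exact Subgroup.smul_mem_pointwise_smul _ _ _ h2
  rw [hg] at h3
  exact h3

theorem lt_inf_normalizer [Finite H] {P T : Subgroup H} (hP : IsPGroup 2 P) (hTP : T < P) :
    T < P ⊓ Subgroup.normalizer (T : Set H) := by
  have : Fact (Nat.Prime 2) := ⟨Nat.prime_two⟩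
  have : Group.IsNilpotent P := hP.isNilpotent
  have h1 : T.subgroupOf P < ⊤ := by
    rw [lt_top_iff_ne_top]
    intro h
    rw [Subgroup.subgroupOf_eq_top] at h
    exact not_lt_of_ge h hTP
  have h2 := Group.normalizerCondition_of_isNilpotent _ h1
  refine lt_of_le_of_ne (le_inf hTP.le Subgroup.le_normalizer) ?_
  intro heq
  apply h2.not_ge
  intro x hx
  rw [Subgroup.mem_subgroupOf, heq]
  refine ⟨x.2, ?_⟩
  show (x : H) ∈ Subgroup.normalizer (T : Set H)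
  rw [← cj_eq_iff]
  apply Subgroup.eq_of_le_of_card_ge
  · rintro _ ⟨t, ht, rfl⟩
    have h3 := (Subgroup.mem_normalizer_iff.1 hx ⟨t, hTP.le ht⟩).1 ht
    exact h3
  · rw [card_cj]

end general

section main

/-- Induction hypothesis. -/
def IHyp (n : ℕ) : Prop :=
  ∀ (H : Type u) [Group H] [Finite H] (V : Type v) [CommGroup V] [Finite V] (φ : H →* MulAut V)
    (T : Sylow 2 H) (U : Subgroup V), Nat.card H < n → (∀ v : V, v * v = 1) → NoS3 φ →
    Unoff φ T U → (∀ W : Subgroup V, U ≤ W → (∀ h : H, ∀ w ∈ W, φ h w ∈ W) → W = ⊤) →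
    Unoff φ T ⊤

variable {H : Type u} [Group H] {V : Type v} [CommGroup V]

/-- A counterexample with faithful action. -/
structure Hyp (φ : H →* MulAut V) (T : Sylow 2 H) (U : Subgroup V) : Prop where
  exp : ∀ v : V, v * v = 1
  inj : Function.Injective φ
  noS3 : NoS3 φ
  unoff : Unoff φ T U
  gen : ∀ W : Subgroup V, U ≤ W → (∀ h : H, ∀ w ∈ W, φ h w ∈ W) → W = ⊤
  notop : ¬ Unoff φ T ⊤

variable [Finite H] [Finite V] {φ : H →* MulAut V} {T : Sylow 2 H} {U : Subgroup V}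

omit [Finite V] in
theorem Hyp.exists_mx (h : Hyp φ T U) : ∃ A : Subgroup H, Mx φ A := by
  classical
  have h1 : ∃ A ≤ (T : Subgroup H), AbOn φ A ⊤ ∧ Nat.card (⊤ : Subgroup V) ≤ ms φ ⊤ A ∧
      ¬ A ≤ cn φ ⊤ := by
    by_contra hcon
    apply h.notop
    refine ⟨fun _ _ _ _ => Subgroup.mem_top _, fun A hA hab hle => ?_⟩
    by_contra hne
    exact hcon ⟨A, hA, hab, hle, hne⟩
  obtain ⟨A, hAT, hab, hle, hne⟩ := h1
  rw [cn_top_of_inj h.inj, le_bot_iff] at hne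
  rw [ms_top_of_inj h.inj, Subgroup.card_top] at hle
  let S : Set (Subgroup H) := {E | E ≠ ⊥ ∧ IsPGroup 2 E ∧ ∀ a ∈ E, ∀ b ∈ E, a * b = b * a}
  have hAS : A ∈ S := by
    refine ⟨hne, T.isPGroup'.to_le hAT, fun a ha b hb => h.inj ?_⟩
    ext v
    rw [map_mul, map_mul, MulAut.mul_apply, MulAut.mul_apply]
    exact hab a ha b hb v (Subgroup.mem_top v)
  obtain ⟨B, hBS, hmax⟩ := S.toFinite.exists_maximalFor
    (fun E : Subgroup H => Nat.card E * Nat.card (fx φ E)) S ⟨A, hAS⟩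
  have hmax' : ∀ E ∈ S, Nat.card E * Nat.card (fx φ E) ≤ Nat.card B * Nat.card (fx φ B) := by
    intro E hE
    rcases le_total (Nat.card E * Nat.card (fx φ E)) (Nat.card B * Nat.card (fx φ B)) with h | h
    · exact h
    · exact hmax hE h
  refine ⟨B, hBS.1, hBS.2.1, hBS.2.2, fun E hE hEab => ?_⟩
  by_cases hE0 : E = ⊥
  · rw [hE0, fx_bot, Subgroup.card_bot, one_mul, Subgroup.card_top]
    exact hle.trans (hmax' A hAS)
  · exact hmax' E ⟨hE0, hE, hEab⟩

/-- `wst` of a Sylow `2`-subgroup of a proper subgroup `P` is `P`-invariant. -/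
theorem wst_inv (h : Hyp φ T U) (hIH : IHyp.{u, v} (Nat.card H)) {P : Subgroup H} (hP : P ≠ ⊤)
    (T' : Sylow 2 P) {T₁ : Subgroup H} (hT₁ : (T' : Subgroup P).map P.subtype = T₁) :
    P ≤ stb φ (wst φ T₁) := by
  have hT₁P : T₁ ≤ P := by
    rw [← hT₁]
    rintro _ ⟨a, _, rfl⟩
    exact a.2
  have hT₁2 : IsPGroup 2 T₁ := hT₁ ▸ T'.isPGroup'.map _
  have hsub : T₁.subgroupOf P = T' := by
    rw [← hT₁]
    exact Subgroup.comap_map_eq_self_of_injective P.subtype_injective _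
  set W := wst φ T₁ with hW
  have hWun : Unoff φ T₁ W := unoff_wst h.exp hT₁2
  let Y : Subgroup V := ⨆ p : P, im φ p W
  have hWY : W ≤ Y := by
    have : im φ ((1 : P) : H) W ≤ Y := le_iSup (fun p : P => im φ (p : H) W) 1
    refine le_trans ?_ this
    intro w hw
    rw [mem_im]
    simpa using hw
  have hYinv : Inv φ P Y := by
    intro p hp y hy
    have h1 : Y ≤ (Y.comap (φ p).toMonoidHom) := by
      refine iSup_le fun q => ?_
      rintro _ ⟨w, hw, rfl⟩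
      have h2 : im φ ((⟨p, hp⟩ * q : P) : H) W ≤ Y :=
        le_iSup (fun p : P => im φ (p : H) W) (⟨p, hp⟩ * q)
      apply h2
      refine ⟨w, hw, ?_⟩
      show φ (p * q) w = φ p (φ q w)
      rw [map_mul, MulAut.mul_apply]
    exact h1 hy
  have hYinv' : ∀ x : P, ∀ w ∈ Y, (φ.comp P.subtype) x w ∈ Y := fun x w hw => hYinv x x.2 w hw
  have hPcard : Nat.card P < Nat.card H := by
    have h1 := Subgroup.card_le_card_group P
    refine lt_of_le_of_ne h1 fun h2 => hP (Subgroup.eq_top_of_card_eq P h2)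
  have key := hIH P Y (subHom (φ.comp P.subtype) Y hYinv') T' (W.subgroupOf Y) hPcard
    (fun y => Subtype.ext (h.exp y)) (noS3_sub h.noS3 P Y hYinv') (by
      rw [← hsub, unoff_subHom_iff φ P Y hYinv' hWY hT₁P]
      exact hWun) (by
      intro W' hWW' hW'
      rw [eq_top_iff]
      rintro ⟨y, hy⟩ -
      have h1 : Y ≤ W'.map Y.subtype := by
        refine iSup_le fun q => ?_
        rintro _ ⟨w, hw, rfl⟩
        have h2 : (⟨w, hWY hw⟩ : Y) ∈ W' := hWW' hw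
        exact ⟨_, hW' q _ h2, rfl⟩
      obtain ⟨z, hz, hzy⟩ := h1 hy
      have h3 : z = ⟨y, hy⟩ := Subtype.ext hzy
      rw [← h3]
      exact hz)
  rw [← hsub, ← Subgroup.subgroupOf_self, unoff_subHom_iff φ P Y hYinv' le_rfl hT₁P] at key
  have hYW : Y = W := le_antisymm (le_wst key) hWY
  rw [le_stb_iff, ← hYW]
  exact hYinv

/-- The maximal subgroup. -/
theorem Hyp.le_M (h : Hyp φ T U) : (T : Subgroup H) ≤ stb φ (wst φ T) :=
  le_stb_iff.2 (unoff_wst h.exp T.isPGroup').inv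

theorem Hyp.M_ne (h : Hyp φ T U) : stb φ (wst φ T) ≠ ⊤ := by
  intro htop
  have h1 : wst φ T = ⊤ := h.gen _ (le_wst h.unoff) (le_stb_iff.1 (htop ▸ le_rfl :
    (⊤ : Subgroup H) ≤ stb φ (wst φ T)) · (Subgroup.mem_top _))
  exact h.notop (h1 ▸ unoff_wst h.exp T.isPGroup')

theorem Hyp.max (h : Hyp φ T U) (hIH : IHyp.{u, v} (Nat.card H)) (X : Subgroup H)
    (hTX : (T : Subgroup H) ≤ X) (hX : X ≠ ⊤) : X ≤ stb φ (wst φ T) :=
  wst_inv h hIH hX (T.subtype hTX) (by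
    rw [Sylow.coe_subtype, Subgroup.subgroupOf_map_subtype, inf_eq_left.2 hTX])

/-- The unique maximal subgroup over a member of `Mx`. -/
theorem Hyp.uniq (h : Hyp φ T U) (hIH : IHyp.{u, v} (Nat.card H)) {A : Subgroup H}
    (hA : Mx φ A) (hAM : A ≤ stb φ (wst φ T)) {X₁ : Subgroup H} (hAX : A ≤ X₁) (hX₁ : X₁ ≠ ⊤) :
    X₁ ≤ stb φ (wst φ T) := by
  classical
  have hcjtop : ∀ (x : H) (X : Subgroup H), X ≠ ⊤ → cj x X ≠ ⊤ := by
    intro x X hX h1
    apply hX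
    apply Subgroup.eq_top_of_card_eq
    rw [← card_cj x X, h1, Subgroup.card_top]
  set M := stb φ (wst φ T) with hM
  have hTM : (T : Subgroup H) ≤ M := h.le_M
  have hMmax : ∀ X : Subgroup H, (T : Subgroup H) ≤ X → X ≠ ⊤ → X ≤ M := h.max hIH
  by_contra hXM
  have hconjM : ∀ m ∈ M, ∀ X : Subgroup H, ¬ X ≤ M → ¬ cj m X ≤ M := by
    intro m hm X hX h1
    apply hX
    rw [cj_le_iff, cj_eq_of_mem (inv_mem hm)] at h1
    exact h1
  let S : Set (Subgroup H × Subgroup H) := {p | p.1 ≠ ⊤ ∧ ¬ p.1 ≤ M ∧ p.2 ≤ p.1 ∧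
    p.2 ≤ (T : Subgroup H) ∧ ∃ B ≤ p.2, Mx φ B}
  obtain ⟨m, hm, hmA⟩ := exists_cj_le hTM hA.two hAM
  have hne : S.Nonempty := ⟨(cj m X₁, cj m A), hcjtop m X₁ hX₁, hconjM m hm X₁ hXM,
    cj_mono m hAX, hmA, cj m A, le_rfl, hA.cj m⟩
  obtain ⟨⟨X, T₁⟩, ⟨hX, hXM', hT₁X, hT₁T, B, hBT₁, hB⟩, hmax⟩ :=
    S.toFinite.exists_maximalFor (fun p => Nat.card p.2) S hne
  dsimp only at hX hXM' hT₁X hT₁T hBT₁
  have hmax' : ∀ p ∈ S, Nat.card p.2 ≤ Nat.card T₁ := by
    intro p hp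
    rcases le_total (Nat.card p.2) (Nat.card T₁) with h1 | h1
    · exact h1
    · exact hmax hp h1
  have key : ∀ Y T₂ : Subgroup H, Y ≠ ⊤ → ¬ Y ≤ M → T₂ ≤ Y → T₂ ≤ M → IsPGroup 2 T₂ →
      T₁ < T₂ → False := by
    intro Y T₂ hY hYM hTY hT₂M hT₂ hlt
    obtain ⟨m, hm, hmT⟩ := exists_cj_le hTM hT₂ hT₂M
    have h1 := hmax' (cj m Y, cj m T₂) ⟨hcjtop m Y hY, hconjM m hm Y hYM, cj_mono m hTY, hmT,
      cj m B, cj_mono m (hBT₁.trans hlt.le), hB.cj m⟩
    dsimp only at h1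
    rw [card_cj] at h1
    exact hlt.ne (Subgroup.eq_of_le_of_card_ge hlt.le h1)
  have hT₁2 : IsPGroup 2 T₁ := T.isPGroup'.to_le hT₁T
  have hT₁lt : T₁ < (T : Subgroup H) := by
    refine lt_of_le_of_ne hT₁T ?_
    rintro heq
    exact hXM' (hMmax X (heq ▸ hT₁X) hX)
  set T₂ := (T : Subgroup H) ⊓ Subgroup.normalizer (T₁ : Set H) with hT₂
  have hT₁T₂ : T₁ < T₂ := lt_inf_normalizer T.isPGroup' hT₁lt
  -- the subgroup generated by the members of `Mx` in `T₁`
  let J : Subgroup H := sSup {B | B ≤ T₁ ∧ Mx φ B}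
  have hBJ : B ≤ J := le_sSup ⟨hBT₁, hB⟩
  have hcjJ : ∀ x : H, cj x T₁ = T₁ → cj x J ≤ J := by
    intro x hx
    rw [cj_le_iff]
    refine sSup_le ?_
    rintro C ⟨hC, hC'⟩
    rw [← cj_inv_cj x C]
    refine cj_mono _ (le_sSup ⟨?_, hC'.cj x⟩)
    rw [← hx]
    exact cj_mono x hC
  have hNN : Subgroup.normalizer (T₁ : Set H) ≤ Subgroup.normalizer (J : Set H) := by
    intro x hx
    rw [← cj_eq_iff] at hx ⊢
    exact Subgroup.eq_of_le_of_card_ge (hcjJ x hx) (card_cj x J).ge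
  have hJU : J ≤ cn φ U := by
    refine sSup_le ?_
    rintro C ⟨hC, hC'⟩
    exact hC'.le_cn h.inj (hC.trans hT₁T) h.unoff
  have hNJ : Subgroup.normalizer (J : Set H) ≠ ⊤ := by
    intro htop
    have hJn : J.Normal := Subgroup.normalizer_eq_top_iff.1 htop
    have h1 : fx φ J = ⊤ := by
      apply h.gen _ (le_fx_iff.2 hJU)
      intro x w hw a ha
      have h2 := hw (x⁻¹ * a * x) (by
        have := hJn.conj_mem a ha x⁻¹
        rwa [inv_inv] at this)
      rw [map_mul, map_mul, MulAut.mul_apply, MulAut.mul_apply] at h2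
      have h3 := congrArg (φ x) h2
      rwa [apply_inv_cancel] at h3
    have h2 : J ≤ cn φ ⊤ := le_fx_iff.1 (h1 ▸ le_rfl)
    rw [cn_top_of_inj h.inj] at h2
    exact hB.ne (le_bot_iff.1 (hBJ.trans h2))
  have hT₂N : T₂ ≤ Subgroup.normalizer (J : Set H) := inf_le_right.trans hNN
  have hT₂M : T₂ ≤ M := inf_le_left.trans hTM
  have hT₂2 : IsPGroup 2 T₂ := T.isPGroup'.to_le inf_le_left
  have hNJM : Subgroup.normalizer (J : Set H) ≤ M := by
    by_contra hcon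
    exact key _ T₂ hNJ hcon hT₂N hT₂M hT₂2 hT₁T₂
  have hsyl : ∀ T₃ : Subgroup H, IsPGroup 2 T₃ → T₁ ≤ T₃ → T₃ ≤ X → T₃ = T₁ := by
    intro T₃ hT₃ hle hT₃X
    by_contra hne
    have hlt : T₁ < T₃ := lt_of_le_of_ne hle (Ne.symm hne)
    have h1 := lt_inf_normalizer hT₃ hlt
    exact key X _ hX hXM' (inf_le_left.trans hT₃X) ((inf_le_right.trans hNN).trans hNJM)
      (hT₃.to_le inf_le_left) h1
  let T' : Sylow 2 X :=
    { toSubgroup := T₁.subgroupOf X
      isPGroup' := hT₁2.comap_subtype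
      is_maximal' := by
        intro Q hQ hle
        have h1 := hsyl (Q.map X.subtype) (hQ.map _) (by
          intro t ht
          exact ⟨⟨t, hT₁X ht⟩, hle ht, rfl⟩) (by
          rintro _ ⟨a, _, rfl⟩
          exact a.2)
        rw [← h1]
        exact (Subgroup.comap_map_eq_self_of_injective X.subtype_injective _).symm }
  have hinv : X ≤ stb φ (wst φ T₁) := wst_inv h hIH hX T' (by
    show (T₁.subgroupOf X).map X.subtype = T₁
    rw [Subgroup.subgroupOf_map_subtype, inf_eq_left.2 hT₁X])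
  have hnorm : T₂ ≤ stb φ (wst φ T₁) := by
    rw [le_stb_iff]
    intro x hx w hw
    exact im_wst_le h.exp hT₁2 (cj_eq_iff.2 hx.2) ⟨w, hw, rfl⟩
  have hStop : stb φ (wst φ T₁) = ⊤ := by
    by_contra hcon
    exact key _ T₂ hcon (fun h1 => hXM' (hinv.trans h1)) hnorm hT₂M hT₂2 hT₁T₂
  have hwtop : wst φ T₁ = ⊤ := by
    refine h.gen _ (le_wst (h.unoff.mono hT₁T)) ?_
    intro x w hw
    exact ((hStop ▸ Subgroup.mem_top x : x ∈ stb φ (wst φ T₁)) w).2 hw
  have h1 := hB.le_cn h.inj hBT₁ (unoff_wst (φ := φ) h.exp hT₁2)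
  rw [hwtop, cn_top_of_inj h.inj] at h1
  exact hB.ne (le_bot_iff.1 h1)

end main

end Cfsg.Agent.PLocal.S4FreeClosureUniq
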