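import Mathlib
import Cfsg.Agent.PLocal.S4FreeClosureUniq

set_option autoImplicit false

/-!
# Shared definitions for the proof of S0665 (bulletin board P15, 4955-4957)

H-side: `PreFlag`, `Flag`, `Uniq`, `Fun`. P-side: `Zip`.
Actions are on the left: `[v, b]` is `φ b v * v⁻¹`, `U^x` is `im φ x U`, `B^x` is `cj x B`.
-/

namespace Cfsg.Agent.PLocal.S4ConDefs

open Cfsg Cfsg.Agent.Lib
open Cfsg.Agent.PLocal.SFourBasic Cfsg.Agent.PLocal.SFourOffender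
open Cfsg.Agent.PLocal.S4FreeClosureBasic Cfsg.Agent.PLocal.S4FreeClosureUniq

universe u v

section hside

variable {X : Type u} [Group X] {V : Type v} [CommGroup V]

/-- `{u ∈ U₁ | [u, B] ≤ Λ}` -/
def rad (φ : X →* MulAut V) (B : Subgroup X) (U₁ Λ : Subgroup V) : Subgroup V where
  carrier := {u | u ∈ U₁ ∧ ∀ b ∈ B, φ b u * u⁻¹ ∈ Λ}
  one_mem' := ⟨one_mem _, fun b _ => by
    rw [map_one, inv_one, one_mul]
    exact one_mem _⟩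
  mul_mem' := by
    rintro x y ⟨hx, hx'⟩ ⟨hy, hy'⟩
    refine ⟨mul_mem hx hy, fun b hb => ?_⟩
    have h := mul_mem (hx' b hb) (hy' b hb)
    convert h using 1
    rw [map_mul, mul_inv]
    exact mul_mul_mul_comm _ _ _ _
  inv_mem' := by
    rintro x ⟨hx, hx'⟩
    refine ⟨inv_mem hx, fun b hb => ?_⟩
    have h := inv_mem (hx' b hb)
    convert h using 1
    rw [map_inv, mul_inv]

theorem mem_rad {φ : X →* MulAut V} {B : Subgroup X} {U₁ Λ : Subgroup V} {u : V} :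
    u ∈ rad φ B U₁ Λ ↔ u ∈ U₁ ∧ ∀ b ∈ B, φ b u * u⁻¹ ∈ Λ := Iff.rfl

/-- The flag `V > U₁ > U₀` for the elementary abelian `B`: (h1)-(h4) of the H-side
(`U₁.index = s`, or `d` on the P-side). -/
structure PreFlag (φ : X →* MulAut V) (B : Subgroup X) (U₁ U₀ : Subgroup V) : Prop where
  exp : ∀ v : V, v * v = 1
  le : U₀ ≤ U₁
  ne : U₁ ≠ ⊤
  lt : U₀ ≠ U₁
  two : ∀ b ∈ B, b * b = 1
  a1 : ∀ b ∈ B, ∀ v, φ b v * v⁻¹ ∈ U₁
  a2 : ∀ b ∈ B, ∀ u ∈ U₁, φ b u * u⁻¹ ∈ U₀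
  fix : fx φ B = U₀
  inj : ∀ v, v ∉ U₁ → ∀ b ∈ B, φ b v * v⁻¹ ∈ U₀ → b = 1
  surj : ∀ v, v ∉ U₁ → ∀ u ∈ U₁, ∃ b ∈ B, φ b v * v⁻¹ * u ∈ U₀
  big : ∀ Λ : Subgroup V, Λ ≤ U₀ → Λ.relIndex U₀ = 2 →
    (∀ b ∈ B, ∀ u ∈ U₁, φ b u * u⁻¹ ∈ Λ) ∨ 2 * U₁.index ^ 2 ≤ (rad φ B U₁ Λ).relIndex U₁

/-- The flag with an `S₃`-free group. -/
structure Flag (φ : X →* MulAut V) (B : Subgroup X) (U₁ U₀ : Subgroup V) : Prop
    extends PreFlag φ B U₁ U₀ where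
  noS3 : NoS3 φ

/-- Hypotheses of (8.1)-(8.3) (piece L4): the functor `G(T₁)`. -/
structure Fun (φ : X →* MulAut V) (B : Subgroup X) (U₀ : Subgroup V) (T : Sylow 2 X)
    (Gf : Subgroup X → Subgroup V) : Prop where
  ne : U₀ ≠ ⊤
  BT : B ≤ (T : Subgroup X)
  conj : ∀ (x : X) (T₁ : Subgroup X), Gf (cj x T₁) = im φ x (Gf T₁)
  anti : ∀ T₁ T₂ : Subgroup X, IsPGroup 2 T₂ → B ≤ T₁ → T₁ ≤ T₂ → Gf T₂ ≤ Gf T₁
  le : ∀ T₁ : Subgroup X, IsPGroup 2 T₁ → B ≤ T₁ → Gf T₁ ≤ U₀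
  inv : ∀ (Y : Subgroup X) (T' : Sylow 2 Y), Y ≠ ⊤ → B ≤ (T' : Subgroup Y).map Y.subtype →
    Inv φ Y (Gf ((T' : Subgroup Y).map Y.subtype))
  gen : ∀ W : Subgroup V, Gf T ≤ W → (∀ x : X, ∀ w ∈ W, φ x w ∈ W) → W = ⊤

/-- Conclusion of (8.1)-(8.3) (piece L4), with `X₀ = stb φ (Gf T)`, `G = Gf T`. -/
structure Uniq (φ : X →* MulAut V) (B : Subgroup X) (U₀ : Subgroup V) (T : Sylow 2 X)
    (X₀ : Subgroup X) (G : Subgroup V) : Prop where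
  BT : B ≤ (T : Subgroup X)
  TX : (T : Subgroup X) ≤ X₀
  X₀ne : X₀ ≠ ⊤
  max : ∀ Y : Subgroup X, (T : Subgroup X) ≤ Y → Y ≠ ⊤ → Y ≤ X₀
  Bnot : ¬ B ≤ pCore 2 X
  uniq : ∀ x : X, cj x B ≤ X₀ → ∀ Y : Subgroup X, cj x B ≤ Y → Y ≠ ⊤ → Y ≤ X₀
  gen : ∀ x : X, x ∉ X₀ → B ⊔ cj x B = ⊤
  notle : ∀ x : X, x ∉ X₀ → ¬ cj x B ≤ X₀
  Ginv : Inv φ X₀ G
  GU : G ≤ U₀
  Ggen : ∀ W : Subgroup V, G ≤ W → (∀ x : X, ∀ w ∈ W, φ x w ∈ W) → W = ⊤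

/-- `K`: the largest `X`-invariant subgroup of `U`. -/
def core (φ : X →* MulAut V) (U : Subgroup V) : Subgroup V := ⨅ x : X, im φ x U

theorem mem_core {φ : X →* MulAut V} {U : Subgroup V} {v : V} :
    v ∈ core φ U ↔ ∀ x : X, φ x v ∈ U := by
  unfold core
  rw [Subgroup.mem_iInf]
  constructor
  · intro h x
    have := h x⁻¹
    rwa [mem_im, inv_inv] at this
  · intro h x
    rw [mem_im]
    exact h x⁻¹

theorem core_le (φ : X →* MulAut V) (U : Subgroup V) : core φ U ≤ U := by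
  intro v hv
  have := mem_core.1 hv 1
  rwa [map_one] at this

theorem core_inv (φ : X →* MulAut V) (U : Subgroup V) : ∀ x : X, ∀ v ∈ core φ U,
    φ x v ∈ core φ U := by
  intro x v hv
  rw [mem_core] at hv ⊢
  intro y
  have := hv (y * x)
  rwa [map_mul, MulAut.mul_apply] at this

end hside

section pside

/-- The P-side configuration: `D = D(S)`, `M = N_P(D)` after steps (2)-(4). -/
structure Zip {P : Type u} [Group P] [Finite P] (S : Sylow 2 P) (D M : Subgroup P) : Prop where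
  two : ∀ a ∈ D, a * a = 1
  DS : D ≤ (S : Subgroup P)
  SM : (S : Subgroup P) ≤ M
  nrm : Subgroup.normalizer (D : Set P) = M
  ne : M ≠ ⊤
  max : ∀ Y : Subgroup P, (S : Subgroup P) ≤ Y → Y ≠ ⊤ → Y ≤ M
  uniq : ∀ Y : Subgroup P, pCore 2 P ≤ Y → D ≤ Y → Y ≠ ⊤ → Y ≤ M
  gen : ∀ g : P, g ∉ M → D ⊔ cj g D = ⊤
  notle : ¬ D ≤ pCore 2 P
  char2 : Subgroup.centralizer (pCore 2 P : Set P) ≤ pCore 2 P
  s4 : ¬ ∃ (K R : Subgroup P) (hR : (R.subgroupOf K).Normal),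
    Nonempty ((K ⧸ R.subgroupOf K) ≃* Equiv.Perm (Fin 4))
  unoff : ∀ A : Subgroup P, A ≤ (S : Subgroup P) →
    (∀ a ∈ A, ∀ b ∈ A, a * b * a⁻¹ * b⁻¹ ∈ Subgroup.centralizer (D : Set P)) →
    A ≤ Subgroup.centralizer (D : Set P) ∨
      (Subgroup.centralizer (D : Set P)).relIndex A < (Subgroup.centralizer (A : Set P)).relIndex D

end pside

end Cfsg.Agent.PLocal.S4ConDefs
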