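import Mathlib
import Cfsg.Agent.PLocal.S4ConDefs
import Cfsg.Agent.PLocal.S4FreeSection

set_option autoImplicit false

/-!
# From an abstract class of pairs `(T, U)` to the P-side configuration

`Gd G T U`: the elementary abelian subgroup `U` of `G` normalised by `T` is "good". From closure
properties (`GdAx`) the largest good normal subgroup `Df T` of a `2`-group `T` is a characteristic
subgroup that is normal in every `S₄`-free group of characteristic `2` with Sylow `2`-subgroup `T`,
unless there is a configuration `Zip`.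
-/

namespace Cfsg.Agent.PLocal.S4ConGroup

open Cfsg Cfsg.Agent.Lib Cfsg.Agent.Lib.Cores
open Cfsg.Agent.PLocal.SFourBasic Cfsg.Agent.PLocal.SFourOffender
open Cfsg.Agent.PLocal.S4FreeClosureBasic Cfsg.Agent.PLocal.S4FreeClosureUniq
open Cfsg.Agent.PLocal.S4ConDefs Cfsg.Agent.PLocal.S4FreeSection

universe u v

section char2

/-- A subgroup containing `O₂(G)` of a group of characteristic `2` has characteristic `2`. -/
theorem char2_of_le {G : Type u} [Group G]
    (h : Subgroup.centralizer (pCore 2 G : Set G) ≤ pCore 2 G) {Y : Subgroup G}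
    (hY : pCore 2 G ≤ Y) : Subgroup.centralizer (pCore 2 Y : Set Y) ≤ pCore 2 Y := by
  have h1 : (pCore 2 G).subgroupOf Y ≤ pCore 2 Y :=
    le_pCore inferInstance ((pCore_isPGroup 2).comap_subtype)
  intro y hy
  apply h1
  rw [Subgroup.mem_subgroupOf]
  apply h
  rw [Subgroup.mem_centralizer_iff] at hy ⊢
  intro q hq
  exact congrArg Subtype.val (hy ⟨q, hY hq⟩ (h1 hq))

/-- A normal subgroup of a group of characteristic `2` has characteristic `2`. -/
theorem char2_of_normal {G : Type u} [Group G] [Finite G]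
    (h : Subgroup.centralizer (pCore 2 G : Set G) ≤ pCore 2 G) {N : Subgroup G}
    (hN : N.Normal) : Subgroup.centralizer (pCore 2 N : Set N) ≤ pCore 2 N := by
  have hmap := map_subtype_pCore (G := G) 2 hN
  have hQn : (pCore 2 G).Normal := Cores.pCore_normal 2
  have hmem : ∀ z : G, z ∈ N → z ∈ pCore 2 G → ∃ w ∈ pCore 2 N, (w : G) = z := by
    intro z hzN hzQ
    have h1 : z ∈ (pCore 2 N).map N.subtype := by
      rw [hmap]
      exact ⟨hzN, hzQ⟩
    exact h1
  have hodd : ∀ c ∈ Subgroup.centralizer (pCore 2 N : Set N), Odd (orderOf c) → c = 1 := by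
    intro c hc hodd
    rw [Subgroup.mem_centralizer_iff] at hc
    have hcz : ∀ z : G, z ∈ N → z ∈ pCore 2 G → z * c = c * z := by
      intro z hzN hzQ
      obtain ⟨w, hw, rfl⟩ := hmem z hzN hzQ
      exact congrArg Subtype.val (hc w hw)
    have hcQ : (c : G) ∈ Subgroup.centralizer (pCore 2 G : Set G) := by
      rw [Subgroup.mem_centralizer_iff]
      intro q hq
      set z := q⁻¹ * (c * q * (c : G)⁻¹) with hz
      have hzQ : z ∈ pCore 2 G := mul_mem (inv_mem hq) (hQn.conj_mem q hq c)
      have hzN : z ∈ N := by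
        have h1 : z = (q⁻¹ * c * q⁻¹⁻¹) * (c : G)⁻¹ := by
          rw [hz]
          group
        rw [h1]
        exact mul_mem (hN.conj_mem c c.2 q⁻¹) (inv_mem c.2)
      have hcomm := hcz z hzN hzQ
      have hstep : ∀ n : ℕ, (c : G) ^ n * q * ((c : G) ^ n)⁻¹ = q * z ^ n := by
        intro n
        induction n with
        | zero => simp
        | succ n ih =>
          have h1 : c * q * (c : G)⁻¹ = q * z := by rw [hz]; group
          have h2 : (c : G) * z ^ n * (c : G)⁻¹ = z ^ n := by
            have : Commute (c : G) (z ^ n) := (show Commute (c : G) z from hcomm.symm).pow_right n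
            rw [this.eq, mul_inv_cancel_right]
          calc (c : G) ^ (n + 1) * q * ((c : G) ^ (n + 1))⁻¹
              = c * ((c : G) ^ n * q * ((c : G) ^ n)⁻¹) * (c : G)⁻¹ := by
                rw [pow_succ']
                group
            _ = c * (q * z ^ n) * (c : G)⁻¹ := by rw [ih]
            _ = (c * q * (c : G)⁻¹) * (c * z ^ n * (c : G)⁻¹) := by group
            _ = q * z ^ (n + 1) := by rw [h1, h2, pow_succ', mul_assoc]
      have h1 := hstep (orderOf c)
      have h2 : (c : G) ^ orderOf c = 1 := by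
        rw [← Subgroup.coe_pow, pow_orderOf_eq_one, Subgroup.coe_one]
      rw [h2, one_mul, inv_one, mul_one] at h1
      have h3 : z ^ orderOf c = 1 := mul_left_cancel (h1.symm.trans (mul_one q).symm)
      obtain ⟨k, hk⟩ := (pCore_isPGroup (G := G) 2) ⟨z, hzQ⟩
      have hk' : z ^ 2 ^ k = 1 := congrArg Subtype.val hk
      have h4 : orderOf z ∣ orderOf c := orderOf_dvd_of_pow_eq_one h3
      have h5 : orderOf z ∣ 2 ^ k := orderOf_dvd_of_pow_eq_one hk'
      have h6 : Nat.Coprime (orderOf c) (2 ^ k) :=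
        (Nat.coprime_two_right.2 hodd).pow_right k
      have h7 : orderOf z = 1 := Nat.eq_one_of_dvd_coprimes h6 h4 h5
      rw [orderOf_eq_one_iff] at h7
      have h8 : c * q * (c : G)⁻¹ = q := by
        have : c * q * (c : G)⁻¹ = q * z := by rw [hz]; group
        rw [this, h7, mul_one]
      exact (mul_inv_eq_iff_eq_mul.1 h8).symm
    have h1 := h hcQ
    obtain ⟨k, hk⟩ := (pCore_isPGroup (G := G) 2) ⟨c, h1⟩
    have hk' : c ^ 2 ^ k = 1 := by
      apply Subtype.ext
      rw [Subgroup.coe_pow]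
      exact congrArg Subtype.val hk
    have h5 : orderOf c ∣ 2 ^ k := orderOf_dvd_of_pow_eq_one hk'
    have h6 : Nat.Coprime (orderOf c) (2 ^ k) := (Nat.coprime_two_right.2 hodd).pow_right k
    exact orderOf_eq_one_iff.1 (Nat.eq_one_of_dvd_coprimes h6 dvd_rfl h5)
  have hchar := pCore_characteristic (G := N) 2
  refine le_pCore ?_ ?_
  · infer_instance
  · rintro ⟨c, hc⟩
    obtain ⟨k, r, hr, hkr⟩ := Nat.exists_eq_two_pow_mul_odd (n := orderOf c) (orderOf_pos c).ne'
    refine ⟨k, Subtype.ext ?_⟩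
    show c ^ 2 ^ k = 1
    apply hodd _ (pow_mem hc _)
    have h1 : orderOf (c ^ 2 ^ k) = r := by
      rw [orderOf_pow, hkr, Nat.gcd_eq_right (dvd_mul_right _ _),
        Nat.mul_div_cancel_left _ (pow_pos (by norm_num) k)]
    rw [h1]
    exact hr

end char2

section axioms

/-- Closure properties of a class of pairs `(T, U)` of subgroups of `G` (`T` acts on the elementary
abelian `U` by conjugation). -/
structure GdAx (Gd : ∀ (G : Type u) [Group G], Subgroup G → Subgroup G → Prop) : Prop where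
  exp : ∀ (G : Type u) [Group G] (T U : Subgroup G), Gd G T U → ∀ u ∈ U, u * u = 1
  inv : ∀ (G : Type u) [Group G] (T U : Subgroup G), Gd G T U →
    T ≤ Subgroup.normalizer (U : Set G)
  mono : ∀ (G : Type u) [Group G] (T₁ T U : Subgroup G), T₁ ≤ T → Gd G T U → Gd G T₁ U
  triv : ∀ (G : Type u) [Group G] (T U : Subgroup G), (∀ u ∈ U, u * u = 1) →
    (∀ t ∈ T, ∀ u ∈ U, t * u = u * t) → Gd G T U
  sup : ∀ (G : Type u) [Group G] [Finite G] (T U W : Subgroup G), IsPGroup 2 T → Gd G T U →
    Gd G T W → (∀ u ∈ U, ∀ w ∈ W, u * w = w * u) → Gd G T (U ⊔ W)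
  clos : ∀ (G : Type u) [Group G] [Finite G] (T : Sylow 2 G) (U Y : Subgroup G), S4Free G →
    Gd G T U → Subgroup.normalClosure (U : Set G) = Y → (∀ y ∈ Y, y * y = 1) → Gd G T Y
  map : ∀ (G G' : Type u) [Group G] [Group G'] (f : G →* G') (T U : Subgroup G),
    Function.Injective f → (Gd G' (T.map f) (U.map f) ↔ Gd G T U)
  unoff : ∀ (G : Type u) [Group G] [Finite G] (T U : Subgroup G), Gd G T U →
    ∀ A : Subgroup G, A ≤ T →
    (∀ a ∈ A, ∀ b ∈ A, a * b * a⁻¹ * b⁻¹ ∈ Subgroup.centralizer (U : Set G)) →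
    A ≤ Subgroup.centralizer (U : Set G) ∨
      (Subgroup.centralizer (U : Set G)).relIndex A < (Subgroup.centralizer (A : Set G)).relIndex U

variable {Gd : ∀ (G : Type u) [Group G], Subgroup G → Subgroup G → Prop}

/-- The largest good normal subgroup of `T`. -/
def Df (Gd : ∀ (G : Type u) [Group G], Subgroup G → Subgroup G → Prop) {G : Type u} [Group G]
    (T : Subgroup G) : Subgroup G := sSup {U | U ≤ T ∧ Gd G T U}

theorem le_Df {G : Type u} [Group G] {T U : Subgroup G} (hU : U ≤ T) (h : Gd G T U) :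
    U ≤ Df Gd T := le_sSup ⟨hU, h⟩

theorem Df_le {G : Type u} [Group G] (T : Subgroup G) : Df Gd T ≤ T := sSup_le fun _ h => h.1

theorem comm_of_exp {G : Type u} [Group G] {U : Subgroup G} (h : ∀ u ∈ U, u * u = 1) :
    ∀ u ∈ U, ∀ w ∈ U, u * w = w * u := by
  intro u hu w hw
  have h1 := h _ (mul_mem hu hw)
  have hu' : u⁻¹ = u := inv_eq_of_mul_eq_one_left (h u hu)
  have hw' : w⁻¹ = w := inv_eq_of_mul_eq_one_left (h w hw)
  calc u * w = (u * w)⁻¹ := (inv_eq_of_mul_eq_one_left h1).symm
    _ = w * u := by rw [mul_inv_rev, hu', hw']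

/-- Good subgroups contained in the acting group commute. -/
theorem comm_of_good (hax : GdAx Gd) {G : Type u} [Group G] [Finite G] {T U W : Subgroup G}
    (hU : Gd G T U) (hW : Gd G T W) (hUT : U ≤ T) (hWT : W ≤ T) :
    ∀ u ∈ U, ∀ w ∈ W, u * w = w * u := by
  have hcU := comm_of_exp (hax.exp G T U hU)
  have hcW := comm_of_exp (hax.exp G T W hW)
  have hc : ∀ (U W : Subgroup G), (∀ u ∈ U, ∀ w ∈ U, u * w = w * u) →
      ∀ a ∈ U, ∀ b ∈ U, a * b * a⁻¹ * b⁻¹ ∈ Subgroup.centralizer (W : Set G) := by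
    intro U W hcU a ha b hb
    rw [hcU a ha b hb, mul_inv_cancel_right, mul_inv_cancel]
    exact one_mem _
  have h1 := hax.unoff G T W hW U hUT (hc U W hcU)
  have h2 := hax.unoff G T U hU W hWT (hc W U hcW)
  rcases h1 with h1 | h1
  · intro u hu w hw
    exact (Subgroup.mem_centralizer_iff.1 (h1 hu) w hw).symm
  rcases h2 with h2 | h2
  · intro u hu w hw
    exact Subgroup.mem_centralizer_iff.1 (h2 hw) u hu
  exact absurd h1 (not_lt_of_gt h2)

theorem exp_sup {G : Type u} [Group G] {U W : Subgroup G} (hU : ∀ u ∈ U, u * u = 1)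
    (hW : ∀ u ∈ W, u * u = 1) (hc : ∀ u ∈ U, ∀ w ∈ W, u * w = w * u) :
    ∀ u ∈ U ⊔ W, u * u = 1 := by
  have hcl : U ⊔ W ≤ Subgroup.centralizer (U : Set G) ⊓ Subgroup.centralizer (W : Set G) := by
    refine sup_le (le_inf ?_ ?_) (le_inf ?_ ?_)
    · intro u hu
      rw [Subgroup.mem_centralizer_iff]
      exact fun v hv => comm_of_exp hU v hv u hu
    · intro u hu
      rw [Subgroup.mem_centralizer_iff]
      exact fun v hv => (hc u hu v hv).symm
    · intro u hu
      rw [Subgroup.mem_centralizer_iff]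
      exact fun v hv => hc v hv u hu
    · intro u hu
      rw [Subgroup.mem_centralizer_iff]
      exact fun v hv => comm_of_exp hW v hv u hu
  have hWU : W ≤ Subgroup.centralizer (U : Set G) := le_sup_right.trans (hcl.trans inf_le_left)
  have hmem : ∀ x ∈ U ⊔ W, ∃ u ∈ U, ∃ w ∈ W, u * w = x := by
    let V : Subgroup G :=
      { carrier := {x | ∃ u ∈ U, ∃ w ∈ W, u * w = x}
        one_mem' := ⟨1, one_mem _, 1, one_mem _, one_mul _⟩
        mul_mem' := by
          rintro _ _ ⟨u, hu, w, hw, rfl⟩ ⟨u', hu', w', hw', rfl⟩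
          refine ⟨u * u', mul_mem hu hu', w * w', mul_mem hw hw', ?_⟩
          rw [mul_assoc, ← mul_assoc u', hc u' hu' w hw]
          simp only [mul_assoc]
        inv_mem' := by
          rintro _ ⟨u, hu, w, hw, rfl⟩
          refine ⟨u⁻¹, inv_mem hu, w⁻¹, inv_mem hw, ?_⟩
          rw [mul_inv_rev, hc _ (inv_mem hu) _ (inv_mem hw)] }
    have h1 : U ⊔ W ≤ V := sup_le (fun u hu => ⟨u, hu, 1, one_mem _, mul_one _⟩)
      (fun w hw => ⟨1, one_mem _, w, hw, one_mul _⟩)
    exact fun x hx => h1 hx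
  intro x hx
  obtain ⟨u, hu, w, hw, rfl⟩ := hmem x hx
  calc u * w * (u * w) = u * (w * u) * w := by simp only [mul_assoc]
    _ = u * (u * w) * w := by rw [hc u hu w hw]
    _ = (u * u) * (w * w) := by simp only [mul_assoc]
    _ = 1 := by rw [hU u hu, hW w hw, one_mul]

/-- `Df T` is good. -/
theorem good_Df (hax : GdAx Gd) {G : Type u} [Group G] [Finite G] {T : Subgroup G}
    (hT : IsPGroup 2 T) : Gd G T (Df Gd T) := by
  let A : Set (Subgroup G) := {U | U ≤ T ∧ Gd G T U}
  have hne : A.Nonempty := ⟨⊥, bot_le, hax.triv G T ⊥ (fun u hu => by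
    rw [Subgroup.mem_bot.1 hu, one_mul]) (fun t _ u hu => by
    rw [Subgroup.mem_bot.1 hu, one_mul, mul_one])⟩
  obtain ⟨W, hW⟩ := A.toFinite.exists_maximal hne
  have h1 : Df Gd T = W := by
    apply le_antisymm
    · refine sSup_le fun U hU => ?_
      have h2 : U ⊔ W ∈ A := ⟨sup_le hU.1 hW.prop.1, hax.sup G T U W hT hU.2 hW.prop.2
        (comm_of_good hax hU.2 hW.prop.2 hU.1 hW.prop.1)⟩
      exact le_sup_left.trans (hW.le_of_ge h2 le_sup_right)
    · exact le_Df hW.prop.1 hW.prop.2
  rw [h1]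
  exact hW.prop.2

/-- Functoriality. -/
theorem Df_map (hax : GdAx Gd) {G G' : Type u} [Group G] [Group G'] (f : G →* G')
    (hf : Function.Injective f) (T : Subgroup G) : (Df Gd T).map f = Df Gd (T.map f) := by
  apply le_antisymm
  · rw [Subgroup.map_le_iff_le_comap]
    refine sSup_le fun U hU => ?_
    rw [← Subgroup.map_le_iff_le_comap]
    exact le_Df (Subgroup.map_mono hU.1) ((hax.map G G' f T U hf).2 hU.2)
  · refine sSup_le fun U hU => ?_
    have h1 : (U.comap f).map f = U := Subgroup.map_comap_eq_self (hU.1.trans (by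
      rintro _ ⟨x, _, rfl⟩
      exact ⟨x, rfl⟩))
    rw [← h1]
    apply Subgroup.map_mono
    refine le_Df ?_ ?_
    · rw [← Subgroup.comap_map_eq_self_of_injective hf T]
      exact Subgroup.comap_mono hU.1
    · rw [← hax.map G G' f T _ hf, h1]
      exact hU.2

theorem Df_cj (hax : GdAx Gd) {G : Type u} [Group G] (x : G) (T : Subgroup G) :
    Df Gd (cj x T) = cj x (Df Gd T) :=
  (Df_map hax (MulAut.conj x).toMonoidHom (MulAut.conj x).injective T).symm

theorem cj_good (hax : GdAx Gd) {G : Type u} [Group G] (x : G) {T U : Subgroup G}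
    (h : Gd G T U) : Gd G (cj x T) (cj x U) :=
  (hax.map G G (MulAut.conj x).toMonoidHom T U (MulAut.conj x).injective).2 h

/-- Step (1): if `Df S ≤ O₂(G)`, then `Df S` is normal. -/
theorem normal_of_le (hax : GdAx Gd) {G : Type u} [Group G] [Finite G] (h4 : S4Free G)
    (S : Sylow 2 G) (h : Df Gd (S : Subgroup G) ≤ pCore 2 G) : (Df Gd (S : Subgroup G)).Normal := by
  set D := Df Gd (S : Subgroup G) with hD
  have hQn : (pCore 2 G).Normal := Cores.pCore_normal 2
  have hgood : Gd G (S : Subgroup G) D := good_Df hax S.isPGroup'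
  have hcjQ : ∀ x, cj x (pCore 2 G) = pCore 2 G := fun x => cj_eq_of_normal x _
  have hle : ∀ x, cj x D ≤ pCore 2 G := fun x => by
    rw [← hcjQ x]
    exact cj_mono x h
  have hQS : ∀ x, pCore 2 G ≤ cj x (S : Subgroup G) := fun x => by
    rw [← hcjQ x]
    exact cj_mono x (pCore_le_sylow S)
  have hgx : ∀ x, Gd G (pCore 2 G) (cj x D) := fun x =>
    hax.mono G _ _ _ (hQS x) (cj_good hax x hgood)
  have hcomm : ∀ x y, ∀ u ∈ cj x D, ∀ w ∈ cj y D, u * w = w * u := fun x y =>
    comm_of_good hax (hgx x) (hgx y) (hle x) (hle y)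
  have hexpD : ∀ x, ∀ u ∈ cj x D, u * u = 1 := fun x => hax.exp G _ _ (hgx x)
  set Y := Subgroup.normalClosure (D : Set G) with hY
  have hYsup : Y = ⨆ x : G, cj x D := by
    apply le_antisymm
    · have hn : (⨆ x : G, cj x D).Normal := by
        refine ⟨fun n hn g => ?_⟩
        have h1 : (⨆ x : G, cj x D) ≤ (⨆ x : G, cj x D).comap (MulAut.conj g).toMonoidHom := by
          refine iSup_le fun x => ?_
          rintro _ ⟨d, hd, rfl⟩
          refine (le_iSup (fun x : G => cj x D) (g * x)) ⟨d, hd, ?_⟩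
          show g * x * d * (g * x)⁻¹ = g * (x * d * x⁻¹) * g⁻¹
          group
        exact h1 hn
      refine Subgroup.normalClosure_le_normal ?_
      intro d hd
      refine (le_iSup (fun x : G => cj x D) 1) ?_
      rw [cj_one]
      exact hd
    · refine iSup_le fun x => ?_
      rintro _ ⟨d, hd, rfl⟩
      exact (Subgroup.normalClosure_normal (s := (D : Set G))).conj_mem d
        (Subgroup.subset_normalClosure hd) x
  have hYcen : ∀ x, Y ≤ Subgroup.centralizer (cj x D : Set G) := by
    intro x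
    rw [hYsup]
    refine iSup_le fun y => ?_
    intro w hw
    rw [Subgroup.mem_centralizer_iff]
    intro u hu
    exact hcomm x y u hu w hw
  have hYcomm : ∀ y ∈ Y, ∀ z ∈ Y, y * z = z * y := by
    have h1 : Y ≤ Subgroup.centralizer (Y : Set G) := by
      conv_lhs => rw [hYsup]
      refine iSup_le fun x => ?_
      intro d hd
      rw [Subgroup.mem_centralizer_iff]
      intro y hy
      exact ((Subgroup.mem_centralizer_iff.1 (hYcen x hy)) d hd).symm
    intro y hy z hz
    exact (Subgroup.mem_centralizer_iff.1 (h1 hz) y hy)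
  have hYexp : ∀ y ∈ Y, y * y = 1 := by
    have h1 : ∀ y ∈ Y, y ∈ Y ∧ y * y = 1 := by
      intro y hy
      have hy' := hy
      rw [hYsup] at hy'
      induction hy' using Subgroup.iSup_induction' with
      | hp x y hy1 => exact ⟨hy, hexpD x y hy1⟩
      | h1 => exact ⟨one_mem _, one_mul _⟩
      | hmul a b ha hb iha ihb =>
        rw [← hYsup] at ha hb
        have h2 := (iha ha).2
        have h3 := (ihb hb).2
        refine ⟨mul_mem ha hb, ?_⟩
        calc a * b * (a * b) = a * (b * a) * b := by simp only [mul_assoc]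
          _ = a * (a * b) * b := by rw [hYcomm a ha b hb]
          _ = (a * a) * (b * b) := by simp only [mul_assoc]
          _ = 1 := by rw [h2, h3, one_mul]
    exact fun y hy => (h1 y hy).2
  have hYgood : Gd G (S : Subgroup G) Y := hax.clos G S D Y h4 hgood rfl hYexp
  have hYQ : Y ≤ pCore 2 G := by
    rw [hYsup]
    exact iSup_le hle
  have hYD : Y ≤ D := le_Df (hYQ.trans (pCore_le_sylow S)) hYgood
  have hDY : D = Y := le_antisymm Subgroup.subset_normalClosure hYD
  rw [hDY]
  exact Subgroup.normalClosure_normal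

end axioms

end Cfsg.Agent.PLocal.S4ConGroup
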