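import Mathlib
import Cfsg.Agent.PLocal.S4ConGroup

set_option autoImplicit false

/-!
# The minimal counterexample gives the P-side configuration `Zip`
-/

namespace Cfsg.Agent.PLocal.S4ConMin

open Cfsg Cfsg.Agent.Lib Cfsg.Agent.Lib.Cores
open Cfsg.Agent.PLocal.SFourBasic Cfsg.Agent.PLocal.SFourOffender
open Cfsg.Agent.PLocal.S4FreeClosureBasic Cfsg.Agent.PLocal.S4FreeClosureUniq
open Cfsg.Agent.PLocal.S4ConDefs Cfsg.Agent.PLocal.S4FreeSection
open Cfsg.Agent.PLocal.S4ConGroup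

universe u v

variable {Gd : ∀ (G : Type u) [Group G], Subgroup G → Subgroup G → Prop}

/-- Induction hypothesis. -/
def IH (Gd : ∀ (G : Type u) [Group G], Subgroup G → Subgroup G → Prop) (n : ℕ) : Prop :=
  ∀ (G : Type u) [Group G] [Finite G], Nat.card G < n → S4Free G →
    Subgroup.centralizer (pCore 2 G : Set G) ≤ pCore 2 G →
    ∀ S : Sylow 2 G, Df Gd (S : Subgroup G) ≤ pCore 2 G

/-- A minimal counterexample. -/
structure Ctr (Gd : ∀ (G : Type u) [Group G], Subgroup G → Subgroup G → Prop) (P : Type u)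
    [Group P] [Finite P] (S : Sylow 2 P) : Prop where
  ih : IH Gd (Nat.card P)
  s4 : S4Free P
  char2 : Subgroup.centralizer (pCore 2 P : Set P) ≤ pCore 2 P
  not : ¬ Df Gd (S : Subgroup P) ≤ pCore 2 P

variable {P : Type u} [Group P] [Finite P] {S : Sylow 2 P}

theorem le_nrm_map {Y : Subgroup P} {K : Subgroup Y} (hK : K.Normal) :
    Y ≤ Subgroup.normalizer (K.map Y.subtype : Set P) := by
  intro y hy
  rw [← cj_eq_iff]
  apply Subgroup.eq_of_le_of_card_ge
  · rintro _ ⟨_, ⟨k, hk, rfl⟩, rfl⟩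
    exact ⟨_, hK.conj_mem k hk ⟨y, hy⟩, rfl⟩
  · rw [card_cj]

theorem Ctr.inv (hax : GdAx Gd) (h : Ctr Gd P S) {Y : Subgroup P} (hY : Y ≠ ⊤)
    (hc : Subgroup.centralizer (pCore 2 Y : Set Y) ≤ pCore 2 Y) (T' : Sylow 2 Y) :
    Df Gd (T' : Subgroup Y) ≤ pCore 2 Y ∧
      Y ≤ Subgroup.normalizer (Df Gd ((T' : Subgroup Y).map Y.subtype) : Set P) := by
  have hcard : Nat.card Y < Nat.card P := by
    refine lt_of_le_of_ne (Subgroup.card_le_card_group Y) fun h2 => hY
      (Subgroup.eq_top_of_card_eq Y h2)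
  have h1 := h.ih Y hcard (h.s4.subgroup Y) hc T'
  refine ⟨h1, ?_⟩
  rw [← Df_map hax Y.subtype Y.subtype_injective]
  exact le_nrm_map (normal_of_le hax (h.s4.subgroup Y) T' h1)

theorem Ctr.good (hax : GdAx Gd) : Gd P (S : Subgroup P) (Df Gd (S : Subgroup P)) :=
  good_Df hax S.isPGroup'

theorem Ctr.SM (hax : GdAx Gd) : (S : Subgroup P) ≤
    Subgroup.normalizer (Df Gd (S : Subgroup P) : Set P) := hax.inv P _ _ (Ctr.good hax)

theorem Ctr.ne (h : Ctr Gd P S) : Subgroup.normalizer (Df Gd (S : Subgroup P) : Set P) ≠ ⊤ := by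
  intro htop
  exact h.not (le_pCore (Subgroup.normalizer_eq_top_iff.1 htop)
    (S.isPGroup'.to_le (Df_le (S : Subgroup P))))

theorem Ctr.max (hax : GdAx Gd) (h : Ctr Gd P S) (Y : Subgroup P) (hSY : (S : Subgroup P) ≤ Y)
    (hY : Y ≠ ⊤) : Y ≤ Subgroup.normalizer (Df Gd (S : Subgroup P) : Set P) := by
  have h1 := (h.inv hax hY (char2_of_le h.char2 ((pCore_le_sylow S).trans hSY))
    (S.subtype hSY)).2
  rwa [Sylow.coe_subtype, Subgroup.subgroupOf_map_subtype, inf_eq_left.2 hSY] at h1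

theorem cj_ne_top (x : P) {X : Subgroup P} (hX : X ≠ ⊤) : cj x X ≠ ⊤ := by
  intro h1
  apply hX
  apply Subgroup.eq_top_of_card_eq
  rw [← card_cj x X, h1, Subgroup.card_top]

/-- The unique maximal subgroup over `O₂(P) D`. -/
theorem Ctr.uniq (hax : GdAx Gd) (h : Ctr Gd P S) (Y : Subgroup P) (hQY : pCore 2 P ≤ Y)
    (hDY : Df Gd (S : Subgroup P) ≤ Y) (hY : Y ≠ ⊤) :
    Y ≤ Subgroup.normalizer (Df Gd (S : Subgroup P) : Set P) := by
  classical
  have hQn : (pCore 2 P).Normal := Cores.pCore_normal 2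
  set D := Df Gd (S : Subgroup P) with hD
  set M := Subgroup.normalizer (D : Set P) with hM
  have hDS : D ≤ (S : Subgroup P) := Df_le _
  have hSM : (S : Subgroup P) ≤ M := Ctr.SM hax
  have hQS : pCore 2 P ≤ (S : Subgroup P) := pCore_le_sylow S
  have hcjQ : ∀ x, cj x (pCore 2 P) = pCore 2 P := fun x => cj_eq_of_normal x _
  have hmD : ∀ m ∈ M, cj m D = D := fun m hm => cj_eq_iff.2 hm
  by_contra hYM
  have hconjM : ∀ m ∈ M, ∀ X : Subgroup P, ¬ X ≤ M → ¬ cj m X ≤ M := by
    intro m hm X hX h1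
    apply hX
    rw [cj_le_iff, cj_eq_of_mem (inv_mem hm)] at h1
    exact h1
  let F : Set (Subgroup P × Subgroup P) := {p | p.1 ≠ ⊤ ∧ ¬ p.1 ≤ M ∧ p.2 ≤ p.1 ∧
    p.2 ≤ (S : Subgroup P) ∧ pCore 2 P ≤ p.2 ∧ D ≤ p.2}
  have hne : F.Nonempty := ⟨(Y, pCore 2 P ⊔ D), hY, hYM, sup_le hQY hDY, sup_le hQS hDS,
    le_sup_left, le_sup_right⟩
  obtain ⟨⟨X, T₁⟩, ⟨hX, hXM', hT₁X, hT₁T, hQT₁, hDT₁⟩, hmax⟩ :=
    F.toFinite.exists_maximalFor (fun p => Nat.card p.2) F hne
  dsimp only at hX hXM' hT₁X hT₁T hQT₁ hDT₁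
  have hmax' : ∀ p ∈ F, Nat.card p.2 ≤ Nat.card T₁ := by
    intro p hp
    rcases le_total (Nat.card p.2) (Nat.card T₁) with h1 | h1
    · exact h1
    · exact hmax hp h1
  have key : ∀ Y T₂ : Subgroup P, Y ≠ ⊤ → ¬ Y ≤ M → T₂ ≤ Y → T₂ ≤ M → IsPGroup 2 T₂ →
      T₁ < T₂ → False := by
    intro Y T₂ hY hYM hTY hT₂M hT₂ hlt
    obtain ⟨m, hm, hmT⟩ := exists_cj_le hSM hT₂ hT₂M
    have h1 := hmax' (cj m Y, cj m T₂) ⟨cj_ne_top m hY, hconjM m hm Y hYM, cj_mono m hTY, hmT,
      (by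
        show pCore 2 P ≤ cj m T₂
        rw [← hcjQ m]
        exact cj_mono m (hQT₁.trans hlt.le)), (by
        show D ≤ cj m T₂
        rw [← hmD m hm]
        exact cj_mono m (hDT₁.trans hlt.le))⟩
    dsimp only at h1
    rw [card_cj] at h1
    exact hlt.ne (Subgroup.eq_of_le_of_card_ge hlt.le h1)
  have hT₁2 : IsPGroup 2 T₁ := S.isPGroup'.to_le hT₁T
  have hT₁lt : T₁ < (S : Subgroup P) := by
    refine lt_of_le_of_ne hT₁T ?_
    rintro heq
    exact hXM' (h.max hax X (heq ▸ hT₁X) hX)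
  set T₂ := (S : Subgroup P) ⊓ Subgroup.normalizer (T₁ : Set P) with hT₂
  have hT₁T₂ : T₁ < T₂ := lt_inf_normalizer S.isPGroup' hT₁lt
  -- the subgroup generated by the conjugates of `D` in `T₁`
  let J : Subgroup P := sSup {B | B ≤ T₁ ∧ ∃ x, B = cj x D}
  have hDJ : D ≤ J := le_sSup ⟨hDT₁, 1, (cj_one D).symm⟩
  have hcjJ : ∀ x : P, cj x T₁ = T₁ → cj x J ≤ J := by
    intro x hx
    rw [cj_le_iff]
    refine sSup_le ?_
    rintro C ⟨hC, y, rfl⟩
    rw [← cj_inv_cj x (cj y D)]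
    refine cj_mono _ (le_sSup ⟨?_, x * y, cj_cj x y D⟩)
    rw [← hx]
    exact cj_mono x hC
  have hNN : Subgroup.normalizer (T₁ : Set P) ≤ Subgroup.normalizer (J : Set P) := by
    intro x hx
    rw [← cj_eq_iff] at hx ⊢
    exact Subgroup.eq_of_le_of_card_ge (hcjJ x hx) (card_cj x J).ge
  have hJT₁ : J ≤ T₁ := sSup_le fun _ hB => hB.1
  have hNJ : Subgroup.normalizer (J : Set P) ≠ ⊤ := by
    intro htop
    exact h.not (hDJ.trans (le_pCore (Subgroup.normalizer_eq_top_iff.1 htop)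
      (hT₁2.to_le hJT₁)))
  have hT₂N : T₂ ≤ Subgroup.normalizer (J : Set P) := inf_le_right.trans hNN
  have hT₂M : T₂ ≤ M := inf_le_left.trans hSM
  have hT₂2 : IsPGroup 2 T₂ := S.isPGroup'.to_le inf_le_left
  have hNJM : Subgroup.normalizer (J : Set P) ≤ M := by
    by_contra hcon
    exact key _ T₂ hNJ hcon hT₂N hT₂M hT₂2 hT₁T₂
  have hsyl : ∀ T₃ : Subgroup P, IsPGroup 2 T₃ → T₁ ≤ T₃ → T₃ ≤ X → T₃ = T₁ := by
    intro T₃ hT₃ hle hT₃X
    by_contra hne
    have hlt : T₁ < T₃ := lt_of_le_of_ne hle (Ne.symm hne)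
    have h1 := lt_inf_normalizer hT₃ hlt
    exact key X _ hX hXM' (inf_le_left.trans hT₃X) ((inf_le_right.trans hNN).trans hNJM)
      (hT₃.to_le inf_le_left) h1
  let T' : Sylow 2 X :=
    { toSubgroup := T₁.subgroupOf X
      isPGroup' := hT₁2.comap_subtype
      is_maximal' := by
        intro Q hQ hle
        have h1 := hsyl (Q.map X.subtype) (hQ.map _) (by
          intro t ht
          exact ⟨⟨t, hT₁X ht⟩, hle ht, rfl⟩) (by
          rintro _ ⟨a, _, rfl⟩
          exact a.2)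
        rw [← h1]
        exact (Subgroup.comap_map_eq_self_of_injective X.subtype_injective _).symm }
  have hmap : (T' : Subgroup X).map X.subtype = T₁ := by
    show (T₁.subgroupOf X).map X.subtype = T₁
    rw [Subgroup.subgroupOf_map_subtype, inf_eq_left.2 hT₁X]
  have hinv : X ≤ Subgroup.normalizer (Df Gd T₁ : Set P) := by
    have h1 := (h.inv hax hX (char2_of_le h.char2 (hQT₁.trans hT₁X)) T').2
    rwa [hmap] at h1
  have hnorm : T₂ ≤ Subgroup.normalizer (Df Gd T₁ : Set P) := by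
    intro x hx
    rw [← cj_eq_iff, ← Df_cj hax, cj_eq_iff.2 hx.2]
  have hDD : D ≤ Df Gd T₁ := le_Df hDT₁ (hax.mono P _ _ _ hT₁T (Ctr.good hax))
  have hStop : Subgroup.normalizer (Df Gd T₁ : Set P) ≠ ⊤ := by
    intro htop
    exact h.not (hDD.trans (le_pCore (Subgroup.normalizer_eq_top_iff.1 htop)
      (hT₁2.to_le (Df_le T₁))))
  exact key _ T₂ hStop (fun h1 => hXM' (hinv.trans h1)) hnorm hT₂M hT₂2 hT₁T₂

/-- The normal closure of `D` is `P`. -/
theorem Ctr.closure (hax : GdAx Gd) (h : Ctr Gd P S) (N : Subgroup P) (hN : N.Normal)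
    (hD : Df Gd (S : Subgroup P) ≤ N) : N = ⊤ := by
  by_contra hne
  have hQn : (pCore 2 P).Normal := Cores.pCore_normal 2
  have hc := char2_of_normal h.char2 hN
  -- a Sylow subgroup of `N` contained in `S`
  have : Fact (Nat.Prime 2) := ⟨Nat.prime_two⟩
  have hD2 : IsPGroup 2 (Df Gd (S : Subgroup P)) := S.isPGroup'.to_le (Df_le _)
  let T₁ : Subgroup P := (S : Subgroup P) ⊓ N
  have hT₁2 : IsPGroup 2 T₁ := S.isPGroup'.to_le inf_le_left
  have hsyl : ∀ T₃ : Subgroup P, IsPGroup 2 T₃ → T₁ ≤ T₃ → T₃ ≤ N → T₃ = T₁ := by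
    intro T₃ hT₃ hle hT₃N
    symm
    apply Subgroup.eq_of_le_of_card_ge hle
    obtain ⟨R, hR⟩ := hT₃.exists_le_sylow
    obtain ⟨x, hx⟩ := MulAction.exists_smul_eq P R S
    have h1 : cj x (R : Subgroup P) = S := by
      have := congrArg Sylow.toSubgroup hx
      rw [Sylow.coe_subgroup_smul] at this
      exact this
    have h2 : cj x T₃ ≤ T₁ := by
      refine le_inf ?_ ?_
      · rw [← h1]
        exact cj_mono x hR
      · rw [← cj_eq_of_normal x N]
        exact cj_mono x hT₃N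
    have h3 := Subgroup.card_le_of_le h2
    rwa [card_cj] at h3
  let T' : Sylow 2 N :=
    { toSubgroup := T₁.subgroupOf N
      isPGroup' := hT₁2.comap_subtype
      is_maximal' := by
        intro Q hQ hle
        have h1 := hsyl (Q.map N.subtype) (hQ.map _) (by
          intro t ht
          exact ⟨⟨t, ht.2⟩, hle ht, rfl⟩) (by
          rintro _ ⟨a, _, rfl⟩
          exact a.2)
        rw [← h1]
        exact (Subgroup.comap_map_eq_self_of_injective N.subtype_injective _).symm }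
  have hmap : (T' : Subgroup N).map N.subtype = T₁ := by
    show (T₁.subgroupOf N).map N.subtype = T₁
    rw [Subgroup.subgroupOf_map_subtype, inf_eq_left.2 inf_le_right]
  have h1 := (h.inv hax hne hc T').1
  have h2 : Df Gd (S : Subgroup P) ≤ Df Gd T₁ := le_Df (le_inf (Df_le _) hD)
    (hax.mono P _ _ _ inf_le_left (Ctr.good hax))
  rw [← hmap, ← Df_map hax N.subtype N.subtype_injective] at h2
  apply h.not
  refine h2.trans ((Subgroup.map_mono h1).trans ?_)
  rw [map_subtype_pCore 2 hN]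
  exact inf_le_right

theorem Ctr.cj_not_le (hax : GdAx Gd) (h : Ctr Gd P S) {x : P}
    (hx : x ∉ Subgroup.normalizer (Df Gd (S : Subgroup P) : Set P)) :
    ¬ cj x (Df Gd (S : Subgroup P)) ≤ Subgroup.normalizer (Df Gd (S : Subgroup P) : Set P) := by
  intro hle
  have hQn : (pCore 2 P).Normal := Cores.pCore_normal 2
  set D := Df Gd (S : Subgroup P) with hD
  set M := Subgroup.normalizer (D : Set P) with hM
  have hSM : (S : Subgroup P) ≤ M := Ctr.SM hax
  have h1 : cj x⁻¹ M ≤ M := by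
    refine h.uniq hax _ ?_ ?_ (cj_ne_top _ h.ne)
    · rw [← cj_eq_of_normal x⁻¹ (pCore 2 P)]
      exact cj_mono _ ((pCore_le_sylow S).trans hSM)
    · show D ≤ cj x⁻¹ M
      rw [← cj_inv_cj x D]
      exact cj_mono _ hle
  have h2 : cj x⁻¹ M = M := Subgroup.eq_of_le_of_card_ge h1 (card_cj _ M).ge
  have h2' : cj x M = M := by
    conv_lhs => rw [← h2]
    rw [cj_cj_inv]
  rw [cj_eq_iff] at h2'
  by_cases h3 : Subgroup.normalizer (M : Set P) = ⊤
  · have h4 : M.Normal := Subgroup.normalizer_eq_top_iff.1 h3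
    have h5 := inf_le_pCore S h.ne (h.max hax) M le_rfl
    rw [inf_eq_left.2 hSM] at h5
    exact h.not ((Df_le _).trans h5)
  · exact hx (h.max hax _ (hSM.trans Subgroup.le_normalizer) h3 h2')

theorem Ctr.gen (hax : GdAx Gd) (h : Ctr Gd P S) {x : P}
    (hx : x ∉ Subgroup.normalizer (Df Gd (S : Subgroup P) : Set P)) :
    Df Gd (S : Subgroup P) ⊔ cj x (Df Gd (S : Subgroup P)) = ⊤ := by
  have hQn : (pCore 2 P).Normal := Cores.pCore_normal 2
  set D := Df Gd (S : Subgroup P) with hD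
  set M := Subgroup.normalizer (D : Set P) with hM
  have hSM : (S : Subgroup P) ≤ M := Ctr.SM hax
  have hQM : pCore 2 P ≤ M := (pCore_le_sylow S).trans hSM
  set L := D ⊔ cj x D with hL
  have h1 : pCore 2 P ⊔ L = ⊤ := by
    by_contra hne
    exact h.cj_not_le hax hx ((le_sup_right.trans le_sup_right).trans
      (h.uniq hax _ le_sup_left (le_sup_left.trans le_sup_right) hne))
  have hQL : pCore 2 P ≤ Subgroup.normalizer (L : Set P) := by
    intro q hq
    have hqM : q ∈ M := hQM hq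
    have hqM' : cj q (cj x D) = cj x D := by
      rw [cj_cj]
      have h3 : x⁻¹ * q * x ∈ M := hQM (by
        have := hQn.conj_mem q hq x⁻¹
        rwa [inv_inv] at this)
      have h4 := cj_eq_iff.2 h3
      have h5 : q * x = x * (x⁻¹ * q * x) := by group
      rw [h5, ← cj_cj, h4]
    rw [← cj_eq_iff]
    have h6 : cj q L = cj q D ⊔ cj q (cj x D) := Subgroup.map_sup _ _ _
    rw [h6, hqM', cj_eq_iff.2 hqM]
  have hLn : L.Normal := by
    rw [← Subgroup.normalizer_eq_top_iff, eq_top_iff, ← h1]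
    exact sup_le hQL Subgroup.le_normalizer
  exact h.closure hax L hLn le_sup_left

/-- The P-side configuration. -/
theorem Ctr.zip (hax : GdAx Gd) (h : Ctr Gd P S) :
    Zip S (Df Gd (S : Subgroup P)) (Subgroup.normalizer (Df Gd (S : Subgroup P) : Set P)) where
  two := hax.exp P _ _ (Ctr.good hax)
  DS := Df_le _
  SM := Ctr.SM hax
  nrm := rfl
  ne := h.ne
  max := h.max hax
  uniq := h.uniq hax
  gen := fun _ hg => h.gen hax hg
  notle := h.not
  char2 := h.char2
  s4 := h.s4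
  unoff := hax.unoff P _ _ (Ctr.good hax)

/-- The main theorem, from the contradiction in the P-side configuration. -/
theorem main (hax : GdAx Gd)
    (hzip : ∀ (P : Type u) [Group P] [Finite P] (S : Sylow 2 P), S4Free P →
      Gd P (S : Subgroup P) (Df Gd (S : Subgroup P)) →
      Zip S (Df Gd (S : Subgroup P)) (Subgroup.normalizer (Df Gd (S : Subgroup P) : Set P)) →
      False) (n : ℕ) : IH Gd n := by
  induction n with
  | zero =>
    intro G _ _ hlt
    exact absurd hlt (Nat.not_lt_zero _)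
  | succ n ih =>
    intro G _ _ hlt h4 hc S
    by_contra hnot
    have hih : IH Gd (Nat.card G) := by
      intro G' _ _ hlt'
      exact ih G' (lt_of_lt_of_le hlt' (Nat.lt_succ_iff.1 hlt))
    have hctr : Ctr Gd G S := ⟨hih, h4, hc, hnot⟩
    exact hzip G S h4 (Ctr.good hax) (hctr.zip hax)

/-- The final statement, in the form of S0665. -/
theorem final (hax : GdAx Gd)
    (hzip : ∀ (P : Type u) [Group P] [Finite P] (S : Sylow 2 P), S4Free P →
      Gd P (S : Subgroup P) (Df Gd (S : Subgroup P)) →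
      Zip S (Df Gd (S : Subgroup P)) (Subgroup.normalizer (Df Gd (S : Subgroup P) : Set P)) →
      False)
    {S : Type u} [Group S] [Finite S] [Nontrivial S] (hS : IsPGroup 2 S) :
    ∃ W : Subgroup S, W ≠ ⊥ ∧ W.Characteristic ∧
      ∀ (G : Type u) [Group G] [Finite G] (τ : S →* G), Function.Injective τ →
        (∃ P : Sylow 2 G, (P : Subgroup G) = τ.range) → S4Free G →
        Subgroup.centralizer (pCore 2 G : Set G) ≤ pCore 2 G → (W.map τ).Normal := by
  have : Fact (Nat.Prime 2) := ⟨Nat.prime_two⟩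
  refine ⟨Df Gd (⊤ : Subgroup S), ?_, ?_, ?_⟩
  · -- contains an involution of the center
    have hZ : Nontrivial (Subgroup.center S) := hS.center_nontrivial
    have hZ2 : IsPGroup 2 (Subgroup.center S) := hS.to_subgroup _
    obtain ⟨n, hn⟩ := hZ2.exists_card_eq
    have hn0 : n ≠ 0 := by
      rintro rfl
      rw [pow_zero] at hn
      have := Finite.one_lt_card (α := Subgroup.center S)
      omega
    obtain ⟨z, hz⟩ := exists_prime_orderOf_dvd_card' 2 (G := Subgroup.center S) (by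
      rw [hn]
      exact dvd_pow_self 2 hn0)
    have hz1 : (z : S) ≠ 1 := by
      intro h1
      have : z = 1 := Subtype.ext h1
      rw [this, orderOf_one] at hz
      omega
    have hz2 : (z : S) * z = 1 := by
      have h1 := pow_orderOf_eq_one z
      rw [hz, pow_two] at h1
      exact congrArg Subtype.val h1
    have hle : Subgroup.zpowers (z : S) ≤ Df Gd (⊤ : Subgroup S) := by
      refine le_Df le_top (hax.triv S _ _ ?_ ?_)
      · intro u hu
        obtain ⟨k, rfl⟩ := Subgroup.mem_zpowers_iff.1 hu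
        have h1 : ((z : S) ^ k) * ((z : S) ^ k) = ((z : S) * z) ^ k :=
          ((Commute.refl (z : S)).mul_zpow k).symm
        rw [h1, hz2, one_zpow]
      · intro t _ u hu
        have h1 : Subgroup.zpowers (z : S) ≤ Subgroup.center S :=
          Subgroup.zpowers_le.2 z.2
        exact (Subgroup.mem_center_iff.1 (h1 hu) t)
    intro hbot
    rw [hbot] at hle
    exact hz1 (Subgroup.mem_bot.1 (hle (Subgroup.mem_zpowers _)))
  · rw [Subgroup.characteristic_iff_map_eq]
    intro α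
    rw [Df_map hax α.toMonoidHom α.injective]
    congr 1
    exact Subgroup.map_top_of_surjective _ α.surjective
  · rintro G _ _ τ hτ ⟨P, hP⟩ h4 hc
    have h1 : (Df Gd (⊤ : Subgroup S)).map τ = Df Gd (P : Subgroup G) := by
      rw [Df_map hax τ hτ, hP, MonoidHom.range_eq_map]
    rw [h1]
    exact normal_of_le hax h4 P (main hax hzip (Nat.card G + 1) G (Nat.lt_succ_self _) h4 hc P)

end Cfsg.Agent.PLocal.S4ConMin
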