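import Mathlib

set_option autoImplicit false

/-!
# The density trick

`W` a finite module over a `ZMod 2`-algebra `𝒜`, `N` a maximal submodule, `R` an `𝒜`-invariant
space of linear maps from `W` to a trivial module `Z` such that `|E| |C_W(E)| < |W|` for all
`0 ≠ E ≤ R`. Then `|R| |W / N| ≤ |W|`.
-/

namespace Cfsg.Agent.PLocal.S4FreeClosureDensity

open Polynomial

universe u v w

section cyclic

theorem zmod_two_cases : ∀ c : ZMod 2, c = 0 ∨ c = 1 := by decide

/-- A finite simple module over a `ZMod 2`-algebra is generated, as a module for a field, by one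
element of the algebra. -/
theorem exists_field_elt {A : Type u} [Ring A] [Algebra (ZMod 2) A] {F : Type v} [AddCommGroup F]
    [Module (ZMod 2) F] [Module A F] [IsScalarTower (ZMod 2) A F] [Finite F] [IsSimpleModule A F] :
    ∃ (a : A) (f : (ZMod 2)[X]), Irreducible f ∧ Nat.card F = 2 ^ f.natDegree ∧
      ∀ x : F, (aeval a f) • x = 0 := by
  classical
  have hp : Fact (Nat.Prime 2) := ⟨Nat.prime_two⟩
  have hnt : Nontrivial F := IsSimpleModule.nontrivial A F
  let K := Module.End A F
  have hKfin : Finite K := Finite.of_injective (fun f : K => (f : F → F)) DFunLike.coe_injective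
  let _ : Field K := littleWedderburn K
  have hchar : CharP K 2 := by
    apply (CharP.charP_iff_prime_eq_zero Nat.prime_two).2
    have h2 : ∀ x : F, (2 : ℕ) • x = 0 := by
      intro x
      have h3 : ((2 : ℕ) : ZMod 2) = 0 := ZMod.natCast_self 2
      rw [← Nat.cast_smul_eq_nsmul (ZMod 2), h3, zero_smul]
    ext x
    have h4 : ((2 : ℕ) : K) = (2 : ℕ) • (1 : K) := by rw [nsmul_one]
    rw [h4]
    exact h2 x
  have hFK : Module.Finite K F := Module.Finite.of_finite
  let n := Module.finrank K F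
  have hn : NeZero n := ⟨(Module.finrank_pos (R := K) (M := F)).ne'⟩
  let L := FiniteField.Extension K 2 n
  have hfin : Module.finrank K F = Module.finrank K L :=
    (FiniteField.finrank_extension K 2 n).symm
  let e : F ≃ₗ[K] L := LinearEquiv.ofFinrankEq F L hfin
  obtain ⟨α, hα⟩ := Field.exists_primitive_element (ZMod 2) L
  let T : Module.End K F := e.symm.toLinearMap ∘ₗ (LinearMap.mulLeft K α) ∘ₗ e.toLinearMap
  have hT : ∀ x, T x = e.symm (α * e x) := fun _ => rfl
  cases nonempty_fintype F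
  obtain ⟨a, ha⟩ := jacobson_density (R := A) (M := F) T Finset.univ
  have ha' : ∀ x : F, a • x = e.symm (α * e x) := fun x => (ha x (Finset.mem_univ x)).symm
  have key : ∀ g : (ZMod 2)[X], ∀ x : F, (aeval a g) • x = e.symm (aeval α g * e x) := by
    intro g
    induction g using Polynomial.induction_on with
    | C c =>
      intro x
      rw [aeval_C, aeval_C, algebraMap_smul]
      rcases zmod_two_cases c with rfl | rfl
      · rw [zero_smul, map_zero, zero_mul, map_zero]
      · rw [one_smul, map_one, one_mul, LinearEquiv.symm_apply_apply]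
    | add p q hp hq =>
      intro x
      rw [map_add, map_add, add_smul, add_mul, map_add, hp, hq]
    | monomial m c ih =>
      intro x
      have e1 : aeval a (C c * X ^ (m + 1)) = aeval a (C c * X ^ m) * a := by
        rw [pow_succ, ← mul_assoc, map_mul, aeval_X]
      have e2 : aeval α (C c * X ^ (m + 1)) = aeval α (C c * X ^ m) * α := by
        rw [pow_succ, ← mul_assoc, map_mul, aeval_X]
      rw [e1, e2, mul_smul, ha', ih, LinearEquiv.apply_symm_apply, mul_assoc]
  have hint : IsIntegral (ZMod 2) α := IsIntegral.of_finite (ZMod 2) α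
  refine ⟨a, minpoly (ZMod 2) α, minpoly.irreducible hint, ?_, ?_⟩
  · rw [(Field.primitive_element_iff_minpoly_natDegree_eq (ZMod 2) α).1 hα]
    have h1 : Nat.card F = Nat.card L := Nat.card_congr e.toEquiv
    rw [h1, Module.natCard_eq_pow_finrank (K := ZMod 2) (V := L), Nat.card_zmod]
  · intro x
    rw [key, minpoly.aeval, zero_mul, map_zero]

/-- A finite module on which a power of `f(γ)` vanishes, `f` irreducible, has order a power of
`2 ^ deg f`. -/
theorem exists_card_eq_pow {W : Type v} [AddCommGroup W] [Module (ZMod 2) W] [Finite W]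
    (γ : Module.End (ZMod 2) W) (f : (ZMod 2)[X]) (hf : Irreducible f) (n : ℕ)
    (hn : (aeval γ f) ^ n = 0) : ∃ i, Nat.card W = (2 ^ f.natDegree) ^ i := by
  classical
  have hp : Fact (Nat.Prime 2) := ⟨Nat.prime_two⟩
  obtain ⟨s, hs⟩ : ∃ s, n ≤ 2 ^ s := ⟨n, Nat.lt_two_pow_self.le⟩
  have h1 : ∀ s, aeval (γ ^ 2 ^ s) f = (aeval γ f) ^ 2 ^ s := by
    intro s
    induction s with
    | zero => rw [pow_zero, pow_one, pow_one]
    | succ s ih =>
      have h2 : aeval (γ ^ 2 ^ (s + 1)) f = aeval (γ ^ 2 ^ s) (expand (ZMod 2) 2 f) := by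
        rw [expand_aeval, ← pow_mul, pow_succ]
      rw [h2, ZMod.expand_card, map_pow, ih, ← pow_mul, ← pow_succ]
  have h2 : aeval (γ ^ 2 ^ s) f = 0 := by
    rw [h1, ← Nat.sub_add_cancel hs, pow_add, hn, mul_zero]
  have hfact : Fact (Irreducible f) := ⟨hf⟩
  let K := AdjoinRoot f
  let _ : Field K := AdjoinRoot.instField
  let g : K →+* Module.End (ZMod 2) W :=
    Ideal.Quotient.lift (Ideal.span {f}) (aeval (γ ^ 2 ^ s) : (ZMod 2)[X] →ₐ[ZMod 2] _).toRingHom (by
      intro x hx
      obtain ⟨y, rfl⟩ := Ideal.mem_span_singleton'.1 hx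
      show aeval (γ ^ 2 ^ s) (y * f) = 0
      rw [map_mul, h2, mul_zero])
  let _ : Module K W := Module.compHom W g
  have hKfin : Module.Finite (ZMod 2) K := (AdjoinRoot.powerBasis hf.ne_zero).finite
  have hKfin' : Finite K := Module.finite_of_finite (ZMod 2)
  have hcard : Nat.card K = 2 ^ f.natDegree := by
    rw [Module.natCard_eq_pow_finrank (K := ZMod 2) (V := K), Nat.card_zmod,
      (AdjoinRoot.powerBasis hf.ne_zero).finrank, AdjoinRoot.powerBasis_dim]
  have hWfin : Module.Finite K W := Module.Finite.of_finite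
  refine ⟨Module.finrank K W, ?_⟩
  rw [← hcard]
  exact Module.natCard_eq_pow_finrank (K := K) (V := W)

/-- The order of `ker (f(a)^n)`. -/
theorem exists_card_ker_eq_pow {W : Type v} [AddCommGroup W] [Module (ZMod 2) W] [Finite W]
    (a : Module.End (ZMod 2) W) (f : (ZMod 2)[X]) (hf : Irreducible f) (n : ℕ) :
    ∃ i, Nat.card (LinearMap.ker ((aeval a f) ^ n)) = (2 ^ f.natDegree) ^ i := by
  set K := LinearMap.ker ((aeval a f) ^ n) with hK
  have hcomm : Commute a ((aeval a f) ^ n) := by
    have h1 : Commute (aeval a (X : (ZMod 2)[X])) (aeval a (f ^ n)) := by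
      rw [Commute, SemiconjBy, ← map_mul, ← map_mul, mul_comm]
    rwa [aeval_X, map_pow] at h1
  have hinv : ∀ w ∈ K, a w ∈ K := by
    intro w hw
    rw [hK, LinearMap.mem_ker] at hw ⊢
    have h1 : (((aeval a f) ^ n) * a) w = (a * ((aeval a f) ^ n)) w := by rw [hcomm.eq]
    rw [Module.End.mul_apply, Module.End.mul_apply, hw, map_zero] at h1
    exact h1
  let b : Module.End (ZMod 2) K := a.restrict hinv
  have hb : ∀ g : (ZMod 2)[X], ∀ w : K, ((aeval b g w : K) : W) = aeval a g w := by
    intro g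
    induction g using Polynomial.induction_on with
    | C c =>
      intro w
      rw [aeval_C, aeval_C]
      rfl
    | add p q hp hq =>
      intro w
      rw [map_add, map_add, LinearMap.add_apply, LinearMap.add_apply, Submodule.coe_add, hp, hq]
    | monomial m c ih =>
      intro w
      have e1 : aeval b (C c * X ^ (m + 1)) = aeval b (C c * X ^ m) * b := by
        rw [pow_succ, ← mul_assoc, map_mul, aeval_X]
      have e2 : aeval a (C c * X ^ (m + 1)) = aeval a (C c * X ^ m) * a := by
        rw [pow_succ, ← mul_assoc, map_mul, aeval_X]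
      rw [e1, e2, Module.End.mul_apply, Module.End.mul_apply, ih]
      rfl
  refine exists_card_eq_pow b f hf n ?_
  rw [← map_pow]
  ext w
  rw [hb, map_pow]
  exact w.2

end cyclic

section count

variable {W : Type v} [AddCommGroup W] [Module (ZMod 2) W] [Finite W]
  {Z : Type w} [AddCommGroup Z] [Module (ZMod 2) Z]

/-- The common kernel. -/
def kr (E : Submodule (ZMod 2) (W →ₗ[ZMod 2] Z)) : Submodule (ZMod 2) W where
  carrier := {x | ∀ r ∈ E, r x = 0}
  add_mem' := by
    intro x y hx hy r hr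
    rw [map_add, hx r hr, hy r hr, add_zero]
  zero_mem' := fun r _ => map_zero r
  smul_mem' := by
    intro c x hx r hr
    rw [map_smul, hx r hr, smul_zero]

theorem card_isCompl {M : Type*} [AddCommGroup M] [Module (ZMod 2) M] [Finite M]
    {A B : Submodule (ZMod 2) M} (h : IsCompl A B) : Nat.card M = Nat.card A * Nat.card B := by
  rw [← Nat.card_prod]
  exact (Nat.card_congr (Submodule.prodEquivOfIsCompl A B h).toEquiv).symm

theorem card_mul_le [Finite Z] (R : Submodule (ZMod 2) (W →ₗ[ZMod 2] Z))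
    (a : Module.End (ZMod 2) W) (hR : ∀ r ∈ R, r ∘ₗ a ∈ R)
    (hoff : ∀ E ≤ R, E ≠ ⊥ → Nat.card E * Nat.card (kr E) < Nat.card W)
    (f : (ZMod 2)[X]) (hf : Irreducible f) (hns : ¬ Function.Surjective (aeval a f)) :
    2 ^ f.natDegree * Nat.card R ≤ Nat.card W := by
  classical
  have hHom : Finite (W →ₗ[ZMod 2] Z) := Finite.of_injective _ DFunLike.coe_injective
  let α : Module.End (ZMod 2) R :=
    { toFun := fun r => ⟨(r : W →ₗ[ZMod 2] Z) ∘ₗ a, hR r r.2⟩
      map_add' := fun r s => rfl
      map_smul' := fun c r => rfl }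
  have hα : ∀ g : (ZMod 2)[X], ∀ r : R, ((aeval α g r : R) : W →ₗ[ZMod 2] Z) =
      (r : W →ₗ[ZMod 2] Z) ∘ₗ aeval a g := by
    intro g
    induction g using Polynomial.induction_on with
    | C c =>
      intro r
      rw [aeval_C, aeval_C]
      ext w
      show (c • (r : W →ₗ[ZMod 2] Z)) w = (r : W →ₗ[ZMod 2] Z) (c • w)
      rw [map_smul]
      rfl
    | add p q hp hq =>
      intro r
      rw [map_add, map_add, LinearMap.add_apply, Submodule.coe_add, hp, hq, LinearMap.comp_add]
    | monomial m c ih =>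
      intro r
      have e1 : aeval α (C c * X ^ (m + 1)) = α * aeval α (C c * X ^ m) := by
        rw [pow_succ', mul_left_comm, map_mul, aeval_X]
      have e2 : aeval a (C c * X ^ (m + 1)) = aeval a (C c * X ^ m) * a := by
        rw [pow_succ, ← mul_assoc, map_mul, aeval_X]
      rw [e1, e2, Module.End.mul_apply]
      show ((aeval α (C c * X ^ m) r : R) : W →ₗ[ZMod 2] Z) ∘ₗ a = _
      rw [ih]
      rfl
  set γ := aeval a f with hγ
  set δ := aeval α f with hδ
  obtain ⟨n, hn⟩ := (γ.eventually_isCompl_ker_pow_range_pow.and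
    (δ.eventually_isCompl_ker_pow_range_pow.and (Filter.eventually_ge_atTop 1))).exists
  obtain ⟨hn1, hn2, hn3⟩ := hn
  have hδn : ∀ r : R, ((δ ^ n) r : W →ₗ[ZMod 2] Z) = (r : W →ₗ[ZMod 2] Z) ∘ₗ (γ ^ n) := by
    intro r
    have := hα (f ^ n) r
    rwa [map_pow, map_pow] at this
  set Wf := LinearMap.ker (γ ^ n) with hWf
  set W' := LinearMap.range (γ ^ n) with hW'
  have hcW := card_isCompl hn1
  have hcR := card_isCompl hn2
  let E₁ : Submodule (ZMod 2) (W →ₗ[ZMod 2] Z) := (LinearMap.ker (δ ^ n)).map R.subtype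
  let E₂ : Submodule (ZMod 2) (W →ₗ[ZMod 2] Z) := (LinearMap.range (δ ^ n)).map R.subtype
  have hE₁R : E₁ ≤ R := Submodule.map_subtype_le _ _
  have hE₂R : E₂ ≤ R := Submodule.map_subtype_le _ _
  have hcE₁ : Nat.card E₁ = Nat.card (LinearMap.ker (δ ^ n)) :=
    (Nat.card_congr (Submodule.equivMapOfInjective _ R.subtype_injective _).toEquiv).symm
  have hcE₂ : Nat.card E₂ = Nat.card (LinearMap.range (δ ^ n)) :=
    (Nat.card_congr (Submodule.equivMapOfInjective _ R.subtype_injective _).toEquiv).symm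
  have hk₁ : W' ≤ kr E₁ := by
    rintro _ ⟨w, rfl⟩ r ⟨⟨s, hs⟩, hs', rfl⟩
    have h1 := hδn ⟨s, hs⟩
    rw [LinearMap.mem_ker.1 hs'] at h1
    exact (congrArg (fun t : W →ₗ[ZMod 2] Z => t w) h1).symm
  have hk₂ : Wf ≤ kr E₂ := by
    rintro w hw _ ⟨_, ⟨s, rfl⟩, rfl⟩
    have h1 := hδn s
    show ((δ ^ n) s : W →ₗ[ZMod 2] Z) w = 0
    rw [h1, LinearMap.comp_apply, LinearMap.mem_ker.1 hw, map_zero]
  have hWfpos : 0 < Nat.card Wf := Nat.card_pos
  have hW'pos : 0 < Nat.card W' := Nat.card_pos
  have hcard_le : ∀ {A B : Submodule (ZMod 2) W}, A ≤ B → Nat.card A ≤ Nat.card B := fun {A B} h =>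
    Nat.card_le_card_of_injective (Submodule.inclusion h) (Submodule.inclusion_injective h)
  have hbot : ∀ {E : Submodule (ZMod 2) (W →ₗ[ZMod 2] Z)}, E = ⊥ → Nat.card E = 1 := by
    rintro E rfl
    exact Nat.card_unique
  obtain ⟨i, hi⟩ := exists_card_ker_eq_pow a f hf n
  obtain ⟨j, hj⟩ := exists_card_ker_eq_pow α f hf n
  have hd : 1 < 2 ^ f.natDegree := Nat.one_lt_two_pow hf.natDegree_pos.ne'
  have hWfne : 1 < Nat.card Wf := by
    by_contra hcon
    have h1 : Nat.card Wf = 1 := by omega
    have h2 : Function.Injective (γ ^ n) := by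
      rw [← LinearMap.ker_eq_bot, Submodule.eq_bot_iff]
      intro x hx
      have h3 := (Nat.card_eq_one_iff_unique.1 h1).1
      exact congrArg Subtype.val (Subsingleton.elim (⟨x, hx⟩ : Wf) 0)
    have h3 : Function.Injective γ := by
      obtain ⟨m, rfl⟩ : ∃ m, n = m + 1 := ⟨n - 1, by omega⟩
      intro x y hxy
      apply h2
      rw [pow_succ, Module.End.mul_apply, Module.End.mul_apply, hxy]
    exact hns (Finite.surjective_of_injective h3)
  have h1 : 2 ^ f.natDegree * Nat.card E₁ ≤ Nat.card Wf := by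
    rw [hWf, hi] at hWfne ⊢
    rw [hcE₁, hj]
    rw [← pow_succ']
    apply Nat.pow_le_pow_right (by omega)
    by_cases hE : E₁ = ⊥
    · have h2 := hbot hE
      rw [hcE₁, hj] at h2
      have h3 : j = 0 := by
        by_contra hj0
        have := Nat.one_lt_pow hj0 hd
        omega
      have h4 : i ≠ 0 := by
        rintro rfl
        rw [pow_zero] at hWfne
        omega
      omega
    · have h2 := hoff E₁ hE₁R hE
      have h3 : Nat.card E₁ * Nat.card W' < Nat.card Wf * Nat.card W' :=
        lt_of_le_of_lt (Nat.mul_le_mul_left _ (hcard_le hk₁)) (by rwa [hcW] at h2)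
      have h4 := Nat.lt_of_mul_lt_mul_right h3
      rw [hcE₁, hj, hWf, hi] at h4
      exact (Nat.pow_lt_pow_iff_right hd).1 h4
  have h2 : Nat.card E₂ ≤ Nat.card W' := by
    by_cases hE : E₂ = ⊥
    · rw [hbot hE]
      exact hW'pos
    · have h2 := hoff E₂ hE₂R hE
      have h3 : Nat.card E₂ * Nat.card Wf < Nat.card W' * Nat.card Wf :=
        lt_of_le_of_lt (Nat.mul_le_mul_left _ (hcard_le hk₂)) (by
          rwa [hcW, mul_comm (Nat.card Wf)] at h2)
      exact (Nat.lt_of_mul_lt_mul_right h3).le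
  calc 2 ^ f.natDegree * Nat.card R = (2 ^ f.natDegree * Nat.card E₁) * Nat.card E₂ := by
        rw [hcR, hcE₁, hcE₂]
        ring
    _ ≤ Nat.card Wf * Nat.card W' := Nat.mul_le_mul h1 h2
    _ = Nat.card W := hcW.symm

omit [Finite W] in
theorem restrict_card (A : Subalgebra (ZMod 2) (Module.End (ZMod 2) W)) (N : Submodule (ZMod 2) W)
    (N' : Submodule A W) (h : ∀ w, w ∈ N' ↔ w ∈ N) : Nat.card (W ⧸ N) = Nat.card (W ⧸ N') := by
  refine Nat.card_congr (Quotient.congr (Equiv.refl W) ?_)
  intro x y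
  rw [Submodule.quotientRel_def, Submodule.quotientRel_def, Equiv.refl_apply, Equiv.refl_apply]
  exact (h _).symm

omit [Finite W] in
theorem smul_eq_aeval (A : Subalgebra (ZMod 2) (Module.End (ZMod 2) W)) (a : A)
    (f : (ZMod 2)[X]) (w : W) : (aeval a f) • w = aeval (a : Module.End (ZMod 2) W) f w := by
  have h1 : aeval (A.val a) f = A.val (aeval a f) := aeval_algHom_apply A.val a f
  have h2 : A.val a = (a : Module.End (ZMod 2) W) := rfl
  rw [h2] at h1
  rw [h1]
  rfl

theorem exists_elt (A : Subalgebra (ZMod 2) (Module.End (ZMod 2) W))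
    (N' : Submodule A W) (hcoatom : IsCoatom N') :
    ∃ (a : Module.End (ZMod 2) W) (f : (ZMod 2)[X]), a ∈ A ∧ Irreducible f ∧
      Nat.card (W ⧸ N') = 2 ^ f.natDegree ∧ ∀ w : W, aeval a f w ∈ N' := by
  have hfinq : Finite (W ⧸ N') := Finite.of_surjective _ (Submodule.Quotient.mk_surjective N')
  have hsimple : IsSimpleModule A (W ⧸ N') := isSimpleModule_iff_isCoatom.2 hcoatom
  obtain ⟨a, f, hf, hcard, hzero⟩ := exists_field_elt (A := A) (F := W ⧸ N')
  refine ⟨a, f, a.2, hf, hcard, fun w => ?_⟩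
  have h1 := hzero (N'.mkQ w)
  have h2 : N'.mkQ ((aeval a f) • w) = 0 := by
    rw [map_smul]
    exact h1
  rw [← smul_eq_aeval]
  exact (Submodule.Quotient.mk_eq_zero N').1 h2

/-- The density lemma. -/
theorem card_quot_mul_le [Finite Z] (R : Submodule (ZMod 2) (W →ₗ[ZMod 2] Z))
    (G : Set (Module.End (ZMod 2) W)) (hR : ∀ g ∈ G, ∀ r ∈ R, r ∘ₗ g ∈ R)
    (hoff : ∀ E ≤ R, E ≠ ⊥ → Nat.card E * Nat.card (kr E) < Nat.card W)
    (N : Submodule (ZMod 2) W) (hN : N ≠ ⊤) (hNG : ∀ g ∈ G, ∀ w ∈ N, g w ∈ N)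
    (hNmax : ∀ N' : Submodule (ZMod 2) W, N < N' → (∀ g ∈ G, ∀ w ∈ N', g w ∈ N') → N' = ⊤) :
    Nat.card (W ⧸ N) * Nat.card R ≤ Nat.card W := by
  classical
  let A : Subalgebra (ZMod 2) (Module.End (ZMod 2) W) := Algebra.adjoin (ZMod 2) G
  have hNA : ∀ (N : Submodule (ZMod 2) W), (∀ g ∈ G, ∀ w ∈ N, g w ∈ N) →
      ∀ a ∈ A, ∀ w ∈ N, a w ∈ N := by
    intro N hNG a ha
    induction ha using Algebra.adjoin_induction with
    | mem g hg => exact hNG g hg
    | algebraMap c =>
      intro w hw
      exact N.smul_mem c hw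
    | add x y _ _ hx hy =>
      intro w hw
      exact N.add_mem (hx w hw) (hy w hw)
    | mul x y _ _ hx hy =>
      intro w hw
      exact hx _ (hy w hw)
  have hRA : ∀ a ∈ A, ∀ r ∈ R, r ∘ₗ a ∈ R := by
    intro a ha
    induction ha using Algebra.adjoin_induction with
    | mem g hg => exact hR g hg
    | algebraMap c =>
      intro r hr
      have : r ∘ₗ (algebraMap (ZMod 2) (Module.End (ZMod 2) W) c) = c • r := by
        ext w
        exact map_smul r c w
      rw [this]
      exact R.smul_mem c hr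
    | add x y _ _ hx hy =>
      intro r hr
      rw [LinearMap.comp_add]
      exact R.add_mem (hx r hr) (hy r hr)
    | mul x y _ _ hx hy =>
      intro r hr
      exact hy _ (hx r hr)
  let N' : Submodule A W :=
    { carrier := N
      add_mem' := fun h h' => N.add_mem h h'
      zero_mem' := N.zero_mem
      smul_mem' := fun a w hw => hNA N hNG a a.2 w hw }
  have hcoatom : IsCoatom N' := by
    constructor
    · intro h
      apply hN
      rw [Submodule.eq_top_iff']
      intro w
      have : w ∈ N' := h ▸ Submodule.mem_top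
      exact this
    · intro Y hY
      have h1 : N < Y.restrictScalars (ZMod 2) := by
        refine lt_of_le_of_ne (fun w hw => hY.le hw) ?_
        intro h
        apply hY.ne
        ext w
        constructor
        · intro hw
          exact hY.le hw
        · intro hw
          have : w ∈ Y.restrictScalars (ZMod 2) := hw
          rw [← h] at this
          exact this
      have h2 := hNmax _ h1 (fun g hg w hw => Y.smul_mem (⟨g, Algebra.subset_adjoin hg⟩ : A) hw)
      rw [Submodule.eq_top_iff']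
      intro w
      have : w ∈ Y.restrictScalars (ZMod 2) := h2 ▸ Submodule.mem_top
      exact this
  obtain ⟨a, f, haA, hf, hcard, hzero⟩ := exists_elt A N' hcoatom
  have hcardF : Nat.card (W ⧸ N) = 2 ^ f.natDegree := by
    rw [← hcard]
    exact restrict_card A N N' fun _ => Iff.rfl
  rw [hcardF]
  refine card_mul_le R a (hRA a haA) hoff f hf ?_
  intro hsurj
  apply hN
  rw [Submodule.eq_top_iff']
  intro w
  obtain ⟨x, rfl⟩ := hsurj w
  exact hzero x

end count

end Cfsg.Agent.PLocal.S4FreeClosureDensity
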