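import Mathlib
import Cfsg.Agent.PLocal.S4FreeClosureUniq
import Cfsg.Agent.PLocal.S4FreeClosureDensity

set_option autoImplicit false

/-!
# The density lemma for groups
-/

namespace Cfsg.Agent.PLocal.S4FreeClosureLinear

open Cfsg.Agent.PLocal.SFourBasic Cfsg.Agent.PLocal.SFourOffender
open Cfsg.Agent.PLocal.S4FreeClosureBasic Cfsg.Agent.PLocal.S4FreeClosureUniq
open Cfsg.Agent.PLocal.S4FreeClosureDensity

universe u v

variable {H : Type u} [Group H] {V : Type v} [CommGroup V]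

/-- `v ↦ [v, r]` -/
def lam (φ : H →* MulAut V) (V₀ : Subgroup V) (r : H) (hr : ∀ v, φ r v * v⁻¹ ∈ V₀)
    (h0 : ∀ v ∈ V₀, φ r v = v) : V ⧸ V₀ →* V₀ :=
  QuotientGroup.lift V₀
    { toFun := fun v => ⟨φ r v * v⁻¹, hr v⟩
      map_one' := Subtype.ext (by
        show φ r 1 * (1 : V)⁻¹ = 1
        rw [map_one, inv_one, mul_one])
      map_mul' := fun v w => Subtype.ext (by
        show φ r (v * w) * (v * w)⁻¹ = (φ r v * v⁻¹) * (φ r w * w⁻¹)
        rw [map_mul, mul_inv, mul_mul_mul_comm]) }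
    (fun v hv => Subtype.ext (by
      show φ r v * v⁻¹ = 1
      rw [h0 v hv, mul_inv_cancel]))

theorem lam_mk (φ : H →* MulAut V) (V₀ : Subgroup V) (r : H) (hr : ∀ v, φ r v * v⁻¹ ∈ V₀)
    (h0 : ∀ v ∈ V₀, φ r v = v) (v : V) :
    ((lam φ V₀ r hr h0 (QuotientGroup.mk v) : V₀) : V) = φ r v * v⁻¹ := rfl

/-- The density lemma, group version. -/
theorem card_quot_mul_card_le [Finite H] [Finite V] {φ : H →* MulAut V}
    (hinj : Function.Injective φ) (hexp : ∀ v : V, v * v = 1) (V₀ V₂ : Subgroup V)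
    (hV₀ : ∀ h, ∀ v ∈ V₀, φ h v = v) (hV₀₂ : V₀ ≤ V₂) (hV₂ : V₂ ≠ ⊤)
    (hinv : ∀ h, ∀ w ∈ V₂, φ h w ∈ V₂)
    (hmax : ∀ Y : Subgroup V, V₂ < Y → (∀ h, ∀ w ∈ Y, φ h w ∈ Y) → Y = ⊤)
    (R : Subgroup H) (hRn : ∀ h, ∀ r ∈ R, h * r * h⁻¹ ∈ R)
    (hR₀ : ∀ r ∈ R, ∀ v, φ r v * v⁻¹ ∈ V₀)
    (hoff : ∀ E ≤ R, E ≠ ⊥ → Nat.card E * Nat.card (fx φ E) < Nat.card V) :
    Nat.card (V ⧸ V₂) * Nat.card R * Nat.card V₀ ≤ Nat.card V := by
  classical
  let _ : Module (ZMod 2) (Additive (V ⧸ V₀)) := AddCommGroup.zmodModule (n := 2) (by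
    intro x
    obtain ⟨v, hv⟩ := QuotientGroup.mk_surjective (Additive.toMul x)
    have h1 : x = Additive.ofMul (QuotientGroup.mk v) := hv.symm
    rw [h1, two_nsmul, ← ofMul_mul, ← QuotientGroup.mk_mul, hexp]
    rfl)
  let _ : Module (ZMod 2) (Additive V₀) := AddCommGroup.zmodModule (n := 2) (by
    intro x
    have h1 : x = Additive.ofMul (Additive.toMul x) := rfl
    rw [h1, two_nsmul, ← ofMul_mul]
    have h2 : Additive.toMul x * Additive.toMul x = 1 := Subtype.ext (hexp _)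
    rw [h2]
    rfl)
  let W := Additive (V ⧸ V₀)
  let Z := Additive V₀
  let mk : V → W := fun v => Additive.ofMul (QuotientGroup.mk v)
  have hmk : Function.Surjective mk := fun x => by
    obtain ⟨v, hv⟩ := QuotientGroup.mk_surjective (Additive.toMul x)
    exact ⟨v, hv⟩
  have mk_mul : ∀ v w, mk (v * w) = mk v + mk w := fun v w => rfl
  have mk_eq_zero : ∀ v, mk v = 0 ↔ v ∈ V₀ := fun v => QuotientGroup.eq_one_iff v
  let L : R → (W →ₗ[ZMod 2] Z) := fun r =>
    (MonoidHom.toAdditive (lam φ V₀ r (hR₀ r r.2) (hV₀ r))).toZModLinearMap 2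
  have hL : ∀ (r : R) (v : V), (((Additive.toMul (L r (mk v)) : V₀)) : V) = φ r v * v⁻¹ :=
    fun r v => rfl
  have extL : ∀ (f g : W →ₗ[ZMod 2] Z), (∀ v : V, ((Additive.toMul (f (mk v)) : V₀) : V) =
      ((Additive.toMul (g (mk v)) : V₀) : V)) → f = g := by
    intro f g h
    ext x
    obtain ⟨v, rfl⟩ := hmk x
    exact h v
  have hLmul : ∀ r s : R, L (r * s) = L r + L s := by
    intro r s
    apply extL
    intro v
    show φ (r * s) v * v⁻¹ = (φ r v * v⁻¹) * (φ s v * v⁻¹)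
    have h1 : φ s v = v * (φ s v * v⁻¹) := by rw [mul_comm, inv_mul_cancel_right]
    have h2 : φ r (φ s v) = φ r v * (φ s v * v⁻¹) := by
      conv_lhs => rw [h1]
      rw [map_mul, hV₀ r _ (hR₀ s s.2 v)]
    rw [map_mul, MulAut.mul_apply, h2, mul_right_comm]
  have hLone : L 1 = 0 := by
    have h1 := hLmul 1 1
    rw [one_mul] at h1
    exact (left_eq_add.1 h1)
  have hLinj : Function.Injective L := by
    intro r s hrs
    apply Subtype.ext
    apply hinj
    ext v
    have h1 := hL r v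
    rw [hrs, hL s v] at h1
    exact (mul_right_cancel h1).symm
  let 𝓡 : Submodule (ZMod 2) (W →ₗ[ZMod 2] Z) :=
    { carrier := Set.range L
      add_mem' := by
        rintro _ _ ⟨r, rfl⟩ ⟨s, rfl⟩
        exact ⟨r * s, hLmul r s⟩
      zero_mem' := ⟨1, hLone⟩
      smul_mem' := by
        rintro c _ ⟨r, rfl⟩
        rcases zmod_two_cases c with rfl | rfl
        · exact ⟨1, by rw [hLone, zero_smul]⟩
        · exact ⟨r, by rw [one_smul]⟩ }
  have hc𝓡 : Nat.card 𝓡 = Nat.card R := (Nat.card_congr (Equiv.ofInjective L hLinj)).symm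
  let ρ : H → Module.End (ZMod 2) W := fun h =>
    (MonoidHom.toAdditive (quotHom φ V₀ (fun h v hv => by rw [hV₀ h v hv]; exact hv)
      h).toMonoidHom).toZModLinearMap 2
  have hρ : ∀ h v, ρ h (mk v) = mk (φ h v) := fun h v => rfl
  let N : Submodule (ZMod 2) W :=
    { carrier := mk '' V₂
      add_mem' := by
        rintro _ _ ⟨v, hv, rfl⟩ ⟨w, hw, rfl⟩
        exact ⟨v * w, V₂.mul_mem hv hw, rfl⟩
      zero_mem' := ⟨1, V₂.one_mem, rfl⟩
      smul_mem' := by
        rintro c _ ⟨v, hv, rfl⟩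
        rcases zmod_two_cases c with rfl | rfl
        · exact ⟨1, V₂.one_mem, by rw [zero_smul]; rfl⟩
        · exact ⟨v, hv, by rw [one_smul]⟩ }
  have hmkN : ∀ v, mk v ∈ N ↔ v ∈ V₂ := by
    intro v
    constructor
    · rintro ⟨w, hw, hvw⟩
      have h1 : mk (w⁻¹ * v) = 0 := by
        have h2 : mk w = mk w + mk (w⁻¹ * v) := by
          rw [← mk_mul, mul_inv_cancel_left]
          exact hvw
        exact (left_eq_add.1 h2)
      have h2 := V₂.mul_mem hw (hV₀₂ ((mk_eq_zero _).1 h1))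
      rwa [mul_inv_cancel_left] at h2
    · intro hv
      exact ⟨v, hv, rfl⟩
  have hcW : Nat.card V = Nat.card W * Nat.card V₀ :=
    Subgroup.card_eq_card_quotient_mul_card_subgroup V₀
  have hcP : ∀ (Y : Subgroup V), V₀ ≤ Y → ∀ (X : Submodule (ZMod 2) W), (∀ v, mk v ∈ X ↔ v ∈ Y) →
      Nat.card Y = Nat.card X * Nat.card V₀ := by
    intro Y hY X hX
    have h1 := Subgroup.card_eq_card_quotient_mul_card_subgroup (V₀.subgroupOf Y)
    rw [Nat.card_congr (Subgroup.subgroupOfEquivOfLe hY).toEquiv] at h1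
    rw [h1]
    congr 1
    have h2 : Nat.card (Y ⧸ V₀.subgroupOf Y) = Nat.card (Y.map (QuotientGroup.mk' V₀)) := by
      rw [← Subgroup.relIndex_ker, QuotientGroup.ker_mk']
      rfl
    rw [h2]
    refine Nat.card_congr (Equiv.subtypeEquiv (Equiv.refl _) ?_)
    intro q
    obtain ⟨v, rfl⟩ := QuotientGroup.mk_surjective q
    constructor
    · rintro ⟨w, hw, hwv⟩
      have : mk v = mk w := hwv.symm
      show mk v ∈ X
      rw [this]
      exact (hX w).2 hw
    · intro hv
      exact ⟨v, (hX v).1 hv, rfl⟩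
  have key := card_quot_mul_le (W := W) (Z := Z) 𝓡 (Set.range ρ) (by
      rintro _ ⟨h, rfl⟩ _ ⟨r, rfl⟩
      refine ⟨⟨h⁻¹ * r * h, by
        have := hRn h⁻¹ r r.2
        rwa [inv_inv] at this⟩, ?_⟩
      apply extL
      intro v
      show φ (h⁻¹ * r * h) v * v⁻¹ = φ r (φ h v) * (φ h v)⁻¹
      have h1 : φ r (φ h v) = φ h v * (φ r (φ h v) * (φ h v)⁻¹) := by
        rw [mul_comm, inv_mul_cancel_right]
      rw [map_mul, map_mul, MulAut.mul_apply, MulAut.mul_apply]
      conv_lhs => rw [h1]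
      rw [map_mul, inv_apply_cancel, hV₀ _ _ (hR₀ r r.2 _), mul_comm v, mul_inv_cancel_right]) (by
      intro E hE hEne
      let E' : Subgroup H :=
        { carrier := {r | ∃ h : r ∈ R, L ⟨r, h⟩ ∈ E}
          one_mem' := ⟨R.one_mem, by
            have : L ⟨1, R.one_mem⟩ = 0 := hLone
            rw [this]
            exact E.zero_mem⟩
          mul_mem' := by
            rintro r s ⟨hr, hr'⟩ ⟨hs, hs'⟩
            refine ⟨R.mul_mem hr hs, ?_⟩
            have h1 := hLmul ⟨r, hr⟩ ⟨s, hs⟩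
            have h2 : (⟨r, hr⟩ * ⟨s, hs⟩ : R) = ⟨r * s, R.mul_mem hr hs⟩ := rfl
            rw [h2] at h1
            rw [h1]
            exact E.add_mem hr' hs'
          inv_mem' := by
            rintro r ⟨hr, hr'⟩
            refine ⟨R.inv_mem hr, ?_⟩
            have h1 := hLmul ⟨r, hr⟩ ⟨r⁻¹, R.inv_mem hr⟩
            have h2 : (⟨r, hr⟩ * ⟨r⁻¹, R.inv_mem hr⟩ : R) = 1 := Subtype.ext (mul_inv_cancel r)
            rw [h2, hLone] at h1
            have h3 : L ⟨r⁻¹, R.inv_mem hr⟩ = - L ⟨r, hr⟩ := (neg_eq_of_add_eq_zero_right h1.symm).symm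
            rw [h3]
            exact E.neg_mem hr' }
      have hE'R : E' ≤ R := fun r hr => hr.1
      have hcE : Nat.card E' = Nat.card E := by
        refine Nat.card_congr (Equiv.ofBijective
          (fun r : E' => (⟨L ⟨r, r.2.1⟩, r.2.2⟩ : E)) ⟨?_, ?_⟩)
        · intro r s hrs
          have h1 := hLinj (congrArg Subtype.val hrs)
          exact Subtype.ext (congrArg (fun z : R => (z : H)) h1)
        · rintro ⟨e, he⟩
          obtain ⟨r, rfl⟩ := hE he
          exact ⟨⟨r, r.2, he⟩, rfl⟩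
      have hE'ne : E' ≠ ⊥ := by
        intro h
        apply hEne
        have h1 : Nat.card E = 1 := by rw [← hcE, h, Subgroup.card_bot]
        rw [Submodule.eq_bot_iff]
        intro x hx
        have h3 := (Nat.card_eq_one_iff_unique.1 h1).1
        exact congrArg Subtype.val (Subsingleton.elim (⟨x, hx⟩ : E) 0)
      have h1 := hoff E' hE'R hE'ne
      have hfx : Nat.card (fx φ E') = Nat.card (kr E) * Nat.card V₀ := by
        apply hcP
        · intro v hv r hr
          exact hV₀ r v hv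
        · intro v
          constructor
          · intro hv r hr
            have h2 : L ⟨r, hr.1⟩ (mk v) = 0 := hv _ hr.2
            have h3 := hL ⟨r, hr.1⟩ v
            rw [h2] at h3
            exact (mul_inv_eq_one.1 h3.symm)
          · intro hv e he
            obtain ⟨r, rfl⟩ := hE he
            have h2 : φ r v = v := hv r ⟨r.2, he⟩
            apply Additive.toMul.injective
            apply Subtype.ext
            rw [hL, h2, mul_inv_cancel]
            rfl
      rw [hfx, hcE, hcW, ← mul_assoc] at h1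
      exact Nat.lt_of_mul_lt_mul_right h1) N (by
      intro h
      apply hV₂
      rw [eq_top_iff]
      intro v _
      rw [← hmkN, h]
      exact Submodule.mem_top) (by
      rintro _ ⟨h, rfl⟩ _ ⟨v, hv, rfl⟩
      exact ⟨φ h v, hinv h v hv, rfl⟩) (by
      intro N' hN' hinv'
      let Y : Subgroup V :=
        { carrier := {v | mk v ∈ N'}
          one_mem' := N'.zero_mem
          mul_mem' := fun {a b} ha hb => by
            show mk (a * b) ∈ N'
            rw [mk_mul]
            exact N'.add_mem ha hb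
          inv_mem' := fun {a} ha => N'.neg_mem ha }
      have hY : V₂ < Y := by
        refine lt_of_le_of_ne (fun v hv => hN'.le ((hmkN v).2 hv)) ?_
        intro h
        apply hN'.ne
        ext x
        obtain ⟨v, rfl⟩ := hmk x
        rw [hmkN, h]
        rfl
      have h1 := hmax Y hY (fun h w hw => hinv' _ ⟨h, rfl⟩ _ hw)
      rw [Submodule.eq_top_iff']
      intro x
      obtain ⟨v, rfl⟩ := hmk x
      have : v ∈ Y := h1 ▸ Subgroup.mem_top v
      exact this)
  have hcV₂ := hcP V₂ hV₀₂ N hmkN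
  have h1 : Nat.card (W ⧸ N) * Nat.card N = Nat.card W := by
    have h2 : Nat.card W = Nat.card N * Nat.card (W ⧸ N) :=
      Submodule.card_eq_card_quotient_mul_card N
    rw [h2, mul_comm]
  have h2 : Nat.card V = Nat.card (V ⧸ V₂) * Nat.card V₂ :=
    Subgroup.card_eq_card_quotient_mul_card_subgroup V₂
  have h3 : Nat.card (W ⧸ N) = Nat.card (V ⧸ V₂) := by
    have h4 : Nat.card (W ⧸ N) * Nat.card V₂ = Nat.card (V ⧸ V₂) * Nat.card V₂ := by
      rw [← h2, hcV₂, ← mul_assoc, h1, hcW]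
    exact Nat.eq_of_mul_eq_mul_right Nat.card_pos h4
  rw [← h3, ← hc𝓡, hcW]
  exact Nat.mul_le_mul_right _ key

end Cfsg.Agent.PLocal.S4FreeClosureLinear
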