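import Mathlib
import Cfsg.Agent.PLocal.S4FreeClosureLinear

set_option autoImplicit false

/-!
# The closure theorem for `S₃`-free groups (Theorem A of helper386 for S0665)

`X` a finite group acting on an elementary abelian `2`-group `V` without sections `S₃`, `T` a Sylow
`2`-subgroup, `U ≤ V` a `T`-invariant, `T`-unoffended subgroup with `V = ⟨U^X⟩`. Then `V` is
`T`-unoffended.
-/

namespace Cfsg.Agent.PLocal.S4FreeClosure

open Cfsg Cfsg.Agent.Lib
open Cfsg.Agent.PLocal.SFourBasic Cfsg.Agent.PLocal.SFourOffender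
open Cfsg.Agent.PLocal.S4FreeClosureBasic Cfsg.Agent.PLocal.S4FreeClosureUniq
open Cfsg.Agent.PLocal.S4FreeClosureLinear

universe u v

section main

variable {H : Type u} [Group H] {V : Type v} [CommGroup V]

/-- `[V, A]` -/
def cm (φ : H →* MulAut V) (A : Subgroup H) : Subgroup V :=
  Subgroup.closure {w | ∃ a ∈ A, ∃ v, φ a v * v⁻¹ = w}

theorem mem_cm {φ : H →* MulAut V} {A : Subgroup H} {a : H} (ha : a ∈ A) (v : V) :
    φ a v * v⁻¹ ∈ cm φ A := Subgroup.subset_closure ⟨a, ha, v, rfl⟩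

theorem cm_le {φ : H →* MulAut V} {A : Subgroup H} {W : Subgroup V} :
    cm φ A ≤ W ↔ ∀ a ∈ A, ∀ v, φ a v * v⁻¹ ∈ W := by
  constructor
  · intro h a ha v
    exact h (mem_cm ha v)
  · intro h
    refine (Subgroup.closure_le _).2 ?_
    rintro _ ⟨a, ha, v, rfl⟩
    exact h a ha v

theorem Quad.cj {φ : H →* MulAut V} {A : Subgroup H} (h : Quad φ A) (x : H) :
    Quad φ (S4FreeClosureBasic.cj x A) := by
  rintro _ ⟨a, ha, rfl⟩ _ ⟨b, hb, rfl⟩ v
  have h1 := h a ha b hb (φ x⁻¹ v)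
  show φ (x * a * x⁻¹) (φ (x * b * x⁻¹) v * v⁻¹) = φ (x * b * x⁻¹) v * v⁻¹
  have h2 : φ (x * b * x⁻¹) v * v⁻¹ = φ x (φ b (φ x⁻¹ v) * (φ x⁻¹ v)⁻¹) := by
    rw [map_mul (φ x), map_inv (φ x), apply_inv_cancel, map_mul φ, map_mul φ, MulAut.mul_apply,
      MulAut.mul_apply]
  rw [h2, map_mul φ, map_mul φ, MulAut.mul_apply, MulAut.mul_apply, inv_apply_cancel, h1]

theorem Quad.cm_le_fx {φ : H →* MulAut V} {A : Subgroup H} (h : Quad φ A) :
    cm φ A ≤ fx φ A := cm_le.2 fun b hb v a ha => h a ha b hb v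

variable [Finite H] [Finite V] {φ : H →* MulAut V} {T : Sylow 2 H} {U : Subgroup V}

omit [Finite H] [Finite V] in
theorem gen_le (h : Hyp φ T U) {W : Subgroup V} (hW : ∀ x : H, im φ x U ≤ W) : W = ⊤ := by
  have hY : (⨆ x : H, im φ x U) = ⊤ := by
    apply h.gen
    · refine le_trans ?_ (le_iSup (fun x : H => im φ x U) 1)
      intro u hu
      rw [mem_im]
      simpa using hu
    · intro g w hw
      have h1 : (⨆ x : H, im φ x U) ≤ (⨆ x : H, im φ x U).comap (φ g).toMonoidHom := by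
        refine iSup_le fun x => ?_
        rintro _ ⟨u, hu, rfl⟩
        refine (le_iSup (fun x : H => im φ x U) (g * x)) ⟨u, hu, ?_⟩
        show φ (g * x) u = φ g (φ x u)
        rw [map_mul, MulAut.mul_apply]
      exact h1 hw
  rw [eq_top_iff, ← hY]
  exact iSup_le hW

omit [Finite H] [Finite V] in
theorem core_le_cj (x : H) : pCore 2 H ≤ cj x (T : Subgroup H) := by
  have : (pCore 2 H).Normal := Cores.pCore_normal 2
  rw [← cj_eq_of_normal x (pCore 2 H)]
  exact cj_mono x (Cores.pCore_le_sylow T)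

theorem not_le_core (h : Hyp φ T U) {A : Subgroup H} (hA : Mx φ A) : ¬ A ≤ pCore 2 H := by
  intro hle
  have h1 : fx φ A = ⊤ := gen_le h fun x =>
    le_fx_iff.2 (hA.le_cn h.inj (hle.trans (core_le_cj x)) (h.unoff.cj x))
  have h2 : A ≤ cn φ ⊤ := le_fx_iff.1 (h1 ▸ le_rfl)
  rw [cn_top_of_inj h.inj] at h2
  exact hA.ne (le_bot_iff.1 h2)

omit [Finite V] in
theorem cj_ne_top (x : H) {X : Subgroup H} (hX : X ≠ ⊤) : cj x X ≠ ⊤ := by
  intro h1
  apply hX
  apply Subgroup.eq_top_of_card_eq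
  rw [← card_cj x X, h1, Subgroup.card_top]

theorem cj_not_le (h : Hyp φ T U) (hIH : S4FreeClosureUniq.IHyp.{u, v} (Nat.card H)) {A : Subgroup H}
    (hA : Mx φ A) (hAM : A ≤ stb φ (wst φ T)) {x : H} (hx : x ∉ stb φ (wst φ T)) :
    ¬ cj x A ≤ stb φ (wst φ T) := by
  intro hle
  have h1 := h.uniq hIH (hA.cj x) hle (cj_mono x hAM) (cj_ne_top x h.M_ne)
  have h2 : cj x (stb φ (wst φ T)) = stb φ (wst φ T) :=
    Subgroup.eq_of_le_of_card_ge h1 (card_cj x _).ge
  rw [cj_eq_iff] at h2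
  by_cases h3 : Subgroup.normalizer (stb φ (wst φ T) : Set H) = ⊤
  · have h4 : (stb φ (wst φ T)).Normal := Subgroup.normalizer_eq_top_iff.1 h3
    have h5 := inf_le_pCore T h.M_ne (h.max hIH) _ le_rfl
    rw [inf_eq_left.2 h.le_M] at h5
    obtain ⟨m, -, hm⟩ := exists_cj_le h.le_M hA.two hAM
    have : (pCore 2 H).Normal := Cores.pCore_normal 2
    apply not_le_core h (hA.cj m) (hm.trans h5)
  · exact hx (h.max hIH _ (h.le_M.trans Subgroup.le_normalizer) h3 h2)

theorem sup_eq_top (h : Hyp φ T U) (hIH : S4FreeClosureUniq.IHyp.{u, v} (Nat.card H)) {A : Subgroup H}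
    (hA : Mx φ A) (hAM : A ≤ stb φ (wst φ T)) {x : H} (hx : x ∉ stb φ (wst φ T)) :
    A ⊔ cj x A = ⊤ := by
  by_contra hne
  exact cj_not_le h hIH hA hAM hx (le_sup_right.trans (h.uniq hIH hA hAM le_sup_left hne))

omit [Finite H] [Finite V] in
theorem sup_cm_eq_top (h : Hyp φ T U) {A B : Subgroup H} (hAB : A ⊔ B = ⊤) (y : H) :
    im φ y U ⊔ (cm φ A ⊔ cm φ B) = ⊤ := by
  set C := cm φ A ⊔ cm φ B with hC
  let S : Subgroup H :=
    { carrier := {h | ∀ v, φ h v * v⁻¹ ∈ C}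
      one_mem' := fun v => by
        rw [map_one, MulAut.one_apply, mul_inv_cancel]
        exact one_mem _
      mul_mem' := fun {a b} ha hb v => by
        have h1 := mul_mem (ha (φ b v)) (hb v)
        rw [← mul_assoc, inv_mul_cancel_right] at h1
        rw [map_mul, MulAut.mul_apply]
        exact h1
      inv_mem' := fun {a} ha v => by
        have h1 := inv_mem (ha (φ a⁻¹ v))
        rw [apply_inv_cancel, mul_inv_rev, inv_inv] at h1
        exact h1 }
  have hS : S = ⊤ := by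
    rw [eq_top_iff, ← hAB]
    exact sup_le (fun a ha v => (le_sup_left : cm φ A ≤ C) (mem_cm ha v))
      (fun a ha v => (le_sup_right : cm φ B ≤ C) (mem_cm ha v))
  apply gen_le h
  rintro x _ ⟨u, hu, rfl⟩
  show φ x u ∈ _
  have h1 : (x * y⁻¹) ∈ S := hS ▸ Subgroup.mem_top _
  have h2 := h1 (φ y u)
  have h3 : φ (x * y⁻¹) (φ y u) = φ x u := by
    rw [map_mul, MulAut.mul_apply, inv_apply_cancel]
  rw [h3] at h2
  have h4 : φ x u = φ y u * (φ x u * (φ y u)⁻¹) := by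
    rw [mul_comm, inv_mul_cancel_right]
  rw [h4]
  exact Subgroup.mul_mem_sup ⟨u, hu, rfl⟩ h2

theorem hyp_false (h : Hyp φ T U) (hIH : S4FreeClosureUniq.IHyp.{u, v} (Nat.card H)) : False := by
  classical
  have hcoreN : (pCore 2 H).Normal := Cores.pCore_normal 2
  set M := stb φ (wst φ T) with hM
  set R₀ := pCore 2 H with hR₀
  have hR₀T : R₀ ≤ (T : Subgroup H) := Cores.pCore_le_sylow T
  obtain ⟨A₀, hA₀⟩ := h.exists_mx
  obtain ⟨A₁, -, hA₁, hq₁⟩ := hA₀.exists_quad h.inj h.exp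
  obtain ⟨m, -, hm⟩ := exists_cj_le (T := T) (M := ⊤) le_top hA₁.two le_top
  obtain ⟨A, hA, hq, hAT⟩ : ∃ A : Subgroup H, Mx φ A ∧ Quad φ A ∧ A ≤ (T : Subgroup H) :=
    ⟨cj m A₁, hA₁.cj m, Quad.cj hq₁ m, hm⟩
  clear hA₁ hq₁ hm hA₀
  have hAM : A ≤ M := hAT.trans h.le_M
  obtain ⟨g, hg⟩ : ∃ g, g ∉ M := by
    by_contra hcon
    push Not at hcon
    exact h.M_ne (eq_top_iff.2 fun x _ => hcon x)
  have hg' : g⁻¹ ∉ M := fun h' => hg (by rw [← inv_inv g]; exact inv_mem h')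
  -- basic facts
  have hcmA : cm φ A ≤ fx φ A := Quad.cm_le_fx hq
  have hcmx : ∀ x, cm φ (cj x A) ≤ fx φ (cj x A) := fun x => Quad.cm_le_fx (Quad.cj hq x)
  have hUA : U ≤ fx φ A := le_fx_iff.2 (hA.le_cn h.inj hAT h.unoff)
  have hUx : ∀ x, im φ x U ≤ fx φ (cj x A) := by
    intro x
    rw [fx_cj]
    exact Subgroup.map_mono hUA
  have htop : ∀ x, x ∉ M → A ⊔ cj x A = ⊤ := fun x hx => sup_eq_top h hIH hA hAM hx
  have him1 : im φ 1 U = U := by
    ext u
    rw [mem_im]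
    simp
  have hsupfx : ∀ x, x ∉ M → fx φ A ⊔ fx φ (cj x A) = ⊤ := by
    intro x hx
    have h1 := sup_cm_eq_top h (htop x hx) 1
    rw [him1] at h1
    rw [eq_top_iff, ← h1]
    exact sup_le (hUA.trans le_sup_left) (sup_le_sup hcmA (hcmx x))
  set V₀ := fx φ ⊤ with hV₀def
  have hV₀ : ∀ h, ∀ v ∈ V₀, φ h v = v := fun h v hv => hv h (Subgroup.mem_top h)
  have hinffx : ∀ x, x ∉ M → fx φ A ⊓ fx φ (cj x A) = V₀ := by
    intro x hx
    rw [← fx_sup, htop x hx]
  have hfxcm : fx φ A ≤ cm φ A ⊔ V₀ := by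
    intro v hv
    have h1 := sup_cm_eq_top h (htop g hg) g
    have h2 : v ∈ im φ g U ⊔ (cm φ A ⊔ cm φ (cj g A)) := h1 ▸ Subgroup.mem_top v
    obtain ⟨u, hu, w, hw, rfl⟩ := Subgroup.mem_sup.1 h2
    obtain ⟨c, hc, d, hd, rfl⟩ := Subgroup.mem_sup.1 hw
    have h3 : u * d ∈ V₀ := by
      rw [← hinffx g hg]
      refine ⟨?_, mul_mem (hUx g hu) (hcmx g hd)⟩
      have h4 : u * d = (u * (c * d)) * c⁻¹ := by
        rw [mul_comm c d, mul_assoc, mul_assoc, mul_inv_cancel, mul_one]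
      rw [h4]
      exact Subgroup.mul_mem _ hv (Subgroup.inv_mem _ (hcmA hc))
    have h5 : u * (c * d) = c * (u * d) := mul_left_comm u c d
    rw [h5]
    exact Subgroup.mul_mem_sup hc h3
  have hV₀ne : V₀ ≠ ⊤ := by
    intro h1
    have h2 : A ≤ cn φ ⊤ := fun a _ v _ => hV₀ a v (h1 ▸ Subgroup.mem_top v)
    rw [cn_top_of_inj h.inj] at h2
    exact hA.ne (le_bot_iff.1 h2)
  -- a maximal submodule
  let S : Set (Subgroup V) := {Y | Y ≠ ⊤ ∧ V₀ ≤ Y ∧ ∀ h : H, ∀ w ∈ Y, φ h w ∈ Y}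
  obtain ⟨V₂, hV₂max⟩ := S.toFinite.exists_maximal ⟨V₀, hV₀ne, le_rfl, fun h w hw => by
    rw [hV₀ h w hw]; exact hw⟩
  obtain ⟨hV₂ne, hV₀₂, hV₂inv⟩ := hV₂max.prop
  have hmax : ∀ Y : Subgroup V, V₂ < Y → (∀ h, ∀ w ∈ Y, φ h w ∈ Y) → Y = ⊤ := by
    intro Y hY hinv
    by_contra hne
    exact hY.not_ge (hV₂max.le_of_ge (⟨hne, hV₀₂.trans hY.le, hinv⟩ : Y ∈ S) hY.le)
  let ρ : H →* MulAut (V ⧸ V₂) := quotHom φ V₂ hV₂inv
  have hρ : ∀ (h : H) (v : V), ρ h (QuotientGroup.mk v) = QuotientGroup.mk (φ h v) :=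
    fun h v => rfl
  have hρmk : ∀ (h : H) (v : V), ρ h (QuotientGroup.mk v) = QuotientGroup.mk v ↔
      φ h v * v⁻¹ ∈ V₂ := by
    intro h v
    rw [hρ, eq_comm, QuotientGroup.eq, mul_comm]
  -- fixed points on the quotient
  have hρfix : ∀ q : V ⧸ V₂, (∀ h, ρ h q = q) → q = 1 := by
    let Y : Subgroup V := (fx ρ ⊤).comap (QuotientGroup.mk' V₂)
    have hYmem : ∀ v, v ∈ Y ↔ ∀ h, φ h v * v⁻¹ ∈ V₂ := by
      intro v
      constructor
      · intro hv h
        exact (hρmk h v).1 (hv h (Subgroup.mem_top h))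
      · intro hv h _
        exact (hρmk h v).2 (hv h)
    have hVY : V₂ ≤ Y := by
      intro v hv
      rw [hYmem]
      intro h
      exact mul_mem (hV₂inv h v hv) (inv_mem hv)
    have hYinv : ∀ h, ∀ w ∈ Y, φ h w ∈ Y := by
      intro h w hw
      rw [hYmem] at hw ⊢
      intro k
      have h1 := hw (k * h)
      have h2 := hw h
      have h3 : φ k (φ h w) * (φ h w)⁻¹ = (φ (k * h) w * w⁻¹) * (φ h w * w⁻¹)⁻¹ := by
        rw [map_mul φ, MulAut.mul_apply, mul_inv, inv_inv, mul_assoc, mul_left_comm w⁻¹,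
          inv_mul_cancel, mul_one]
      rw [h3]
      exact mul_mem h1 (inv_mem h2)
    have hYV : Y = V₂ := by
      by_contra hne
      have h1 := hmax Y (lt_of_le_of_ne hVY (Ne.symm hne)) hYinv
      have h2 : ∀ v h, φ h v * v⁻¹ ∈ V₂ := fun v => (hYmem v).1 (h1 ▸ Subgroup.mem_top v)
      have h3 : fx φ A ≤ V₂ := by
        refine hfxcm.trans (sup_le (cm_le.2 fun a _ v => h2 v a) hV₀₂)
      apply hV₂ne
      rw [eq_top_iff, ← hsupfx g hg]
      refine sup_le h3 ?_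
      rw [fx_cj]
      rintro _ ⟨v, hv, rfl⟩
      exact hV₂inv g v (h3 hv)
    intro q
    obtain ⟨v, rfl⟩ := QuotientGroup.mk_surjective q
    intro hq
    have h1 : v ∈ Y := (hYmem v).2 fun h => (hρmk h v).1 (hq h)
    rw [hYV] at h1
    exact (QuotientGroup.eq_one_iff v).2 h1
  have hρtop : fx ρ ⊤ = ⊥ := by
    rw [eq_bot_iff]
    intro q hq
    exact hρfix q fun h => hq h (Subgroup.mem_top h)
  have hρA : ∀ (B : Subgroup H) (v : V), v ∈ fx φ B → (QuotientGroup.mk v : V ⧸ V₂) ∈ fx ρ B := by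
    intro B v hv b hb
    rw [hρ, hv b hb]
  have hρsup : ∀ x, x ∉ M → fx ρ A ⊔ fx ρ (cj x A) = ⊤ := by
    intro x hx
    rw [eq_top_iff]
    intro q _
    obtain ⟨v, rfl⟩ := QuotientGroup.mk_surjective q
    have h1 : v ∈ fx φ A ⊔ fx φ (cj x A) := hsupfx x hx ▸ Subgroup.mem_top v
    obtain ⟨a, ha, b, hb, rfl⟩ := Subgroup.mem_sup.1 h1
    rw [QuotientGroup.mk_mul]
    exact Subgroup.mul_mem_sup (hρA A a ha) (hρA _ b hb)
  have hρinf : ∀ x, x ∉ M → fx ρ A ⊓ fx ρ (cj x A) = ⊥ := by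
    intro x hx
    rw [← fx_sup, htop x hx, hρtop]
  -- elements of `A` outside `O₂(H)`
  have hd1 : ∀ a ∈ A, ∀ f : V ⧸ V₂, f ∉ fx ρ A → ρ a f = f → a ∈ R₀ := by
    intro a ha f hf haf
    have h1 : a ∈ M.normalCore := by
      intro b
      by_cases hb : b⁻¹ ∈ M
      · have hb' : b ∈ M := by
          rw [← inv_inv b]
          exact inv_mem hb
        exact M.mul_mem (M.mul_mem hb' (hAM ha)) (M.inv_mem hb')
      · have h2 : f ∈ fx ρ A ⊔ fx ρ (cj b⁻¹ A) := hρsup _ hb ▸ Subgroup.mem_top f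
        obtain ⟨f₁, hf₁, f₂, hf₂, rfl⟩ := Subgroup.mem_sup.1 h2
        have h3 : ρ a f₂ = f₂ := by
          rw [map_mul, hf₁ a ha] at haf
          exact mul_left_cancel haf
        have h4 : f₂ ≠ 1 := by
          rintro rfl
          rw [mul_one] at hf
          exact hf hf₁
        let S₂ : Subgroup H := (MulAction.stabilizer (MulAut (V ⧸ V₂)) f₂).comap ρ
        have hS₂ : ∀ x, x ∈ S₂ ↔ ρ x f₂ = f₂ := fun x => Iff.rfl
        have h5 : S₂ ≠ ⊤ := by
          intro h6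
          exact h4 (hρfix f₂ fun x => (hS₂ x).1 (h6 ▸ Subgroup.mem_top x))
        have h6 : cj b⁻¹ A ≤ S₂ := fun x hx => (hS₂ x).2 (hf₂ x hx)
        rw [cj_le_iff, inv_inv] at h6
        have h7 := h.uniq hIH hA hAM h6 (cj_ne_top b h5)
        apply h7
        rw [mem_cj, hS₂]
        have h8 : b⁻¹ * (b * a * b⁻¹) * b = a := by group
        rw [h8]
        exact h3
    exact inf_le_pCore T h.M_ne (h.max hIH) M.normalCore M.normalCore_le ⟨hAT ha, h1⟩
  -- `[V, A ∩ O₂(H)] ≤ V₀`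
  have hA1 : ∀ a ∈ A ⊓ R₀, ∀ v, φ a v * v⁻¹ ∈ V₀ := by
    rintro a ⟨ha, haR⟩ v
    let D : Subgroup V :=
      { carrier := {v | φ a v * v⁻¹ ∈ V₀}
        one_mem' := by
          show φ a 1 * (1 : V)⁻¹ ∈ V₀
          rw [map_one, inv_one, mul_one]
          exact one_mem _
        mul_mem' := by
          intro x y hx hy
          show φ a (x * y) * (x * y)⁻¹ ∈ V₀
          rw [map_mul, mul_inv, mul_mul_mul_comm]
          exact mul_mem hx hy
        inv_mem' := by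
          intro x hx
          show φ a x⁻¹ * x⁻¹⁻¹ ∈ V₀
          rw [map_inv, ← mul_inv]
          exact inv_mem hx }
    have hD : D = ⊤ := by
      apply gen_le h
      rintro x _ ⟨u, hu, rfl⟩
      show φ a (φ x u) * (φ x u)⁻¹ ∈ V₀
      by_cases hx : x ∈ M
      · have h1 : φ x u ∈ wst φ (T : Subgroup H) := (hx u).2 (le_wst h.unoff hu)
        have h2 := hA.le_cn h.inj hAT (unoff_wst (φ := φ) h.exp T.isPGroup')
        rw [h2 ha _ h1, mul_inv_cancel]
        exact one_mem _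
      · rw [← hinffx x hx]
        refine ⟨hcmA (mem_cm ha _), ?_⟩
        have h1 : φ a (φ x u) ∈ im φ x U :=
          (h.unoff.cj x).inv a (core_le_cj x haR) _ ⟨u, hu, rfl⟩
        exact Subgroup.mul_mem _ (hUx x h1) (Subgroup.inv_mem _ (hUx x ⟨u, hu, rfl⟩))
    have : v ∈ D := hD ▸ Subgroup.mem_top v
    exact this
  -- counting on the quotient
  set q := R₀.relIndex A with hqdef
  set mm := Nat.card (fx ρ A) with hmdef
  have hd3 : ∀ x, x ∉ M → ∀ f ∈ fx ρ (cj x A), f ≠ 1 → q ≤ mm ∧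
      (mm ≤ q → ∀ w ∈ fx ρ A, ∃ a ∈ A, ρ a f = f * w) := by
    intro x hx f hf hf1
    have hfA : f ∉ fx ρ A := by
      intro h1
      have h2 : f ∈ fx ρ A ⊓ fx ρ (cj x A) := ⟨h1, hf⟩
      rw [hρinf x hx] at h2
      exact hf1 h2
    have hmem : ∀ a : A, ρ a f * f⁻¹ ∈ fx ρ A := by
      obtain ⟨v, rfl⟩ := QuotientGroup.mk_surjective f
      intro a b hb
      have h1 : ρ a (QuotientGroup.mk v) * (QuotientGroup.mk v)⁻¹ =
        (QuotientGroup.mk (φ a v * v⁻¹) : V ⧸ V₂) := rfl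
      rw [h1, hρ, hq b hb a a.2 v]
    let F : A → fx ρ A := fun a => ⟨ρ a f * f⁻¹, hmem a⟩
    have hF : ∀ a b : A, F a = F b ↔ (a : H)⁻¹ * b ∈ R₀ := by
      intro a b
      have h1 : F a = F b ↔ ρ ((a : H)⁻¹ * b) f = f := by
        rw [Subtype.ext_iff]
        show ρ a f * f⁻¹ = ρ b f * f⁻¹ ↔ _
        rw [mul_left_inj, map_mul ρ, MulAut.mul_apply]
        constructor
        · intro h2
          rw [← h2, inv_apply_cancel]
        · intro h2
          have h3 := congrArg (ρ a) h2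
          rw [apply_inv_cancel] at h3
          exact h3.symm
      rw [h1]
      constructor
      · intro h2
        exact hd1 _ (A.mul_mem (A.inv_mem a.2) b.2) f hfA h2
      · intro h2
        obtain ⟨v, rfl⟩ := QuotientGroup.mk_surjective f
        rw [hρmk]
        exact hV₀₂ (hA1 _ ⟨A.mul_mem (A.inv_mem a.2) b.2, h2⟩ v)
    let θ : A ⧸ (R₀.subgroupOf A) → fx ρ A := fun z => Quotient.liftOn' z F (by
      intro a b hab
      rw [QuotientGroup.leftRel_apply] at hab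
      exact (hF a b).2 hab)
    have hθ : ∀ a : A, θ (QuotientGroup.mk a) = F a := fun a => rfl
    have hθinj : Function.Injective θ := by
      intro y z hyz
      obtain ⟨a, rfl⟩ := QuotientGroup.mk_surjective y
      obtain ⟨b, rfl⟩ := QuotientGroup.mk_surjective z
      rw [hθ, hθ, hF] at hyz
      exact QuotientGroup.eq.2 hyz
    have hle : q ≤ mm := Nat.card_le_card_of_injective θ hθinj
    refine ⟨hle, fun hge w hw => ?_⟩
    have hbij : Function.Bijective θ :=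
      (Nat.bijective_iff_injective_and_card θ).2 ⟨hθinj, le_antisymm hle hge⟩
    obtain ⟨z, hz⟩ := hbij.2 ⟨w, hw⟩
    obtain ⟨a, rfl⟩ := QuotientGroup.mk_surjective z
    refine ⟨a, a.2, ?_⟩
    have h1 : ρ a f * f⁻¹ = w := congrArg Subtype.val hz
    rw [← h1, mul_comm f, inv_mul_cancel_right]
  have hcardB : Nat.card (fx ρ (cj g A)) = mm := by
    rw [fx_cj, card_im]
  have hρne : fx ρ A ≠ ⊥ := by
    intro h1
    have h2 : fx ρ (cj g A) = ⊥ := by
      apply Subgroup.card_eq_one.1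
      rw [hcardB, hmdef, h1, Subgroup.card_bot]
    have h3 := hρsup g hg
    rw [h1, h2, bot_sup_eq] at h3
    apply hV₂ne
    rw [eq_top_iff]
    intro v _
    have h4 : (QuotientGroup.mk v : V ⧸ V₂) ∈ (⊥ : Subgroup (V ⧸ V₂)) := h3 ▸ Subgroup.mem_top _
    exact (QuotientGroup.eq_one_iff v).1 (Subgroup.mem_bot.1 h4)
  have hlt : q < mm := by
    by_contra hcon
    push Not at hcon
    obtain ⟨⟨w, hw⟩, hw1'⟩ := Subgroup.ne_bot_iff_exists_ne_one.1 hρne
    have hw1 : w ≠ 1 := fun h => hw1' (Subtype.ext h)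
    have hf : ρ g w ∈ fx ρ (cj g A) := by
      rw [fx_cj]
      exact ⟨w, hw, rfl⟩
    have hf1 : ρ g w ≠ 1 := fun h1 => hw1 ((ρ g).injective (by rw [h1, map_one]))
    obtain ⟨a, ha, hav⟩ := (hd3 g hg _ hf hf1).2 hcon w hw
    have hw2 : ρ g⁻¹ w ∈ fx ρ (cj g⁻¹ A) := by
      rw [fx_cj]
      exact ⟨w, hw, rfl⟩
    have hw3 : ρ g⁻¹ w ≠ 1 := fun h1 => hw1 ((ρ g⁻¹).injective (by rw [h1, map_one]))
    obtain ⟨b, hb, hbv⟩ := (hd3 g⁻¹ hg' _ hw2 hw3).2 hcon w hw
    have hbw : ρ (g * b * g⁻¹) w = w * ρ g w := by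
      rw [map_mul, map_mul, MulAut.mul_apply, MulAut.mul_apply, hbv, map_mul, apply_inv_cancel]
    refine not_noS3 (φ := ρ) (v := ρ g w) (w := w) (a := a) (b := g * b * g⁻¹) ?_ ?_ hf1 hw1 ?_ hav
      (hw a ha) hbw (hf _ (conj_mem_cj hb)) (noS3_quot h.noS3 V₂ hV₂inv)
    · obtain ⟨v, hv⟩ := QuotientGroup.mk_surjective (ρ g w)
      rw [← hv, ← QuotientGroup.mk_mul, h.exp]
      rfl
    · obtain ⟨v, hv⟩ := QuotientGroup.mk_surjective w
      rw [← hv, ← QuotientGroup.mk_mul, h.exp]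
      rfl
    · intro h1
      have h2 : w ∈ fx ρ A ⊓ fx ρ (cj g A) := ⟨hw, h1 ▸ hf⟩
      rw [hρinf g hg] at h2
      exact hw1 h2
  have hcardF : mm * mm ≤ Nat.card (V ⧸ V₂) := by
    have h1 := Timmesfeld.card_mul_card_le (B₁ := fx ρ A) (B₂ := fx ρ (cj g A)) (B₃ := ⊤)
      le_top le_top
    rwa [hρinf g hg, Subgroup.card_bot, one_mul, hcardB, Subgroup.card_top] at h1
  have hqq : q * q < Nat.card (V ⧸ V₂) := lt_of_lt_of_le (Nat.mul_self_lt_mul_self hlt) hcardF
  -- the normal subgroup `R`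
  set A₁ := A ⊓ R₀ with hA₁def
  set B₁ := cj g A₁ with hB₁def
  set R := A₁ ⊔ B₁ with hRdef
  have hR₀cj : ∀ x b : H, b ∈ R₀ → x * b * x⁻¹ ∈ R₀ := fun x b hb => hcoreN.conj_mem b hb x
  have hA₁R₀ : A₁ ≤ R₀ := inf_le_right
  have hB₁R₀ : B₁ ≤ R₀ := by
    rintro _ ⟨b, hb, rfl⟩
    exact hR₀cj g b hb.2
  have hRR₀ : R ≤ R₀ := sup_le hA₁R₀ hB₁R₀
  have hV₀cj : ∀ (x r : H), (∀ v, φ r v * v⁻¹ ∈ V₀) → ∀ v, φ (x * r * x⁻¹) v * v⁻¹ ∈ V₀ := by
    intro x r hr v
    have h1 := hr (φ x⁻¹ v)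
    have h2 : φ (x * r * x⁻¹) v * v⁻¹ = φ x (φ r (φ x⁻¹ v) * (φ x⁻¹ v)⁻¹) := by
      rw [map_mul (φ x), map_inv (φ x), apply_inv_cancel, map_mul φ, map_mul φ, MulAut.mul_apply,
        MulAut.mul_apply]
    rw [h2, hV₀ x _ h1]
    exact h1
  have hB1 : ∀ b ∈ B₁, ∀ v, φ b v * v⁻¹ ∈ V₀ := by
    rintro _ ⟨b, hb, rfl⟩
    exact hV₀cj g b (hA1 b hb)
  have hn1 : ∀ r ∈ R₀, (∀ v, φ r v * v⁻¹ ∈ V₀) → ∀ a ∈ A, a * r * a⁻¹ * r⁻¹ ∈ A₁ := by
    intro r hr hrv a ha
    set c := a * r * a⁻¹ * r⁻¹ with hc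
    have hcR₀ : c ∈ R₀ := R₀.mul_mem (hR₀cj a r hr) (R₀.inv_mem hr)
    let l : V →* V :=
      { toFun := fun v => φ r v * v⁻¹
        map_one' := by rw [map_one, inv_one, mul_one]
        map_mul' := fun v w => by rw [map_mul, mul_inv, mul_mul_mul_comm] }
    have hlV₀ : ∀ v, l v ∈ V₀ := hrv
    have hrl : ∀ v, φ r v = l v * v := fun v => by
      show φ r v = φ r v * v⁻¹ * v
      rw [inv_mul_cancel_right]
    have hrl' : ∀ v, φ r⁻¹ v = (l v)⁻¹ * v := by
      intro v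
      apply (φ r).injective
      rw [apply_inv_cancel, map_mul, hV₀ r _ (inv_mem (hlV₀ v)), hrl, inv_mul_cancel_left]
    have hcv : ∀ v, φ c v = l (φ a⁻¹ v * v⁻¹) * v := by
      intro v
      have h1 : φ c v = φ a (φ r (φ a⁻¹ (φ r⁻¹ v))) := by
        rw [hc, map_mul φ, map_mul φ, map_mul φ]
        rfl
      rw [h1, hrl', map_mul (φ a⁻¹), hV₀ a⁻¹ _ (inv_mem (hlV₀ v)), map_mul (φ r),
        hV₀ r _ (inv_mem (hlV₀ v)), hrl, map_mul (φ a), map_mul (φ a), hV₀ a _ (inv_mem (hlV₀ v)),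
        hV₀ a _ (hlV₀ _), apply_inv_cancel, map_mul l, map_inv l, mul_comm (l (φ a⁻¹ v)) (l v)⁻¹,
        mul_assoc]
    have hcfx : ∀ v ∈ fx φ A, φ c v = v := by
      intro v hv
      rw [hcv, hv _ (A.inv_mem ha), mul_inv_cancel, map_one, one_mul]
    have hccomm : ∀ b ∈ A, b * c = c * b := by
      intro b hb
      apply h.inj
      ext v
      rw [map_mul φ b c, map_mul φ c b, MulAut.mul_apply, MulAut.mul_apply, hcv, hcv (φ b v),
        map_mul (φ b), hV₀ b _ (hlV₀ _)]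
      congr 2
      have h1 : φ a⁻¹ (φ b v) = φ b (φ a⁻¹ v) := by
        rw [← MulAut.mul_apply, ← MulAut.mul_apply, ← map_mul, ← map_mul,
          hA.ab _ (A.inv_mem ha) b hb]
      rw [h1, ← map_inv, ← map_mul, hq b hb _ (A.inv_mem ha)]
    have hcA : c ∈ A := by
      set P := A ⊔ Subgroup.zpowers c with hP
      have hAcA : A ≤ Subgroup.centralizer (A : Set H) := by
        intro a ha
        rw [Subgroup.mem_centralizer_iff]
        intro b hb
        exact hA.ab b hb a ha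
      have hcc : Subgroup.zpowers c ≤ Subgroup.centralizer (A : Set H) := by
        rw [Subgroup.zpowers_le, Subgroup.mem_centralizer_iff]
        exact hccomm
      have h1 : A ≤ Subgroup.centralizer (P : Set H) := by
        rw [Subgroup.le_centralizer_iff]
        exact sup_le hAcA hcc
      have h2 : Subgroup.zpowers c ≤ Subgroup.centralizer (P : Set H) := by
        rw [Subgroup.zpowers_le, Subgroup.mem_centralizer_iff]
        have h3 : P ≤ Subgroup.centralizer ({c} : Set H) := by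
          refine sup_le ?_ ?_
          · intro b hb
            rw [Subgroup.mem_centralizer_singleton_iff]
            exact hccomm b hb
          · rw [Subgroup.zpowers_le, Subgroup.mem_centralizer_singleton_iff]
        intro b hb
        exact Subgroup.mem_centralizer_singleton_iff.1 (h3 hb)
      have h3 : P ≤ Subgroup.centralizer (P : Set H) := sup_le h1 h2
      have hPT : P ≤ (T : Subgroup H) := sup_le hAT (by
        rw [Subgroup.zpowers_le]
        exact hR₀T hcR₀)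
      have h4 := hA.max P (T.isPGroup'.to_le hPT) (fun x hx y hy =>
        (Subgroup.mem_centralizer_iff.1 (h3 hy)) x hx)
      have h5 : fx φ P = fx φ A := by
        rw [hP, fx_sup, inf_eq_left, le_fx_iff, Subgroup.zpowers_le]
        exact hcfx
      rw [h5] at h4
      have h6 := Nat.le_of_mul_le_mul_right h4 Nat.card_pos
      have h7 : A = P := Subgroup.eq_of_le_of_card_ge le_sup_left h6
      rw [h7]
      exact (le_sup_right : Subgroup.zpowers c ≤ P) (Subgroup.mem_zpowers c)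
    exact ⟨hcA, hcR₀⟩
  have hRnorm : R.Normal := by
    rw [← Subgroup.normalizer_eq_top_iff, eq_top_iff, ← htop g hg]
    have hcjR : ∀ x, cj x R ≤ R → x ∈ Subgroup.normalizer (R : Set H) := by
      intro x hx
      rw [← cj_eq_iff]
      exact Subgroup.eq_of_le_of_card_ge hx (card_cj x R).ge
    refine sup_le ?_ ?_
    · intro a ha
      apply hcjR
      rw [cj_le_iff]
      refine sup_le ?_ ?_
      · rw [← cj_le_iff]
        rintro _ ⟨b, hb, rfl⟩
        have h1 : (MulAut.conj a).toMonoidHom b = b := by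
          show a * b * a⁻¹ = b
          rw [hA.ab a ha b hb.1, mul_inv_cancel_right]
        rw [h1]
        exact (le_sup_left : A₁ ≤ R) hb
      · rw [← cj_le_iff]
        rintro _ ⟨b, hb, rfl⟩
        show a * b * a⁻¹ ∈ R
        have h1 := hn1 b (hB₁R₀ hb) (hB1 b hb) a ha
        have h2 : a * b * a⁻¹ = (a * b * a⁻¹ * b⁻¹) * b := by group
        rw [h2]
        exact Subgroup.mul_mem_sup h1 hb
    · rintro _ ⟨a, ha, rfl⟩
      apply hcjR
      show cj (g * a * g⁻¹) R ≤ R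
      rw [cj_le_iff]
      refine sup_le ?_ ?_
      · rw [← cj_le_iff]
        rintro _ ⟨b, hb, rfl⟩
        show (g * a * g⁻¹) * b * (g * a * g⁻¹)⁻¹ ∈ R
        have hb' : g⁻¹ * b * g ∈ R₀ := by
          have := hR₀cj g⁻¹ b hb.2
          rwa [inv_inv] at this
        have h1 := hn1 (g⁻¹ * b * g) hb' (by
          have := hV₀cj g⁻¹ b (hA1 b hb)
          rwa [inv_inv] at this) a ha
        have h2 : (g * a * g⁻¹) * b * (g * a * g⁻¹)⁻¹ =
            (g * (a * (g⁻¹ * b * g) * a⁻¹ * (g⁻¹ * b * g)⁻¹) * g⁻¹) * b := by group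
        rw [h2]
        exact R.mul_mem ((le_sup_right : B₁ ≤ R) (conj_mem_cj h1)) ((le_sup_left : A₁ ≤ R) hb)
      · rw [← cj_le_iff]
        rintro _ ⟨_, ⟨b, hb, rfl⟩, rfl⟩
        show (g * a * g⁻¹) * (g * b * g⁻¹) * (g * a * g⁻¹)⁻¹ ∈ R
        have h1 : (g * a * g⁻¹) * (g * b * g⁻¹) * (g * a * g⁻¹)⁻¹ = g * (a * b * a⁻¹) * g⁻¹ := by
          group
        rw [h1, hA.ab a ha b hb.1, mul_inv_cancel_right]
        exact (le_sup_right : B₁ ≤ R) (conj_mem_cj hb)
  have hR₀' : ∀ r ∈ R, ∀ v, φ r v * v⁻¹ ∈ V₀ := by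
    let Q : Subgroup H :=
      { carrier := {h | ∀ v, φ h v * v⁻¹ ∈ V₀}
        one_mem' := fun v => by
          rw [map_one, MulAut.one_apply, mul_inv_cancel]
          exact one_mem _
        mul_mem' := fun {a b} ha hb v => by
          have h1 := mul_mem (ha (φ b v)) (hb v)
          rw [← mul_assoc, inv_mul_cancel_right] at h1
          rw [map_mul, MulAut.mul_apply]
          exact h1
        inv_mem' := fun {a} ha v => by
          have h1 := inv_mem (ha (φ a⁻¹ v))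
          rw [apply_inv_cancel, mul_inv_rev, inv_inv] at h1
          exact h1 }
    have h1 : R ≤ Q := sup_le hA1 hB1
    exact fun r hr => h1 hr
  have hcardR : Nat.card A₁ * Nat.card A₁ ≤ Nat.card R := by
    have h1 := Timmesfeld.card_mul_card_le (B₁ := A₁) (B₂ := B₁) (B₃ := R) le_sup_left le_sup_right
    have h2 : A₁ ⊓ B₁ = ⊥ := by
      rw [eq_bot_iff]
      rintro x ⟨hx1, hx2⟩
      have h3 : x ∈ cj g A := cj_mono g inf_le_left hx2
      have h4 : x ∈ cn φ ⊤ := by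
        rw [← hsupfx g hg, cn_sup]
        exact ⟨fun v hv => hv x hx1.1, fun v hv => hv x h3⟩
      rwa [cn_top_of_inj h.inj] at h4
    rwa [h2, Subgroup.card_bot, one_mul, hB₁def, card_cj] at h1
  have hunoff : Unoff φ R₀ ⊤ := by
    have h1 : wst φ R₀ = ⊤ := gen_le h fun x =>
      le_wst ((h.unoff.cj x).mono (core_le_cj x))
    rw [← h1]
    exact unoff_wst h.exp (T.isPGroup'.to_le hR₀T)
  have hoff : ∀ E ≤ R, E ≠ ⊥ → Nat.card E * Nat.card (fx φ E) < Nat.card V := by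
    intro E hE hEne
    by_contra hcon
    push Not at hcon
    apply hEne
    have h1 := hunoff.off E (hE.trans hRR₀) (by
      intro a ha b hb v _
      have h2 : ∀ r, (∀ w, φ r w * w⁻¹ ∈ V₀) → ∀ w, ∃ z ∈ V₀, φ r w = z * w := fun r hr w =>
        ⟨_, hr w, by rw [inv_mul_cancel_right]⟩
      obtain ⟨z, hz, hz'⟩ := h2 a (hR₀' a (hE ha)) v
      obtain ⟨y, hy, hy'⟩ := h2 b (hR₀' b (hE hb)) v
      rw [hy', hz', map_mul, map_mul, hV₀ a y hy, hV₀ b z hz, hy', hz', mul_left_comm]) (by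
      rw [ms_top_of_inj h.inj, Subgroup.card_top]
      exact hcon)
    rw [cn_top_of_inj h.inj] at h1
    exact le_bot_iff.1 h1
  have key := card_quot_mul_card_le h.inj h.exp V₀ V₂ hV₀ hV₀₂ hV₂ne hV₂inv hmax R
    (fun x r hr => hRnorm.conj_mem r hr x) hR₀' hoff
  have hcardA : Nat.card A = q * Nat.card A₁ := by
    have h1 := Subgroup.card_eq_card_quotient_mul_card_subgroup (R₀.subgroupOf A)
    rw [h1, hqdef, hA₁def]
    congr 1
    rw [← Subgroup.inf_subgroupOf_left]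
    exact Nat.card_congr (Subgroup.subgroupOfEquivOfLe inf_le_left).toEquiv
  have hV1 := hA.card
  have hV2 : Nat.card (fx φ A) * Nat.card (fx φ A) ≤ Nat.card V₀ * Nat.card V := by
    have h1 := Timmesfeld.card_mul_card_le (B₁ := fx φ A) (B₂ := fx φ (cj g A)) (B₃ := ⊤)
      le_top le_top
    rwa [hinffx g hg, fx_cj, card_im, Subgroup.card_top] at h1
  have hVpos : 0 < Nat.card V := Nat.card_pos
  have hV₀pos : 0 < Nat.card V₀ := Nat.card_pos
  have hRpos : 0 < Nat.card R := Nat.card_pos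
  have hV3 : Nat.card V ≤ Nat.card A * Nat.card A * Nat.card V₀ := by
    refine Nat.le_of_mul_le_mul_right (c := Nat.card V) ?_ hVpos
    calc Nat.card V * Nat.card V
        ≤ (Nat.card A * Nat.card (fx φ A)) * (Nat.card A * Nat.card (fx φ A)) :=
          Nat.mul_le_mul hV1 hV1
      _ = Nat.card A * Nat.card A * (Nat.card (fx φ A) * Nat.card (fx φ A)) := by ring
      _ ≤ Nat.card A * Nat.card A * (Nat.card V₀ * Nat.card V) := Nat.mul_le_mul_left _ hV2
      _ = Nat.card A * Nat.card A * Nat.card V₀ * Nat.card V := by ring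
  have hfinal : Nat.card V < Nat.card V := by
    calc Nat.card V ≤ Nat.card A * Nat.card A * Nat.card V₀ := hV3
      _ = (q * q) * (Nat.card A₁ * Nat.card A₁) * Nat.card V₀ := by
        rw [hcardA]
        ring
      _ ≤ (q * q) * Nat.card R * Nat.card V₀ :=
        Nat.mul_le_mul_right _ (Nat.mul_le_mul_left _ hcardR)
      _ < Nat.card (V ⧸ V₂) * Nat.card R * Nat.card V₀ :=
        Nat.mul_lt_mul_of_pos_right (Nat.mul_lt_mul_of_pos_right hqq hRpos) hV₀pos
      _ ≤ Nat.card V := key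
  exact lt_irrefl _ hfinal

end main

section transfer

variable {H : Type u} [Group H] {V : Type v} [CommGroup V]

theorem unoff_map_iff {H' : Type*} [Group H'] {φ : H →* MulAut V} {φ' : H' →* MulAut V}
    (π : H →* H') (hφ : ∀ h, φ' (π h) = φ h) (T : Subgroup H) (U : Subgroup V) :
    Unoff φ T U ↔ Unoff φ' (T.map π) U := by
  have hcn : cn φ U = (cn φ' U).comap π := by
    ext h
    rw [Subgroup.mem_comap, mem_cn, mem_cn]
    simp only [hφ]
  have hfx : ∀ A : Subgroup H, fx φ A = fx φ' (A.map π) := by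
    intro A
    ext v
    constructor
    · rintro h _ ⟨a, ha, rfl⟩
      rw [hφ]
      exact h a ha
    · intro h a ha
      rw [← hφ]
      exact h _ ⟨a, ha, rfl⟩
  have hms : ∀ A : Subgroup H, ms φ U A = ms φ' U (A.map π) := by
    intro A
    unfold ms
    rw [hcn, Subgroup.relIndex_comap, hfx]
  have hab : ∀ A : Subgroup H, AbOn φ A U ↔ AbOn φ' (A.map π) U := by
    intro A
    constructor
    · rintro h _ ⟨a, ha, rfl⟩ _ ⟨b, hb, rfl⟩ u hu
      rw [hφ, hφ]
      exact h a ha b hb u hu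
    · intro h a ha b hb u hu
      rw [← hφ, ← hφ]
      exact h _ ⟨a, ha, rfl⟩ _ ⟨b, hb, rfl⟩ u hu
  constructor
  · intro h
    refine ⟨?_, ?_⟩
    · rintro _ ⟨t, ht, rfl⟩ u hu
      rw [hφ]
      exact h.inv t ht u hu
    · intro A' hA' hab' hle
      have h1 : (T ⊓ A'.comap π).map π = A' := by
        ext a
        constructor
        · rintro ⟨b, ⟨_, hb⟩, rfl⟩
          exact hb
        · intro ha
          obtain ⟨t, ht, rfl⟩ := hA' ha
          exact ⟨t, ⟨ht, ha⟩, rfl⟩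
      have h2 := h.off (T ⊓ A'.comap π) inf_le_left (by rw [hab, h1]; exact hab') (by
        rw [hms, h1]; exact hle)
      rw [hcn, ← Subgroup.map_le_iff_le_comap, h1] at h2
      exact h2
  · intro h
    refine ⟨fun t ht u hu => by rw [← hφ]; exact h.inv _ ⟨t, ht, rfl⟩ u hu,
      fun A hA hab' hle => ?_⟩
    rw [hcn, ← Subgroup.map_le_iff_le_comap]
    exact h.off _ (Subgroup.map_mono hA) ((hab A).1 hab') (by rw [← hms]; exact hle)

theorem noS3_of_surjective {H' : Type*} [Group H'] {φ : H →* MulAut V} {φ' : H' →* MulAut V}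
    (π : H →* H') (hπ : Function.Surjective π) (hφ : ∀ h, φ' (π h) = φ h) (h : NoS3 φ) :
    NoS3 φ' := by
  rintro ⟨D, ψ, hψ, hker⟩
  apply h
  let p : D.comap π →* D := (π.comp (D.comap π).subtype).codRestrict D (fun x => x.2)
  refine ⟨D.comap π, ψ.comp p, ?_, ?_⟩
  · intro σ
    obtain ⟨d, rfl⟩ := hψ σ
    obtain ⟨x, hx⟩ := hπ d
    exact ⟨⟨x, by rw [Subgroup.mem_comap, hx]; exact d.2⟩,
      congrArg ψ (Subtype.ext hx)⟩
  · intro d hd
    apply hker
    show φ' (π d) = 1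
    rw [hφ, hd]

end transfer

theorem ihyp (n : ℕ) : S4FreeClosureUniq.IHyp.{u, v} n := by
  induction n with
  | zero =>
    intro H _ _ V _ _ φ T U h
    exact absurd h (Nat.not_lt_zero _)
  | succ n ih =>
    intro H _ _ V _ _ φ T U hn hexp hS3 hU hgen
    have : Fact (Nat.Prime 2) := ⟨Nat.prime_two⟩
    by_contra hcon
    let π := QuotientGroup.mk' φ.ker
    have hπ : Function.Surjective π := QuotientGroup.mk'_surjective _
    let φ' : H ⧸ φ.ker →* MulAut V := QuotientGroup.kerLift φ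
    have hφ : ∀ h, φ' (π h) = φ h := fun h => rfl
    have hle : Nat.card (H ⧸ φ.ker) ≤ Nat.card H := Nat.card_le_card_of_surjective π hπ
    refine hyp_false (φ := φ') (T := T.mapSurjective hπ) (U := U) ⟨hexp,
      QuotientGroup.kerLift_injective φ, noS3_of_surjective π hπ hφ hS3,
      (unoff_map_iff π hφ T U).1 hU, ?_, ?_⟩ ?_
    · intro W hUW hW
      exact hgen W hUW fun h w hw => hW (π h) w hw
    · intro h
      exact hcon ((unoff_map_iff π hφ T ⊤).2 h)
    · intro H' _ _ V' _ _ ψ T' U' hlt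
      exact ih H' V' ψ T' U' (by omega)

/-- **The closure theorem.** -/
theorem unoff_top {H : Type u} [Group H] [Finite H] {V : Type v} [CommGroup V] [Finite V]
    {φ : H →* MulAut V} (hexp : ∀ v : V, v * v = 1) (hS3 : NoS3 φ) (T : Sylow 2 H)
    {U : Subgroup V} (hU : Unoff φ T U)
    (hgen : ∀ W : Subgroup V, U ≤ W → (∀ h : H, ∀ w ∈ W, φ h w ∈ W) → W = ⊤) :
    Unoff φ T ⊤ :=
  ihyp (Nat.card H + 1) H V φ T U (Nat.lt_succ_self _) hexp hS3 hU hgen

/-- The closure theorem for the submodule generated by an unoffended subgroup. -/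
theorem unoff_iSup {H : Type u} [Group H] [Finite H] {V : Type v} [CommGroup V] [Finite V]
    {φ : H →* MulAut V} (hexp : ∀ v : V, v * v = 1) (hS3 : NoS3 φ) (T : Sylow 2 H)
    {U : Subgroup V} (hU : Unoff φ T U) : Unoff φ T (⨆ x : H, im φ x U) := by
  set Y : Subgroup V := ⨆ x : H, im φ x U with hY
  have hUY : U ≤ Y := by
    refine le_trans ?_ (le_iSup (fun x : H => im φ x U) 1)
    intro u hu
    rw [mem_im]
    simpa using hu
  have hYinv : ∀ g, ∀ w ∈ Y, φ g w ∈ Y := by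
    intro g w hw
    have h1 : Y ≤ Y.comap (φ g).toMonoidHom := by
      refine iSup_le fun x => ?_
      rintro _ ⟨u, hu, rfl⟩
      refine (le_iSup (fun x : H => im φ x U) (g * x)) ⟨u, hu, ?_⟩
      show φ (g * x) u = φ g (φ x u)
      rw [map_mul, MulAut.mul_apply]
    exact h1 hw
  have hYinv' : ∀ x : (⊤ : Subgroup H), ∀ w ∈ Y, (φ.comp (⊤ : Subgroup H).subtype) x w ∈ Y :=
    fun x w hw => hYinv x w hw
  have hsub : (((T.subtype (N := ⊤) le_top : Sylow 2 (⊤ : Subgroup H))) :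
      Subgroup (⊤ : Subgroup H)) = (T : Subgroup H).subgroupOf ⊤ := rfl
  have key := unoff_top (φ := subHom (φ.comp (⊤ : Subgroup H).subtype) Y hYinv')
    (fun y => Subtype.ext (hexp y)) (noS3_sub hS3 ⊤ Y hYinv') (T.subtype (N := ⊤) le_top)
    (U := U.subgroupOf Y) (by
      rw [hsub, unoff_subHom_iff φ ⊤ Y hYinv' hUY le_top]
      exact hU) (by
      intro W' hWW' hW'
      rw [eq_top_iff]
      rintro ⟨y, hy⟩ -
      have h1 : Y ≤ W'.map Y.subtype := by
        refine iSup_le fun q => ?_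
        rintro _ ⟨w, hw, rfl⟩
        have h2 : (⟨w, hUY hw⟩ : Y) ∈ W' := hWW' hw
        exact ⟨_, hW' ⟨q, Subgroup.mem_top q⟩ _ h2, rfl⟩
      obtain ⟨z, hz, hzy⟩ := h1 hy
      have h3 : z = ⟨y, hy⟩ := Subtype.ext hzy
      rw [← h3]
      exact hz)
  rwa [hsub, ← Subgroup.subgroupOf_self, unoff_subHom_iff φ ⊤ Y hYinv' le_rfl le_top] at key

end Cfsg.Agent.PLocal.S4FreeClosure
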