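import Mathlib
import Cfsg.Agent.PLocal.S4FreeClosure

set_option autoImplicit false

/-!
# Weak flags and good submodules (S0665)

`Flag φ B U E`: the `2`-group `B` acts on `U` as a weak flag with middle term `E`. `Good φ T U`: `U` is
`T`-unoffended and no subgroup of `T` acts on `U` as a weak flag. Restriction (`Flag.le_cn`), joins
(`Good.sup`), the largest good subgroup `wgd φ T`, morphisms of pairs (conjugation, subgroups and submodules,
quotients of the acting group).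
-/

namespace Cfsg.Agent.PLocal.S4FreeFlag

open Cfsg Cfsg.Agent.Lib
open Cfsg.Agent.PLocal.SFourBasic Cfsg.Agent.PLocal.SFourOffender
open Cfsg.Agent.PLocal.S4FreeClosureBasic

universe u v u' v'

section defs

variable {H : Type u} [Group H] {V : Type v} [CommGroup V]

/-- `[U, B]`. -/
def cr (φ : H →* MulAut V) (B : Subgroup H) (U : Subgroup V) : Subgroup V :=
  Subgroup.closure {w | ∃ b ∈ B, ∃ u ∈ U, φ b u * u⁻¹ = w}

theorem mem_cr {φ : H →* MulAut V} {B : Subgroup H} {U : Subgroup V} {b : H} (hb : b ∈ B) {u : V}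
    (hu : u ∈ U) : φ b u * u⁻¹ ∈ cr φ B U := Subgroup.subset_closure ⟨b, hb, u, hu, rfl⟩

theorem cr_le {φ : H →* MulAut V} {B : Subgroup H} {U W : Subgroup V} :
    cr φ B U ≤ W ↔ ∀ b ∈ B, ∀ u ∈ U, φ b u * u⁻¹ ∈ W := by
  constructor
  · intro h b hb u hu
    exact h (mem_cr hb hu)
  · intro h
    refine (Subgroup.closure_le _).2 ?_
    rintro _ ⟨b, hb, u, hu, rfl⟩
    exact h b hb u hu

theorem cr_mono (φ : H →* MulAut V) (B : Subgroup H) {U W : Subgroup V} (h : U ≤ W) :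
    cr φ B U ≤ cr φ B W := cr_le.2 fun _ hb _ hu => mem_cr hb (h hu)

/-- `{e ∈ E | [e, B] ≤ L}`. -/
def rd (φ : H →* MulAut V) (B : Subgroup H) (E L : Subgroup V) : Subgroup V where
  carrier := {e | e ∈ E ∧ ∀ b ∈ B, φ b e * e⁻¹ ∈ L}
  one_mem' := ⟨E.one_mem, fun b _ => by rw [map_one, inv_one, mul_one]; exact L.one_mem⟩
  mul_mem' := fun {x y} hx hy => ⟨E.mul_mem hx.1 hy.1, fun b hb => by
    rw [map_mul, mul_inv, mul_mul_mul_comm]
    exact L.mul_mem (hx.2 b hb) (hy.2 b hb)⟩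
  inv_mem' := fun {x} hx => ⟨E.inv_mem hx.1, fun b hb => by
    rw [map_inv, ← mul_inv]
    exact L.inv_mem (hx.2 b hb)⟩

theorem mem_rd {φ : H →* MulAut V} {B : Subgroup H} {E L : Subgroup V} {e : V} :
    e ∈ rd φ B E L ↔ e ∈ E ∧ ∀ b ∈ B, φ b e * e⁻¹ ∈ L := Iff.rfl

theorem rd_le (φ : H →* MulAut V) (B : Subgroup H) (E L : Subgroup V) : rd φ B E L ≤ E :=
  fun _ h => h.1

/-- `B` acts on `U` as a weak flag with middle term `E`. -/
structure Flag (φ : H →* MulAut V) (B : Subgroup H) (U E : Subgroup V) : Prop where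
  inv : Inv φ B U
  le : E ≤ U
  ne : E ≠ U
  fx_le : U ⊓ fx φ B ≤ E
  comm : ∀ b ∈ B, ∀ u ∈ U, φ b u * u⁻¹ ∈ E
  comm' : ∀ b ∈ B, ∀ e ∈ E, φ b e * e⁻¹ ∈ fx φ B
  inj : ∀ u ∈ U, u ∉ E → ∀ b ∈ B, φ b u * u⁻¹ ∈ fx φ B → b ∈ cn φ U
  surj : ∀ u ∈ U, u ∉ E → ∀ e ∈ E, ∃ b ∈ B, (φ b u * u⁻¹) * e⁻¹ ∈ fx φ B
  unoff : ∀ W ≤ E, Unoff φ B W → W ≤ fx φ B
  index : ∀ L : Subgroup V, L.relIndex (cr φ B E) = 2 →
    2 * (E.relIndex U * E.relIndex U) ≤ (rd φ B E L).relIndex E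

/-- `U` is `T`-good. -/
structure Good (φ : H →* MulAut V) (T : Subgroup H) (U : Subgroup V) : Prop where
  unoff : Unoff φ T U
  noflag : ∀ B ≤ T, ∀ E : Subgroup V, ¬ Flag φ B U E

theorem Good.mono {φ : H →* MulAut V} {S T : Subgroup H} {U : Subgroup V} (h : Good φ T U)
    (hST : S ≤ T) : Good φ S U :=
  ⟨h.unoff.mono hST, fun B hB => h.noflag B (hB.trans hST)⟩

theorem Flag.exists_not_mem {φ : H →* MulAut V} {B : Subgroup H} {U E : Subgroup V}
    (h : Flag φ B U E) : ∃ u ∈ U, u ∉ E := by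
  by_contra hcon
  push Not at hcon
  exact h.ne (le_antisymm h.le hcon)

theorem Flag.not_le_cn {φ : H →* MulAut V} {B : Subgroup H} {U E : Subgroup V}
    (h : Flag φ B U E) : ¬ B ≤ cn φ U := by
  intro h1
  apply h.ne
  exact le_antisymm h.le ((le_inf le_rfl (le_fx_iff.2 h1)).trans h.fx_le)

theorem Flag.inv' {φ : H →* MulAut V} {B : Subgroup H} {U E : Subgroup V}
    (h : Flag φ B U E) : Inv φ B E := by
  intro b hb e he
  have h1 := E.mul_mem (h.comm b hb e (h.le he)) he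
  rwa [inv_mul_cancel_right] at h1

/-- Restriction of a flag to a submodule which is not contained in the middle term. -/
theorem Flag.restrict [Finite V] {φ : H →* MulAut V} {B : Subgroup H} {U E W : Subgroup V}
    (h : Flag φ B U E) (hWU : W ≤ U) (hW : Inv φ B W) (hWE : ¬ W ≤ E) : Flag φ B W (W ⊓ E) := by
  have hcr : cr φ B (W ⊓ E) = cr φ B E := by
    apply le_antisymm (cr_mono φ B inf_le_right)
    rw [cr_le]
    intro b' hb' e he
    obtain ⟨w, hw, hwE⟩ := SetLike.not_le_iff_exists.1 hWE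
    obtain ⟨b, hb, hbe⟩ := h.surj w (hWU hw) hwE e he
    set c := φ b w * w⁻¹ with hc
    have hcW : c ∈ W ⊓ E := ⟨W.mul_mem (hW b hb w hw) (W.inv_mem hw), h.comm b hb w (hWU hw)⟩
    have h2 : φ b' (c * e⁻¹) = c * e⁻¹ := hbe b' hb'
    have h3 : φ b' e * e⁻¹ = φ b' c * c⁻¹ := by
      have h4 : φ b' e = φ b' c * c⁻¹ * e := by
        have h5 : e = (c * e⁻¹)⁻¹ * c := by group
        conv_lhs => rw [h5]
        rw [map_mul, map_inv, h2, mul_inv_rev, inv_inv, mul_comm e c⁻¹, mul_right_comm,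
          mul_comm (φ b' c) c⁻¹, mul_right_comm]
      rw [h4, mul_inv_cancel_right]
    rw [h3]
    exact mem_cr hb' hcW
  refine ⟨hW, inf_le_left, fun h1 => hWE (inf_eq_left.1 h1), ?_, ?_, ?_, ?_, ?_, ?_, ?_⟩
  · exact le_inf inf_le_left ((inf_le_inf_right _ hWU).trans h.fx_le)
  · intro b hb w hw
    exact ⟨W.mul_mem (hW b hb w hw) (W.inv_mem hw), h.comm b hb w (hWU hw)⟩
  · intro b hb e he
    exact h.comm' b hb e he.2
  · intro w hw hwE b hb hbw
    exact cn_anti φ hWU (h.inj w (hWU hw) (fun h1 => hwE ⟨hw, h1⟩) b hb hbw)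
  · intro w hw hwE e he
    exact h.surj w (hWU hw) (fun h1 => hwE ⟨hw, h1⟩) e he.2
  · intro W' hW' hun
    exact h.unoff W' (hW'.trans inf_le_right) hun
  · intro L hL
    rw [hcr] at hL
    have h1 := h.index L hL
    have h2 : (W ⊓ E).relIndex W ≤ E.relIndex U := by
      rw [inf_comm, Subgroup.inf_relIndex_right]
      exact Subgroup.relIndex_le_of_le_right hWU (Subgroup.index_ne_zero_of_finite)
    have h3 : (rd φ B (W ⊓ E) L).relIndex (W ⊓ E) = (rd φ B E L).relIndex E := by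
      have h4 : rd φ B (W ⊓ E) L = rd φ B E L ⊓ (W ⊓ E) := by
        ext e
        constructor
        · rintro ⟨he, he'⟩
          exact ⟨⟨he.2, he'⟩, he⟩
        · rintro ⟨he, he'⟩
          exact ⟨he', he.2⟩
      have h5 : E ≤ (W ⊓ E) ⊔ rd φ B E L := by
        intro e he
        obtain ⟨w, hw, hwE⟩ := SetLike.not_le_iff_exists.1 hWE
        obtain ⟨b, hb, hbe⟩ := h.surj w (hWU hw) hwE e he
        set c := φ b w * w⁻¹ with hc
        have hcW : c ∈ W ⊓ E := ⟨W.mul_mem (hW b hb w hw) (W.inv_mem hw), h.comm b hb w (hWU hw)⟩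
        have h6 : c⁻¹ * e ∈ rd φ B E L := by
          refine ⟨E.mul_mem (E.inv_mem hcW.2) he, fun b' hb' => ?_⟩
          have h7 : c⁻¹ * e ∈ fx φ B := by
            have := (fx φ B).inv_mem hbe
            rwa [mul_inv_rev, inv_inv, mul_comm] at this
          rw [h7 b' hb', mul_inv_cancel]
          exact L.one_mem
        have h8 := Subgroup.mul_mem_sup hcW h6
        rwa [mul_inv_cancel_left] at h8
      have h6 : (W ⊓ E) ⊔ rd φ B E L = E := le_antisymm (sup_le inf_le_right (rd_le φ B E L)) h5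
      have h7 : (rd φ B E L).relIndex ((W ⊓ E) ⊔ rd φ B E L) = (rd φ B E L).relIndex (W ⊓ E) :=
        Subgroup.relIndex_sup_right _ _
      rw [h4, Subgroup.inf_relIndex_right, ← h7, h6]
    rw [h3]
    exact (Nat.mul_le_mul_left 2 (Nat.mul_le_mul h2 h2)).trans h1

/-- **(R)** A flag on `U` centralises the good submodules of `U`. -/
theorem Flag.le_cn [Finite V] {φ : H →* MulAut V} {B : Subgroup H} {U E W : Subgroup V}
    (h : Flag φ B U E) (hWU : W ≤ U) (hW : Good φ B W) : B ≤ cn φ W := by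
  by_cases hWE : W ≤ E
  · exact le_fx_iff.1 (h.unoff W hWE hW.unoff)
  · exact absurd (h.restrict hWU hW.unoff.inv hWE) (hW.noflag B le_rfl _)

/-- Joins of good subgroups are good. -/
theorem Good.sup [Finite H] [Finite V] {φ : H →* MulAut V} (hexp : ∀ v : V, v * v = 1)
    {T : Subgroup H} (hT : IsPGroup 2 T) {U W : Subgroup V} (hU : Good φ T U)
    (hW : Good φ T W) : Good φ T (U ⊔ W) := by
  refine ⟨Unoff.sup hexp hT hU.unoff hW.unoff, fun B hB E h => ?_⟩
  apply h.not_le_cn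
  rw [cn_sup]
  exact le_inf (h.le_cn le_sup_left (hU.mono hB)) (h.le_cn le_sup_right (hW.mono hB))

theorem good_bot (φ : H →* MulAut V) (T : Subgroup H) : Good φ T ⊥ :=
  ⟨unoff_bot φ T, fun _ _ _ h => h.ne (le_antisymm h.le bot_le)⟩

/-- The largest good subgroup. -/
def wgd (φ : H →* MulAut V) (T : Subgroup H) : Subgroup V := sSup {U | Good φ T U}

theorem le_wgd {φ : H →* MulAut V} {T : Subgroup H} {U : Subgroup V} (hU : Good φ T U) :
    U ≤ wgd φ T := le_sSup hU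

theorem good_wgd [Finite H] [Finite V] {φ : H →* MulAut V} (hexp : ∀ v : V, v * v = 1)
    {T : Subgroup H} (hT : IsPGroup 2 T) : Good φ T (wgd φ T) := by
  classical
  let S : Set (Subgroup V) := {U | Good φ T U}
  obtain ⟨W, hW⟩ := S.toFinite.exists_maximal ⟨⊥, good_bot φ T⟩
  have h1 : wgd φ T = W := by
    apply le_antisymm
    · refine sSup_le fun U hU => ?_
      have h2 : U ⊔ W ∈ S := Good.sup hexp hT hU hW.prop
      exact le_sup_left.trans (hW.le_of_ge h2 le_sup_right)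
    · exact le_wgd hW.prop
  rw [h1]
  exact hW.prop

/-- A subgroup with trivial action is good. -/
theorem good_of_le_cn {φ : H →* MulAut V} {T : Subgroup H} {U : Subgroup V} (h : T ≤ cn φ U) :
    Good φ T U := by
  refine ⟨⟨fun t ht u hu => ?_, fun A hA _ _ => hA.trans h⟩, fun B hB E hE =>
    hE.not_le_cn (hB.trans h)⟩
  rw [h ht u hu]
  exact hu

end defs

section mor

variable {H : Type u} [Group H] {V : Type v} [CommGroup V]
  {H' : Type u'} [Group H'] {V' : Type v'} [CommGroup V']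

/-- A morphism of pairs (group, module), injective on modules. -/
structure Mor (φ' : H' →* MulAut V') (φ : H →* MulAut V) (π : H' →* H) (f : V' →* V) : Prop where
  inj : Function.Injective f
  eqv : ∀ h v, f (φ' h v) = φ (π h) (f v)

namespace Mor

variable {φ' : H' →* MulAut V'} {φ : H →* MulAut V} {π : H' →* H} {f : V' →* V}

theorem mem_map (m : Mor φ' φ π f) {U' : Subgroup V'} {v : V'} : f v ∈ U'.map f ↔ v ∈ U' :=
  Subgroup.mem_map_iff_mem m.inj

theorem comm_eq (m : Mor φ' φ π f) (h : H') (v : V') :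
    f (φ' h v * v⁻¹) = φ (π h) (f v) * (f v)⁻¹ := by
  rw [map_mul, map_inv, m.eqv]

theorem cn_eq (m : Mor φ' φ π f) (U' : Subgroup V') : cn φ' U' = (cn φ (U'.map f)).comap π := by
  ext h
  rw [Subgroup.mem_comap]
  constructor
  · rintro hh _ ⟨u, hu, rfl⟩
    rw [← m.eqv, hh u hu]
  · intro hh u hu
    apply m.inj
    rw [m.eqv]
    exact hh _ ⟨u, hu, rfl⟩

theorem mem_fx_iff (m : Mor φ' φ π f) {A' : Subgroup H'} {v : V'} :
    f v ∈ fx φ (A'.map π) ↔ v ∈ fx φ' A' := by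
  constructor
  · intro h a ha
    apply m.inj
    rw [m.eqv]
    exact h _ ⟨a, ha, rfl⟩
  · rintro h _ ⟨a, ha, rfl⟩
    rw [← m.eqv, h a ha]

theorem inf_fx (m : Mor φ' φ π f) (U' : Subgroup V') (A' : Subgroup H') :
    (U' ⊓ fx φ' A').map f = U'.map f ⊓ fx φ (A'.map π) := by
  ext v
  constructor
  · rintro ⟨u, ⟨hu, hu'⟩, rfl⟩
    exact ⟨⟨u, hu, rfl⟩, m.mem_fx_iff.2 hu'⟩
  · rintro ⟨⟨u, hu, rfl⟩, hu'⟩
    exact ⟨u, ⟨hu, m.mem_fx_iff.1 hu'⟩, rfl⟩

theorem ms_eq (m : Mor φ' φ π f) (U' : Subgroup V') (A' : Subgroup H') :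
    ms φ' U' A' = ms φ (U'.map f) (A'.map π) := by
  unfold ms
  rw [m.cn_eq, Subgroup.relIndex_comap, ← m.inf_fx, Subgroup.card_map_of_injective m.inj]

theorem inv_iff (m : Mor φ' φ π f) {A' : Subgroup H'} {U' : Subgroup V'} :
    Inv φ' A' U' ↔ Inv φ (A'.map π) (U'.map f) := by
  constructor
  · rintro h _ ⟨a, ha, rfl⟩ _ ⟨u, hu, rfl⟩
    rw [← m.eqv]
    exact ⟨_, h a ha u hu, rfl⟩
  · intro h a ha u hu
    rw [← m.mem_map, m.eqv]
    exact h _ ⟨a, ha, rfl⟩ _ ⟨u, hu, rfl⟩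

theorem abOn_iff (m : Mor φ' φ π f) {A' : Subgroup H'} {U' : Subgroup V'} :
    AbOn φ' A' U' ↔ AbOn φ (A'.map π) (U'.map f) := by
  constructor
  · rintro h _ ⟨a, ha, rfl⟩ _ ⟨b, hb, rfl⟩ _ ⟨u, hu, rfl⟩
    rw [← m.eqv, ← m.eqv, ← m.eqv, ← m.eqv, h a ha b hb u hu]
  · intro h a ha b hb u hu
    apply m.inj
    rw [m.eqv, m.eqv, m.eqv, m.eqv]
    exact h _ ⟨a, ha, rfl⟩ _ ⟨b, hb, rfl⟩ _ ⟨u, hu, rfl⟩

theorem unoff_iff (m : Mor φ' φ π f) {T' : Subgroup H'} {U' : Subgroup V'} :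
    Unoff φ' T' U' ↔ Unoff φ (T'.map π) (U'.map f) := by
  constructor
  · intro h
    refine ⟨m.inv_iff.1 h.inv, ?_⟩
    intro A hA hab hle
    have h1 : (T' ⊓ A.comap π).map π = A := by
      ext a
      constructor
      · rintro ⟨b, ⟨_, hb⟩, rfl⟩
        exact hb
      · intro ha
        obtain ⟨t, ht, rfl⟩ := hA ha
        exact ⟨t, ⟨ht, ha⟩, rfl⟩
    rw [← h1] at hab hle ⊢
    rw [Subgroup.card_map_of_injective m.inj, ← m.ms_eq] at hle
    have h2 := h.off _ inf_le_left (m.abOn_iff.2 hab) hle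
    rw [m.cn_eq, ← Subgroup.map_le_iff_le_comap] at h2
    exact h2
  · intro h
    refine ⟨m.inv_iff.2 h.inv, fun A' hA' hab hle => ?_⟩
    rw [m.cn_eq, ← Subgroup.map_le_iff_le_comap]
    refine h.off _ (Subgroup.map_mono hA') (m.abOn_iff.1 hab) ?_
    rw [Subgroup.card_map_of_injective m.inj, ← m.ms_eq]
    exact hle

theorem cr_eq (m : Mor φ' φ π f) (B' : Subgroup H') (E' : Subgroup V') :
    cr φ (B'.map π) (E'.map f) = (cr φ' B' E').map f := by
  apply le_antisymm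
  · rw [cr_le]
    rintro _ ⟨b, hb, rfl⟩ _ ⟨e, he, rfl⟩
    rw [← m.comm_eq]
    exact ⟨_, mem_cr hb he, rfl⟩
  · rw [Subgroup.map_le_iff_le_comap, cr_le]
    intro b hb e he
    rw [Subgroup.mem_comap, m.comm_eq]
    exact mem_cr (Subgroup.mem_map_of_mem π hb) (Subgroup.mem_map_of_mem f he)

theorem rd_eq (m : Mor φ' φ π f) (B' : Subgroup H') (E' : Subgroup V') (L : Subgroup V) :
    rd φ (B'.map π) (E'.map f) L = (rd φ' B' E' (L.comap f)).map f := by
  ext e
  constructor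
  · rintro ⟨⟨e, he, rfl⟩, he'⟩
    refine ⟨e, mem_rd.2 ⟨he, fun b hb => ?_⟩, rfl⟩
    rw [Subgroup.mem_comap, m.comm_eq]
    exact he' _ ⟨b, hb, rfl⟩
  · rintro ⟨e, ⟨he, he'⟩, rfl⟩
    refine ⟨⟨e, he, rfl⟩, ?_⟩
    rintro _ ⟨b, hb, rfl⟩
    rw [← m.comm_eq]
    exact he' b hb

theorem relIndex_eq (m : Mor φ' φ π f) (E' U' : Subgroup V') :
    (E'.map f).relIndex (U'.map f) = E'.relIndex U' :=
  Subgroup.relIndex_map_map_of_injective _ _ m.inj

theorem map_comap (_m : Mor φ' φ π f) {E' : Subgroup V'} {W : Subgroup V} (hW : W ≤ E'.map f) :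
    (W.comap f).map f = W := by
  apply le_antisymm (Subgroup.map_comap_le f W)
  intro w hw
  obtain ⟨e, _, rfl⟩ := hW hw
  exact ⟨e, hw, rfl⟩

theorem flag_iff (m : Mor φ' φ π f) {B' : Subgroup H'} {U' E' : Subgroup V'} :
    Flag φ' B' U' E' ↔ Flag φ (B'.map π) (U'.map f) (E'.map f) := by
  have hfx : ∀ {W W' : Subgroup V'}, (W ⊓ fx φ' B' ≤ W' ↔
      W.map f ⊓ fx φ (B'.map π) ≤ W'.map f) := by
    intro W W'
    rw [← m.inf_fx, Subgroup.map_le_map_iff_of_injective m.inj]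
  constructor
  · intro h
    refine ⟨m.inv_iff.1 h.inv, Subgroup.map_mono h.le, ?_, hfx.1 h.fx_le, ?_, ?_, ?_, ?_, ?_, ?_⟩
    · intro h1
      exact h.ne (Subgroup.map_injective m.inj h1)
    · rintro _ ⟨b, hb, rfl⟩ _ ⟨u, hu, rfl⟩
      rw [← m.comm_eq]
      exact ⟨_, h.comm b hb u hu, rfl⟩
    · rintro _ ⟨b, hb, rfl⟩ _ ⟨e, he, rfl⟩
      rw [← m.comm_eq, m.mem_fx_iff]
      exact h.comm' b hb e he
    · rintro _ ⟨u, hu, rfl⟩ huE _ ⟨b, hb, rfl⟩ hbu
      rw [← m.comm_eq, m.mem_fx_iff] at hbu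
      rw [m.mem_map] at huE
      have := h.inj u hu huE b hb hbu
      rwa [m.cn_eq] at this
    · rintro _ ⟨u, hu, rfl⟩ huE _ ⟨e, he, rfl⟩
      rw [m.mem_map] at huE
      obtain ⟨b, hb, hbe⟩ := h.surj u hu huE e he
      refine ⟨π b, ⟨b, hb, rfl⟩, ?_⟩
      rw [← m.comm_eq, ← map_inv, ← map_mul, m.mem_fx_iff]
      exact hbe
    · intro W hW hun w hw
      have h1 := m.map_comap hW
      rw [← h1] at hun hW hw
      rw [← m.unoff_iff] at hun
      rw [Subgroup.map_le_map_iff_of_injective m.inj] at hW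
      obtain ⟨w, hw, rfl⟩ := hw
      exact m.mem_fx_iff.2 (h.unoff _ hW hun hw)
    · intro L hL
      rw [m.cr_eq, ← Subgroup.relIndex_comap] at hL
      rw [m.rd_eq, m.relIndex_eq, m.relIndex_eq]
      exact h.index _ hL
  · intro h
    refine ⟨m.inv_iff.2 h.inv, (Subgroup.map_le_map_iff_of_injective m.inj).1 h.le, ?_,
      hfx.2 h.fx_le, ?_, ?_, ?_, ?_, ?_, ?_⟩
    · intro h1
      exact h.ne (by rw [h1])
    · intro b hb u hu
      have := h.comm _ ⟨b, hb, rfl⟩ _ ⟨u, hu, rfl⟩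
      rwa [← m.comm_eq, m.mem_map] at this
    · intro b hb e he
      have := h.comm' _ ⟨b, hb, rfl⟩ _ ⟨e, he, rfl⟩
      rwa [← m.comm_eq, m.mem_fx_iff] at this
    · intro u hu huE b hb hbu
      rw [m.cn_eq]
      refine h.inj _ ⟨u, hu, rfl⟩ (fun h1 => huE (m.mem_map.1 h1)) _ ⟨b, hb, rfl⟩ ?_
      rw [← m.comm_eq, m.mem_fx_iff]
      exact hbu
    · intro u hu huE e he
      obtain ⟨_, ⟨b, hb, rfl⟩, hbe⟩ := h.surj _ ⟨u, hu, rfl⟩ (fun h1 => huE (m.mem_map.1 h1)) _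
        ⟨e, he, rfl⟩
      refine ⟨b, hb, ?_⟩
      rwa [← m.comm_eq, ← map_inv, ← map_mul, m.mem_fx_iff] at hbe
    · intro W hW hun w hw
      rw [← m.mem_fx_iff]
      exact h.unoff _ (Subgroup.map_mono hW) (m.unoff_iff.1 hun) ⟨w, hw, rfl⟩
    · intro L hL
      have hL' : (L.map f).comap f = L := Subgroup.comap_map_eq_self_of_injective m.inj L
      have h1 := h.index (L.map f) (by
        rw [m.cr_eq, ← Subgroup.relIndex_comap, hL']
        exact hL)
      rwa [m.rd_eq, m.relIndex_eq, m.relIndex_eq, hL'] at h1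

theorem good_iff (m : Mor φ' φ π f) {T' : Subgroup H'} {U' : Subgroup V'} :
    Good φ' T' U' ↔ Good φ (T'.map π) (U'.map f) := by
  constructor
  · intro h
    refine ⟨m.unoff_iff.1 h.unoff, fun B hB E hE => ?_⟩
    have h1 : (T' ⊓ B.comap π).map π = B := by
      ext a
      constructor
      · rintro ⟨b, ⟨_, hb⟩, rfl⟩
        exact hb
      · intro ha
        obtain ⟨t, ht, rfl⟩ := hB ha
        exact ⟨t, ⟨ht, ha⟩, rfl⟩
    rw [← h1, ← m.map_comap hE.le, ← m.flag_iff] at hE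
    exact h.noflag _ inf_le_left _ hE
  · intro h
    exact ⟨m.unoff_iff.2 h.unoff, fun B hB E hE =>
      h.noflag _ (Subgroup.map_mono hB) _ (m.flag_iff.1 hE)⟩

end Mor

/-- Conjugation. -/
theorem mor_conj (φ : H →* MulAut V) (x : H) :
    Mor φ φ (MulAut.conj x).toMonoidHom (φ x).toMonoidHom :=
  ⟨(φ x).injective, fun h v => by
    show φ x (φ h v) = φ (x * h * x⁻¹) (φ x v)
    simp only [map_mul, MulAut.mul_apply, inv_apply_cancel]⟩

theorem Flag.cj {φ : H →* MulAut V} {B : Subgroup H} {U E : Subgroup V} (h : Flag φ B U E)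
    (x : H) : Flag φ (S4FreeClosureBasic.cj x B) (im φ x U) (im φ x E) :=
  (mor_conj φ x).flag_iff.1 h

theorem Good.cj {φ : H →* MulAut V} {T : Subgroup H} {U : Subgroup V} (h : Good φ T U)
    (x : H) : Good φ (S4FreeClosureBasic.cj x T) (im φ x U) :=
  (mor_conj φ x).good_iff.1 h

theorem im_top (φ : H →* MulAut V) (x : H) : im φ x ⊤ = ⊤ :=
  Subgroup.map_top_of_surjective _ (φ x).surjective

/-- Restriction of the group and the module. -/
theorem mor_sub (φ : H →* MulAut V) (P : Subgroup H) (Y : Subgroup V)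
    (hY : ∀ x : P, ∀ w ∈ Y, (φ.comp P.subtype) x w ∈ Y) :
    Mor (subHom (φ.comp P.subtype) Y hY) φ P.subtype Y.subtype :=
  ⟨Y.subtype_injective, fun _ _ => rfl⟩

theorem good_sub_iff (φ : H →* MulAut V) (P : Subgroup H) (Y : Subgroup V)
    (hY : ∀ x : P, ∀ w ∈ Y, (φ.comp P.subtype) x w ∈ Y) {U : Subgroup V} (hUY : U ≤ Y)
    {T : Subgroup H} (hTP : T ≤ P) :
    Good (subHom (φ.comp P.subtype) Y hY) (T.subgroupOf P) (U.subgroupOf Y) ↔ Good φ T U := by
  rw [(mor_sub φ P Y hY).good_iff, Subgroup.subgroupOf_map_subtype,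
    Subgroup.subgroupOf_map_subtype, inf_eq_left.2 hUY, inf_eq_left.2 hTP]

/-- Change of the acting group. -/
theorem mor_map {φ : H →* MulAut V} {φ' : H' →* MulAut V} (π : H' →* H)
    (hφ : ∀ h, φ (π h) = φ' h) : Mor φ' φ π (MonoidHom.id V) :=
  ⟨Function.injective_id, fun h v => by rw [hφ]; rfl⟩

theorem good_map_iff {φ : H →* MulAut V} {φ' : H' →* MulAut V} (π : H' →* H)
    (hφ : ∀ h, φ (π h) = φ' h) (T : Subgroup H') (U : Subgroup V) :
    Good φ' T U ↔ Good φ (T.map π) U := by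
  rw [(mor_map π hφ).good_iff, Subgroup.map_id]

theorem im_wgd_le [Finite H] [Finite V] {φ : H →* MulAut V} (hexp : ∀ v : V, v * v = 1)
    {T : Subgroup H} (hT : IsPGroup 2 T) {x : H} (hx : cj x T = T) :
    im φ x (wgd φ T) ≤ wgd φ T := by
  have h := (good_wgd (φ := φ) hexp hT).cj x
  rw [hx] at h
  exact le_wgd h

end mor

/-- The input of the final stage of the second closure theorem: `V` is a counterexample, `M` the unique
maximal subgroup over `T`, `B ≤ T` acts on `V` as a weak flag with middle term `E`, `Z` is `M`-invariant,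
centralised by `B`, and generates `V`. -/
structure FS {H : Type u} [Group H] {V : Type v} [CommGroup V] (φ : H →* MulAut V) (T : Sylow 2 H)
    (M B : Subgroup H) (E Z : Subgroup V) : Prop where
  exp : ∀ v : V, v * v = 1
  inj : Function.Injective φ
  noS3 : NoS3 φ
  le : B ≤ (T : Subgroup H)
  leM : (T : Subgroup H) ≤ M
  ne : M ≠ ⊤
  max : ∀ X : Subgroup H, (T : Subgroup H) ≤ X → X ≠ ⊤ → X ≤ M
  gen : ∀ x : H, x ∉ M → B ⊔ cj x B = ⊤
  uniq : ∀ (x : H) (X : Subgroup H), cj x B ≤ X → X ≠ ⊤ → X ≤ cj x M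
  flag : Flag φ B ⊤ E
  inv : Inv φ M Z
  fx_le : fx φ ⊤ ≤ Z
  le_fx : Z ≤ fx φ B
  span : (⨆ x : H, im φ x Z) = ⊤

end Cfsg.Agent.PLocal.S4FreeFlag
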