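import Mathlib
import Cfsg.Agent.PLocal.S4ConMin
import Cfsg.Agent.PLocal.S4FreeFlag
import Cfsg.Agent.PLocal.S4FreeNoS3

set_option autoImplicit false

/-!
# Good subgroups of a group: the instance of `GdAx`
-/

namespace Cfsg.Agent.PLocal.S4ConInst

open Cfsg Cfsg.Agent.Lib Cfsg.Agent.Lib.Cores
open Cfsg.Agent.PLocal.SFourBasic Cfsg.Agent.PLocal.SFourOffender
open Cfsg.Agent.PLocal.S4FreeClosureBasic
open Cfsg.Agent.PLocal.S4FreeFlag (Good Flag Mor good_map_iff good_of_le_cn)
open Cfsg.Agent.PLocal.S4FreeSection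
open Cfsg.Agent.PLocal.S4ConGroup

universe u v

/-- `U` is a good subgroup of `G` for `T`. -/
def Gd (G : Type u) [Group G] (T U : Subgroup G) : Prop :=
  ∃ (V : Type u) (_ : CommGroup V) (φ : T →* MulAut V) (j : V →* G), Function.Injective j ∧
    j.range = U ∧ (∀ v : V, v * v = 1) ∧
    (∀ (t : T) (v : V), j (φ t v) = (t : G) * j v * (t : G)⁻¹) ∧ Good φ ⊤ ⊤

/-- The conjugation action on an elementary abelian subgroup. -/
theorem exists_rep {G : Type u} [Group G] {H : Type v} [Group H] (Y : Subgroup G)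
    (hexp : ∀ y ∈ Y, y * y = 1) (ι : H →* G) (h : ∀ x, ∀ y ∈ Y, ι x * y * (ι x)⁻¹ ∈ Y) :
    ∃ (V : Type u) (_ : CommGroup V) (φ : H →* MulAut V) (j : V →* G), Function.Injective j ∧
      j.range = Y ∧ (∀ v : V, v * v = 1) ∧
      ∀ (x : H) (v : V), j (φ x v) = ι x * j v * (ι x)⁻¹ := by
  let I : CommGroup Y := { (inferInstance : Group Y) with
    mul_comm := fun a b => Subtype.ext (comm_of_exp hexp a a.2 b b.2) }
  let φ : H →* MulAut Y :=
    { toFun := fun x =>
        { toFun := fun y => ⟨ι x * y * (ι x)⁻¹, h x y y.2⟩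
          invFun := fun y => ⟨ι x⁻¹ * y * (ι x⁻¹)⁻¹, h x⁻¹ y y.2⟩
          left_inv := fun y => Subtype.ext (by
            show ι x⁻¹ * (ι x * y * (ι x)⁻¹) * (ι x⁻¹)⁻¹ = y
            rw [map_inv]
            group)
          right_inv := fun y => Subtype.ext (by
            show ι x * (ι x⁻¹ * y * (ι x⁻¹)⁻¹) * (ι x)⁻¹ = y
            rw [map_inv]
            group)
          map_mul' := fun y z => Subtype.ext (by
            show ι x * (y * z) * (ι x)⁻¹ = (ι x * y * (ι x)⁻¹) * (ι x * z * (ι x)⁻¹)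
            group) }
      map_one' := by
        ext y
        show ι 1 * (y : G) * (ι 1)⁻¹ = y
        rw [map_one, one_mul, inv_one, mul_one]
      map_mul' := fun a b => by
        ext y
        show ι (a * b) * (y : G) * (ι (a * b))⁻¹ = ι a * (ι b * y * (ι b)⁻¹) * (ι a)⁻¹
        rw [map_mul]
        group }
  exact ⟨Y, I, φ, Y.subtype, Y.subtype_injective, Subgroup.range_subtype Y,
    fun v => Subtype.ext (hexp v v.2), fun x v => rfl⟩

theorem relIndex_mul_card' {G : Type u} [Group G] {H K : Subgroup G} (h : H ≤ K) :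
    H.relIndex K * Nat.card H = Nat.card K := by
  have h1 := (H.subgroupOf K).index_mul_card
  rwa [Nat.card_congr (Subgroup.subgroupOfEquivOfLe h).toEquiv] at h1

theorem finite_of {G : Type u} [Group G] [Finite G] {V : Type u} [CommGroup V] {j : V →* G}
    (hj : Function.Injective j) : Finite V := Finite.of_injective j hj

/-- A good subgroup is good in every representation. -/
theorem Gd.good {G : Type u} [Group G] {T U : Subgroup G} (h : Gd G T U) {H : Type v} [Group H]
    {V : Type u} [CommGroup V] (φ : H →* MulAut V) (j : V →* G) (hj : Function.Injective j)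
    (hU : U ≤ j.range) (π : T →* H) (hπ : ∀ (t : T) (v : V), j (φ (π t) v) = t * j v * (t : G)⁻¹) :
    Good φ π.range (U.comap j) := by
  obtain ⟨V₁, I₁, φ₁, j₁, hj₁, hr₁, -, he₁, hg⟩ := h
  let e : V ≃* j.range := MonoidHom.ofInjective hj
  have hmem : ∀ v : V₁, j₁ v ∈ j.range := fun v => hU (hr₁ ▸ ⟨v, rfl⟩)
  let f : V₁ →* V := e.symm.toMonoidHom.comp (j₁.codRestrict j.range hmem)
  have hjf : ∀ v, j (f v) = j₁ v := by
    intro v
    have h1 : e (f v) = ⟨j₁ v, hmem v⟩ := e.apply_symm_apply _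
    exact congrArg Subtype.val h1
  have m : Mor φ₁ φ π f := by
    refine ⟨fun a b hab => hj₁ ?_, fun t v => hj ?_⟩
    · rw [← hjf, ← hjf, hab]
    · rw [hjf, he₁, hπ, hjf]
  have h1 := m.good_iff.1 hg
  rw [← MonoidHom.range_eq_map, ← MonoidHom.range_eq_map] at h1
  convert h1 using 1
  ext v
  rw [Subgroup.mem_comap]
  constructor
  · intro hv
    rw [← hr₁] at hv
    obtain ⟨w, hw⟩ := hv
    exact ⟨w, hj (by rw [hjf, hw])⟩
  · rintro ⟨w, rfl⟩
    rw [hjf, ← hr₁]
    exact ⟨w, rfl⟩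

/-- Conversely. -/
theorem Gd.of_good {G : Type u} [Group G] {T : Subgroup G} {H : Type v} [Group H]
    {V : Type u} [CommGroup V] (hexp : ∀ v : V, v * v = 1) (φ : H →* MulAut V) (j : V →* G)
    (hj : Function.Injective j) (π : T →* H)
    (hπ : ∀ (t : T) (v : V), j (φ (π t) v) = t * j v * (t : G)⁻¹) {U' : Subgroup V}
    (hg : Good φ π.range U') : Gd G T (U'.map j) := by
  have hinv : ∀ t : T, ∀ w ∈ U', (φ.comp π) t w ∈ U' := fun t w hw =>
    hg.unoff.inv (π t) ⟨t, rfl⟩ w hw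
  refine ⟨U', inferInstance, subHom (φ.comp π) U' hinv, j.comp U'.subtype,
    hj.comp U'.subtype_injective, ?_, fun v => Subtype.ext (hexp v), fun t v => hπ t v, ?_⟩
  · rw [MonoidHom.range_comp, Subgroup.range_subtype]
  · have m : Mor (subHom (φ.comp π) U' hinv) φ π U'.subtype :=
      ⟨U'.subtype_injective, fun _ _ => rfl⟩
    rw [m.good_iff, ← MonoidHom.range_eq_map, ← MonoidHom.range_eq_map, Subgroup.range_subtype]
    exact hg

theorem Gd.exp {G : Type u} [Group G] {T U : Subgroup G} (h : Gd G T U) : ∀ u ∈ U, u * u = 1 := by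
  obtain ⟨V, I, φ, j, hj, hr, hexp, he, hg⟩ := h
  intro u hu
  rw [← hr] at hu
  obtain ⟨v, rfl⟩ := hu
  rw [← map_mul, hexp, map_one]

theorem Gd.conj_mem {G : Type u} [Group G] {T U : Subgroup G} (h : Gd G T U) :
    ∀ t ∈ T, ∀ u ∈ U, t * u * t⁻¹ ∈ U := by
  obtain ⟨V, I, φ, j, hj, hr, hexp, he, hg⟩ := h
  intro t ht u hu
  rw [← hr] at hu ⊢
  obtain ⟨v, rfl⟩ := hu
  exact ⟨φ ⟨t, ht⟩ v, he ⟨t, ht⟩ v⟩

theorem le_normalizer_of {G : Type u} [Group G] {T U : Subgroup G}
    (h : ∀ t ∈ T, ∀ u ∈ U, t * u * t⁻¹ ∈ U) : T ≤ Subgroup.normalizer (U : Set G) := by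
  intro t ht
  rw [Subgroup.mem_normalizer_iff]
  intro u
  constructor
  · exact h t ht u
  · intro hu
    have h1 := h t⁻¹ (inv_mem ht) _ hu
    have h2 : t⁻¹ * (t * u * t⁻¹) * t⁻¹⁻¹ = u := by group
    rwa [h2] at h1

theorem Gd.mono {G : Type u} [Group G] {T₁ T U : Subgroup G} (hT : T₁ ≤ T) (h : Gd G T U) :
    Gd G T₁ U := by
  obtain ⟨V, I, φ, j, hj, hr, hexp, he, hg⟩ := h
  refine ⟨V, I, φ.comp (Subgroup.inclusion hT), j, hj, hr, hexp, fun t v => he _ v, ?_⟩
  rw [good_map_iff (φ := φ) (Subgroup.inclusion hT) (fun _ => rfl)]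
  exact hg.mono le_top

theorem Gd.triv {G : Type u} [Group G] {T U : Subgroup G} (hexp : ∀ u ∈ U, u * u = 1)
    (h : ∀ t ∈ T, ∀ u ∈ U, t * u = u * t) : Gd G T U := by
  have hc : ∀ t ∈ T, ∀ u ∈ U, t * u * t⁻¹ = u := fun t ht u hu => by
    rw [h t ht u hu, mul_inv_cancel_right]
  obtain ⟨V, I, φ, j, hj, hr, hexpV, he⟩ := exists_rep U hexp T.subtype (fun t u hu => by
    rw [show T.subtype t * u * (T.subtype t)⁻¹ = u from hc t t.2 u hu]
    exact hu)
  refine ⟨V, I, φ, j, hj, hr, hexpV, he, good_of_le_cn ?_⟩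
  intro t _ v _
  apply hj
  rw [he]
  exact hc t t.2 _ (hr ▸ ⟨v, rfl⟩)

theorem Gd.sup {G : Type u} [Group G] [Finite G] {T U W : Subgroup G} (hT : IsPGroup 2 T)
    (hU : Gd G T U) (hW : Gd G T W) (hc : ∀ u ∈ U, ∀ w ∈ W, u * w = w * u) :
    Gd G T (U ⊔ W) := by
  have hexp := exp_sup hU.exp hW.exp hc
  have hinv : ∀ x : T, ∀ y ∈ U ⊔ W, T.subtype x * y * (T.subtype x)⁻¹ ∈ U ⊔ W := by
    intro x
    have h1 : U ⊔ W ≤ (U ⊔ W).comap (MulAut.conj (x : G)).toMonoidHom :=
      sup_le (fun u hu => Subgroup.mem_sup_left (hU.conj_mem x x.2 u hu))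
        (fun w hw => Subgroup.mem_sup_right (hW.conj_mem x x.2 w hw))
    exact fun y hy => h1 hy
  obtain ⟨V, I, φ, j, hj, hr, hexpV, he⟩ := exists_rep (U ⊔ W) hexp T.subtype hinv
  have : Finite V := finite_of hj
  have h1 := hU.good φ j hj (by rw [hr]; exact le_sup_left) (MonoidHom.id T) (fun t v => he t v)
  have h2 := hW.good φ j hj (by rw [hr]; exact le_sup_right) (MonoidHom.id T) (fun t v => he t v)
  have hT' : IsPGroup 2 (MonoidHom.id T).range := by
    rw [MonoidHom.range_eq_top.2 Function.surjective_id]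
    exact hT.of_equiv Subgroup.topEquiv.symm
  have h3 := h1.sup hexpV hT' h2
  have h4 := Gd.of_good hexpV φ j hj (MonoidHom.id T) (fun t v => he t v) h3
  rw [Subgroup.map_sup, Subgroup.map_comap_eq_self (by rw [hr]; exact le_sup_left),
    Subgroup.map_comap_eq_self (by rw [hr]; exact le_sup_right)] at h4
  exact h4

/-- The second closure theorem (Theorem G). -/
def ClosAx : Prop :=
  ∀ (H : Type u) [Group H] [Finite H] (V : Type u) [CommGroup V] [Finite V] (φ : H →* MulAut V),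
    (∀ v : V, v * v = 1) → NoS3 φ → ∀ (T : Sylow 2 H) (U : Subgroup V), Good φ T U →
      Good φ T (⨆ x : H, im φ x U)

theorem Gd.clos (hG : ClosAx.{u}) {G : Type u} [Group G] [Finite G] (T : Sylow 2 G)
    {U Y : Subgroup G} (h4 : S4Free G) (hU : Gd G T U)
    (hY : Subgroup.normalClosure (U : Set G) = Y) (hexp : ∀ y ∈ Y, y * y = 1) : Gd G T Y := by
  have hYn : Y.Normal := hY ▸ Subgroup.normalClosure_normal
  have hUY : U ≤ Y := hY ▸ Subgroup.subset_normalClosure
  obtain ⟨V, I, φ, j, hj, hr, hexpV, he⟩ := exists_rep Y hexp (MonoidHom.id G)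
    (fun x y hy => hYn.conj_mem y hy x)
  have : Finite V := finite_of hj
  -- no section `S₃`
  let e : V ≃* Y := (MonoidHom.ofInjective hj).trans (MulEquiv.subgroupCongr hr)
  have hje : ∀ v, (e v : G) = j v := fun v => rfl
  have hS3 : NoS3 φ := by
    refine S4FreeNoS3.noS3_of_section (G := G) h4 hYn hexpV e.symm.toMonoidHom e.symm.surjective φ ?_
    intro g a
    apply hj
    rw [he]
    show j (e.symm _) = g * j (e.symm a) * g⁻¹
    rw [← hje, ← hje, MulEquiv.apply_symm_apply, MulEquiv.apply_symm_apply]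
  have h1 := hU.good φ j hj (hUY.trans hr.ge) (T : Subgroup G).subtype (fun t v => he t v)
  rw [Subgroup.range_subtype] at h1
  have h2 := hG G V φ hexpV hS3 T _ h1
  have htop : (⨆ x : G, im φ x (U.comap j)) = ⊤ := by
    set W := ⨆ x : G, im φ x (U.comap j) with hW
    have hWn : (W.map j).Normal := by
      refine ⟨?_⟩
      rintro _ ⟨w, hw, rfl⟩ g
      have h5 : W ≤ W.comap (φ g).toMonoidHom := by
        refine iSup_le fun x => ?_
        rintro _ ⟨u, hu, rfl⟩
        refine (le_iSup (fun x : G => im φ x (U.comap j)) (g * x)) ⟨u, hu, ?_⟩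
        show φ (g * x) u = φ g (φ x u)
        rw [map_mul, MulAut.mul_apply]
      exact ⟨φ g w, h5 hw, he g w⟩
    have hUW : U ≤ W.map j := by
      intro u hu
      obtain ⟨v, rfl⟩ := hr.ge (hUY hu)
      refine ⟨v, (le_iSup (fun x : G => im φ x (U.comap j)) 1) ?_, rfl⟩
      rw [mem_im, inv_one, map_one]
      exact hu
    have h6 : Y ≤ W.map j := by
      rw [← hY]
      exact Subgroup.normalClosure_le_normal hUW
    rw [eq_top_iff]
    intro v _
    obtain ⟨w, hw, hwv⟩ := h6 (hr.le ⟨v, rfl⟩)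
    rw [← hj hwv]
    exact hw
  rw [htop] at h2
  have h3 := Gd.of_good (T := (T : Subgroup G)) hexpV φ j hj (T : Subgroup G).subtype
    (fun t v => he t v) (U' := ⊤) (by
      rw [Subgroup.range_subtype]
      exact h2)
  rwa [← MonoidHom.range_eq_map, hr] at h3

theorem Gd.map_iff {G G' : Type u} [Group G] [Group G'] (f : G →* G') (T U : Subgroup G)
    (hf : Function.Injective f) : Gd G' (T.map f) (U.map f) ↔ Gd G T U := by
  let ε : T ≃* T.map f := T.equivMapOfInjective f hf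
  have hε : ∀ t : T, (ε t : G') = f t := fun t => rfl
  constructor
  · rintro ⟨V, I, φ, j', hj', hr', hexp, he', hg⟩
    let κ : G ≃* f.range := MonoidHom.ofInjective hf
    have hmem : ∀ v : V, j' v ∈ f.range := by
      intro v
      have h1 : j' v ∈ U.map f := hr' ▸ ⟨v, rfl⟩
      obtain ⟨u, _, hu⟩ := h1
      exact ⟨u, hu⟩
    let j : V →* G := κ.symm.toMonoidHom.comp (j'.codRestrict f.range hmem)
    have hfj : ∀ v, f (j v) = j' v := by
      intro v
      have h1 : κ (j v) = ⟨j' v, hmem v⟩ := κ.apply_symm_apply _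
      exact congrArg Subtype.val h1
    refine ⟨V, I, φ.comp ε.toMonoidHom, j, ?_, ?_, hexp, ?_, ?_⟩
    · intro a b hab
      apply hj'
      rw [← hfj, ← hfj, hab]
    · apply Subgroup.map_injective hf
      rw [← hr', MonoidHom.map_range]
      congr 1
      ext v
      exact hfj v
    · intro t v
      apply hf
      rw [hfj, map_mul, map_mul, map_inv, hfj]
      exact he' (ε t) v
    · rw [good_map_iff (φ := φ) ε.toMonoidHom (fun _ => rfl),
        Subgroup.map_top_of_surjective _ ε.surjective]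
      exact hg
  · rintro ⟨V, I, φ, j, hj, hr, hexp, he, hg⟩
    refine ⟨V, I, φ.comp ε.symm.toMonoidHom, f.comp j, hf.comp hj, ?_, hexp, ?_, ?_⟩
    · rw [MonoidHom.range_comp, hr]
    · intro t v
      obtain ⟨t, rfl⟩ := ε.surjective t
      show f (j (φ (ε.symm (ε t)) v)) = f t * f (j v) * (f t)⁻¹
      rw [MulEquiv.symm_apply_apply, he, map_mul, map_mul, map_inv]
    · rw [good_map_iff (φ := φ) ε.symm.toMonoidHom (fun _ => rfl),
        Subgroup.map_top_of_surjective _ ε.symm.surjective]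
      exact hg

theorem Gd.unoff' {G : Type u} [Group G] [Finite G] {T U : Subgroup G} (h : Gd G T U)
    (A : Subgroup G) (hA : A ≤ T)
    (hab : ∀ a ∈ A, ∀ b ∈ A, a * b * a⁻¹ * b⁻¹ ∈ Subgroup.centralizer (U : Set G)) :
    A ≤ Subgroup.centralizer (U : Set G) ∨
      (Subgroup.centralizer (U : Set G)).relIndex A <
        (Subgroup.centralizer (A : Set G)).relIndex U := by
  obtain ⟨V, I, φ, j, hj, hr, hexp, he, hg⟩ := h
  have : Finite V := finite_of hj
  have hcn : cn φ ⊤ = (Subgroup.centralizer (U : Set G)).subgroupOf T := by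
    ext t
    rw [Subgroup.mem_subgroupOf, Subgroup.mem_centralizer_iff]
    constructor
    · intro ht u hu
      rw [← hr] at hu
      obtain ⟨v, rfl⟩ := hu
      have h1 := he t v
      rw [ht v (Subgroup.mem_top v)] at h1
      conv_lhs => rw [h1]
      group
    · intro ht v _
      apply hj
      rw [he, ← ht (j v) (hr ▸ ⟨v, rfl⟩), mul_inv_cancel_right]
  have hfx : (fx φ (A.subgroupOf T)).map j = Subgroup.centralizer (A : Set G) ⊓ U := by
    ext x
    constructor
    · rintro ⟨v, hv, rfl⟩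
      refine Subgroup.mem_inf.2 ⟨Subgroup.mem_centralizer_iff.2 fun a ha => ?_, hr ▸ ⟨v, rfl⟩⟩
      have h1 := he ⟨a, hA ha⟩ v
      rw [hv ⟨a, hA ha⟩ ha] at h1
      conv_rhs => rw [h1]
      group
    · rintro ⟨hx, hxU⟩
      rw [← hr] at hxU
      obtain ⟨v, rfl⟩ := hxU
      refine ⟨v, fun t ht => hj ?_, rfl⟩
      rw [he, Subgroup.mem_centralizer_iff.1 hx t ht, mul_inv_cancel_right]
  by_cases hlt : (Subgroup.centralizer (U : Set G)).relIndex A <
        (Subgroup.centralizer (A : Set G)).relIndex U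
  · exact Or.inr hlt
  left
  have hle := not_lt.1 hlt
  have habn : AbOn φ (A.subgroupOf T) ⊤ := by
    intro a ha b hb v _
    apply hj
    rw [he, he, he, he]
    have h1 := hab a ha b hb
    rw [Subgroup.mem_centralizer_iff] at h1
    have h2 := h1 ((b : G) * (a * j v * (a : G)⁻¹) * (b : G)⁻¹) (by
      rw [← he, ← he, ← hr]
      exact ⟨_, rfl⟩)
    have h3 : (a : G) * (b * j v * (b : G)⁻¹) * (a : G)⁻¹ =
        ((a : G) * b * (a : G)⁻¹ * (b : G)⁻¹) * ((b : G) * (a * j v * (a : G)⁻¹) * (b : G)⁻¹) *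
        ((a : G) * b * (a : G)⁻¹ * (b : G)⁻¹)⁻¹ := by group
    rw [h3, ← h2]
    group
  have hcardV : Nat.card (⊤ : Subgroup V) = Nat.card U := by
    rw [Subgroup.card_top, ← hr]
    exact Nat.card_congr (MonoidHom.ofInjective hj).toEquiv
  have hms : Nat.card (⊤ : Subgroup V) ≤ ms φ ⊤ (A.subgroupOf T) := by
    unfold ms
    rw [hcardV, hcn, Subgroup.relIndex_subgroupOf hA, top_inf_eq,
      ← Subgroup.card_map_of_injective hj, hfx]
    calc Nat.card U = (Subgroup.centralizer (A : Set G)).relIndex U *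
          Nat.card (Subgroup.centralizer (A : Set G) ⊓ U : Subgroup G) := by
            rw [← Subgroup.inf_relIndex_right]
            exact (relIndex_mul_card' inf_le_right).symm
      _ ≤ _ := Nat.mul_le_mul_right _ hle
  have h1 := hg.unoff.off (A.subgroupOf T) le_top habn hms
  rw [hcn] at h1
  intro a ha
  exact h1 (show (⟨a, hA ha⟩ : T) ∈ A.subgroupOf T from ha)

/-- The instance. -/
theorem gdAx (hG : ClosAx.{u}) : GdAx.{u} Gd.{u} where
  exp := fun _ _ _ _ h => h.exp
  inv := fun _ _ _ _ h => le_normalizer_of h.conj_mem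
  mono := fun _ _ _ _ _ hT h => h.mono hT
  triv := fun _ _ _ _ hexp h => Gd.triv hexp h
  sup := fun _ _ _ _ _ _ hT hU hW hc => hU.sup hT hW hc
  clos := fun _ _ _ T _ _ h4 hU hY hexp => Gd.clos hG T h4 hU hY hexp
  map := fun _ _ _ _ f T U hf => Gd.map_iff f T U hf
  unoff := fun _ _ _ _ _ h A hA hab => h.unoff' A hA hab

end Cfsg.Agent.PLocal.S4ConInst
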