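import Mathlib
import Cfsg.Agent.PLocal.S4FreeFlag
import Cfsg.Agent.PLocal.S4ConDefs

set_option autoImplicit false

/-!
# Transfer of goodness and conversion of flags (S0665)

Transfer of goodness along isomorphisms of modules (`Good.transfer`), flags from `PreFlag`s
(`flag_of_preFlag`) and conversely (`preFlag_of_flag`).
-/

namespace Cfsg.Agent.PLocal.S4FreeFlagConv

open Cfsg Cfsg.Agent.Lib
open Cfsg.Agent.PLocal.SFourBasic Cfsg.Agent.PLocal.SFourOffender
open Cfsg.Agent.PLocal.S4FreeClosureBasic Cfsg.Agent.PLocal.S4FreeFlag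

universe u v u' v'

section transfer

variable {H : Type u} [Group H] {V : Type v} [CommGroup V]
  {H' : Type u'} [Group H'] {V' : Type v'} [CommGroup V']

/-- The action of `T` on the `T`-invariant subgroup `U`. -/
def act (φ : H →* MulAut V) (T : Subgroup H) (U : Subgroup V) (hU : Inv φ T U) :
    T →* MulAut U := subHom (φ.comp T.subtype) U (fun t u hu => hU t t.2 u hu)

theorem act_apply (φ : H →* MulAut V) (T : Subgroup H) (U : Subgroup V) (hU : Inv φ T U) (t : T)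
    (u : U) : ((act φ T U hU t u : U) : V) = φ t u := rfl

/-- Goodness depends only on the image of `T` in `Aut U`. -/
theorem good_iff_range {φ : H →* MulAut V} {T : Subgroup H} {U : Subgroup V} (hU : Inv φ T U) :
    Good φ T U ↔ Good (MonoidHom.id (MulAut U)) (act φ T U hU).range ⊤ := by
  have m1 : Mor (act φ T U hU) φ T.subtype U.subtype := mor_sub φ T U _
  have m2 : Mor (act φ T U hU) (MonoidHom.id (MulAut U)) (act φ T U hU) (MonoidHom.id U) :=
    mor_map (act φ T U hU) (fun _ => rfl)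
  have h1 := m1.good_iff (T' := ⊤) (U' := ⊤)
  have h2 := m2.good_iff (T' := ⊤) (U' := ⊤)
  rw [← MonoidHom.range_eq_map, ← MonoidHom.range_eq_map, Subgroup.range_subtype,
    Subgroup.range_subtype] at h1
  rw [← MonoidHom.range_eq_map, Subgroup.map_id] at h2
  rw [← h1, h2]

/-- Transfer of goodness. -/
theorem Good.transfer {φ : H →* MulAut V} {φ' : H' →* MulAut V'} {T : Subgroup H}
    {T' : Subgroup H'} {U : Subgroup V} {U' : Subgroup V'} (hU : Inv φ T U) (e : U ≃* U')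
    (hT : ∀ t (ht : t ∈ T), ∃ t' ∈ T', ∀ u : U,
      φ' t' (e u : V') = (e ⟨φ t u, hU t ht u u.2⟩ : V'))
    (h : Good φ' T' U') : Good φ T U := by
  rw [good_iff_range hU]
  rw [good_iff_range h.unoff.inv] at h
  have m : Mor (MonoidHom.id (MulAut U)) (MonoidHom.id (MulAut U'))
      (MulAut.congr e).toMonoidHom e.toMonoidHom := by
    refine ⟨e.injective, fun σ v => ?_⟩
    show e (σ v) = (MulAut.congr e σ) (e v)
    simp [MulAut.congr]
  rw [m.good_iff, Subgroup.map_top_of_surjective e.toMonoidHom e.surjective]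
  refine h.mono ?_
  rintro _ ⟨_, ⟨t, rfl⟩, rfl⟩
  obtain ⟨t', ht', htt'⟩ := hT t t.2
  refine ⟨⟨t', ht'⟩, ?_⟩
  ext w
  obtain ⟨u, rfl⟩ := e.surjective w
  have h1 : (MulAut.congr e).toMonoidHom (act φ T U hU t) (e u) = e (act φ T U hU t u) := by
    show (MulAut.congr e (act φ T U hU t)) (e u) = _
    simp [MulAut.congr]
  rw [h1]
  exact htt' u

end transfer

section conv

variable {H : Type u} [Group H] {V : Type v} [CommGroup V]

theorem Flag.two [Finite V] {φ : H →* MulAut V} (hinj : Function.Injective φ) {B : Subgroup H}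
    {E : Subgroup V} (hexp : ∀ v : V, v * v = 1) (h : Flag φ B ⊤ E) : ∀ b ∈ B, b * b = 1 := by
  intro b hb
  obtain ⟨v, -, hv⟩ := h.exists_not_mem
  have h1 : φ b v * v⁻¹ ∈ E := h.comm b hb v (Subgroup.mem_top v)
  have h2 : φ (b * b) v * v⁻¹ ∈ fx φ B := by
    set c := φ b v * v⁻¹ with hc
    have h3 : φ b v = c * v := by rw [hc, inv_mul_cancel_right]
    have h4 : φ (b * b) v * v⁻¹ = φ b c * c⁻¹ := by
      rw [map_mul φ, MulAut.mul_apply, h3, map_mul, h3, ← mul_assoc, mul_inv_cancel_right,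
        inv_eq_of_mul_eq_one_left (hexp c)]
    rw [h4]
    exact h.comm' b hb c h1
  have h3 := h.inj v (Subgroup.mem_top v) hv _ (B.mul_mem hb hb) h2
  rw [S4FreeClosureUniq.cn_top_of_inj hinj] at h3
  exact h3

theorem preFlag_of_flag [Finite V] {φ : H →* MulAut V} (hinj : Function.Injective φ)
    (hexp : ∀ v : V, v * v = 1) {B : Subgroup H} {E : Subgroup V} (h : Flag φ B ⊤ E) :
    S4ConDefs.PreFlag φ B E (fx φ B) := by
  have hfE : fx φ B ≤ E := by
    have := h.fx_le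
    rwa [top_inf_eq] at this
  refine ⟨hexp, hfE, h.ne, ?_, Flag.two hinj hexp h, fun b hb v => h.comm b hb v (Subgroup.mem_top v),
    fun b hb u hu => h.comm' b hb u hu, rfl, ?_, ?_, ?_⟩
  · intro heq
    obtain ⟨v, -, hv⟩ := h.exists_not_mem
    apply h.not_le_cn
    intro b hb
    refine h.inj v (Subgroup.mem_top v) hv b hb ?_
    rw [heq]
    exact h.comm b hb v (Subgroup.mem_top v)
  · intro v hv b hb hbv
    have h3 := h.inj v (Subgroup.mem_top v) hv b hb hbv
    rw [S4FreeClosureUniq.cn_top_of_inj hinj] at h3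
    exact h3
  · intro v hv u hu
    obtain ⟨b, hb, hbu⟩ := h.surj v (Subgroup.mem_top v) hv u hu
    refine ⟨b, hb, ?_⟩
    rwa [inv_eq_of_mul_eq_one_left (hexp u)] at hbu
  · intro Λ hΛ hΛ2
    by_cases hall : ∀ b ∈ B, ∀ u ∈ E, φ b u * u⁻¹ ∈ Λ
    · exact Or.inl hall
    · right
      have hcr : ¬ cr φ B E ≤ Λ := fun h1 => hall (cr_le.1 h1)
      have hcrf : cr φ B E ≤ fx φ B := cr_le.2 h.comm'
      have h1 : Λ.relIndex (cr φ B E) ≤ 2 := by
        rw [← hΛ2]
        exact Subgroup.relIndex_le_of_le_right hcrf (by rw [hΛ2]; norm_num)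
      have h2 : Λ.relIndex (cr φ B E) ≠ 1 := by
        rw [Ne, Subgroup.relIndex_eq_one]
        exact hcr
      have h3 : Λ.relIndex (cr φ B E) ≠ 0 := Subgroup.index_ne_zero_of_finite
      have h4 := h.index Λ (by omega)
      rw [Subgroup.relIndex_top_right] at h4
      rw [pow_two]
      exact h4

/-- A hyperplane of a subgroup extends. -/
theorem exists_hyperplane [Finite V] (hexp : ∀ v : V, v * v = 1) {C U L : Subgroup V}
    (hCU : C ≤ U) (hL : L.relIndex C = 2) : ∃ Λ ≤ U, Λ.relIndex U = 2 ∧ Λ ⊓ C = L ⊓ C := by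
  classical
  let S : Set (Subgroup V) := {Λ | Λ ≤ U ∧ L ⊓ C ≤ Λ ∧ ¬ C ≤ Λ}
  have hne : S.Nonempty := by
    refine ⟨L ⊓ C, inf_le_right.trans hCU, le_rfl, fun h => ?_⟩
    have h1 : L.relIndex C = 1 := Subgroup.relIndex_eq_one.2 (h.trans inf_le_left)
    omega
  obtain ⟨Λ, hΛmax⟩ := S.toFinite.exists_maximal hne
  obtain ⟨hΛU, hLΛ, hCΛ⟩ := hΛmax.prop
  obtain ⟨c, hcC, hcΛ⟩ := SetLike.not_le_iff_exists.1 hCΛ
  have hinv : ∀ v : V, v⁻¹ = v := fun v => inv_eq_of_mul_eq_one_left (hexp v)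
  have hind : ∀ x y : V, x ∈ C → y ∈ C → x ∉ L → y ∉ L → x * y ∈ L := by
    intro x y hx hy hxL hyL
    have h1 : (L.subgroupOf C).index = 2 := hL
    have h2 := Subgroup.mul_mem_iff_of_index_two h1 (a := ⟨x, hx⟩) (b := ⟨y, hy⟩)
    rw [Subgroup.mem_subgroupOf, Subgroup.mem_subgroupOf, Subgroup.mem_subgroupOf] at h2
    exact h2.2 (by simp [hxL, hyL])
  have hout : ∀ u ∈ U, u ∉ Λ → u * c ∈ Λ := by
    intro u hu huΛ
    have h1 : C ≤ Λ ⊔ Subgroup.zpowers u := by
      by_contra hcon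
      have h2 : Λ ⊔ Subgroup.zpowers u ∈ S :=
        ⟨sup_le hΛU (by rwa [Subgroup.zpowers_le]), hLΛ.trans le_sup_left, hcon⟩
      have h3 := hΛmax.le_of_ge h2 le_sup_left
      exact huΛ (h3 ((le_sup_right : _ ≤ Λ ⊔ Subgroup.zpowers u) (Subgroup.mem_zpowers u)))
    obtain ⟨l, hl, w, hw, hlw⟩ := Subgroup.mem_sup.1 (h1 hcC)
    obtain ⟨k, rfl⟩ := hw
    rcases Int.even_or_odd' k with ⟨j, rfl | rfl⟩
    · exfalso
      apply hcΛ
      have h2 : u ^ (2 * j) = 1 := by
        rw [zpow_mul, zpow_two, hexp, one_zpow]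
      change l * u ^ (2 * j) = c at hlw
      rw [h2, mul_one] at hlw
      rwa [← hlw]
    · have h2 : u ^ (2 * j + 1) = u := by
        rw [zpow_add, zpow_mul, zpow_two, hexp, one_zpow, one_mul, zpow_one]
      change l * u ^ (2 * j + 1) = c at hlw
      rw [h2] at hlw
      rw [← hlw, mul_left_comm, hexp, mul_one]
      exact hl
  refine ⟨Λ, hΛU, ?_, ?_⟩
  · show (Λ.subgroupOf U).index = 2
    rw [Subgroup.index_eq_two_iff]
    refine ⟨⟨c, hCU hcC⟩, ?_⟩
    rintro ⟨u, hu⟩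
    rw [Subgroup.mem_subgroupOf, Subgroup.mem_subgroupOf]
    show Xor (u * c ∈ Λ) (u ∈ Λ)
    by_cases huΛ : u ∈ Λ
    · right
      exact ⟨huΛ, fun h => hcΛ ((Subgroup.mul_mem_cancel_left Λ huΛ).1 h)⟩
    · left
      exact ⟨hout u hu huΛ, huΛ⟩
  · apply le_antisymm
    · rintro x ⟨hxΛ, hxC⟩
      refine ⟨?_, hxC⟩
      by_contra hxL
      apply hcΛ
      by_cases hcL : c ∈ L
      · exact hLΛ ⟨hcL, hcC⟩
      · have h1 := hind x c hxC hcC hxL hcL
        have h2 : x * c ∈ Λ := hLΛ ⟨h1, C.mul_mem hxC hcC⟩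
        exact (Subgroup.mul_mem_cancel_left Λ hxΛ).1 h2
    · exact le_inf hLΛ inf_le_right

theorem flag_of_preFlag [Finite V] {φ : H →* MulAut V} {B : Subgroup H} {E E₀ : Subgroup V}
    (h : S4ConDefs.PreFlag φ B E E₀) (h5 : ∀ W ≤ E, Unoff φ B W → W ≤ E₀) : Flag φ B ⊤ E := by
  have hinv : ∀ v : V, v⁻¹ = v := fun v => inv_eq_of_mul_eq_one_left (h.exp v)
  refine ⟨fun _ _ _ _ => Subgroup.mem_top _, le_top, h.ne, ?_, fun b hb v _ => h.a1 b hb v, ?_, ?_,
    ?_, ?_, ?_⟩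
  · rw [top_inf_eq, h.fix]
    exact h.le
  · intro b hb e he
    rw [h.fix]
    exact h.a2 b hb e he
  · intro v _ hv b hb hbv
    rw [h.fix] at hbv
    rw [h.inj v hv b hb hbv]
    exact Subgroup.one_mem _
  · intro v _ hv e he
    obtain ⟨b, hb, hbe⟩ := h.surj v hv e he
    refine ⟨b, hb, ?_⟩
    rw [h.fix, hinv e]
    exact hbe
  · intro W hW hun
    rw [h.fix]
    exact h5 W hW hun
  · intro L hL
    have hcr : cr φ B E ≤ E₀ := cr_le.2 h.a2
    obtain ⟨Λ, hΛ, hΛ2, hΛC⟩ := exists_hyperplane h.exp hcr hL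
    have hnot : ¬ ∀ b ∈ B, ∀ u ∈ E, φ b u * u⁻¹ ∈ Λ := by
      intro hall
      have h1 : cr φ B E ≤ Λ := cr_le.2 hall
      have h2 : cr φ B E ≤ L := by
        rw [inf_eq_right.2 h1] at hΛC
        rw [hΛC]
        exact inf_le_left
      have h3 : L.relIndex (cr φ B E) = 1 := Subgroup.relIndex_eq_one.2 h2
      omega
    have h1 := (h.big Λ hΛ hΛ2).resolve_left hnot
    have h2 : S4ConDefs.rad φ B E Λ = rd φ B E L := by
      ext e
      rw [S4ConDefs.mem_rad, mem_rd]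
      refine and_congr_right fun he => forall₂_congr fun b hb => ?_
      have h3 : φ b e * e⁻¹ ∈ cr φ B E := mem_cr hb he
      constructor
      · intro h4
        have h5 : φ b e * e⁻¹ ∈ Λ ⊓ cr φ B E := ⟨h4, h3⟩
        rw [hΛC] at h5
        exact h5.1
      · intro h4
        have h5 : φ b e * e⁻¹ ∈ L ⊓ cr φ B E := ⟨h4, h3⟩
        rw [← hΛC] at h5
        exact h5.1
    rw [h2, pow_two] at h1
    rw [Subgroup.relIndex_top_right]
    exact h1

end conv

end Cfsg.Agent.PLocal.S4FreeFlagConv
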