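import Mathlib
import Cfsg.Agent.PLocal.S4ConInst
import Cfsg.Agent.PLocal.S4FreeFlagConv

set_option autoImplicit false

/-!
# Final assembly for S0665, from the second closure theorem and the P-side theorem
-/

namespace Cfsg.Agent.PLocal.S4ConFinal

open Cfsg Cfsg.Agent.Lib Cfsg.Agent.Lib.Cores
open Cfsg.Agent.PLocal.SFourBasic Cfsg.Agent.PLocal.SFourOffender
open Cfsg.Agent.PLocal.S4FreeClosureBasic
open Cfsg.Agent.PLocal.S4FreeFlag (Good Mor)
open Cfsg.Agent.PLocal.S4FreeSection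
open Cfsg.Agent.PLocal.S4ConDefs
open Cfsg.Agent.PLocal.S4ConGroup
open Cfsg.Agent.PLocal.S4ConInst

universe u

/-- The P-side theorem. -/
def PsideAx : Prop :=
  ∀ (P : Type u) [Group P] [Finite P] (S : Sylow 2 P) (D M : Subgroup P), Zip S D M →
    ∃ (V : Type u) (_ : CommGroup V) (j : V →* P) (B : Subgroup (MulAut V)) (E E₀ : Subgroup V),
      Function.Injective j ∧ j.range = D ∧ PreFlag (MonoidHom.id (MulAut V)) B E E₀ ∧
      (∀ W ≤ E, Unoff (MonoidHom.id (MulAut V)) B W → W ≤ E₀) ∧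
      ∀ b ∈ B, ∃ s ∈ (S : Subgroup P), ∀ v, j (b v) = s * j v * s⁻¹

theorem contra (hP : PsideAx.{u}) (P : Type u) [Group P] [Finite P] (S : Sylow 2 P)
    (D M : Subgroup P) (hg : Gd P (S : Subgroup P) D) (hz : Zip S D M) : False := by
  obtain ⟨V, I, j, B, E, E₀, hj, hr, hpre, h5, hB⟩ := hP P S D M hz
  have : Finite V := finite_of hj
  have hflag := S4FreeFlagConv.flag_of_preFlag hpre h5
  obtain ⟨V₁, I₁, φ₁, j₁, hj₁, hr₁, hexp₁, he₁, hgood⟩ := hg
  let e₁ : V₁ ≃* D := (MonoidHom.ofInjective hj₁).trans (MulEquiv.subgroupCongr hr₁)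
  let e₂ : V ≃* D := (MonoidHom.ofInjective hj).trans (MulEquiv.subgroupCongr hr)
  let e : V₁ ≃* V := e₁.trans e₂.symm
  have he : ∀ v, j (e v) = j₁ v := by
    intro v
    have h1 : e₂ (e v) = e₁ v := e₂.apply_symm_apply _
    exact congrArg Subtype.val h1
  let φ : (S : Subgroup P) →* MulAut V := (MulAut.congr e).toMonoidHom.comp φ₁
  have hφ : ∀ s v, φ s v = e (φ₁ s (e.symm v)) := fun _ _ => rfl
  have hjφ : ∀ (s : (S : Subgroup P)) v, j (φ s v) = (s : P) * j v * (s : P)⁻¹ := by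
    intro s v
    rw [hφ, he, he₁, ← he, MulEquiv.apply_symm_apply]
  have m : Mor φ₁ (MonoidHom.id (MulAut V)) φ e.toMonoidHom := by
    refine ⟨e.injective, fun s v => ?_⟩
    show e (φ₁ s v) = φ s (e v)
    rw [hφ, MulEquiv.symm_apply_apply]
  have hBr : B ≤ φ.range := by
    intro b hb
    obtain ⟨s, hs, hbs⟩ := hB b hb
    refine ⟨⟨s, hs⟩, ?_⟩
    ext v
    apply hj
    rw [hjφ, hbs]
  have h1 : (B.comap φ).map φ = B := Subgroup.map_comap_eq_self hBr
  have h2 : (E.comap e.toMonoidHom).map e.toMonoidHom = E :=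
    Subgroup.map_comap_eq_self_of_surjective e.surjective E
  have h3 : (⊤ : Subgroup V₁).map e.toMonoidHom = ⊤ :=
    Subgroup.map_top_of_surjective _ e.surjective
  have h4 : S4FreeFlag.Flag φ₁ (B.comap φ) ⊤ (E.comap e.toMonoidHom) := by
    rw [m.flag_iff, h1, h2, h3]
    exact hflag
  exact hgood.noflag _ le_top _ h4

theorem final (hG : ClosAx.{u}) (hP : PsideAx.{u}) {S : Type u} [Group S] [Finite S]
    [Nontrivial S] (hS : IsPGroup 2 S) :
    ∃ W : Subgroup S, W ≠ ⊥ ∧ W.Characteristic ∧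
      ∀ (G : Type u) [Group G] [Finite G] (τ : S →* G), Function.Injective τ →
        (∃ P : Sylow 2 G, (P : Subgroup G) = τ.range) → S4Free G →
        Subgroup.centralizer (pCore 2 G : Set G) ≤ pCore 2 G → (W.map τ).Normal :=
  S4ConMin.final (gdAx hG) (fun P _ _ S _ hg hz => contra hP P S _ _ hg hz) hS

end Cfsg.Agent.PLocal.S4ConFinal
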