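import Mathlib
import Cfsg.Agent.PLocal.S4ConDefs
import Cfsg.Agent.PLocal.S4FreeSection

set_option autoImplicit false

/-!
# Elementary abelian sections as modules
-/

namespace Cfsg.Agent.PLocal.S4ConSection

open Cfsg.Agent.PLocal.SFourBasic Cfsg.Agent.PLocal.SFourOffender

universe u

variable {P : Type u} [Group P]

theorem comm_of_sq {G : Type*} [Group G] (h : ∀ x : G, x * x = 1) (a b : G) : a * b = b * a := by
  have h1 : ∀ x : G, x⁻¹ = x := fun x => inv_eq_of_mul_eq_one_left (h x)
  calc a * b = (a * b)⁻¹ := (h1 _).symm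
    _ = b⁻¹ * a⁻¹ := mul_inv_rev a b
    _ = b * a := by rw [h1, h1]

/-- The conjugation action on a normal section. -/
def secHom {N N₀ : Subgroup P} (hN : N.Normal) (hN₀ : N₀.Normal) :
    P →* MulAut (N ⧸ N₀.subgroupOf N) where
  toFun g := QuotientGroup.congr (N₀.subgroupOf N) (N₀.subgroupOf N) (MulAut.conjNormal g) (by
    ext x
    constructor
    · rintro ⟨y, hy, rfl⟩
      exact hN₀.conj_mem _ hy g
    · intro hx
      refine ⟨MulAut.conjNormal g⁻¹ x, ?_, ?_⟩
      · show ((MulAut.conjNormal g⁻¹ x : N) : P) ∈ N₀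
        rw [MulAut.conjNormal_apply, inv_inv]
        have := hN₀.conj_mem _ hx g⁻¹
        rwa [inv_inv] at this
      · ext
        simp)
  map_one' := by
    ext x
    induction x using QuotientGroup.induction_on with
    | H n => simp
  map_mul' g h := by
    ext x
    induction x using QuotientGroup.induction_on with
    | H n => simp

theorem secHom_mk {N N₀ : Subgroup P} (hN : N.Normal) (hN₀ : N₀.Normal) (g : P) (n : N) :
    secHom hN hN₀ g (QuotientGroup.mk n) =
      QuotientGroup.mk (⟨g * n * g⁻¹, hN.conj_mem n n.2 g⟩ : N) := rfl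

/-- A section of exponent 2 as a module. -/
theorem exists_sec {N N₀ : Subgroup P} (hN : N.Normal) (hN₀ : N₀.Normal)
    (h2 : ∀ x ∈ N, x * x ∈ N₀) : ∃ (V : Type u) (_ : CommGroup V) (π : N →* V)
      (φ : P →* MulAut V), Function.Surjective π ∧ (∀ n : N, π n = 1 ↔ (n : P) ∈ N₀) ∧
      (∀ v : V, v * v = 1) ∧
      ∀ (g : P) (n : N), φ g (π n) = π ⟨g * n * g⁻¹, hN.conj_mem n n.2 g⟩ := by
  have hsq : ∀ v : N ⧸ N₀.subgroupOf N, v * v = 1 := by
    intro v
    induction v using QuotientGroup.induction_on with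
    | H n =>
      rw [← QuotientGroup.mk_mul, QuotientGroup.eq_one_iff, Subgroup.mem_subgroupOf]
      exact h2 n n.2
  let inst : CommGroup (N ⧸ N₀.subgroupOf N) :=
    { (inferInstance : Group (N ⧸ N₀.subgroupOf N)) with mul_comm := comm_of_sq hsq }
  refine ⟨N ⧸ N₀.subgroupOf N, inst, QuotientGroup.mk' (N₀.subgroupOf N), secHom hN hN₀,
    QuotientGroup.mk'_surjective _, ?_, hsq, fun g n => rfl⟩
  intro n
  rw [QuotientGroup.mk'_apply, QuotientGroup.eq_one_iff, Subgroup.mem_subgroupOf]

/-- An elementary abelian subgroup as a module. -/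
theorem exists_mod {D : Subgroup P} (h2 : ∀ a ∈ D, a * a = 1) :
    ∃ (V : Type u) (_ : CommGroup V) (j : V →* P), Function.Injective j ∧ j.range = D := by
  let inst : CommGroup D :=
    { (inferInstance : Group D) with mul_comm := comm_of_sq fun x => Subtype.ext (h2 x x.2) }
  exact ⟨D, inst, D.subtype, D.subtype_injective, D.range_subtype⟩

/-- Conjugation by an element normalising the range of an injective homomorphism. -/
theorem exists_aut {V : Type*} [Group V] {j : V →* P} (hj : Function.Injective j) {s : P}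
    (h1 : ∀ v, s * j v * s⁻¹ ∈ j.range) (h2 : ∀ v, s⁻¹ * j v * s ∈ j.range) :
    ∃ β : MulAut V, ∀ v, j (β v) = s * j v * s⁻¹ := by
  choose f hf using h1
  choose g hg using h2
  refine ⟨⟨⟨f, g, ?_, ?_⟩, ?_⟩, hf⟩
  · intro v
    apply hj
    rw [hg, hf]
    group
  · intro v
    apply hj
    rw [hf, hg]
    group
  · intro v w
    apply hj
    show j (f (v * w)) = j (f v * f w)
    rw [map_mul, hf, hf, hf, map_mul]
    group

end Cfsg.Agent.PLocal.S4ConSection
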