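import Mathlib
import Cfsg.Agent.Lib.Cores
import Cfsg.Agent.PLocal.S4ConDefs
import Cfsg.Agent.PLocal.S4ConSection
import Cfsg.Agent.PLocal.S4FreeClosure
import Cfsg.Agent.PLocal.S4FreeClosureLinear

set_option autoImplicit false

/-!
# The P-side key lemma (5*)

`W ≤ E` invariant under and unoffended by `Ê` lies in `E₀`.
-/

namespace Cfsg.Agent.PLocal.S4ConKey

open Cfsg.Agent.PLocal.SFourBasic Cfsg.Agent.PLocal.SFourOffender
open Cfsg.Agent.PLocal.S4FreeClosureBasic Cfsg.Agent.PLocal.S4FreeClosureUniq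
open Cfsg.Agent.PLocal.S4ConDefs Cfsg.Agent.PLocal.S4ConSection

universe u

section count

variable {G : Type*} [Group G] {G' : Type*} [Group G']

theorem coset_inj {A B : Subgroup G} {A' B' : Subgroup G'} (f : G → G')
    (hf : ∀ b ∈ B, f b ∈ B')
    (hinj : ∀ b ∈ B, ∀ c ∈ B, (f b)⁻¹ * f c ∈ A' → b⁻¹ * c ∈ A) :
    Function.Injective (fun q : B ⧸ A.subgroupOf B =>
      (QuotientGroup.mk ⟨f q.out, hf _ q.out.2⟩ : B' ⧸ A'.subgroupOf B')) := by
  intro q r h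
  have h1 := QuotientGroup.eq.1 h
  have h2 := hinj _ q.out.2 _ r.out.2 h1
  have h3 : (QuotientGroup.mk q.out : B ⧸ A.subgroupOf B) = QuotientGroup.mk r.out :=
    QuotientGroup.eq.2 h2
  rw [QuotientGroup.out_eq', QuotientGroup.out_eq'] at h3
  exact h3

theorem relIndex_le_of_inj [Finite G'] {A B : Subgroup G} {A' B' : Subgroup G'} (f : G → G')
    (hf : ∀ b ∈ B, f b ∈ B')
    (hinj : ∀ b ∈ B, ∀ c ∈ B, (f b)⁻¹ * f c ∈ A' → b⁻¹ * c ∈ A) :
    A.relIndex B ≤ A'.relIndex B' :=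
  Nat.card_le_card_of_injective _ (coset_inj f hf hinj)

theorem surj_of_inj [Finite G] [Finite G'] {A B : Subgroup G} {A' B' : Subgroup G'} (f : G → G')
    (hf : ∀ b ∈ B, f b ∈ B')
    (hinj : ∀ b ∈ B, ∀ c ∈ B, (f b)⁻¹ * f c ∈ A' → b⁻¹ * c ∈ A)
    (hcard : A'.relIndex B' = A.relIndex B) :
    ∀ c ∈ B', ∃ b ∈ B, (f b)⁻¹ * c ∈ A' := by
  intro c hc
  have h1 := (Nat.bijective_iff_injective_and_card _).2 ⟨coset_inj f hf hinj, hcard.symm⟩
  obtain ⟨q, hq⟩ := h1.2 (QuotientGroup.mk ⟨c, hc⟩)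
  have hq' : (QuotientGroup.mk ⟨f q.out, hf _ q.out.2⟩ : B' ⧸ A'.subgroupOf B') =
    QuotientGroup.mk ⟨c, hc⟩ := hq
  have hq'' := QuotientGroup.eq.1 hq'
  exact ⟨_, q.out.2, hq''⟩

end count

section split

variable {P : Type u} [Group P]

/-- The hypotheses. -/
structure KH (D E Eh E₀ : Subgroup P) : Prop where
  two : ∀ a ∈ D, a * a = 1
  DE : E ≤ D
  EH : E ≤ Eh
  EE : E₀ ≤ E
  cen : E₀ ≤ Subgroup.center P
  nrm : Eh.Normal
  der : ∀ m ∈ Eh, ∀ n ∈ Eh, m * n * m⁻¹ * n⁻¹ ∈ E₀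
  comm : ∀ m ∈ Eh, ∀ a ∈ D, m * a * m⁻¹ * a⁻¹ ∈ E
  inj : ∀ m ∈ Eh, ∀ a ∈ D, a ∉ E → m * a * m⁻¹ * a⁻¹ ∈ E₀ → m ∈ E
  cjx : ∃ x, E ⊓ cj x E ≤ E₀
  dne : ∃ a ∈ D, a ∉ E

variable {D E Eh E₀ : Subgroup P}

theorem normal_of_le_center {N : Subgroup P} (h : N ≤ Subgroup.center P) : N.Normal := by
  refine ⟨fun n hn g => ?_⟩
  have h1 := Subgroup.mem_center_iff.1 (h hn) g
  rw [h1, mul_inv_cancel_right]
  exact hn

theorem KH.conj_eq (h : KH D E Eh E₀) {e : P} (he : e ∈ E₀) (g : P) : g * e * g⁻¹ = e := by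
  have h1 := Subgroup.mem_center_iff.1 (h.cen he) g
  rw [h1, mul_inv_cancel_right]

theorem KH.norm₀ (h : KH D E Eh E₀) : E₀.Normal := normal_of_le_center h.cen

theorem KH.mul_comm (h : KH D E Eh E₀) {a b : P} (ha : a ∈ D) (hb : b ∈ D) : a * b = b * a := by
  have h1 := comm_of_sq (G := D) (fun x => Subtype.ext (h.two x x.2)) ⟨a, ha⟩ ⟨b, hb⟩
  exact congrArg Subtype.val h1

/-- `m ↦ [m, a]` -/
theorem KH.comm_inj (h : KH D E Eh E₀) {a : P} (ha : a ∈ D) (ha' : a ∉ E) {m n : P}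
    (hm : m ∈ Eh) (hn : n ∈ Eh)
    (hmn : (m * a * m⁻¹ * a⁻¹)⁻¹ * (n * a * n⁻¹ * a⁻¹) ∈ E₀) : m⁻¹ * n ∈ E := by
  refine h.inj _ (Eh.mul_mem (Eh.inv_mem hm) hn) a ha ha' ?_
  have h1 := h.mul_comm (h.DE (E.inv_mem (h.comm m hm a ha))) (h.DE (h.comm n hn a ha))
  rw [h1] at hmn
  have h2 : m⁻¹ * n * a * (m⁻¹ * n)⁻¹ * a⁻¹ =
      m⁻¹ * (n * a * n⁻¹ * a⁻¹ * (m * a * m⁻¹ * a⁻¹)⁻¹) * m⁻¹⁻¹ := by group
  rw [h2, h.conj_eq hmn]
  exact hmn

theorem KH.comm_mem (h : KH D E Eh E₀) {L : Subgroup P} (hL : L.Normal) (hLE : L ≤ Eh) {a : P}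
    (ha : a ∈ D) {m : P} (hm : m ∈ L) : m * a * m⁻¹ * a⁻¹ ∈ L ⊓ E := by
  refine ⟨?_, h.comm m (hLE hm) a ha⟩
  have h1 : m * a * m⁻¹ * a⁻¹ = m * (a * m⁻¹ * a⁻¹) := by group
  rw [h1]
  exact L.mul_mem hm (hL.conj_mem _ (L.inv_mem hm) a)

variable [Finite P]

theorem KH.split (h : KH D E Eh E₀) {L : Subgroup P} (hL : L.Normal) (hL₀ : E₀ ≤ L)
    (hLE : L ≤ Eh) : (L ⊓ E).relIndex L = E₀.relIndex (L ⊓ E) := by
  apply le_antisymm
  · obtain ⟨a, ha, ha'⟩ := h.dne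
    refine relIndex_le_of_inj (fun m => m * a * m⁻¹ * a⁻¹)
      (fun m hm => h.comm_mem hL hLE ha hm) (fun m hm n hn hmn => ⟨?_, ?_⟩)
    · exact L.mul_mem (L.inv_mem hm) hn
    · exact h.comm_inj ha ha' (hLE hm) (hLE hn) hmn
  · obtain ⟨x, hx⟩ := h.cjx
    have := h.norm₀
    have h1 := relIndex_cj x E₀ (L ⊓ E)
    rw [cj_eq_of_normal] at h1
    have h2 : cj x (L ⊓ E) ≤ L := by
      rintro _ ⟨l, hl, rfl⟩
      exact hL.conj_mem l hl.1 x
    have h3 : L ⊓ E ⊓ cj x (L ⊓ E) ≤ E₀ :=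
      le_trans (inf_le_inf inf_le_right (cj_mono x inf_le_right)) hx
    have h4 := Subgroup.relIndex_le_of_le_left (L := cj x (L ⊓ E)) h3
      (Subgroup.index_ne_zero_of_finite)
    rw [Subgroup.inf_relIndex_right] at h4
    have h5 := Subgroup.relIndex_le_of_le_right (H := L ⊓ E) h2
      (Subgroup.index_ne_zero_of_finite)
    rw [← h1]
    exact h4.trans h5

theorem KH.split_sq (h : KH D E Eh E₀) {L : Subgroup P} (hL : L.Normal) (hL₀ : E₀ ≤ L)
    (hLE : L ≤ Eh) : E₀.relIndex L = E₀.relIndex (L ⊓ E) ^ 2 := by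
  rw [← Subgroup.relIndex_mul_relIndex E₀ (L ⊓ E) L (le_inf hL₀ h.EE) inf_le_left,
    h.split hL hL₀ hLE, sq]

theorem relIndex_pos (A B : Subgroup P) : 0 < A.relIndex B :=
  Nat.pos_of_ne_zero (Subgroup.index_ne_zero_of_finite (H := A.subgroupOf B))

theorem KH.split_rel (h : KH D E Eh E₀) {K L : Subgroup P} (hK : K.Normal) (hL : L.Normal)
    (hK₀ : E₀ ≤ K) (hKL : K ≤ L) (hLE : L ≤ Eh) :
    K.relIndex L = (K ⊓ E).relIndex (L ⊓ E) ^ 2 := by
  have h1 := h.split_sq hL (hK₀.trans hKL) hLE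
  rw [← Subgroup.relIndex_mul_relIndex E₀ K L hK₀ hKL, h.split_sq hK hK₀ (hKL.trans hLE),
    ← Subgroup.relIndex_mul_relIndex E₀ (K ⊓ E) (L ⊓ E) (le_inf hK₀ h.EE)
      (inf_le_inf_right _ hKL), mul_pow] at h1
  exact Nat.eq_of_mul_eq_mul_left (pow_pos (relIndex_pos _ _) 2) h1

/-- `|D/E|² ≤ |R/R'|`. -/
theorem KH.sec (h : KH D E Eh E₀) {K L : Subgroup P} (hK : K.Normal) (hL : L.Normal)
    (hK₀ : E₀ ≤ K) (hKL : K < L) (hLE : L ≤ Eh) :
    E.relIndex D ^ 2 ≤ K.relIndex L := by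
  rw [h.split_rel hK hL hK₀ hKL.le hLE]
  refine Nat.pow_le_pow_left ?_ 2
  -- an element of `L` outside `KE`
  have h1 : ∃ m ∈ L, ∀ k ∈ K, k⁻¹ * m ∉ E := by
    by_contra hcon
    push Not at hcon
    have h2 : K.relIndex L ≤ (K ⊓ E).relIndex (L ⊓ E) := by
      choose! f hf using hcon
      refine relIndex_le_of_inj (fun m => (f m)⁻¹ * m) (fun m hm => ⟨?_, (hf m hm).2⟩)
        (fun m hm n hn hmn => ?_)
      · exact L.mul_mem (L.inv_mem (hKL.le (hf m hm).1)) hm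
      · have h3 : m⁻¹ * n = (((f m)⁻¹ * m)⁻¹ * ((f m)⁻¹ * f n) * ((f m)⁻¹ * m)⁻¹⁻¹) *
            (((f m)⁻¹ * m)⁻¹ * ((f n)⁻¹ * n)) := by group
        rw [h3]
        exact K.mul_mem (hK.conj_mem _ (K.mul_mem (K.inv_mem (hf m hm).1) (hf n hn).1) _) hmn.1
    have h3 := h.split_rel hK hL hK₀ hKL.le hLE
    have h4 : (K ⊓ E).relIndex (L ⊓ E) ≤ 1 := by
      rw [h3, sq] at h2
      by_contra h5
      push Not at h5
      have h6 := Nat.mul_lt_mul_of_pos_right h5 (relIndex_pos (K ⊓ E) (L ⊓ E))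
      omega
    have h5 : K.relIndex L = 1 := by
      have := relIndex_pos K L
      omega
    exact hKL.not_ge (Subgroup.relIndex_eq_one.1 h5)
  obtain ⟨m, hm, hmK⟩ := h1
  refine relIndex_le_of_inj (fun a => m * a * m⁻¹ * a⁻¹) (fun a ha => h.comm_mem hL hLE ha hm)
    (fun a ha b hb hab => ?_)
  by_contra hc
  set c := a⁻¹ * b with hcdef
  have hcD : c ∈ D := D.mul_mem (D.inv_mem ha) hb
  have hmc : m * c * m⁻¹ * c⁻¹ ∈ K ⊓ E := by
    have h2 := h.mul_comm ha (h.DE (h.comm m (hLE hm) c hcD))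
    have h3 : (m * a * m⁻¹ * a⁻¹)⁻¹ * (m * b * m⁻¹ * b⁻¹) =
        a * (m * c * m⁻¹ * c⁻¹) * a⁻¹ := by
      rw [hcdef]
      group
    rwa [h3, h2, mul_inv_cancel_right] at hab
  obtain ⟨k, hk, hk'⟩ := surj_of_inj (A := K ⊓ E) (B := K) (A' := E₀) (B' := K ⊓ E)
    (fun m => m * c * m⁻¹ * c⁻¹) (fun m hm => h.comm_mem hK (hKL.le.trans hLE) hcD hm)
    (fun m hm n hn hmn => ⟨K.mul_mem (K.inv_mem hm) hn,
      h.comm_inj hcD hc (hLE (hKL.le hm)) (hLE (hKL.le hn)) hmn⟩)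
    (h.split hK hK₀ (hKL.le.trans hLE)).symm _ hmc
  exact hmK k hk (h.comm_inj hcD hc (hLE (hKL.le hk)) (hLE hm) hk')

end split

section module

variable {P : Type u} [Group P]

/-- A normal elementary abelian subgroup as a module. -/
theorem exists_nmod {Y : Subgroup P} (hY : Y.Normal) (h2 : ∀ y ∈ Y, y * y = 1) :
    ∃ (V : Type u) (_ : CommGroup V) (j : V →* P) (φ : P →* MulAut V), Function.Injective j ∧
      j.range = Y ∧ (∀ v : V, v * v = 1) ∧ ∀ g v, j (φ g v) = g * j v * g⁻¹ := by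
  obtain ⟨V, inst, π, φ, hπ, hker, hsq, hφ⟩ := exists_sec hY (Subgroup.normal_bot (G := P))
    (fun x hx => by rw [h2 x hx]; exact one_mem _)
  have hinj : Function.Injective π := by
    rw [injective_iff_map_eq_one]
    intro a ha
    exact Subtype.ext (Subgroup.mem_bot.1 ((hker a).1 ha))
  let e : Y ≃* V := MulEquiv.ofBijective π ⟨hinj, hπ⟩
  refine ⟨V, inst, Y.subtype.comp e.symm.toMonoidHom, φ, ?_, ?_, hsq, ?_⟩
  · exact Y.subtype_injective.comp e.symm.injective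
  · ext y
    constructor
    · rintro ⟨v, rfl⟩
      exact (e.symm v).2
    · intro hy
      refine ⟨e ⟨y, hy⟩, ?_⟩
      show ((e.symm (e ⟨y, hy⟩) : Y) : P) = y
      rw [e.symm_apply_apply]
  · intro g v
    obtain ⟨n, rfl⟩ := hπ v
    show ((e.symm (φ g (π n)) : Y) : P) = g * ((e.symm (π n) : Y) : P) * g⁻¹
    have h1 : ∀ n, e.symm (π n) = n := fun n => e.symm_apply_apply n
    rw [hφ, h1, h1]

variable {V : Type u} [CommGroup V] {j : V →* P} {φ : P →* MulAut V} {Y : Subgroup P}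

theorem comap_card (hj : Function.Injective j) (hr : j.range = Y) {U : Subgroup P} (hU : U ≤ Y) :
    Nat.card (U.comap j) = Nat.card U := by
  rw [← Subgroup.card_map_of_injective hj, Subgroup.map_comap_eq, hr, inf_eq_right.2 hU]

theorem fx_dict (hj : Function.Injective j) (hφ : ∀ g v, j (φ g v) = g * j v * g⁻¹)
    (A : Subgroup P) : fx φ A = (Subgroup.centralizer (A : Set P)).comap j := by
  ext v
  rw [Subgroup.mem_comap, Subgroup.mem_centralizer_iff, mem_fx]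
  constructor
  · intro h a ha
    have h1 := congrArg j (h a ha)
    rwa [hφ, mul_inv_eq_iff_eq_mul] at h1
  · intro h a ha
    apply hj
    rw [hφ, mul_inv_eq_iff_eq_mul]
    exact h a ha

theorem cn_dict (hj : Function.Injective j) (hr : j.range = Y)
    (hφ : ∀ g v, j (φ g v) = g * j v * g⁻¹) {U : Subgroup P} (hU : U ≤ Y) :
    cn φ (U.comap j) = Subgroup.centralizer (U : Set P) := by
  ext a
  rw [Subgroup.mem_centralizer_iff, mem_cn]
  constructor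
  · intro h u hu
    obtain ⟨v, rfl⟩ : u ∈ j.range := hr ▸ hU hu
    have h1 := congrArg j (h v hu)
    rw [hφ, mul_inv_eq_iff_eq_mul] at h1
    exact h1.symm
  · intro h v hv
    apply hj
    rw [hφ, mul_inv_eq_iff_eq_mul]
    exact (h _ hv).symm

theorem ms_dict (hj : Function.Injective j) (hr : j.range = Y)
    (hφ : ∀ g v, j (φ g v) = g * j v * g⁻¹) {U : Subgroup P} (hU : U ≤ Y) (A : Subgroup P) :
    ms φ (U.comap j) A = (Subgroup.centralizer (U : Set P)).relIndex A *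
      Nat.card (U ⊓ Subgroup.centralizer (A : Set P) : Subgroup P) := by
  unfold ms
  rw [cn_dict hj hr hφ hU, fx_dict hj hφ, ← Subgroup.comap_inf,
    comap_card hj hr (inf_le_left.trans hU)]

theorem card_eq_centralizer (U A : Subgroup P) : Nat.card U =
    (Subgroup.centralizer (A : Set P)).relIndex U *
      Nat.card (U ⊓ Subgroup.centralizer (A : Set P) : Subgroup P) := by
  rw [Subgroup.card_eq_card_quotient_mul_card_subgroup
    ((Subgroup.centralizer (A : Set P)).subgroupOf U)]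
  congr 1
  rw [← Subgroup.inf_subgroupOf_left]
  exact Nat.card_congr (Subgroup.subgroupOfEquivOfLe inf_le_left).toEquiv

theorem unoff_dict [Finite P] (hj : Function.Injective j) (hr : j.range = Y)
    (hφ : ∀ g v, j (φ g v) = g * j v * g⁻¹) {U : Subgroup P} (hU : U ≤ Y) {T : Subgroup P} :
    Unoff φ T (U.comap j) ↔ (∀ t ∈ T, ∀ u ∈ U, t * u * t⁻¹ ∈ U) ∧
      ∀ A ≤ T, (∀ a ∈ A, ∀ b ∈ A, a * b * a⁻¹ * b⁻¹ ∈ Subgroup.centralizer (U : Set P)) →
        A ≤ Subgroup.centralizer (U : Set P) ∨ (Subgroup.centralizer (U : Set P)).relIndex A <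
          (Subgroup.centralizer (A : Set P)).relIndex U := by
  have hab : ∀ A : Subgroup P, AbOn φ A (U.comap j) ↔
      ∀ a ∈ A, ∀ b ∈ A, a * b * a⁻¹ * b⁻¹ ∈ Subgroup.centralizer (U : Set P) := by
    intro A
    rw [← cn_dict hj hr hφ hU]
    constructor
    · intro h a ha b hb u hu
      have h1 := h a⁻¹ (A.inv_mem ha) b⁻¹ (A.inv_mem hb) u hu
      simp only [map_mul, MulAut.mul_apply]
      rw [h1, apply_inv_cancel, apply_inv_cancel]
    · intro h a ha b hb u hu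
      have h1 := h b⁻¹ (A.inv_mem hb) a⁻¹ (A.inv_mem ha) u hu
      simp only [map_mul, MulAut.mul_apply, inv_inv] at h1
      have h2 := congrArg (φ b) h1
      rw [apply_inv_cancel] at h2
      have h3 := congrArg (φ a) h2
      rw [apply_inv_cancel] at h3
      exact h3.symm
  have hms : ∀ A : Subgroup P, Nat.card (U.comap j) ≤ ms φ (U.comap j) A ↔
      ¬ (Subgroup.centralizer (U : Set P)).relIndex A <
          (Subgroup.centralizer (A : Set P)).relIndex U := by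
    intro A
    have hpos : 0 < Nat.card (U ⊓ Subgroup.centralizer (A : Set P) : Subgroup P) := Nat.card_pos
    rw [ms_dict hj hr hφ hU, comap_card hj hr hU, card_eq_centralizer U A, not_lt]
    exact Nat.mul_le_mul_right_iff hpos
  constructor
  · intro h
    refine ⟨fun t ht u hu => ?_, fun A hA hA' => ?_⟩
    · obtain ⟨v, rfl⟩ : u ∈ j.range := hr ▸ hU hu
      rw [← hφ]
      exact h.inv t ht v hu
    · by_contra hcon
      push Not at hcon
      apply hcon.1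
      have h1 := h.off A hA ((hab A).2 hA') ((hms A).2 (not_lt.2 hcon.2))
      rwa [cn_dict hj hr hφ hU] at h1
  · rintro ⟨h1, h2⟩
    refine ⟨fun t ht v hv => ?_, fun A hA hA' hle => ?_⟩
    · rw [Subgroup.mem_comap, hφ]
      exact h1 t ht _ hv
    · rw [cn_dict hj hr hφ hU]
      exact (h2 A hA ((hab A).1 hA')).resolve_right ((hms A).1 hle)

theorem unoff_of_triv {T : Subgroup P} {U : Subgroup V} (h : ∀ t, ∀ u ∈ U, φ t u = u) :
    Unoff φ T U :=
  ⟨fun t _ u hu => by rw [h t u hu]; exact hu, fun _ _ _ _ a _ u hu => h a u hu⟩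

/-- The density lemma for a normal elementary abelian subgroup `Y`. -/
theorem density [Finite P] (hY : Y.Normal) (h2 : ∀ y ∈ Y, y * y = 1) {E₀ N R : Subgroup P}
    (hE₀ : E₀ ≤ Subgroup.center P) (hE₀N : E₀ ≤ N) (hN : N.Normal) (hNY : N < Y)
    (hmax : ∀ K : Subgroup P, K.Normal → N < K → K ≤ Y → K = Y)
    (hR : R.Normal) (hRY : ∀ r ∈ R, ∀ y ∈ Y, r * y * r⁻¹ * y⁻¹ ∈ E₀)
    (hoff : ∀ A ≤ R, A ≤ Subgroup.centralizer (Y : Set P) ∨
      (Subgroup.centralizer (Y : Set P)).relIndex A <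
        (Subgroup.centralizer (A : Set P)).relIndex Y) :
    N.relIndex Y * (Subgroup.centralizer (Y : Set P)).relIndex R ≤ E₀.relIndex Y := by
  obtain ⟨V, inst, j, φ, hj, hr, hsq, hφ⟩ := exists_nmod hY h2
  have : Finite V := Finite.of_injective j hj
  have htop : Y.comap j = ⊤ := by
    rw [eq_top_iff, ← hr]
    exact fun v _ => ⟨v, rfl⟩
  have hun : Unoff φ R ⊤ := by
    rw [← htop]
    exact (unoff_dict hj hr hφ (le_refl Y) (T := R)).2
      ⟨fun t _ u hu => hY.conj_mem u hu t, fun A hA _ => hoff A hA⟩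
  let φ' : φ.range →* MulAut V := φ.range.subtype
  let π : P →* φ.range := φ.rangeRestrict
  have hφ' : ∀ h, φ' (π h) = φ h := fun _ => rfl
  have hinj : Function.Injective φ' := φ.range.subtype_injective
  have hπ : Function.Surjective π := φ.rangeRestrict_surjective
  have hun' : Unoff φ' (R.map π) ⊤ := (S4FreeClosure.unoff_map_iff π hφ' R ⊤).1 hun
  have hV₀ : ∀ h, ∀ v ∈ E₀.comap j, φ' h v = v := by
    intro h v hv
    obtain ⟨g, rfl⟩ := hπ h
    apply hj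
    rw [hφ', hφ, mul_inv_eq_iff_eq_mul]
    exact Subgroup.mem_center_iff.1 (hE₀ hv) g
  have hinv : ∀ h, ∀ w ∈ N.comap j, φ' h w ∈ N.comap j := by
    intro h v hv
    obtain ⟨g, rfl⟩ := hπ h
    rw [Subgroup.mem_comap, hφ', hφ]
    exact hN.conj_mem _ hv g
  have hmapN : (N.comap j).map j = N := by
    rw [Subgroup.map_comap_eq, hr, inf_eq_right.2 hNY.le]
  have hR₀ : ∀ r ∈ R.map π, ∀ v, φ' r v * v⁻¹ ∈ E₀.comap j := by
    rintro _ ⟨r, hr', rfl⟩ v
    rw [Subgroup.mem_comap, hφ', map_mul, hφ, map_inv]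
    exact hRY r hr' _ (hr ▸ ⟨v, rfl⟩)
  have key := S4FreeClosureLinear.card_quot_mul_card_le (φ := φ') hinj hsq (E₀.comap j)
    (N.comap j) hV₀ (Subgroup.comap_mono hE₀N) (by
      intro h
      apply hNY.ne
      rw [← hmapN, h, ← hr, MonoidHom.range_eq_map]) hinv (by
      intro Z hZ hZinv
      have h1 : Z.map j = Y := by
        refine hmax _ ⟨?_⟩ ?_ ?_
        · rintro _ ⟨z, hz, rfl⟩ g
          rw [← hφ]
          exact ⟨_, hZinv (π g) z hz, rfl⟩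
        · rw [← hmapN]
          exact (Subgroup.map_lt_map_iff_of_injective hj).2 hZ
        · rw [← hr]
          rintro _ ⟨z, _, rfl⟩
          exact ⟨z, rfl⟩
      rw [← Subgroup.comap_map_eq_self_of_injective hj Z, h1, htop]) (R.map π)
    (fun x r hr' => (hR.map π hπ).conj_mem r hr' x) hR₀ (by
      intro A hA hAne
      by_contra hcon
      push Not at hcon
      apply hAne
      have h1 := hun'.off A hA (by
        intro a ha b hb v _
        have h2 : ∀ r, (∀ w, φ' r w * w⁻¹ ∈ E₀.comap j) → ∀ w, ∃ z ∈ E₀.comap j,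
            φ' r w = z * w := fun r hr w => ⟨_, hr w, by rw [inv_mul_cancel_right]⟩
        obtain ⟨z, hz, hz'⟩ := h2 a (hR₀ a (hA ha)) v
        obtain ⟨y, hy, hy'⟩ := h2 b (hR₀ b (hA hb)) v
        rw [hy', hz', map_mul, map_mul, hV₀ a y hy, hV₀ b z hz, hy', hz', mul_left_comm]) (by
        rw [ms_top_of_inj hinj, Subgroup.card_top]
        exact hcon)
      rw [cn_top_of_inj hinj] at h1
      exact le_bot_iff.1 h1)
  have hc1 : Nat.card (V ⧸ N.comap j) = N.relIndex Y := by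
    have := Subgroup.index_comap N j
    rwa [hr] at this
  have hc2 : Nat.card (V ⧸ E₀.comap j) = E₀.relIndex Y := by
    have := Subgroup.index_comap E₀ j
    rwa [hr] at this
  have hc3 : Nat.card (R.map π) = (Subgroup.centralizer (Y : Set P)).relIndex R := by
    rw [← Subgroup.relIndex_ker, MonoidHom.ker_rangeRestrict, ← cn_top, ← htop,
      cn_dict hj hr hφ le_rfl]
  rw [hc1, hc3, Subgroup.card_eq_card_quotient_mul_card_subgroup (E₀.comap j), hc2] at key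
  exact Nat.le_of_mul_le_mul_right key Nat.card_pos

theorem cj_centralizer (x : P) (W : Subgroup P) :
    cj x (Subgroup.centralizer (W : Set P)) = Subgroup.centralizer (cj x W : Set P) := by
  ext g
  rw [mem_cj, Subgroup.mem_centralizer_iff, Subgroup.mem_centralizer_iff]
  constructor
  · rintro h _ ⟨w, hw, rfl⟩
    have h1 := h w hw
    show x * w * x⁻¹ * g = g * (x * w * x⁻¹)
    calc x * w * x⁻¹ * g = x * (w * (x⁻¹ * g * x)) * x⁻¹ := by group
      _ = x * (x⁻¹ * g * x * w) * x⁻¹ := by rw [h1]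
      _ = g * (x * w * x⁻¹) := by group
  · intro h w hw
    have h1 := h _ (conj_mem_cj hw)
    calc w * (x⁻¹ * g * x) = x⁻¹ * (x * w * x⁻¹ * g) * x := by group
      _ = x⁻¹ * (g * (x * w * x⁻¹)) * x := by rw [h1]
      _ = x⁻¹ * g * x * w := by group

/-- Joins of conjugates of an unoffended subgroup. -/
theorem exists_join [Finite P] {Eh E₀ W : Subgroup P} (hEh : Eh.Normal) (hEh2 : IsPGroup 2 Eh)
    (hWE : W ≤ Eh) (hW2 : ∀ w ∈ W, w * w = 1) (hE₀ : E₀ ≤ Subgroup.center P)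
    (hE₀2 : ∀ w ∈ E₀, w * w = 1) (hE₀E : E₀ ≤ Eh)
    (hW : ∀ e ∈ Eh, ∀ w ∈ W, e * w * e⁻¹ ∈ W)
    (hoff : ∀ A ≤ Eh,
      (∀ a ∈ A, ∀ b ∈ A, a * b * a⁻¹ * b⁻¹ ∈ Subgroup.centralizer (W : Set P)) →
      A ≤ Subgroup.centralizer (W : Set P) ∨
      (Subgroup.centralizer (W : Set P)).relIndex A <
        (Subgroup.centralizer (A : Set P)).relIndex W) :
    ∃ Y : Subgroup P, Y.Normal ∧ W ≤ Y ∧ E₀ ≤ Y ∧ Y ≤ Eh ∧ (∀ y ∈ Y, y * y = 1) ∧
      ∀ A ≤ Eh, (∀ a ∈ A, ∀ b ∈ A, a * b * a⁻¹ * b⁻¹ ∈ Subgroup.centralizer (Y : Set P)) →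
        A ≤ Subgroup.centralizer (Y : Set P) ∨ (Subgroup.centralizer (Y : Set P)).relIndex A <
          (Subgroup.centralizer (A : Set P)).relIndex Y := by
  have hWc : ∀ a ∈ W, ∀ b ∈ W, a * b = b * a := fun a ha b hb =>
    congrArg Subtype.val (comm_of_sq (G := W) (fun x => Subtype.ext (hW2 x x.2)) ⟨a, ha⟩ ⟨b, hb⟩)
  have hcjE : ∀ y, cj y W ≤ Eh := by
    rintro y _ ⟨w, hw, rfl⟩
    exact hEh.conj_mem w (hWE hw) y
  have hcjab : ∀ y, ∀ a ∈ cj y W, ∀ b ∈ cj y W,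
      a * b * a⁻¹ * b⁻¹ ∈ Subgroup.centralizer (W : Set P) := by
    rintro y _ ⟨a, ha, rfl⟩ _ ⟨b, hb, rfl⟩
    rw [← map_mul, hWc a ha b hb, map_mul, mul_inv_cancel_right, mul_inv_cancel]
    exact one_mem _
  -- conjugates commute
  have hcomm : ∀ y, cj y W ≤ Subgroup.centralizer (W : Set P) := by
    intro y
    by_contra hcon
    have h1 := (hoff _ (hcjE y) (hcjab y)).resolve_left hcon
    have h2 := (hoff _ (hcjE y⁻¹) (hcjab y⁻¹)).resolve_left (by
      intro h3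
      apply hcon
      rw [← Subgroup.le_centralizer_iff, ← cj_centralizer]
      have h4 := cj_le_iff.1 h3
      rwa [inv_inv] at h4)
    have e1 := relIndex_cj y (Subgroup.centralizer (W : Set P)) (cj y⁻¹ W)
    rw [cj_centralizer, cj_cj_inv] at e1
    have e2 := relIndex_cj y (Subgroup.centralizer (cj y⁻¹ W : Set P)) W
    rw [cj_centralizer, cj_cj_inv] at e2
    rw [← e1, ← e2] at h2
    exact lt_asymm h1 h2
  set T : Set P := {g | g ∈ E₀ ∨ ∃ y, g ∈ cj y W} with hT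
  have hTc : ∀ a ∈ T, ∀ b ∈ T, a * b = b * a := by
    rintro a (ha | ⟨y, ha⟩) b hb
    · exact (Subgroup.mem_center_iff.1 (hE₀ ha) b).symm
    · rcases hb with hb | ⟨z, hb⟩
      · exact Subgroup.mem_center_iff.1 (hE₀ hb) a
      · rw [mem_cj] at ha
        have h1 : y⁻¹ * b * y ∈ cj (y⁻¹ * z) W := by
          rw [← cj_cj, mem_cj, inv_inv]
          convert hb using 1
          group
        have h2 := Subgroup.mem_centralizer_iff.1 (hcomm _ h1) _ ha
        calc a * b = y * (y⁻¹ * a * y * (y⁻¹ * b * y)) * y⁻¹ := by group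
          _ = y * (y⁻¹ * b * y * (y⁻¹ * a * y)) * y⁻¹ := by rw [h2]
          _ = b * a := by group
  have hT2 : ∀ a ∈ T, a * a = 1 := by
    rintro a (ha | ⟨y, w, hw, rfl⟩)
    · exact hE₀2 a ha
    · rw [← map_mul, hW2 w hw, map_one]
  have hTE : T ⊆ Eh := by
    rintro a (ha | ⟨y, ha⟩)
    · exact hE₀E ha
    · exact hcjE y ha
  have hTconj : ∀ a ∈ T, ∀ g : P, g * a * g⁻¹ ∈ T := by
    rintro a (ha | ⟨y, ha⟩) g
    · left
      rw [Subgroup.mem_center_iff.1 (hE₀ ha) g, mul_inv_cancel_right]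
      exact ha
    · right
      refine ⟨g * y, ?_⟩
      rw [← cj_cj]
      exact conj_mem_cj ha
  have hYc : ∀ a ∈ Subgroup.closure T, ∀ b ∈ Subgroup.closure T, a * b = b * a := by
    intro a ha b hb
    have h1 : Subgroup.closure T ≤ Subgroup.centralizer T := by
      rw [Subgroup.closure_le]
      intro x hx
      rw [SetLike.mem_coe, Subgroup.mem_centralizer_iff]
      exact fun y hy => hTc y hy x hx
    have h2 : Subgroup.closure T ≤ Subgroup.centralizer (Subgroup.closure T : Set P) := by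
      rw [Subgroup.centralizer_closure]
      exact h1
    exact Subgroup.mem_centralizer_iff.1 (h2 hb) a ha
  have hY2 : ∀ a ∈ Subgroup.closure T, a * a = 1 := by
    intro a ha
    induction ha using Subgroup.closure_induction with
    | mem x hx => exact hT2 x hx
    | one => exact one_mul 1
    | mul x y hx hy hx' hy' =>
      have h1 := hYc x hx y hy
      calc x * y * (x * y) = x * (y * x) * y := by group
        _ = x * (x * y) * y := by rw [h1]
        _ = (x * x) * (y * y) := by group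
        _ = 1 := by rw [hx', hy', one_mul]
    | inv x hx hx' => rw [← mul_inv_rev, hx', inv_one]
  have hYn : (Subgroup.closure T).Normal := by
    refine ⟨fun n hn g => ?_⟩
    induction hn using Subgroup.closure_induction with
    | mem x hx => exact Subgroup.subset_closure (hTconj x hx g)
    | one => 
      rw [mul_one, mul_inv_cancel]
      exact one_mem _
    | mul x y hx hy hx' hy' =>
      have h1 : g * (x * y) * g⁻¹ = (g * x * g⁻¹) * (g * y * g⁻¹) := by group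
      rw [h1]
      exact mul_mem hx' hy'
    | inv x hx hx' =>
      have h1 : g * x⁻¹ * g⁻¹ = (g * x * g⁻¹)⁻¹ := by group
      rw [h1]
      exact inv_mem hx'
  have hWY : W ≤ Subgroup.closure T := fun w hw =>
    Subgroup.subset_closure (Or.inr ⟨1, by rw [cj_one]; exact hw⟩)
  have hE₀Y : E₀ ≤ Subgroup.closure T := fun w hw => Subgroup.subset_closure (Or.inl hw)
  refine ⟨Subgroup.closure T, hYn, hWY, hE₀Y, (Subgroup.closure_le _).2 hTE, hY2, ?_⟩
  obtain ⟨V, inst, j, φ, hj, hr, hsq, hφ⟩ := exists_nmod hYn hY2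
  have : Finite V := Finite.of_injective j hj
  have hunW : Unoff φ Eh (W.comap j) := (unoff_dict hj hr hφ hWY).2 ⟨hW, hoff⟩
  have h1 : Subgroup.closure T ≤ (wst φ Eh).map j := by
    rw [Subgroup.closure_le]
    rintro g (hg | ⟨y, hg⟩)
    · have h2 : Unoff φ Eh (E₀.comap j) := unoff_of_triv fun t u hu => by
        apply hj
        rw [hφ, mul_inv_eq_iff_eq_mul]
        exact Subgroup.mem_center_iff.1 (hE₀ hu) t
      obtain ⟨v, rfl⟩ : g ∈ j.range := hr ▸ hE₀Y hg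
      exact ⟨v, le_wst h2 hg, rfl⟩
    · have h2 := hunW.cj y
      rw [cj_eq_of_normal] at h2
      have hg' : g ∈ Subgroup.closure T := Subgroup.subset_closure (Or.inr ⟨y, hg⟩)
      obtain ⟨v, rfl⟩ : g ∈ j.range := hr ▸ hg'
      refine ⟨v, le_wst h2 ?_, rfl⟩
      rw [mem_im, Subgroup.mem_comap, hφ, inv_inv]
      exact mem_cj.1 hg
  have h2 := unoff_wst (φ := φ) hsq hEh2
  have h3 : wst φ Eh = (Subgroup.closure T).comap j := by
    apply le_antisymm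
    · intro v _
      rw [Subgroup.mem_comap, ← hr]
      exact ⟨v, rfl⟩
    · rw [← Subgroup.comap_map_eq_self_of_injective hj (wst φ Eh)]
      exact Subgroup.comap_mono h1
  rw [h3] at h2
  exact ((unoff_dict hj hr hφ le_rfl).1 h2).2

end module

section key

variable {P : Type u} [Group P] [Finite P] {D E Eh E₀ : Subgroup P}

theorem KH.key (h : KH D E Eh E₀) (hEh2 : IsPGroup 2 Eh)
    (hD : ∀ A ≤ Eh,
      (∀ a ∈ A, ∀ b ∈ A, a * b * a⁻¹ * b⁻¹ ∈ Subgroup.centralizer (D : Set P)) →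
      A ≤ Subgroup.centralizer (D : Set P) ∨
      (Subgroup.centralizer (D : Set P)).relIndex A <
        (Subgroup.centralizer (A : Set P)).relIndex D)
    {W : Subgroup P} (hWE : W ≤ E) (hW : ∀ e ∈ Eh, ∀ w ∈ W, e * w * e⁻¹ ∈ W)
    (hoff : ∀ A ≤ Eh,
      (∀ a ∈ A, ∀ b ∈ A, a * b * a⁻¹ * b⁻¹ ∈ Subgroup.centralizer (W : Set P)) →
      A ≤ Subgroup.centralizer (W : Set P) ∨
      (Subgroup.centralizer (W : Set P)).relIndex A <
        (Subgroup.centralizer (A : Set P)).relIndex W) : W ≤ E₀ := by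
  have := h.norm₀
  have := h.nrm
  obtain ⟨Y, hYn, hWY, hE₀Y, hYE, hY2, hYoff⟩ := exists_join h.nrm hEh2 (hWE.trans h.EH)
    (fun w hw => h.two w (h.DE (hWE hw))) h.cen (fun w hw => h.two w (h.DE (h.EE hw)))
    (h.EE.trans h.EH) hW hoff
  by_contra hcon
  have hYE₀ : E₀ < Y := lt_of_le_of_ne hE₀Y (fun he => hcon (he ▸ hWY))
  -- `Y ≤ E` is impossible
  have hYnE : ¬ Y ≤ E := by
    intro hle
    have h1 := h.split hYn hE₀Y hYE
    rw [inf_eq_left.2 hle, Subgroup.relIndex_self] at h1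
    exact hYE₀.not_ge (Subgroup.relIndex_eq_one.1 h1.symm)
  -- a maximal invariant subgroup
  let S : Set (Subgroup P) := {N | N.Normal ∧ E₀ ≤ N ∧ N < Y}
  obtain ⟨N, hN⟩ := S.toFinite.exists_maximal ⟨E₀, h.norm₀, le_rfl, hYE₀⟩
  obtain ⟨hNn, hE₀N, hNY⟩ := hN.prop
  have hdens := density hYn hY2 h.cen hE₀N hNn hNY (fun K hK hNK hKY => by
    by_contra hne
    exact hNK.not_ge (hN.le_of_ge ⟨hK, hE₀N.trans hNK.le, lt_of_le_of_ne hKY hne⟩ hNK.le))
    h.nrm (fun r hr y hy => h.der r hr y (hYE hy)) (fun A hA => hYoff A hA fun a ha b hb => by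
      rw [Subgroup.mem_centralizer_iff]
      exact fun y _ => Subgroup.mem_center_iff.1 (h.cen (h.der a (hA ha) b (hA hb))) y)
  have hsec := h.sec hNn hYn hE₀N hNY hYE
  have hη : (Subgroup.centralizer (Y : Set P)).relIndex Eh =
      (Subgroup.centralizer (Y : Set P)).relIndex E ^ 2 := by
    have h1 := h.split_rel (K := Subgroup.centralizer (Y : Set P) ⊓ Eh) (L := Eh)
      inferInstance h.nrm (le_inf (fun e he => by
        rw [Subgroup.mem_centralizer_iff]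
        exact fun y _ => Subgroup.mem_center_iff.1 (h.cen he) y) (h.EE.trans h.EH))
      inf_le_right le_rfl
    rw [Subgroup.inf_relIndex_right, inf_assoc, inf_eq_right.2 h.EH,
      Subgroup.inf_relIndex_right] at h1
    exact h1
  rw [hη, h.split_sq hYn hE₀Y hYE] at hdens
  have hle : E.relIndex D * (Subgroup.centralizer (Y : Set P)).relIndex E ≤
      E₀.relIndex (Y ⊓ E) := by
    have h1 := (Nat.mul_le_mul_right ((Subgroup.centralizer (Y : Set P)).relIndex E ^ 2)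
      hsec).trans hdens
    rw [← mul_pow] at h1
    exact (Nat.pow_le_pow_iff_left (by norm_num)).1 h1
  rcases hD Y hYE (fun a ha b hb => by
    have h1 : a * b = b * a := congrArg Subtype.val (comm_of_sq (G := Y)
      (fun x => Subtype.ext (hY2 x x.2)) ⟨a, ha⟩ ⟨b, hb⟩)
    rw [h1, mul_inv_cancel_right, mul_inv_cancel]
    exact one_mem _) with h1 | h1
  · obtain ⟨a, ha, ha'⟩ := h.dne
    apply hYnE
    intro y hy
    refine h.inj y (hYE hy) a ha ha' ?_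
    have h2 := Subgroup.mem_centralizer_iff.1 (h1 hy) a ha
    rw [← h2, mul_inv_cancel_right, mul_inv_cancel]
    exact one_mem _
  · have h2 : Subgroup.centralizer (D : Set P) ⊓ Y = Y ⊓ E := by
      ext y
      constructor
      · rintro ⟨hy, hy'⟩
        refine ⟨hy', ?_⟩
        obtain ⟨a, ha, ha'⟩ := h.dne
        refine h.inj y (hYE hy') a ha ha' ?_
        have h2 := Subgroup.mem_centralizer_iff.1 hy a ha
        rw [← h2, mul_inv_cancel_right, mul_inv_cancel]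
        exact one_mem _
      · rintro ⟨hy, hy'⟩
        exact ⟨Subgroup.mem_centralizer_iff.2 fun a ha => h.mul_comm ha (h.DE hy'), hy⟩
    have h3 : Subgroup.centralizer (Y : Set P) ⊓ D = Subgroup.centralizer (Y : Set P) ⊓ E := by
      apply le_antisymm _ (inf_le_inf_left _ h.DE)
      rintro a ⟨ha, ha'⟩
      refine ⟨ha, ?_⟩
      by_contra hne
      apply hYnE
      intro y hy
      refine h.inj y (hYE hy) a ha' hne ?_
      have h2 := Subgroup.mem_centralizer_iff.1 ha y hy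
      rw [h2, mul_inv_cancel_right, mul_inv_cancel]
      exact one_mem _
    rw [← Subgroup.inf_relIndex_right, h2, h.split hYn hE₀Y hYE,
      ← Subgroup.inf_relIndex_right (Subgroup.centralizer (Y : Set P)) D, h3,
      ← Subgroup.relIndex_mul_relIndex _ E D inf_le_right h.DE,
      Subgroup.inf_relIndex_right, Nat.mul_comm] at h1
    exact h1.not_ge hle

end key

section zip

variable {P : Type u} [Group P] [Finite P] {S : Sylow 2 P} {D M : Subgroup P}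

theorem kh_of_zip (h : Zip S D M) {x : P}
    (comm : ∀ q ∈ Cfsg.pCore 2 P, ∀ a ∈ D, q * a * q⁻¹ * a⁻¹ ∈ D ⊓ Cfsg.pCore 2 P)
    (inf : D ⊓ cj x D = D ⊓ Subgroup.center P)
    (hatN : (D ⊓ Cfsg.pCore 2 P ⊔ cj x (D ⊓ Cfsg.pCore 2 P)).Normal)
    (inj : ∀ a ∈ D, a ∉ Cfsg.pCore 2 P → ∀ b ∈ cj x (D ⊓ Cfsg.pCore 2 P),
      b * a * b⁻¹ * a⁻¹ ∈ Subgroup.center P → b ∈ Subgroup.center P) :
    KH D (D ⊓ Cfsg.pCore 2 P) (D ⊓ Cfsg.pCore 2 P ⊔ cj x (D ⊓ Cfsg.pCore 2 P))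
      (D ⊓ Subgroup.center P) := by
  have hQn : (Cfsg.pCore 2 P).Normal := Cfsg.Agent.Lib.Cores.pCore_normal 2
  have hZQ : Subgroup.center P ≤ Cfsg.pCore 2 P :=
    (Subgroup.center_le_centralizer _).trans h.char2
  have hcjQ : cj x (D ⊓ Cfsg.pCore 2 P) ≤ Cfsg.pCore 2 P := by
    rintro _ ⟨q, hq, rfl⟩
    exact hQn.conj_mem q hq.2 x
  have hEQ : D ⊓ Cfsg.pCore 2 P ⊔ cj x (D ⊓ Cfsg.pCore 2 P) ≤ Cfsg.pCore 2 P :=
    sup_le inf_le_right hcjQ
  have hDc : ∀ a ∈ D, ∀ b ∈ D, a * b = b * a := fun a ha b hb =>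
    congrArg Subtype.val (comm_of_sq (G := D) (fun x => Subtype.ext (h.two x x.2)) ⟨a, ha⟩ ⟨b, hb⟩)
  have hcjx : D ⊓ Cfsg.pCore 2 P ⊓ cj x (D ⊓ Cfsg.pCore 2 P) ≤ D ⊓ Subgroup.center P := by
    rw [← inf]
    exact inf_le_inf inf_le_left (cj_mono x inf_le_left)
  -- commutators of `Q` with `E` and with `E^x`
  have hn1 : ∀ q ∈ Cfsg.pCore 2 P, ∀ e ∈ D ⊓ Cfsg.pCore 2 P, q * e * q⁻¹ ∈ D ⊓ Cfsg.pCore 2 P := by
    intro q hq e he
    have h1 := mul_mem (comm q hq e he.1) he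
    rwa [inv_mul_cancel_right] at h1
  have hn2 : ∀ q ∈ Cfsg.pCore 2 P, ∀ e ∈ cj x (D ⊓ Cfsg.pCore 2 P),
      q * e * q⁻¹ ∈ cj x (D ⊓ Cfsg.pCore 2 P) := by
    rintro q hq _ ⟨e, he, rfl⟩
    have hq' := hQn.conj_mem q hq x⁻¹
    refine ⟨_, hn1 _ hq' e he, ?_⟩
    show x * (x⁻¹ * q * x⁻¹⁻¹ * e * (x⁻¹ * q * x⁻¹⁻¹)⁻¹) * x⁻¹ = q * (x * e * x⁻¹) * q⁻¹
    group
  have hder1 : ∀ e ∈ D ⊓ Cfsg.pCore 2 P, ∀ f ∈ cj x (D ⊓ Cfsg.pCore 2 P),
      e * f * e⁻¹ * f⁻¹ ∈ D ⊓ Subgroup.center P := by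
    intro e he f hf
    apply hcjx
    refine Subgroup.mem_inf.2 ⟨?_, ?_⟩
    · have h1 : e * f * e⁻¹ * f⁻¹ = e * (f * e⁻¹ * f⁻¹) := by group
      rw [h1]
      exact mul_mem he (hn1 f (hcjQ hf) _ (inv_mem he))
    · exact mul_mem (hn2 e he.2 f hf) (inv_mem hf)
  have hder2 : ∀ e ∈ cj x (D ⊓ Cfsg.pCore 2 P), ∀ f ∈ cj x (D ⊓ Cfsg.pCore 2 P),
      e * f = f * e := by
    rintro _ ⟨e, he, rfl⟩ _ ⟨f, hf, rfl⟩
    rw [← map_mul, hDc e he.1 f hf.1, map_mul]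
  have hE₀n : (D ⊓ Subgroup.center P).Normal := normal_of_le_center inf_le_right
  -- decomposition
  have hdec : ∀ m ∈ D ⊓ Cfsg.pCore 2 P ⊔ cj x (D ⊓ Cfsg.pCore 2 P),
      ∃ e ∈ D ⊓ Cfsg.pCore 2 P, ∃ f ∈ cj x (D ⊓ Cfsg.pCore 2 P), e * f = m := by
    let L : Subgroup P :=
      { carrier := {m | ∃ e ∈ D ⊓ Cfsg.pCore 2 P, ∃ f ∈ cj x (D ⊓ Cfsg.pCore 2 P), e * f = m}
        one_mem' := ⟨1, one_mem _, 1, one_mem _, one_mul 1⟩
        mul_mem' := by
          rintro _ _ ⟨e, he, f, hf, rfl⟩ ⟨e', he', f', hf', rfl⟩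
          refine ⟨e * e', mul_mem he he', e'⁻¹ * f * e'⁻¹⁻¹ * f',
            mul_mem (hn2 _ (inv_mem he'.2) f hf) hf', ?_⟩
          group
        inv_mem' := by
          rintro _ ⟨e, he, f, hf, rfl⟩
          refine ⟨e⁻¹, inv_mem he, e * f⁻¹ * e⁻¹, hn2 _ he.2 _ (inv_mem hf), ?_⟩
          group }
    have hL : D ⊓ Cfsg.pCore 2 P ⊔ cj x (D ⊓ Cfsg.pCore 2 P) ≤ L :=
      sup_le (fun e he => ⟨e, he, 1, one_mem _, mul_one e⟩)
        (fun f hf => ⟨1, one_mem _, f, hf, one_mul f⟩)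
    exact fun m hm => hL hm
  refine ⟨h.two, inf_le_left, le_sup_left, ?_, inf_le_right, hatN, ?_, ?_, ?_, ⟨x, hcjx⟩, ?_⟩
  · exact inf_le_inf_left _ hZQ
  · have hq : ∀ a b : P, a * b * a⁻¹ * b⁻¹ ∈ D ⊓ Subgroup.center P ↔
        Commute (QuotientGroup.mk' (D ⊓ Subgroup.center P) a)
          (QuotientGroup.mk' (D ⊓ Subgroup.center P) b) := by
      intro a b
      rw [← QuotientGroup.eq_one_iff, ← QuotientGroup.mk'_apply, map_mul, map_mul, map_mul,
        map_inv, map_inv, mul_inv_eq_one, mul_inv_eq_iff_eq_mul]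
      rfl
    intro m hm n hn
    obtain ⟨e, he, f, hf, rfl⟩ := hdec m hm
    obtain ⟨e', he', f', hf', rfl⟩ := hdec n hn
    rw [hq, map_mul, map_mul]
    have c1 : Commute (QuotientGroup.mk' (D ⊓ Subgroup.center P) e)
        (QuotientGroup.mk' (D ⊓ Subgroup.center P) e') :=
      Commute.map (hDc e he.1 e' he'.1) _
    have c2 : Commute (QuotientGroup.mk' (D ⊓ Subgroup.center P) f)
        (QuotientGroup.mk' (D ⊓ Subgroup.center P) f') :=
      Commute.map (hder2 f hf f' hf') _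
    exact (c1.mul_right ((hq _ _).1 (hder1 e he f' hf'))).mul_left
      (((hq _ _).1 (hder1 e' he' f hf)).symm.mul_right c2)
  · intro m hm a ha
    exact comm m (hEQ hm) a ha
  · intro m hm a ha ha' hma
    obtain ⟨e, he, f, hf, rfl⟩ := hdec m hm
    have h1 : f * a * f⁻¹ * a⁻¹ ∈ D ⊓ Cfsg.pCore 2 P := comm f (hcjQ hf) a ha
    have h2 : e * f * a * (e * f)⁻¹ * a⁻¹ = f * a * f⁻¹ * a⁻¹ := by
      have h3 := hDc e he.1 _ h1.1
      have h4 := hDc e he.1 a ha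
      calc e * f * a * (e * f)⁻¹ * a⁻¹ = e * (f * a * f⁻¹ * a⁻¹) * (a * e⁻¹ * a⁻¹) := by group
        _ = f * a * f⁻¹ * a⁻¹ * e * (a * e⁻¹ * a⁻¹) := by rw [h3]
        _ = f * a * f⁻¹ * a⁻¹ * (e * a) * (e⁻¹ * a⁻¹) := by group
        _ = f * a * f⁻¹ * a⁻¹ * (a * e) * (e⁻¹ * a⁻¹) := by rw [h4]
        _ = f * a * f⁻¹ * a⁻¹ := by group
    rw [h2] at hma
    have h5 := inj a ha (fun h => ha' ⟨ha, h⟩) f hf hma.2
    refine mul_mem he ?_
    obtain ⟨e₀, he₀, rfl⟩ := hf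
    have h6 := Subgroup.mem_center_iff.1 h5 x
    have h7 : (MulAut.conj x).toMonoidHom e₀ = x * e₀ * x⁻¹ := rfl
    rw [h7] at h6 ⊢
    have h8 : x * e₀ * x⁻¹ = e₀ := by
      rw [inv_mul_cancel_right, mul_right_inj] at h6
      exact h6
    rw [h8]
    exact he₀
  · obtain ⟨a, ha, ha'⟩ := SetLike.not_le_iff_exists.1 h.notle
    exact ⟨a, ha, fun h => ha' h.2⟩

/-- (5*), from the P1 facts. -/
theorem key_of (h : Zip S D M) {x : P}
    (comm : ∀ q ∈ Cfsg.pCore 2 P, ∀ a ∈ D, q * a * q⁻¹ * a⁻¹ ∈ D ⊓ Cfsg.pCore 2 P)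
    (inf : D ⊓ cj x D = D ⊓ Subgroup.center P)
    (hatN : (D ⊓ Cfsg.pCore 2 P ⊔ cj x (D ⊓ Cfsg.pCore 2 P)).Normal)
    (inj : ∀ a ∈ D, a ∉ Cfsg.pCore 2 P → ∀ b ∈ cj x (D ⊓ Cfsg.pCore 2 P),
      b * a * b⁻¹ * a⁻¹ ∈ Subgroup.center P → b ∈ Subgroup.center P)
    {W : Subgroup P} (hWE : W ≤ D ⊓ Cfsg.pCore 2 P)
    (hW : ∀ e ∈ D ⊓ Cfsg.pCore 2 P ⊔ cj x (D ⊓ Cfsg.pCore 2 P), ∀ w ∈ W, e * w * e⁻¹ ∈ W)
    (hoff : ∀ A ≤ D ⊓ Cfsg.pCore 2 P ⊔ cj x (D ⊓ Cfsg.pCore 2 P),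
      (∀ a ∈ A, ∀ b ∈ A, a * b * a⁻¹ * b⁻¹ ∈ Subgroup.centralizer (W : Set P)) →
      A ≤ Subgroup.centralizer (W : Set P) ∨
      (Subgroup.centralizer (W : Set P)).relIndex A <
        (Subgroup.centralizer (A : Set P)).relIndex W) : W ≤ Subgroup.center P := by
  have hQn : (Cfsg.pCore 2 P).Normal := Cfsg.Agent.Lib.Cores.pCore_normal 2
  have hEQ : D ⊓ Cfsg.pCore 2 P ⊔ cj x (D ⊓ Cfsg.pCore 2 P) ≤ Cfsg.pCore 2 P := by
    refine sup_le inf_le_right ?_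
    rintro _ ⟨q, hq, rfl⟩
    exact hQn.conj_mem q hq.2 x
  exact ((kh_of_zip h comm inf hatN inj).key
    ((Cfsg.Agent.Lib.Cores.pCore_isPGroup 2).to_le hEQ)
    (fun A hA hA' => h.unoff A
      (hA.trans (hEQ.trans (Cfsg.Agent.Lib.Cores.pCore_le_sylow S))) hA') hWE hW hoff).trans
    inf_le_right

end zip

end Cfsg.Agent.PLocal.S4ConKey
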