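import Mathlib
import Cfsg.Agent.PLocal.SFourOffender

set_option autoImplicit false

/-!
# Lemma D for S0665 (case b = 1): no coincidences `Y^b = Y^{b' a}`

Three involutions `a`, `b`, `b'` acting on `Y × Y₀` (`a` trivially on `Y`, `b` and `b'` trivially on
`Y₀`), with `b`, `b'`, `b b'` injective on `Y` and `Y^b ≤ Y^{b' a}`, generate a group with a section
`S₃`.  With `κ = β'⁻¹ β` the relation says `α β' = 1 + κ⁻¹`; on a minimal `κ`-invariant subgroup the
product `a (b b')` has odd order, so some `h ∈ ⟨a, b b'⟩` interchanges `a` and `b b'`; then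
`b^h` and `b'` generate an `S₃`.
-/

namespace Cfsg.Agent.PLocal.S4FreeLemmaD

open Cfsg.Agent.PLocal.SFourBasic Cfsg.Agent.PLocal.SFourOffender

universe u v

section model

variable {Y : Type v} [CommGroup Y]

/-- The shear `(x, y) ↦ (x * f y, y)`. -/
def up (f : Y →* Y) : MulAut (Y × Y) where
  toFun p := (p.1 * f p.2, p.2)
  invFun p := (p.1 * (f p.2)⁻¹, p.2)
  left_inv p := by simp
  right_inv p := by simp
  map_mul' p q := by
    ext
    · simp only [Prod.fst_mul, Prod.snd_mul, map_mul]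
      rw [mul_mul_mul_comm]
    · rfl

/-- The shear `(x, y) ↦ (x, y * f x)`. -/
def lo (f : Y →* Y) : MulAut (Y × Y) where
  toFun p := (p.1, p.2 * f p.1)
  invFun p := (p.1, p.2 * (f p.1)⁻¹)
  left_inv p := by simp
  right_inv p := by simp
  map_mul' p q := by
    ext
    · rfl
    · simp only [Prod.fst_mul, Prod.snd_mul, map_mul]
      rw [mul_mul_mul_comm]

theorem up_apply (f : Y →* Y) (p : Y × Y) : up f p = (p.1 * f p.2, p.2) := rfl

theorem lo_apply (f : Y →* Y) (p : Y × Y) : lo f p = (p.1, p.2 * f p.1) := rfl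

/-- The diagonal automorphism. -/
def dg (κ : MulAut Y) : MulAut (Y × Y) where
  toFun p := (κ p.1, κ p.2)
  invFun p := (κ⁻¹ p.1, κ⁻¹ p.2)
  left_inv p := by simp
  right_inv p := by simp
  map_mul' p q := by
    ext
    · simp
    · simp

theorem dg_apply (κ : MulAut Y) (p : Y × Y) : dg κ p = (κ p.1, κ p.2) := rfl

/-- `x ↦ x * κ⁻¹ x` -/
def fa (κ : MulAut Y) : Y →* Y where
  toFun x := x * κ⁻¹ x
  map_one' := by rw [map_one, mul_one]
  map_mul' x y := by rw [map_mul, mul_mul_mul_comm]

/-- `x ↦ x * κ x` -/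
def fc (κ : MulAut Y) : Y →* Y where
  toFun x := x * κ x
  map_one' := by rw [map_one, mul_one]
  map_mul' x y := by rw [map_mul, mul_mul_mul_comm]

theorem fa_apply (κ : MulAut Y) (x : Y) : fa κ x = x * κ⁻¹ x := rfl

theorem fc_apply (κ : MulAut Y) (x : Y) : fc κ x = x * κ x := rfl

/-- In a dihedral group of twice odd order some involution interchanges the two generators. -/
theorem exists_swap {G : Type*} [Group G] {A C : G} (hA : A * A = 1) (hC : C * C = 1)
    (hodd : Odd (orderOf (A * C))) :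
    ∃ h ∈ Subgroup.closure {A, C}, h * h = 1 ∧ h * A = C * h := by
  obtain ⟨m, hm⟩ := hodd
  have hAinv : A⁻¹ = A := inv_eq_of_mul_eq_one_left hA
  have hCinv : C⁻¹ = C := inv_eq_of_mul_eq_one_left hC
  set g := A * C with hg
  have hginv : g⁻¹ = C * A := by rw [hg, mul_inv_rev, hAinv, hCinv]
  have hAg : A * g = g⁻¹ * A := by
    rw [hginv, hg, ← mul_assoc, hA, one_mul, mul_assoc, hA, mul_one]
  have hAgm : ∀ n : ℕ, A * g ^ n = (g ^ n)⁻¹ * A := by
    intro n
    induction n with
    | zero => simp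
    | succ n ih =>
      rw [pow_succ, ← mul_assoc, ih, mul_assoc, hAg, ← mul_assoc, mul_inv_rev]
      congr 1
      rw [← mul_inv_rev, ← mul_inv_rev, ← pow_succ, ← pow_succ']
  have hpow : g ^ (2 * m + 1) = 1 := by rw [← hm]; exact pow_orderOf_eq_one g
  refine ⟨g ^ m * A, ?_, ?_, ?_⟩
  · refine Subgroup.mul_mem _ (Subgroup.pow_mem _ (Subgroup.mul_mem _ ?_ ?_) _) ?_
    · exact Subgroup.subset_closure (Or.inl rfl)
    · exact Subgroup.subset_closure (Or.inr rfl)
    · exact Subgroup.subset_closure (Or.inl rfl)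
  · rw [mul_assoc, ← mul_assoc A, hAgm, mul_assoc, hA, mul_one, mul_inv_cancel]
  · rw [mul_assoc, hA, mul_one]
    -- C * g^m * A = g^m
    have h1 : C = g⁻¹ * A := by rw [hginv, mul_assoc, hA, mul_one]
    rw [h1, ← mul_assoc, mul_assoc g⁻¹, hAgm, mul_assoc g⁻¹, mul_assoc, hA, mul_one,
      ← mul_inv_rev, ← pow_succ]
    symm
    rw [inv_eq_iff_mul_eq_one, ← pow_add]
    rw [← hpow]
    congr 1
    ring

variable [Finite Y]

theorem core (hexp : ∀ y : Y, y * y = 1) (κ : MulAut Y)
    (hκ : ∀ y, κ y = y → y = 1)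
    (hmin : ∀ W : Subgroup Y, (∀ w ∈ W, κ w ∈ W) → W = ⊥ ∨ W = ⊤) :
    ∃ h ∈ Subgroup.closure {up (fa κ), lo (fc κ)},
      (∀ y, (h * lo κ.toMonoidHom * h) (1, y) = (y, y)) ∧
      (∀ x, (h * lo κ.toMonoidHom * h) (x, 1) = (x, 1)) := by
  classical
  have hinv : ∀ y : Y, y⁻¹ = y := fun y => inv_eq_of_mul_eq_one_left (hexp y)
  have hexp2 : ∀ p : Y × Y, p * p = 1 := fun p => Prod.ext (hexp _) (hexp _)
  set A := up (fa κ) with hAdef
  set C := lo (fc κ) with hCdef
  set D := dg κ with hDdef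
  have hA : A * A = 1 := by
    ext p
    · show (p.1 * fa κ p.2) * fa κ p.2 = p.1
      rw [mul_assoc, hexp, mul_one]
    · rfl
  have hC : C * C = 1 := by
    ext p
    · rfl
    · show (p.2 * fc κ p.1) * fc κ p.1 = p.2
      rw [mul_assoc, hexp, mul_one]
  have hAD : A * D = D * A := by
    ext p
    · show κ p.1 * (κ p.2 * κ⁻¹ (κ p.2)) = κ (p.1 * (p.2 * κ⁻¹ p.2))
      rw [MulAut.inv_apply_self, map_mul, map_mul, MulAut.apply_inv_self]
    · rfl
  have hCD : C * D = D * C := by
    ext p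
    · rfl
    · show κ p.2 * (κ p.1 * κ (κ p.1)) = κ (p.2 * (p.1 * κ p.1))
      rw [map_mul, map_mul]
  have hfa : ∀ y, fa κ y = 1 → y = 1 := by
    intro y hy
    rw [fa_apply] at hy
    apply hκ
    have h1 : κ⁻¹ y = y := by
      have := mul_eq_one_iff_eq_inv.1 hy
      rw [← hinv (κ⁻¹ y)]
      exact this.symm
    conv_lhs => rw [← h1]
    exact MulAut.apply_inv_self _ _ _
  have hfc : ∀ y, fc κ y = 1 → y = 1 := by
    intro y hy
    rw [fc_apply] at hy
    apply hκ
    rw [← hinv (κ y)]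
    exact (mul_eq_one_iff_eq_inv.1 hy).symm
  have hAfix : ∀ p, A p = p → p.2 = 1 := by
    intro p hp
    apply hfa
    have h1 : p.1 * fa κ p.2 = p.1 := congrArg Prod.fst hp
    exact mul_eq_left.1 h1
  have hCfix : ∀ p, C p = p → p.1 = 1 := by
    intro p hp
    apply hfc
    have h1 : p.2 * fc κ p.1 = p.2 := congrArg Prod.snd hp
    exact mul_eq_left.1 h1
  have hA1 : ∀ x, A (x, 1) = (x, 1) := by
    intro x
    ext
    · show x * fa κ 1 = x
      rw [map_one, mul_one]
    · rfl
  have hC1 : ∀ y, C (1, y) = (1, y) := by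
    intro y
    ext
    · rfl
    · show y * fc κ 1 = y
      rw [map_one, mul_one]
  -- the order is odd
  have hfin : Finite (MulAut (Y × Y)) :=
    Finite.of_injective (fun f : MulAut (Y × Y) => (f : Y × Y → Y × Y)) DFunLike.coe_injective
  have hodd : Odd (orderOf (A * C)) := by
    rw [← Nat.not_even_iff_odd]
    rintro ⟨M, hM⟩
    set g := A * C with hg
    set z := g ^ M with hz
    have hNpos : 0 < orderOf g := orderOf_pos g
    have hzz : z * z = 1 := by
      rw [hz, ← pow_add, ← hM, pow_orderOf_eq_one]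
    have hz1 : z ≠ 1 := by
      intro h
      have := orderOf_dvd_of_pow_eq_one h
      have := Nat.le_of_dvd (by omega) this
      omega
    have hAinv : A⁻¹ = A := inv_eq_of_mul_eq_one_left hA
    have hCinv : C⁻¹ = C := inv_eq_of_mul_eq_one_left hC
    have hzinv : z⁻¹ = z := inv_eq_of_mul_eq_one_left hzz
    have hginv : g⁻¹ = C * A := by rw [hg, mul_inv_rev, hAinv, hCinv]
    have hAgA : A * g * A⁻¹ = g⁻¹ := by
      rw [hginv, hAinv, hg, ← mul_assoc, hA, one_mul]
    have hCgC : C * g * C⁻¹ = g⁻¹ := by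
      rw [hginv, hCinv, hg, mul_assoc, mul_assoc, hC, mul_one]
    have hAz : A * z = z * A := by
      have h1 : A * z * A⁻¹ = z⁻¹ := by
        rw [hz, ← conj_pow, hAgA, inv_pow]
      rw [hzinv] at h1
      rw [← h1]
      rw [inv_mul_cancel_right, h1]
    have hCz : C * z = z * C := by
      have h1 : C * z * C⁻¹ = z⁻¹ := by
        rw [hz, ← conj_pow, hCgC, inv_pow]
      rw [hzinv] at h1
      rw [← h1]
      rw [inv_mul_cancel_right, h1]
    have hgD : Commute g D := by
      show A * C * D = D * (A * C)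
      rw [mul_assoc, hCD, ← mul_assoc, hAD, mul_assoc]
    have hDz : D * z = z * D := ((hgD.pow_left M).eq).symm
    -- fixed points
    have key : ∀ E : MulAut (Y × Y), E * E = 1 → E * z = z * E →
        ∃ p : Y × Y, p ≠ 1 ∧ z p = p ∧ E p = p := by
      intro E hE hEz
      have h1 : ∃ p : Y × Y, z p ≠ p := by
        by_contra h
        push Not at h
        exact hz1 (MulEquiv.ext h)
      obtain ⟨p, hp⟩ := h1
      have hq1 : p * z p ≠ 1 := by
        intro h
        apply hp
        have h2 := mul_eq_one_iff_eq_inv.1 h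
        have h3 : (z p)⁻¹ = z p := inv_eq_of_mul_eq_one_left (hexp2 _)
        rw [h3] at h2
        exact h2.symm
      have hzq : z (p * z p) = p * z p := by
        rw [map_mul, ← MulAut.mul_apply, hzz, MulAut.one_apply, mul_comm]
      set q := p * z p with hq
      by_cases hEq : E q = q
      · exact ⟨q, hq1, hzq, hEq⟩
      · refine ⟨q * E q, ?_, ?_, ?_⟩
        · intro h
          apply hEq
          have h2 := mul_eq_one_iff_eq_inv.1 h
          have h3 : (E q)⁻¹ = E q := inv_eq_of_mul_eq_one_left (hexp2 _)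
          rw [h3] at h2
          exact h2.symm
        · rw [map_mul, hzq, ← MulAut.mul_apply, ← hEz, MulAut.mul_apply, hzq]
        · rw [map_mul, ← MulAut.mul_apply, hE, MulAut.one_apply, mul_comm]
    -- first coordinate
    let W₁ : Subgroup Y :=
      { carrier := {x | z (x, 1) = (x, 1)}
        one_mem' := map_one z
        mul_mem' := fun {x y} hx hy => by
          have h1 : ((x * y, 1) : Y × Y) = (x, 1) * (y, 1) := by
            ext
            · rfl
            · exact (one_mul _).symm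
          show z (x * y, 1) = (x * y, 1)
          rw [h1, map_mul, hx, hy]
        inv_mem' := fun {x} hx => by
          have h1 : ((x⁻¹, 1) : Y × Y) = (x, 1)⁻¹ := by
            ext
            · rfl
            · exact inv_one.symm
          show z (x⁻¹, 1) = (x⁻¹, 1)
          rw [h1, map_inv, hx] }
    let W₂ : Subgroup Y :=
      { carrier := {x | z (1, x) = (1, x)}
        one_mem' := map_one z
        mul_mem' := fun {x y} hx hy => by
          have h1 : ((1, x * y) : Y × Y) = (1, x) * (1, y) := by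
            ext
            · exact (one_mul _).symm
            · rfl
          show z (1, x * y) = (1, x * y)
          rw [h1, map_mul, hx, hy]
        inv_mem' := fun {x} hx => by
          have h1 : ((1, x⁻¹) : Y × Y) = (1, x)⁻¹ := by
            ext
            · exact inv_one.symm
            · rfl
          show z (1, x⁻¹) = (1, x⁻¹)
          rw [h1, map_inv, hx] }
    have hD1 : ∀ x, D (x, 1) = (κ x, 1) := fun x => by
      ext
      · rfl
      · exact map_one κ
    have hD2 : ∀ x, D (1, x) = (1, κ x) := fun x => by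
      ext
      · exact map_one κ
      · rfl
    have hW₁ : W₁ = ⊤ := by
      rcases hmin W₁ (fun w hw => by
        show z (κ w, 1) = (κ w, 1)
        rw [← hD1, ← MulAut.mul_apply, ← hDz, MulAut.mul_apply]
        exact congrArg D hw) with h | h
      · exfalso
        obtain ⟨p, hp1, hzp, hAp⟩ := key A hA hAz
        have h2 := hAfix p hAp
        have h3 : p.1 ∈ W₁ := by
          show z (p.1, 1) = (p.1, 1)
          rw [← h2]
          exact hzp
        rw [h, Subgroup.mem_bot] at h3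
        exact hp1 (Prod.ext h3 h2)
      · exact h
    have hW₂ : W₂ = ⊤ := by
      rcases hmin W₂ (fun w hw => by
        show z (1, κ w) = (1, κ w)
        rw [← hD2, ← MulAut.mul_apply, ← hDz, MulAut.mul_apply]
        exact congrArg D hw) with h | h
      · exfalso
        obtain ⟨p, hp1, hzp, hCp⟩ := key C hC hCz
        have h2 := hCfix p hCp
        have h3 : p.2 ∈ W₂ := by
          show z (1, p.2) = (1, p.2)
          rw [← h2]
          exact hzp
        rw [h, Subgroup.mem_bot] at h3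
        exact hp1 (Prod.ext h2 h3)
      · exact h
    apply hz1
    refine MulEquiv.ext fun p => ?_
    have h1 : p = (p.1, 1) * (1, p.2) := by
      ext
      · exact (mul_one _).symm
      · exact (one_mul _).symm
    have h2 : z (p.1, 1) = (p.1, 1) := by
      have : p.1 ∈ W₁ := by rw [hW₁]; exact Subgroup.mem_top _
      exact this
    have h3 : z (1, p.2) = (1, p.2) := by
      have : p.2 ∈ W₂ := by rw [hW₂]; exact Subgroup.mem_top _
      exact this
    rw [MulAut.one_apply]
    conv_lhs => rw [h1]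
    rw [map_mul, h2, h3, ← h1]
  obtain ⟨h, hmem, hh, hhA⟩ := exists_swap hA hC hodd
  have hhC : h * C = A * h := by
    have h1 : h * (h * A) * h = h * (C * h) * h := by rw [hhA]
    rw [← mul_assoc, hh, one_mul] at h1
    rw [h1, mul_assoc, mul_assoc, hh, mul_one]
  have hhD : h * D = D * h := by
    have h1 : ∀ k ∈ Subgroup.closure {A, C}, k ∈ Subgroup.centralizer {D} := by
      rw [← SetLike.le_def, Subgroup.closure_le]
      rintro k (rfl | rfl)
      · exact Subgroup.mem_centralizer_singleton_iff.2 hAD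
      · exact Subgroup.mem_centralizer_singleton_iff.2 hCD
    exact Subgroup.mem_centralizer_singleton_iff.1 (h1 h hmem)
  refine ⟨h, hmem, ?_⟩
  -- matrix of h
  have e1 : ∀ x, h (x, 1) = (1, (h (x, 1)).2) := by
    intro x
    have h1 : C (h (x, 1)) = h (x, 1) := by
      rw [← MulAut.mul_apply, ← hhA, MulAut.mul_apply, hA1]
    exact Prod.ext (hCfix _ h1) rfl
  have e2 : ∀ y, h (1, y) = ((h (1, y)).1, 1) := by
    intro y
    have h1 : A (h (1, y)) = h (1, y) := by
      rw [← MulAut.mul_apply, ← hhC, MulAut.mul_apply, hC1]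
    exact Prod.ext rfl (hAfix _ h1)
  set θ : Y → Y := fun x => (h (x, 1)).2 with hθ
  set η : Y → Y := fun y => (h (1, y)).1 with hη
  have e1' : ∀ x, h (x, 1) = (1, θ x) := e1
  have e2' : ∀ y, h (1, y) = (η y, 1) := e2
  have hθη : ∀ y, θ (η y) = y := by
    intro y
    have h1 : h (h (1, y)) = (1, y) := by
      rw [← MulAut.mul_apply, hh, MulAut.one_apply]
    rw [e2', e1'] at h1
    exact congrArg Prod.snd h1
  have hηθ : ∀ y, η (θ y) = y := by
    intro y
    have h1 : h (h (y, 1)) = (y, 1) := by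
      rw [← MulAut.mul_apply, hh, MulAut.one_apply]
    rw [e1', e2'] at h1
    exact congrArg Prod.fst h1
  have hθmul : ∀ x y, θ (x * y) = θ x * θ y := by
    intro x y
    have h1 : ((x * y, 1) : Y × Y) = (x, 1) * (y, 1) := by
      ext
      · rfl
      · exact (one_mul _).symm
    show (h (x * y, 1)).2 = _
    rw [h1, map_mul]
    rfl
  have hηmul : ∀ x y, η (x * y) = η x * η y := by
    intro x y
    have h1 : ((1, x * y) : Y × Y) = (1, x) * (1, y) := by
      ext
      · exact (one_mul _).symm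
      · rfl
    show (h (1, x * y)).1 = _
    rw [h1, map_mul]
    rfl
  have hθκ : ∀ x, θ (κ x) = κ (θ x) := by
    intro x
    have h1 : h (D (x, 1)) = D (h (x, 1)) := by
      rw [← MulAut.mul_apply, hhD, MulAut.mul_apply]
    have h2 : D (x, 1) = (κ x, 1) := Prod.ext rfl (map_one κ)
    rw [h2, e1', e1'] at h1
    exact congrArg Prod.snd h1
  have hηκ : ∀ x, η (κ x) = κ (η x) := by
    intro x
    have h1 : h (D (1, x)) = D (h (1, x)) := by
      rw [← MulAut.mul_apply, hhD, MulAut.mul_apply]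
    have h2 : D (1, x) = (1, κ x) := Prod.ext (map_one κ) rfl
    rw [h2, e2', e2'] at h1
    exact congrArg Prod.fst h1
  -- the main relation
  have hrel : ∀ y, θ (fa κ y) = fc κ (η y) := by
    intro y
    have h1 : h (A (1, y)) = C (h (1, y)) := by
      rw [← MulAut.mul_apply, hhA, MulAut.mul_apply]
    have h2 : A (1, y) = (fa κ y, 1) * (1, y) := by
      ext
      · show 1 * fa κ y = fa κ y * 1
        rw [one_mul, mul_one]
      · exact (one_mul _).symm
    have h3 : C (η y, 1) = (η y, fc κ (η y)) := by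
      ext
      · rfl
      · exact one_mul _
    rw [h2, map_mul, e1', e2', h3] at h1
    have h4 := congrArg Prod.snd h1
    have h5 : θ (fa κ y) * 1 = fc κ (η y) := h4
    rw [mul_one] at h5
    exact h5
  have hκη : ∀ y, κ (η y) = θ y := by
    intro y
    have h1 := hrel y
    rw [fa_apply, fc_apply, hθmul] at h1
    -- θ y * θ (κ⁻¹ y) = η y * κ (η y)
    have h2 : θ (κ⁻¹ y) = κ⁻¹ (θ y) := by
      apply κ.injective
      rw [← hθκ, MulAut.apply_inv_self, MulAut.apply_inv_self]
    rw [h2] at h1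
    -- set t := θ y * κ (η y): fa κ t = 1
    have h3 : fa κ (θ y * κ (η y)) = 1 := by
      rw [fa_apply, map_mul, MulAut.inv_apply_self]
      have h4 : θ y * κ (η y) * (κ⁻¹ (θ y) * η y) = (θ y * κ⁻¹ (θ y)) * (η y * κ (η y)) := by
        rw [mul_mul_mul_comm, mul_comm (κ (η y))]
      rw [h4, h1]
      exact hexp _
    have h5 := hfa _ h3
    have h6 := mul_eq_one_iff_eq_inv.1 h5
    rw [hinv] at h6
    exact h6.symm
  constructor
  · intro y
    show h (lo κ.toMonoidHom (h (1, y))) = (y, y)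
    rw [e2']
    have h1 : lo κ.toMonoidHom (η y, 1) = (η y, 1) * (1, θ y) := by
      ext
      · exact (mul_one _).symm
      · show 1 * κ (η y) = 1 * θ y
        rw [hκη]
    rw [h1, map_mul, e1', e2', hθη, hηθ]
    ext
    · exact one_mul _
    · exact mul_one _
  · intro x
    show h (lo κ.toMonoidHom (h (x, 1))) = (x, 1)
    rw [e1']
    have h1 : lo κ.toMonoidHom (1, θ x) = (1, θ x) := by
      ext
      · rfl
      · show θ x * κ 1 = θ x
        rw [map_one, mul_one]
    rw [h1, e2', hηθ]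

end model

section transfer

variable {H : Type u} [Group H] {V : Type v} [CommGroup V]

/-- `g` acts on the image of `ι` as `k`. -/
def Rel {Y : Type v} [CommGroup Y] (φ : H →* MulAut V) (ι : Y × Y →* V) (g : H)
    (k : MulAut (Y × Y)) : Prop := ∀ p, φ g (ι p) = ι (k p)

theorem Rel.mul {Y : Type v} [CommGroup Y] {φ : H →* MulAut V} {ι : Y × Y →* V} {g g' : H}
    {k k' : MulAut (Y × Y)} (h : Rel φ ι g k) (h' : Rel φ ι g' k') : Rel φ ι (g * g') (k * k') := by
  intro p
  rw [map_mul, MulAut.mul_apply, h', h, MulAut.mul_apply]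

theorem Rel.inv {Y : Type v} [CommGroup Y] {φ : H →* MulAut V} {ι : Y × Y →* V} {g : H}
    {k : MulAut (Y × Y)} (h : Rel φ ι g k) : Rel φ ι g⁻¹ k⁻¹ := by
  intro p
  have h1 := h (k⁻¹ p)
  rw [MulAut.apply_inv_self] at h1
  rw [← h1, ← MulAut.mul_apply, ← map_mul, inv_mul_cancel, map_one, MulAut.one_apply]

theorem Rel.closure {Y : Type v} [CommGroup Y] {φ : H →* MulAut V} {ι : Y × Y →* V}
    {A C : MulAut (Y × Y)} {a c : H} (hA : Rel φ ι a A) (hC : Rel φ ι c C) {h : MulAut (Y × Y)}
    (hh : h ∈ Subgroup.closure {A, C}) : ∃ g : H, Rel φ ι g h := by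
  let S : Subgroup (MulAut (Y × Y)) :=
    { carrier := {k | ∃ g : H, Rel φ ι g k}
      one_mem' := ⟨1, fun p => by rw [map_one]; rfl⟩
      mul_mem' := by
        rintro k k' ⟨g, hg⟩ ⟨g', hg'⟩
        exact ⟨g * g', hg.mul hg'⟩
      inv_mem' := by
        rintro k ⟨g, hg⟩
        exact ⟨g⁻¹, hg.inv⟩ }
  have h1 : Subgroup.closure {A, C} ≤ S := by
    rw [Subgroup.closure_le]
    rintro k (rfl | rfl)
    · exact ⟨a, hA⟩
    · exact ⟨c, hC⟩
  exact h1 hh

/-- Model version: the three involutions act on `Y × Y` as `(1 + κ⁻¹)` above, `κ`, `1` below the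
diagonal. -/
theorem model_false {Y : Type v} [CommGroup Y] [Finite Y] (n : ℕ) (hn : Nat.card Y ≤ n)
    {φ : H →* MulAut V} (hS3 : NoS3 φ)
    (hexp : ∀ y : Y, y * y = 1) (hnt : ∃ y : Y, y ≠ 1) (κ : MulAut Y)
    (hκ : ∀ y, κ y = y → y = 1) (ι : Y × Y →* V) (hι : Function.Injective ι) {a b b' : H}
    (ha : Rel φ ι a (up (fa κ))) (hb : Rel φ ι b (lo κ.toMonoidHom))
    (hb' : Rel φ ι b' (lo (MonoidHom.id Y))) : False := by
  induction n generalizing Y with
  | zero =>
    have : 0 < Nat.card Y := Nat.card_pos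
    omega
  | succ n ih =>
    by_cases hmin : ∀ W : Subgroup Y, (∀ w ∈ W, κ w ∈ W) → W = ⊥ ∨ W = ⊤
    · obtain ⟨h, hmem, h1, h2⟩ := core hexp κ hκ hmin
      have hc : Rel φ ι (b * b') (lo (fc κ)) := by
        have e : lo (fc κ) = lo κ.toMonoidHom * lo (MonoidHom.id Y) := by
          ext p
          · rfl
          · show p.2 * (p.1 * κ p.1) = p.2 * p.1 * κ p.1
            rw [mul_assoc]
        rw [e]
        exact hb.mul hb'
      obtain ⟨g, hg⟩ := ha.closure hc hmem
      have hx : Rel φ ι (g * b * g) (h * lo κ.toMonoidHom * h) := (hg.mul hb).mul hg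
      obtain ⟨y, hy⟩ := hnt
      have hv1 : ((y, 1) : Y × Y) ≠ 1 := fun h => hy (congrArg Prod.fst h)
      have hw1 : ((1, y) : Y × Y) ≠ 1 := fun h => hy (congrArg Prod.snd h)
      have hvw : ((y, 1) : Y × Y) ≠ (1, y) := fun h => hy (congrArg Prod.fst h)
      have hmul : ((y, y) : Y × Y) = (y, 1) * (1, y) := by
        ext
        · exact (mul_one _).symm
        · exact (one_mul _).symm
      refine not_noS3 (φ := φ) (v := ι (y, 1)) (w := ι (1, y)) (a := b') (b := g * b * g)
        ?_ ?_ ?_ ?_ ?_ ?_ ?_ ?_ ?_ hS3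
      · rw [← map_mul]
        have : ((y, 1) : Y × Y) * (y, 1) = 1 := Prod.ext (hexp y) (hexp 1)
        rw [this, map_one]
      · rw [← map_mul]
        have : ((1, y) : Y × Y) * (1, y) = 1 := Prod.ext (hexp 1) (hexp y)
        rw [this, map_one]
      · exact fun h => hv1 (hι (h.trans (map_one ι).symm))
      · exact fun h => hw1 (hι (h.trans (map_one ι).symm))
      · exact fun h => hvw (hι h)
      · rw [hb', ← map_mul, ← hmul]
        congr 1
        ext
        · rfl
        · exact one_mul _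
      · rw [hb']
        congr 1
        ext
        · rfl
        · exact mul_one _
      · rw [hx, h1, hmul, map_mul, mul_comm]
      · rw [hx, h2]
    · push Not at hmin
      obtain ⟨W, hW, hWb, hWt⟩ := hmin
      -- restrict
      have hW' : ∀ w ∈ W, κ⁻¹ w ∈ W := by
        have h1 : W.map κ.toMonoidHom ≤ W := by
          rintro _ ⟨w, hw, rfl⟩
          exact hW w hw
        have h2 : W.map κ.toMonoidHom = W := by
          apply Subgroup.eq_of_le_of_card_ge h1
          rw [Nat.card_congr (W.equivMapOfInjective κ.toMonoidHom κ.injective).toEquiv]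
        intro w hw
        rw [← h2] at hw
        obtain ⟨w', hw', rfl⟩ := hw
        show κ⁻¹ (κ w') ∈ W
        rw [MulAut.inv_apply_self]
        exact hw'
      let κ' : MulAut W :=
        { toFun := fun w => ⟨κ w, hW w w.2⟩
          invFun := fun w => ⟨κ⁻¹ w, hW' w w.2⟩
          left_inv := fun w => Subtype.ext (MulAut.inv_apply_self _ _ _)
          right_inv := fun w => Subtype.ext (MulAut.apply_inv_self _ _ _)
          map_mul' := fun w w' => Subtype.ext (map_mul κ (w : Y) w') }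
      let j : W × W →* Y × Y := MonoidHom.prodMap W.subtype W.subtype
      have hj : Function.Injective j := by
        rintro ⟨x, y⟩ ⟨x', y'⟩ h
        exact Prod.ext (Subtype.ext (congrArg Prod.fst h)) (Subtype.ext (congrArg Prod.snd h))
      refine ih (Y := W) ?_ (fun w => Subtype.ext (hexp w)) ?_ κ' ?_ (ι.comp j)
        (hι.comp hj) ?_ ?_ ?_
      · have h1 : Nat.card W < Nat.card Y := by
          rcases lt_or_ge (Nat.card W) (Nat.card Y) with h | h
          · exact h
          · exact absurd (Subgroup.eq_top_of_le_card W h) hWt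
        omega
      · obtain ⟨w, hw, hw1⟩ := W.bot_or_exists_ne_one.resolve_left hWb
        exact ⟨⟨w, hw⟩, fun h => hw1 (congrArg Subtype.val h)⟩
      · intro w hw
        exact Subtype.ext (hκ w (congrArg Subtype.val hw))
      · intro p
        exact ha (j p)
      · intro p
        exact hb (j p)
      · intro p
        exact hb' (j p)

/-- **Lemma D.** -/
theorem no_coincidence [Finite V] {φ : H →* MulAut V} (hexp : ∀ v : V, v * v = 1)
    (hS3 : NoS3 φ) {Y Y₀ : Subgroup V} (hdisj : Disjoint Y Y₀) (hY : Y ≠ ⊥) {a b b' : H}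
    (ha : ∀ y ∈ Y, φ a y = y) (ha₀ : ∀ y ∈ Y₀, φ a y * y⁻¹ ∈ Y)
    (hb₀ : ∀ y ∈ Y₀, φ b y = y) (hb : ∀ y ∈ Y, φ b y * y⁻¹ ∈ Y₀)
    (hb'₀ : ∀ y ∈ Y₀, φ b' y = y) (hb' : ∀ y ∈ Y, φ b' y * y⁻¹ ∈ Y₀)
    (hinj : ∀ y ∈ Y, φ b y = y → y = 1) (hinj' : ∀ y ∈ Y, φ b' y = y → y = 1)
    (hne : ∀ y ∈ Y, φ b y = φ b' y → y = 1)
    (hrel : ∀ y ∈ Y, ∃ y' ∈ Y, φ b y = φ a (φ b' y')) : False := by
  classical
  have hinv : ∀ v : V, v⁻¹ = v := fun v => inv_eq_of_mul_eq_one_left (hexp v)
  -- the homomorphisms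
  let comm (g : H) : V →* V :=
    { toFun := fun v => φ g v * v⁻¹
      map_one' := by rw [map_one, inv_one, mul_one]
      map_mul' := fun v w => by rw [map_mul, mul_inv, mul_mul_mul_comm] }
  have hcomm : ∀ g v, φ g v = v * comm g v := by
    intro g v
    show φ g v = v * (φ g v * v⁻¹)
    rw [mul_comm (φ g v), mul_inv_cancel_left]
  have huniq : ∀ {x x' y y' : V}, x ∈ Y → x' ∈ Y → y ∈ Y₀ → y' ∈ Y₀ → x * y = x' * y' →
      x = x' ∧ y = y' := by
    intro x x' y y' hx hx' hy hy' h
    have h1 : x'⁻¹ * x = y' * y⁻¹ := by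
      rw [inv_mul_eq_iff_eq_mul, ← mul_assoc, ← h, mul_inv_cancel_right]
    have h2 : x'⁻¹ * x ∈ Y ⊓ Y₀ := by
      refine ⟨Y.mul_mem (Y.inv_mem hx') hx, ?_⟩
      rw [h1]
      exact Y₀.mul_mem hy' (Y₀.inv_mem hy)
    rw [hdisj.eq_bot, Subgroup.mem_bot, inv_mul_eq_one] at h2
    refine ⟨h2.symm, ?_⟩
    rw [h2] at h
    exact mul_left_cancel h
  have hrel' : ∀ y ∈ Y, ∃ y' ∈ Y, comm b y = comm b' y' ∧ y = y' * comm a (comm b' y') := by
    intro y hy
    obtain ⟨y', hy', h⟩ := hrel y hy
    refine ⟨y', hy', ?_⟩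
    have h1 : φ a (φ b' y') = (y' * comm a (comm b' y')) * comm b' y' := by
      rw [hcomm b' y', map_mul, ha y' hy', hcomm a (comm b' y'), mul_assoc,
        mul_comm (comm b' y')]
    rw [h1, hcomm b y] at h
    obtain ⟨h2, h3⟩ := huniq hy (Y.mul_mem hy' (ha₀ _ (hb' y' hy'))) (hb y hy) (hb' y' hy') h
    exact ⟨h3, h2⟩
  have hinjc' : ∀ y ∈ Y, ∀ z ∈ Y, comm b' y = comm b' z → y = z := by
    intro y hy z hz h
    have h1 : y * z⁻¹ = 1 := by
      apply hinj' _ (Y.mul_mem hy (Y.inv_mem hz))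
      rw [hcomm, map_mul, map_inv, h, mul_inv_cancel, mul_one]
    exact mul_inv_eq_one.1 h1
  choose! k hkY hk1 hk2 using hrel'
  have hkmul : ∀ y ∈ Y, ∀ z ∈ Y, k (y * z) = k y * k z := by
    intro y hy z hz
    apply hinjc' _ (hkY _ (Y.mul_mem hy hz)) _ (Y.mul_mem (hkY _ hy) (hkY _ hz))
    rw [← hk1 _ (Y.mul_mem hy hz), map_mul, map_mul, hk1 y hy, hk1 z hz]
  let κ₀ : Y →* Y :=
    MonoidHom.mk' (fun y => ⟨k y, hkY y y.2⟩) (fun y z => Subtype.ext (hkmul y y.2 z z.2))
  have hκ₀ : Function.Injective κ₀ := by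
    rw [injective_iff_map_eq_one]
    intro y hy
    have h1 : k y = 1 := congrArg Subtype.val hy
    apply Subtype.ext
    apply hinj y y.2
    rw [hcomm, hk1 y y.2, h1, map_one, mul_one]
  let κ : MulAut Y := MulEquiv.ofBijective κ₀ (Finite.injective_iff_bijective.1 hκ₀)
  have hκapp : ∀ y : Y, ((κ y : Y) : V) = k y := fun y => rfl
  let ι : Y × Y →* V :=
    { toFun := fun p => (p.1 : V) * comm b' p.2
      map_one' := by
        show (1 : V) * comm b' 1 = 1
        rw [map_one, mul_one]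
      map_mul' := fun p q => by
        show ((p.1 : V) * q.1) * comm b' ((p.2 : V) * q.2) = _
        rw [map_mul, mul_mul_mul_comm] }
  have hιapp : ∀ p : Y × Y, ι p = (p.1 : V) * comm b' p.2 := fun p => rfl
  have hι : Function.Injective ι := by
    intro p q h
    rw [hιapp, hιapp] at h
    obtain ⟨h1, h2⟩ := huniq p.1.2 q.1.2 (hb' _ p.2.2) (hb' _ q.2.2) h
    exact Prod.ext (Subtype.ext h1) (Subtype.ext (hinjc' _ p.2.2 _ q.2.2 h2))
  have hfix : ∀ (g : H), (∀ y ∈ Y₀, φ g y = y) → ∀ y ∈ Y₀, comm g y = 1 := by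
    intro g hg y hy
    show φ g y * y⁻¹ = 1
    rw [hg y hy, mul_inv_cancel]
  refine model_false (Y := Y) (Nat.card Y) le_rfl hS3 (fun y => Subtype.ext (hexp y)) ?_ κ ?_ ι hι
    (a := a) (b := b) (b' := b') ?_ ?_ ?_
  · obtain ⟨w, hw, hw1⟩ := Y.bot_or_exists_ne_one.resolve_left hY
    exact ⟨⟨w, hw⟩, fun h => hw1 (congrArg Subtype.val h)⟩
  · intro y hy
    have h1 : k y = y := congrArg Subtype.val hy
    apply Subtype.ext
    apply hne y y.2
    rw [hcomm, hcomm b', hk1 y y.2, h1]
  · intro p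
    rw [hιapp, hιapp, map_mul, ha _ p.1.2, hcomm a (comm b' p.2)]
    have h1 : (((up (fa κ) p).1 : Y) : V) = (p.1 : V) * ((p.2 : V) * (κ⁻¹ p.2 : Y)) := rfl
    have h2 : (up (fa κ) p).2 = p.2 := rfl
    rw [h1, h2]
    -- comm a (comm b' y) = y * κ⁻¹ y
    have h3 : comm a (comm b' (p.2 : V)) = (p.2 : V) * ((κ⁻¹ p.2 : Y) : V) := by
      set q : Y := κ⁻¹ p.2 with hq
      have h4 : κ q = p.2 := by rw [hq, MulAut.apply_inv_self]
      have h5 : k q = p.2 := congrArg Subtype.val h4
      have h6 := hk2 q q.2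
      rw [h5] at h6
      -- q = p.2 * comm a (comm b' p.2)
      conv_rhs => rw [h6]
      rw [← mul_assoc, hexp, one_mul]
    rw [h3, mul_comm (comm b' (p.2 : V)), mul_assoc, mul_assoc, mul_assoc]
  · intro p
    have h0 : φ b (comm b' (p.2 : V)) = comm b' (p.2 : V) := hb₀ _ (hb' _ p.2.2)
    rw [hιapp, hιapp, map_mul, h0, hcomm b (p.1 : V)]
    have h1 : (((lo κ.toMonoidHom p).2 : Y) : V) = (p.2 : V) * k p.1 := rfl
    have h2 : (lo κ.toMonoidHom p).1 = p.1 := rfl
    rw [h1, h2, map_mul, ← hk1 _ p.1.2, mul_assoc, mul_comm (comm b (p.1 : V))]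
  · intro p
    have h0 : φ b' (comm b' (p.2 : V)) = comm b' (p.2 : V) := hb'₀ _ (hb' _ p.2.2)
    rw [hιapp, hιapp, map_mul, h0, hcomm b' (p.1 : V)]
    have h1 : (((lo (MonoidHom.id Y) p).2 : Y) : V) = (p.2 : V) * p.1 := rfl
    have h2 : (lo (MonoidHom.id Y) p).1 = p.1 := rfl
    rw [h1, h2, map_mul, mul_assoc, mul_comm (comm b' (p.1 : V))]

end transfer

end Cfsg.Agent.PLocal.S4FreeLemmaD
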