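import Mathlib
import Cfsg.Agent.PLocal.S4ConDefs
import Cfsg.Agent.PLocal.S4FreeLemmaD
import Cfsg.Agent.Lib.SylowNormalInf

set_option autoImplicit false

/-!
# Counting points, step (7) of the proof of S0665 (piece P2)

`Pts φ D M E Y`: the group `P` acts `S₃`-freely on `V` (exponent 2), the points are the images of
`Y`, with stabiliser `M`; two distinct points are complements of each other; `D ≤ M` acts trivially
on `Y` and `V / Y`, with kernel `E`, and semiregularly modulo `E` on the other points.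

* `Pts.count`: there are at least `|D / E| ^ 2 + 1` points;
* `Pts.decomp`, `Pts.card_eq`: invariant subgroups split along any two points;
* `Pts.section_card`: a nontrivial invariant section has order at least `|D / E| ^ 4`;
* `Pts.quad`: if an invariant quadratic map vanishes on `Y` but is not trivial, the radical of its
  bilinear map has index at least `2 * |D / E| ^ 2` in `Y`.
-/

namespace Cfsg.Agent.PLocal.S4ConCount

open Cfsg Cfsg.Agent.Lib
open Cfsg.Agent.PLocal.SFourBasic Cfsg.Agent.PLocal.SFourOffender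
open Cfsg.Agent.PLocal.S4FreeClosureBasic

universe u v w

variable {P : Type u} [Group P] {V : Type v} [CommGroup V]

structure Pts (φ : P →* MulAut V) (D M E : Subgroup P) (Y : Subgroup V) : Prop where
  exp : ∀ v : V, v * v = 1
  noS3 : NoS3 φ
  two : ∀ a ∈ D, a * a = 1
  ED : E ≤ D
  DE : ¬ D ≤ E
  DM : D ≤ M
  ne : M ≠ ⊤
  triv : ∀ a ∈ E, ∀ v, φ a v = v
  comm : ∀ a ∈ D, ∀ v, φ a v * v⁻¹ ∈ Y
  fixY : ∀ a ∈ D, ∀ y ∈ Y, φ a y = y
  inj : ∀ a ∈ D, a ∉ E → ∀ v, φ a v = v → v ∈ Y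
  inv : Inv φ M Y
  disj : ∀ x, x ∉ M → Y ⊓ im φ x Y = ⊥
  sup : ∀ x, x ∉ M → Y ⊔ im φ x Y = ⊤
  semi : ∀ x, x ∉ M → D ⊓ cj x M ≤ E
  Yne : Y ≠ ⊥

namespace Pts

variable {φ : P →* MulAut V} {D M E : Subgroup P} {Y : Subgroup V}

theorem exists_notMem (h : Pts φ D M E Y) : ∃ x, x ∉ M := by
  by_contra hc
  push Not at hc
  exact h.ne (eq_top_iff.2 fun x _ => hc x)

theorem inv_notMem {x : P} (hx : x ∉ M) : x⁻¹ ∉ M := fun h => hx (by simpa using M.inv_mem h)

theorem im_eq_of_mem (h : Pts φ D M E Y) {g : P} (hg : g ∈ M) : im φ g Y = Y := by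
  apply le_antisymm
  · rintro _ ⟨y, hy, rfl⟩
    exact h.inv g hg y hy
  · intro y hy
    rw [mem_im]
    exact h.inv _ (M.inv_mem hg) y hy

theorem mem_of_im_eq (h : Pts φ D M E Y) {g : P} (hg : im φ g Y = Y) : g ∈ M := by
  by_contra hgM
  have h1 := h.disj g hgM
  rw [hg, inf_idem] at h1
  exact h.Yne h1

theorem im_im (x y : P) (U : Subgroup V) : im φ x (im φ y U) = im φ (x * y) U := by
  ext v
  rw [mem_im, mem_im, mem_im, mul_inv_rev, map_mul, MulAut.mul_apply]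

theorem mem_of_im_eq_im (h : Pts φ D M E Y) {g g' : P} (hg : im φ g Y = im φ g' Y) :
    g⁻¹ * g' ∈ M := by
  apply h.mem_of_im_eq
  rw [← im_im, ← hg, im_inv_im]

theorem im_eq_im_of_mem (h : Pts φ D M E Y) {g g' : P} (hg : g⁻¹ * g' ∈ M) :
    im φ g Y = im φ g' Y := by
  have h1 := h.im_eq_of_mem hg
  have h2 : im φ g (im φ (g⁻¹ * g') Y) = im φ g Y := by rw [h1]
  rw [im_im, mul_inv_cancel_left] at h2
  exact h2.symm

theorem inf_eq_bot (h : Pts φ D M E Y) {g g' : P} (hg : g⁻¹ * g' ∉ M) :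
    im φ g Y ⊓ im φ g' Y = ⊥ := by
  rw [eq_bot_iff]
  rintro v ⟨h1, h2⟩
  replace h1 : φ g⁻¹ v ∈ Y := mem_im.1 h1
  replace h2 : φ g'⁻¹ v ∈ Y := mem_im.1 h2
  have h3 : φ g⁻¹ v ∈ Y ⊓ im φ (g⁻¹ * g') Y := by
    refine ⟨h1, mem_im.2 ?_⟩
    rw [mul_inv_rev, inv_inv, ← MulAut.mul_apply, ← map_mul, mul_inv_cancel_right]
    exact h2
  rw [h.disj _ hg, Subgroup.mem_bot] at h3
  rw [Subgroup.mem_bot]
  have h4 := congrArg (φ g) h3
  rwa [apply_inv_cancel, map_one] at h4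

/-- Elements of `D^x` in `M` are in `E^x`. -/
theorem mem_cj_E (h : Pts φ D M E Y) {x b : P} (hx : x ∉ M) (hb : b ∈ cj x D) (hbM : b ∈ M) :
    b ∈ cj x E := by
  rw [mem_cj] at hb ⊢
  apply h.semi x⁻¹ (inv_notMem hx)
  refine ⟨hb, mem_cj.2 ?_⟩
  have : x⁻¹⁻¹ * (x⁻¹ * b * x) * x⁻¹ = b := by group
  rwa [this]

theorem conj_apply (b x : P) (v : V) : φ (x⁻¹ * b * x) (φ x⁻¹ v) = φ x⁻¹ (φ b v) := by
  rw [← MulAut.mul_apply, ← map_mul, ← MulAut.mul_apply, ← map_mul, mul_inv_cancel_right]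

theorem triv' (h : Pts φ D M E Y) {x b : P} (hb : b ∈ cj x E) (v : V) : φ b v = v := by
  rw [mem_cj] at hb
  have h1 := h.triv _ hb (φ x⁻¹ v)
  rw [conj_apply] at h1
  exact (φ x⁻¹).injective h1

theorem comm' (h : Pts φ D M E Y) {x b : P} (hb : b ∈ cj x D) (v : V) :
    φ b v * v⁻¹ ∈ im φ x Y := by
  rw [mem_cj] at hb
  have h1 := h.comm _ hb (φ x⁻¹ v)
  rw [conj_apply] at h1
  rw [mem_im, MulEquiv.map_mul, MulEquiv.map_inv]
  exact h1

theorem fixY' (h : Pts φ D M E Y) {x b : P} (hb : b ∈ cj x D) {y : V} (hy : y ∈ im φ x Y) :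
    φ b y = y := by
  rw [mem_cj] at hb
  rw [mem_im] at hy
  have h1 := h.fixY _ hb _ hy
  rw [conj_apply] at h1
  exact (φ x⁻¹).injective h1

theorem inj' (h : Pts φ D M E Y) {x b : P} (hb : b ∈ cj x D) (hbE : b ∉ cj x E) {v : V}
    (hv : φ b v = v) : v ∈ im φ x Y := by
  rw [mem_cj] at hb hbE
  rw [mem_im]
  apply h.inj _ hb hbE
  rw [conj_apply, hv]

theorem uniq (h : Pts φ D M E Y) {x : P} (hx : x ∉ M) {y y' z z' : V} (hy : y ∈ Y)
    (hy' : y' ∈ Y) (hz : z ∈ im φ x Y) (hz' : z' ∈ im φ x Y) (he : y * z = y' * z') :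
    y = y' ∧ z = z' := by
  have h1 : y'⁻¹ * y = z' * z⁻¹ := by
    rw [inv_mul_eq_iff_eq_mul, ← mul_assoc, ← he, mul_inv_cancel_right]
  have h2 : y'⁻¹ * y ∈ Y ⊓ im φ x Y := by
    refine ⟨Y.mul_mem (Y.inv_mem hy') hy, ?_⟩
    rw [h1]
    exact (im φ x Y).mul_mem hz' (Subgroup.inv_mem _ hz)
  rw [h.disj x hx, Subgroup.mem_bot, inv_mul_eq_one] at h2
  refine ⟨h2.symm, ?_⟩
  rw [h2] at he
  exact mul_left_cancel he

/-- First coincidence. -/
theorem caseA (h : Pts φ D M E Y) {x a b : P} (hx : x ∉ M) (ha : a ∈ D) (hb : b ∈ cj x D)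
    (hbM : b ∉ M) : (a * x)⁻¹ * b ∉ M := by
  intro hc
  have h1 : im φ a (im φ x Y) = im φ b Y := by
    rw [im_im]
    exact h.im_eq_im_of_mem hc
  obtain ⟨y, hy, hy1⟩ := Y.bot_or_exists_ne_one.resolve_left h.Yne
  have hbE : b ∉ cj x E := by
    intro hbE
    apply hbM
    apply h.mem_of_im_eq
    ext v
    rw [mem_im]
    have h2 : φ b⁻¹ v = v := h.triv' (x := x) (Subgroup.inv_mem _ hbE) v
    rw [h2]
  -- `φ b y ∈ im φ a (im φ x Y)`
  have h2 : φ b y ∈ im φ a (im φ x Y) := by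
    rw [h1]
    exact ⟨y, hy, rfl⟩
  obtain ⟨z, hz, hz2⟩ := h2
  have hz2' : φ a z = φ b y := hz2
  have hc1 : φ b y * y⁻¹ ∈ im φ x Y := h.comm' hb y
  have hc2 : φ a z * z⁻¹ ∈ Y := h.comm a ha z
  have h3 : y * (φ b y * y⁻¹) = (φ a z * z⁻¹) * z := by
    rw [mul_comm, inv_mul_cancel_right, inv_mul_cancel_right, hz2']
  obtain ⟨h4, h5⟩ := h.uniq hx hy hc2 hc1 hz h3
  have hbw : φ b y = y * z := by
    rw [← h5, mul_comm, inv_mul_cancel_right]
  have hav : φ a z = z * y := by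
    rw [hz2', hbw, mul_comm]
  have hz1 : z ≠ 1 := by
    rintro rfl
    rw [mul_one] at hbw
    have h6 := h.inj' hb hbE hbw
    have h7 : y ∈ Y ⊓ im φ x Y := ⟨hy, h6⟩
    rw [h.disj x hx, Subgroup.mem_bot] at h7
    exact hy1 h7
  refine not_noS3 (φ := φ) (v := z) (w := y) (a := a) (b := b) (h.exp z) (h.exp y) hz1 hy1 ?_ hav
    (h.fixY a ha y hy) hbw (h.fixY' hb hz) h.noS3
  rintro rfl
  have h7 : z ∈ Y ⊓ im φ x Y := ⟨hy, hz⟩
  rw [h.disj x hx, Subgroup.mem_bot] at h7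
  exact hy1 h7

/-- Second coincidence. -/
theorem caseB [Finite V] (h : Pts φ D M E Y) {x a b b' : P} (hx : x ∉ M) (ha : a ∈ D)
    (hb : b ∈ cj x D) (hb' : b' ∈ cj x D) (hbM : b ∉ M) (hb'M : b' ∉ M)
    (hc : b⁻¹ * (a * b') ∈ M) : a ∈ E ∧ b⁻¹ * b' ∈ cj x E := by
  have h1 : im φ b Y = im φ a (im φ b' Y) := by
    rw [im_im]
    exact h.im_eq_im_of_mem hc
  have hbb : b⁻¹ * b' ∈ cj x D := Subgroup.mul_mem _ (Subgroup.inv_mem _ hb) hb'
  have hbE : b ∉ cj x E := by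
    intro hbE
    apply hbM
    apply h.mem_of_im_eq
    ext v
    rw [mem_im]
    have h2 : φ b⁻¹ v = v := h.triv' (x := x) (Subgroup.inv_mem _ hbE) v
    rw [h2]
  have hb'E : b' ∉ cj x E := by
    intro hbE
    apply hb'M
    apply h.mem_of_im_eq
    ext v
    rw [mem_im]
    have h2 : φ b'⁻¹ v = v := h.triv' (x := x) (Subgroup.inv_mem _ hbE) v
    rw [h2]
  have himE : ∀ {a : P}, a ∈ E → ∀ U : Subgroup V, im φ a U = U := by
    intro a ha U
    ext v
    rw [mem_im, h.triv _ (E.inv_mem ha)]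
  by_cases haE : a ∈ E
  · refine ⟨haE, h.mem_cj_E hx hbb ?_⟩
    rw [himE haE] at h1
    exact h.mem_of_im_eq_im h1
  · exfalso
    by_cases hbbE : b⁻¹ * b' ∈ cj x E
    · have h2 : im φ b Y = im φ b' Y := by
        ext v
        have h3 : φ (b⁻¹ * b') (φ b'⁻¹ v) = φ b'⁻¹ v := h.triv' hbbE _
        rw [← MulAut.mul_apply, ← map_mul, mul_inv_cancel_right] at h3
        rw [mem_im, mem_im, h3]
      apply haE
      apply h.semi b hbM
      refine ⟨ha, mem_cj.2 ?_⟩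
      have h3 := h1
      rw [← h2, im_im] at h3
      have h4 := h.mem_of_im_eq_im h3
      rwa [← mul_assoc] at h4
    · refine S4FreeLemmaD.no_coincidence (φ := φ) h.exp h.noS3 (Y := Y) (Y₀ := im φ x Y)
        (disjoint_iff.2 (h.disj x hx)) h.Yne (a := a) (b := b) (b' := b') (h.fixY a ha)
        (fun y _ => h.comm a ha y) (fun y hy => h.fixY' hb hy) (fun y _ => h.comm' hb y)
        (fun y hy => h.fixY' hb' hy) (fun y _ => h.comm' hb' y) ?_ ?_ ?_ ?_
      · intro y hy he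
        have h7 : y ∈ Y ⊓ im φ x Y := ⟨hy, h.inj' hb hbE he⟩
        rwa [h.disj x hx, Subgroup.mem_bot] at h7
      · intro y hy he
        have h7 : y ∈ Y ⊓ im φ x Y := ⟨hy, h.inj' hb' hb'E he⟩
        rwa [h.disj x hx, Subgroup.mem_bot] at h7
      · intro y hy he
        have h8 : φ (b⁻¹ * b') y = y := by
          rw [map_mul, MulAut.mul_apply, ← he, inv_apply_cancel]
        have h7 : y ∈ Y ⊓ im φ x Y := ⟨hy, h.inj' hbb hbbE h8⟩
        rwa [h.disj x hx, Subgroup.mem_bot] at h7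
      · intro y hy
        have h8 : φ b y ∈ im φ a (im φ b' Y) := by
          rw [← h1]
          exact ⟨y, hy, rfl⟩
        obtain ⟨z, ⟨y', hy', rfl⟩, hz⟩ := h8
        exact ⟨y', hy', hz.symm⟩

/-- There are at least `d ^ 2 + 1` points. -/
theorem count [Finite P] [Finite V] (h : Pts φ D M E Y) :
    (E.relIndex D) ^ 2 + 1 ≤ M.index := by
  classical
  obtain ⟨x, hx⟩ := h.exists_notMem
  let Q := D ⧸ E.subgroupOf D
  have hQ : Nat.card Q = E.relIndex D := rfl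
  let r : Q → P := fun q => ((q.out : D) : P)
  have hrD : ∀ q, r q ∈ D := fun q => (q.out : D).2
  have hrE : ∀ q q' : Q, (r q)⁻¹ * r q' ∈ E → q = q' := by
    intro q q' hqq
    have h1 : ((q.out : D)) ⁻¹ * (q'.out : D) ∈ E.subgroupOf D := by
      rw [Subgroup.mem_subgroupOf]
      exact hqq
    have h2 := QuotientGroup.eq.2 h1
    rwa [QuotientGroup.out_eq', QuotientGroup.out_eq'] at h2
  -- the distinguished class
  let e : Q := ((1 : D) : Q)
  have hre : ∀ q : Q, r q ∈ E → q = e := by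
    intro q hq
    have h1 : (1 : D)⁻¹ * (q.out : D) ∈ E.subgroupOf D := by
      rw [Subgroup.mem_subgroupOf]
      have : (((1 : D)⁻¹ * (q.out : D) : D) : P) = r q := by
        show ((1 : D) : P)⁻¹ * ((q.out : D) : P) = r q
        rw [Subgroup.coe_one, inv_one, one_mul]
      rw [this]
      exact hq
    have h2 := QuotientGroup.eq.2 h1
    rw [QuotientGroup.out_eq'] at h2
    exact h2.symm
  let b : Q → P := fun q => x * r q * x⁻¹
  have hb : ∀ q, b q ∈ cj x D := fun q => conj_mem_cj (hrD q)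
  have hbM : ∀ q, q ≠ e → b q ∉ M := by
    intro q hq hM
    apply hq
    apply hre
    have h1 := h.mem_cj_E hx (hb q) hM
    rw [mem_cj] at h1
    have h2 : x⁻¹ * b q * x = r q := by
      show x⁻¹ * (x * r q * x⁻¹) * x = r q
      group
    rwa [h2] at h1
  have hbE : ∀ q q', (b q)⁻¹ * b q' ∈ cj x E → q = q' := by
    intro q q' hqq
    apply hrE
    rw [mem_cj] at hqq
    have h2 : x⁻¹ * ((b q)⁻¹ * b q') * x = (r q)⁻¹ * r q' := by
      show x⁻¹ * ((x * r q * x⁻¹)⁻¹ * (x * r q' * x⁻¹)) * x = (r q)⁻¹ * r q'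
      group
    rwa [h2] at hqq
  let F : Q × Q → P := fun q => if q.2 = e then r q.1 * x else r q.1 * b q.2
  have hDM : ∀ q, r q ∈ M := fun q => h.DM (hrD q)
  have hFM : ∀ q, F q ∉ M := by
    intro q hq
    by_cases he : q.2 = e
    · have h1 : F q = r q.1 * x := if_pos he
      rw [h1] at hq
      exact hx ((M.mul_mem_cancel_left (hDM _)).1 hq)
    · have h1 : F q = r q.1 * b q.2 := if_neg he
      rw [h1] at hq
      exact hbM _ he ((M.mul_mem_cancel_left (hDM _)).1 hq)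
  have hFinj : ∀ q q', (F q)⁻¹ * F q' ∈ M → q = q' := by
    rintro ⟨q, s⟩ ⟨q', s'⟩ hqq
    by_cases he : s = e
    · have h1 : F (q, s) = r q * x := if_pos he
      by_cases he' : s' = e
      · have h2 : F (q', s') = r q' * x := if_pos he'
        rw [h1, h2] at hqq
        have h3 : (r q)⁻¹ * r q' ∈ E := by
          apply h.semi x hx
          refine ⟨D.mul_mem (D.inv_mem (hrD _)) (hrD _), mem_cj.2 ?_⟩
          have : x⁻¹ * ((r q)⁻¹ * r q') * x = (r q * x)⁻¹ * (r q' * x) := by group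
          rwa [this]
        rw [hrE _ _ h3, he, he']
      · have h2 : F (q', s') = r q' * b s' := if_neg he'
        rw [h1, h2] at hqq
        exfalso
        refine h.caseA hx (a := (r q')⁻¹ * r q) (D.mul_mem (D.inv_mem (hrD _)) (hrD _)) (hb s')
          (hbM s' he') ?_
        have : ((r q')⁻¹ * r q * x)⁻¹ * b s' = (r q * x)⁻¹ * (r q' * b s') := by group
        rwa [this]
    · have h1 : F (q, s) = r q * b s := if_neg he
      by_cases he' : s' = e
      · have h2 : F (q', s') = r q' * x := if_pos he'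
        rw [h1, h2] at hqq
        exfalso
        refine h.caseA hx (a := (r q)⁻¹ * r q') (D.mul_mem (D.inv_mem (hrD _)) (hrD _)) (hb s)
          (hbM s he) ?_
        have : ((r q)⁻¹ * r q' * x)⁻¹ * b s = ((r q * b s)⁻¹ * (r q' * x))⁻¹ := by group
        rw [this]
        exact M.inv_mem hqq
      · have h2 : F (q', s') = r q' * b s' := if_neg he'
        rw [h1, h2] at hqq
        obtain ⟨h3, h4⟩ := h.caseB hx (a := (r q)⁻¹ * r q') (b := b s) (b' := b s')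
          (D.mul_mem (D.inv_mem (hrD _)) (hrD _)) (hb s) (hb s') (hbM s he) (hbM s' he') (by
            have : (b s)⁻¹ * ((r q)⁻¹ * r q' * b s') = (r q * b s)⁻¹ * (r q' * b s') := by group
            rwa [this])
        rw [hrE _ _ h3, hbE _ _ h4]
  let G : Option (Q × Q) → P ⧸ M := fun o =>
    match o with
    | none => ((1 : P) : P ⧸ M)
    | some q => (F q : P ⧸ M)
  have hG : Function.Injective G := by
    rintro (_ | q) (_ | q') hqq
    · rfl
    · exfalso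
      have h1 : ((1 : P) : P ⧸ M) = (F q' : P ⧸ M) := hqq
      have h2 := QuotientGroup.eq.1 h1
      rw [inv_one, one_mul] at h2
      exact hFM _ h2
    · exfalso
      have h1 : ((1 : P) : P ⧸ M) = (F q : P ⧸ M) := hqq.symm
      have h2 := QuotientGroup.eq.1 h1
      rw [inv_one, one_mul] at h2
      exact hFM _ h2
    · have h1 : (F q : P ⧸ M) = (F q' : P ⧸ M) := hqq
      rw [hFinj _ _ (QuotientGroup.eq.1 h1)]
  have h1 := Nat.card_le_card_of_injective G hG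
  rw [Finite.card_option, Nat.card_prod, hQ, ← sq] at h1
  exact h1

/-- The kernel of `v ↦ [v, a]`, `a ∈ D`, `a ∉ E`, is `Y`, and its image is in `Y`. -/
theorem card_le_sq [Finite V] (h : Pts φ D M E Y) {R : Subgroup V}
    (hR : ∀ p : P, ∀ v ∈ R, φ p v ∈ R) : Nat.card R ≤ Nat.card (R ⊓ Y : Subgroup V) ^ 2 := by
  obtain ⟨a, ha, haE⟩ : ∃ a ∈ D, a ∉ E := by
    by_contra hc
    push Not at hc
    exact h.DE hc
  let f : V →* V :=
    { toFun := fun v => φ a v * v⁻¹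
      map_one' := by rw [map_one, inv_one, mul_one]
      map_mul' := fun v w => by rw [map_mul, mul_inv, mul_mul_mul_comm] }
  have hker : f.ker = Y := by
    ext v
    rw [MonoidHom.mem_ker]
    constructor
    · intro hv
      have hv' : φ a v * v⁻¹ = 1 := hv
      exact h.inj a ha haE v (mul_inv_eq_one.1 hv')
    · intro hv
      show φ a v * v⁻¹ = 1
      rw [h.fixY a ha v hv, mul_inv_cancel]
  have himg : R.map f ≤ R ⊓ Y := by
    rintro _ ⟨v, hv, rfl⟩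
    exact ⟨R.mul_mem (hR a v hv) (R.inv_mem hv), h.comm a ha v⟩
  have h1 := Subgroup.relIndex_ker R f
  have h2 := SylowNormalInf.card_inf_mul_relIndex f.ker R
  rw [h1, hker, inf_comm] at h2
  rw [← h2, sq]
  exact Nat.mul_le_mul_left _ (Nat.card_le_card_of_injective (Subgroup.inclusion himg)
    (Subgroup.inclusion_injective himg))

theorem im_inf_inv {R : Subgroup V} (hR : ∀ p : P, ∀ v ∈ R, φ p v ∈ R) (x : P) :
    R ⊓ im φ x Y = im φ x (R ⊓ Y) := by
  ext v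
  rw [mem_im]
  constructor
  · rintro ⟨h1, h2⟩
    exact ⟨hR _ _ h1, mem_im.1 h2⟩
  · rintro ⟨h1, h2⟩
    refine ⟨?_, mem_im.2 h2⟩
    have h3 := hR x _ h1
    rwa [apply_inv_cancel] at h3

theorem card_inf_im {R : Subgroup V} (hR : ∀ p : P, ∀ v ∈ R, φ p v ∈ R) (x : P) :
    Nat.card (R ⊓ im φ x Y : Subgroup V) = Nat.card (R ⊓ Y : Subgroup V) := by
  rw [im_inf_inv hR, card_im]

theorem card_sup_aux [Finite V] (h : Pts φ D M E Y) {R : Subgroup V} {x : P} (hx : x ∉ M)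
    (hR : ∀ p : P, ∀ v ∈ R, φ p v ∈ R) :
    Nat.card ((R ⊓ Y) ⊔ (R ⊓ im φ x Y) : Subgroup V) = Nat.card (R ⊓ Y : Subgroup V) ^ 2 := by
  have h1 := SylowNormalInf.card_mul_relIndex (R ⊓ Y) ((R ⊓ Y) ⊔ (R ⊓ im φ x Y)) le_sup_left
  rw [SylowNormalInf.relIndex_sup_of_normal] at h1
  have h2 := SylowNormalInf.card_inf_mul_relIndex (R ⊓ Y) (R ⊓ im φ x Y)
  have h3 : (R ⊓ Y) ⊓ (R ⊓ im φ x Y) = ⊥ := by
    rw [eq_bot_iff, ← h.disj x hx]
    exact le_inf (inf_le_left.trans inf_le_right) (inf_le_right.trans inf_le_right)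
  rw [h3, Subgroup.card_bot, one_mul, card_inf_im hR] at h2
  rw [← h1, h2, sq]

/-- Invariant subgroups split along two points. -/
theorem decomp [Finite V] (h : Pts φ D M E Y) {R : Subgroup V}
    (hR : ∀ p : P, ∀ v ∈ R, φ p v ∈ R) {x : P} (hx : x ∉ M) :
    (R ⊓ Y) ⊔ (R ⊓ im φ x Y) = R := by
  apply Subgroup.eq_of_le_of_card_ge (sup_le inf_le_left inf_le_left)
  rw [h.card_sup_aux hx hR]
  exact h.card_le_sq hR

theorem card_eq [Finite V] (h : Pts φ D M E Y) {R : Subgroup V}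
    (hR : ∀ p : P, ∀ v ∈ R, φ p v ∈ R) : Nat.card R = Nat.card (R ⊓ Y : Subgroup V) ^ 2 := by
  obtain ⟨x, hx⟩ := h.exists_notMem
  have h1 := h.card_sup_aux hx hR
  rwa [h.decomp hR hx] at h1

theorem relIndex_eq [Finite V] (h : Pts φ D M E Y) {R' R : Subgroup V}
    (hR' : ∀ p : P, ∀ v ∈ R', φ p v ∈ R') (hR : ∀ p : P, ∀ v ∈ R, φ p v ∈ R) (hle : R' ≤ R) :
    R'.relIndex R = (R'.relIndex (R ⊓ Y)) ^ 2 := by
  have h1 := SylowNormalInf.card_mul_relIndex R' R hle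
  have h2 := SylowNormalInf.card_inf_mul_relIndex R' (R ⊓ Y)
  have h3 : R' ⊓ (R ⊓ Y) = R' ⊓ Y := by
    rw [← inf_assoc, inf_eq_left.2 hle]
  rw [h3] at h2
  rw [h.card_eq hR, h.card_eq hR', ← h2, mul_pow] at h1
  exact Nat.eq_of_mul_eq_mul_left (pow_pos Nat.card_pos 2) h1

theorem relIndex_eq' [Finite V] (h : Pts φ D M E Y) {R' R : Subgroup V}
    (hR' : ∀ p : P, ∀ v ∈ R', φ p v ∈ R') (hR : ∀ p : P, ∀ v ∈ R, φ p v ∈ R) (hle : R' ≤ R) :
    R'.relIndex R = ((R' ⊓ Y).relIndex (R ⊓ Y)) ^ 2 := by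
  rw [h.relIndex_eq hR' hR hle]
  congr 1
  have h3 : R' ⊓ (R ⊓ Y) = (R' ⊓ Y) ⊓ (R ⊓ Y) := by
    apply le_antisymm
    · exact le_inf (le_inf inf_le_left (inf_le_right.trans inf_le_right)) inf_le_right
    · exact inf_le_inf_right _ inf_le_left
  rw [← Subgroup.inf_relIndex_right R', h3, Subgroup.inf_relIndex_right]

theorem relIndex_pos {G : Type w} [Group G] [Finite G] (A B : Subgroup G) :
    0 < A.relIndex B :=
  Nat.pos_of_dvd_of_pos (Subgroup.relIndex_dvd_card A B) Nat.card_pos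

/-- The covering map. -/
theorem cover [Finite P] [Finite V] (h : Pts φ D M E Y) {R' R : Subgroup V}
    (hR' : ∀ p : P, ∀ v ∈ R', φ p v ∈ R') (hR : ∀ p : P, ∀ v ∈ R, φ p v ∈ R) (hle : R' ≤ R) :
    ∃ (F : (P ⧸ M) × ↥(((R ⊓ Y ⊔ R' : Subgroup V) : Set V) \ R') → ↥((R : Set V) \ R')),
      Function.Injective F ∧ ∀ q, ∃ g : P, (F q : V) ∈ R ⊓ im φ g Y ⊔ R' := by
  have hmem : ∀ (q : (P ⧸ M) × ↥(((R ⊓ Y ⊔ R' : Subgroup V) : Set V) \ R')),
      φ q.1.out (q.2 : V) ∈ (R ⊓ im φ q.1.out Y ⊔ R') ∧ φ q.1.out (q.2 : V) ∉ R' := by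
    rintro ⟨c, v, hv, hv'⟩
    constructor
    · obtain ⟨y, hy, r, hr, rfl⟩ := Subgroup.mem_sup.1 hv
      refine Subgroup.mem_sup.2 ⟨φ c.out y, ⟨hR _ _ hy.1, ⟨y, hy.2, rfl⟩⟩, φ c.out r,
        hR' _ _ hr, ?_⟩
      rw [← map_mul]
    · intro hc
      apply hv'
      have h1 := hR' (c.out)⁻¹ _ hc
      rwa [inv_apply_cancel] at h1
  have hQR : ∀ g : P, R ⊓ im φ g Y ⊔ R' ≤ R := fun g => sup_le inf_le_left hle
  refine ⟨fun q => ⟨φ q.1.out (q.2 : V), hQR _ (hmem q).1, (hmem q).2⟩, ?_, ?_⟩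
  · intro q q' hqq
    have h1 : φ q.1.out (q.2 : V) = φ q'.1.out (q'.2 : V) := congrArg Subtype.val hqq
    have h2 : q.1 = q'.1 := by
      by_contra hne
      have hM : (q.1.out)⁻¹ * q'.1.out ∉ M := by
        intro hM
        apply hne
        have := QuotientGroup.eq.2 hM
        rwa [QuotientGroup.out_eq', QuotientGroup.out_eq'] at this
      apply (hmem q).2
      obtain ⟨y, hy, r, hr, he⟩ := Subgroup.mem_sup.1 (hmem q).1
      have h3 := (hmem q').1
      rw [← h1] at h3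
      obtain ⟨z, hz, s, hs, he'⟩ := Subgroup.mem_sup.1 h3
      -- `y * z⁻¹ ∈ R'`, split it
      have h4 : y * z⁻¹ ∈ R' := by
        have h5 : y * z⁻¹ = s * r⁻¹ := by
          have h6 : y * r = z * s := by rw [he, he']
          rw [eq_mul_inv_iff_mul_eq, mul_right_comm, h6, mul_comm z s, mul_inv_cancel_right]
        rw [h5]
        exact R'.mul_mem hs (R'.inv_mem hr)
      -- conjugate back by `g⁻¹`
      have h7 : φ (q.1.out)⁻¹ (y * z⁻¹) ∈
          (R' ⊓ Y) ⊔ (R' ⊓ im φ ((q.1.out)⁻¹ * q'.1.out) Y) := by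
        rw [h.decomp hR' hM]
        exact hR' _ _ h4
      obtain ⟨y₁, hy₁, z₁, hz₁, he₁⟩ := Subgroup.mem_sup.1 h7
      have hyY : φ (q.1.out)⁻¹ y ∈ Y := mem_im.1 hy.2
      have hzY : φ (q.1.out)⁻¹ z⁻¹ ∈ im φ ((q.1.out)⁻¹ * q'.1.out) Y := by
        rw [← im_im]
        exact ⟨z⁻¹, Subgroup.inv_mem _ hz.2, rfl⟩
      rw [map_mul] at he₁
      obtain ⟨h8, -⟩ := h.uniq hM hy₁.2 hyY hz₁.2 hzY he₁
      have h9 : φ (q.1.out)⁻¹ y ∈ R' := h8 ▸ hy₁.1
      have h10 := hR' q.1.out _ h9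
      rw [apply_inv_cancel] at h10
      rw [← he]
      exact R'.mul_mem h10 hr
    obtain ⟨c, v⟩ := q
    obtain ⟨c', v'⟩ := q'
    obtain rfl : c = c' := h2
    have h3 : (v : V) = (v' : V) := (φ c.out).injective h1
    rw [Subtype.ext h3]
  · intro q
    exact ⟨q.1.out, (hmem q).1⟩

theorem card_sup_sdiff [Finite V] (h : Pts φ D M E Y) {R' R : Subgroup V}
    (hR' : ∀ p : P, ∀ v ∈ R', φ p v ∈ R') :
    Nat.card ↥(((R ⊓ Y ⊔ R' : Subgroup V) : Set V) \ R') + Nat.card (R' ⊓ Y : Subgroup V) ^ 2 =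
      R'.relIndex (R ⊓ Y) * Nat.card (R' ⊓ Y : Subgroup V) ^ 2 := by
  have h1 : Nat.card ↥(((R ⊓ Y ⊔ R' : Subgroup V) : Set V) \ R') =
      Nat.card (R ⊓ Y ⊔ R' : Subgroup V) - Nat.card R' := by
    rw [Nat.card_coe_set_eq, Set.ncard_sdiff (SetLike.coe_subset_coe.2 le_sup_right),
      ← Nat.card_coe_set_eq, ← Nat.card_coe_set_eq]
    rfl
  have h2 := SylowNormalInf.card_mul_relIndex R' (R ⊓ Y ⊔ R') le_sup_right
  rw [Subgroup.relIndex_sup_right] at h2
  rw [h1, ← h.card_eq hR', Nat.sub_add_cancel, ← h2, mul_comm]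
  rw [← h2]
  exact Nat.le_mul_of_pos_right _ (relIndex_pos _ _)

theorem card_sdiff [Finite V] (h : Pts φ D M E Y) {R' R : Subgroup V}
    (hR' : ∀ p : P, ∀ v ∈ R', φ p v ∈ R') (hR : ∀ p : P, ∀ v ∈ R, φ p v ∈ R) (hle : R' ≤ R) :
    Nat.card ↥((R : Set V) \ R') + Nat.card (R' ⊓ Y : Subgroup V) ^ 2 =
      R'.relIndex (R ⊓ Y) ^ 2 * Nat.card (R' ⊓ Y : Subgroup V) ^ 2 := by
  have h1 : Nat.card ↥((R : Set V) \ R') = Nat.card R - Nat.card R' := by
    rw [Nat.card_coe_set_eq, Set.ncard_sdiff (SetLike.coe_subset_coe.2 hle),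
      ← Nat.card_coe_set_eq, ← Nat.card_coe_set_eq]
    rfl
  have h2 := SylowNormalInf.card_mul_relIndex R' R hle
  rw [h1, ← h.card_eq hR', Nat.sub_add_cancel, ← h2, h.relIndex_eq hR' hR hle, mul_comm]
  rw [← h2]
  exact Nat.le_mul_of_pos_right _ (relIndex_pos _ _)

theorem index_mul_le [Finite P] [Finite V] (h : Pts φ D M E Y) {R' R : Subgroup V}
    (hR' : ∀ p : P, ∀ v ∈ R', φ p v ∈ R') (hR : ∀ p : P, ∀ v ∈ R, φ p v ∈ R) (hle : R' ≤ R) :
    M.index * Nat.card ↥(((R ⊓ Y ⊔ R' : Subgroup V) : Set V) \ R') ≤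
      Nat.card ↥((R : Set V) \ R') := by
  obtain ⟨F, hF, -⟩ := h.cover hR' hR hle
  have h1 := Nat.card_le_card_of_injective F hF
  rwa [Nat.card_prod] at h1

/-- (7a), for one point. -/
theorem sq_le_relIndex [Finite P] [Finite V] (h : Pts φ D M E Y) {R' R : Subgroup V}
    (hR' : ∀ p : P, ∀ v ∈ R', φ p v ∈ R') (hR : ∀ p : P, ∀ v ∈ R, φ p v ∈ R) (hle : R' ≤ R)
    (hne : R' ≠ R) : (E.relIndex D) ^ 2 ≤ R'.relIndex (R ⊓ Y) := by
  have h1 := h.index_mul_le hR' hR hle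
  have h2 := h.card_sup_sdiff (R := R) hR'
  have h3 := h.card_sdiff hR' hR hle
  have h4 := h.count
  have h5 := h.relIndex_eq hR' hR hle
  have h6 : R'.relIndex R ≠ 1 := fun hc => hne (le_antisymm hle (Subgroup.relIndex_eq_one.1 hc))
  have hkpos : 0 < Nat.card (R' ⊓ Y : Subgroup V) ^ 2 := pow_pos Nat.card_pos 2
  have hf0 : R'.relIndex (R ⊓ Y) ≠ 0 := (relIndex_pos _ _).ne'
  generalize R'.relIndex (R ⊓ Y) = f at *
  generalize Nat.card (R' ⊓ Y : Subgroup V) ^ 2 = k at *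
  generalize Nat.card ↥(((R ⊓ Y ⊔ R' : Subgroup V) : Set V) \ R') = m at *
  generalize Nat.card ↥((R : Set V) \ R') = n at *
  have hf1 : f ≠ 1 := by
    intro hc
    apply h6
    rw [h5, hc]
    rfl
  obtain ⟨t, rfl⟩ : ∃ t, f = t + 2 := ⟨f - 2, by omega⟩
  by_contra hlt
  push Not at hlt
  have h7 : t + 4 ≤ M.index := by omega
  have h8 : m = (t + 1) * k := by
    have : m + k = (t + 1) * k + k := by rw [h2]; ring
    omega
  have h9 : n + k = (t + 2) ^ 2 * k := h3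
  have h10 : (t + 4) * ((t + 1) * k) ≤ n := by
    refine le_trans ?_ h1
    rw [h8]
    exact Nat.mul_le_mul_right _ h7
  nlinarith

/-- (7a) -/
theorem section_card [Finite P] [Finite V] (h : Pts φ D M E Y) {R' R : Subgroup V}
    (hR' : ∀ p : P, ∀ v ∈ R', φ p v ∈ R') (hR : ∀ p : P, ∀ v ∈ R, φ p v ∈ R) (hle : R' ≤ R)
    (hne : R' ≠ R) : (E.relIndex D) ^ 4 ≤ R'.relIndex R := by
  rw [h.relIndex_eq hR' hR hle]
  calc (E.relIndex D) ^ 4 = ((E.relIndex D) ^ 2) ^ 2 := by ring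
    _ ≤ _ := Nat.pow_le_pow_left (h.sq_le_relIndex hR' hR hle hne) 2

theorem exists_pow_relIndex {G : Type w} [Group G] [Finite G] {A B : Subgroup G}
    (hB : ∀ b ∈ B, b * b = 1) : ∃ n, A.relIndex B = 2 ^ n := by
  have h1 : IsPGroup 2 B := by
    intro b
    refine ⟨1, Subtype.ext ?_⟩
    show ((b : G)) ^ (2 ^ 1) = 1
    rw [pow_one, sq]
    exact hB b b.2
  obtain ⟨n, hn⟩ := IsPGroup.iff_card.1 h1
  obtain ⟨k, -, hk⟩ := (Nat.dvd_prime_pow Nat.prime_two).1 (hn ▸ Subgroup.relIndex_dvd_card A B)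
  exact ⟨k, hk⟩

/-- (7b): `q` is an invariant quadratic map with bilinear map `β`, `Rad` its radical. -/
theorem quad [Finite P] [Finite V] (h : Pts φ D M E Y) {Z : Type w} [CommGroup Z]
    {q : V → Z} {β : V → V → Z} (hβ : ∀ v w, q (v * w) = q v * q w * β v w)
    (hq : ∀ (p : P) (v : V), q (φ p v) = q v) (hY : ∀ y ∈ Y, q y = 1)
    {Rad : Subgroup V} (hRad : ∀ v, v ∈ Rad ↔ ∀ w, β v w = 1) (hne : ∃ v w, β v w ≠ 1) :
    2 * (E.relIndex D) ^ 2 ≤ Rad.relIndex Y := by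
  have hβ' : ∀ v w, β v w = (q v * q w)⁻¹ * q (v * w) := by
    intro v w
    rw [hβ, inv_mul_cancel_left]
  have hinv : ∀ (p : P) (v w : V), β (φ p v) (φ p w) = β v w := by
    intro p v w
    rw [hβ', hβ', ← map_mul, hq, hq, hq]
  have hRinv : ∀ p : P, ∀ v ∈ Rad, φ p v ∈ Rad := by
    intro p v hv
    rw [hRad] at hv ⊢
    intro w
    have h1 := hv (φ p⁻¹ w)
    rwa [← hinv p, apply_inv_cancel] at h1
  have hTinv : ∀ p : P, ∀ v ∈ (⊤ : Subgroup V), φ p v ∈ (⊤ : Subgroup V) := fun _ _ _ => trivial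
  have hRne : Rad ≠ ⊤ := by
    intro hc
    obtain ⟨v, w, hvw⟩ := hne
    exact hvw ((hRad v).1 (hc ▸ Subgroup.mem_top v) w)
  have himq : ∀ (g : P), ∀ v ∈ im φ g Y, q v = 1 := by
    rintro g _ ⟨y, hy, rfl⟩
    exact (hq g y).trans (hY y hy)
  obtain ⟨x, hx⟩ := h.exists_notMem
  have hqRad : ∀ v ∈ Rad, q v = 1 := by
    intro v hv
    have h1 := hv
    rw [← h.decomp hRinv hx] at h1
    obtain ⟨y, hy, z, hz, rfl⟩ := Subgroup.mem_sup.1 h1
    rw [hβ, hY y hy.2, himq x z hz.2, (hRad y).1 hy.1 z, mul_one, mul_one]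
  have hle : Rad ≤ ⊤ := le_top
  have h0 := h.sq_le_relIndex hRinv hTinv hle hRne
  have h1 := h.index_mul_le hRinv hTinv hle
  have h2 := h.card_sup_sdiff (R := ⊤) hRinv
  have h3 := h.card_sdiff hRinv hTinv hle
  have h4 := h.count
  rw [top_inf_eq] at h0 h2 h3
  obtain ⟨s, hs⟩ := exists_pow_relIndex (A := E) h.two
  obtain ⟨t, ht⟩ := exists_pow_relIndex (A := Rad) (B := Y) (fun b _ => h.exp b)
  have hlt : (E.relIndex D) ^ 2 < Rad.relIndex Y := by
    refine lt_of_le_of_ne h0 fun he => ?_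
    -- then the points cover everything outside the radical
    obtain ⟨F, hF, hF'⟩ := h.cover hRinv hTinv hle
    have hcard : Nat.card ↥(((⊤ : Subgroup V) : Set V) \ Rad) ≤
        Nat.card ((P ⧸ M) × ↥((((⊤ : Subgroup V) ⊓ Y ⊔ Rad : Subgroup V) : Set V) \ Rad)) := by
      rw [Nat.card_prod]
      show _ ≤ M.index * _
      rw [top_inf_eq]
      rw [he] at h4
      have hkpos : 0 < Nat.card (Rad ⊓ Y : Subgroup V) ^ 2 := pow_pos Nat.card_pos 2
      have hf0 : Rad.relIndex Y ≠ 0 := (relIndex_pos _ _).ne'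
      clear ht he h0 h1
      generalize Rad.relIndex Y = f at *
      generalize Nat.card (Rad ⊓ Y : Subgroup V) ^ 2 = k at *
      generalize Nat.card ↥(((Y ⊔ Rad : Subgroup V) : Set V) \ Rad) = m at *
      generalize Nat.card ↥(((⊤ : Subgroup V) : Set V) \ Rad) = n at *
      obtain ⟨t, rfl⟩ : ∃ t, f = t + 1 := ⟨f - 1, by omega⟩
      have h8 : m = t * k := by
        have : m + k = t * k + k := by rw [h2]; ring
        omega
      have h9 : n = t * (t + 2) * k := by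
        have : n + k = t * (t + 2) * k + k := by rw [h3]; ring
        omega
      rw [h9, h8]
      calc t * (t + 2) * k = (t + 1 + 1) * (t * k) := by ring
        _ ≤ _ := Nat.mul_le_mul_right _ h4
    have hbij := hF.bijective_of_nat_card_le hcard
    have hall : ∀ v, q v = 1 := by
      intro v
      by_cases hv : v ∈ Rad
      · exact hqRad v hv
      · obtain ⟨p, hp⟩ := hbij.2 ⟨v, trivial, hv⟩
        obtain ⟨g, hg⟩ := hF' p
        rw [hp] at hg
        obtain ⟨y, hy, r, hr, he'⟩ := Subgroup.mem_sup.1 hg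
        have h5 : r * y = v := by rw [mul_comm]; exact he'
        rw [← h5, hβ, hqRad r hr, himq g y hy.2, (hRad r).1 hr, mul_one, mul_one]
    obtain ⟨v, w, hvw⟩ := hne
    apply hvw
    rw [hβ', hall, hall, hall, mul_one, mul_one, inv_one]
  rw [hs, ← pow_mul, ht] at hlt
  rw [hs, ← pow_mul, ht, ← pow_succ']
  exact Nat.pow_le_pow_right (by norm_num) ((Nat.pow_lt_pow_iff_right (by norm_num)).1 hlt)

/-- (7b) in terms of the radical inside `Y`. -/
theorem quad' [Finite P] [Finite V] (h : Pts φ D M E Y) {Z : Type w} [CommGroup Z]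
    {q : V → Z} {β : V → V → Z} (hq : ∀ (p : P) (v : V), q (φ p v) = q v)
    (hβ : ∀ v w, q (v * w) = q v * q w * β v w)
    (hβm : ∀ v w u, β (v * w) u = β v u * β w u) (hY : ∀ y ∈ Y, q y = 1)
    (hne : ∃ v w, β v w ≠ 1) {R : Subgroup V} (hR : ∀ y, y ∈ R ↔ y ∈ Y ∧ ∀ w, β y w = 1) :
    2 * (E.relIndex D) ^ 2 ≤ R.relIndex Y := by
  have h1 : ∀ u, β 1 u = 1 := by
    intro u
    have := hβm 1 1 u
    rwa [one_mul, left_eq_mul] at this
  let Rad : Subgroup V :=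
    { carrier := {v | ∀ w, β v w = 1}
      one_mem' := h1
      mul_mem' := fun {a b} ha hb w => by rw [hβm, ha, hb, one_mul]
      inv_mem' := fun {a} ha w => by
        have h2 := hβm a⁻¹ a w
        rw [inv_mul_cancel, h1, ha, mul_one] at h2
        exact h2.symm }
  have hRad : ∀ v, v ∈ Rad ↔ ∀ w, β v w = 1 := fun _ => Iff.rfl
  have h2 : R = Rad ⊓ Y := by
    ext y
    rw [hR, Subgroup.mem_inf, hRad, and_comm]
  rw [h2, Subgroup.inf_relIndex_right]
  exact h.quad hβ hq hY hRad hne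

end Pts

end Cfsg.Agent.PLocal.S4ConCount
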