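import Mathlib
import Cfsg.Agent.PLocal.S4ConDefs
import Cfsg.Agent.PLocal.S4ConSection
import Cfsg.Agent.PLocal.S4FreeNoS3

set_option autoImplicit false

/-!
# The P-side: the flag on `D` from the facts P1, (7b), (5*)
-/

namespace Cfsg.Agent.PLocal.S4ConPreFlag

open Cfsg Cfsg.Agent.Lib
open Cfsg.Agent.PLocal.SFourBasic Cfsg.Agent.PLocal.SFourOffender
open Cfsg.Agent.PLocal.S4FreeClosureBasic Cfsg.Agent.PLocal.S4FreeClosureUniq
open Cfsg.Agent.PLocal.S4ConDefs Cfsg.Agent.PLocal.S4ConSection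

universe u

/-- The facts of piece P1 for a fixed `x ∉ M`. -/
structure PF {P : Type u} [Group P] [Finite P] (D : Subgroup P) (x : P) : Prop where
  comm : ∀ q ∈ pCore 2 P, ∀ a ∈ D, q * a * q⁻¹ * a⁻¹ ∈ D ⊓ pCore 2 P
  inf : D ⊓ cj x D = D ⊓ Subgroup.center P
  hatN : ((D ⊓ pCore 2 P) ⊔ cj x (D ⊓ pCore 2 P)).Normal
  inj : ∀ a ∈ D, a ∉ pCore 2 P → ∀ b ∈ cj x (D ⊓ pCore 2 P),
    b * a * b⁻¹ * a⁻¹ ∈ Subgroup.center P → b ∈ Subgroup.center P
  surj : ∀ a ∈ D, a ∉ pCore 2 P → ∀ u ∈ D ⊓ pCore 2 P,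
    ∃ b ∈ cj x (D ⊓ pCore 2 P), b * a * b⁻¹ * a⁻¹ * u ∈ Subgroup.center P
  lt : ¬ D ⊓ pCore 2 P ≤ Subgroup.center P
  cent : ∀ u ∈ D ⊓ pCore 2 P, (∀ b ∈ cj x (D ⊓ pCore 2 P), b * u = u * b) →
    u ∈ Subgroup.center P

/-- The facts of P2, (7b). -/
def Big {P : Type u} [Group P] [Finite P] (D : Subgroup P) (x : P) : Prop :=
  ∀ Λ : Subgroup P, Λ ≤ D ⊓ Subgroup.center P → Λ.relIndex (D ⊓ Subgroup.center P) = 2 →
    (∀ e ∈ D ⊓ pCore 2 P, ∀ b ∈ cj x (D ⊓ pCore 2 P), b * e * b⁻¹ * e⁻¹ ∈ Λ) ∨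
    ∀ R : Subgroup P, (∀ e, e ∈ R ↔ e ∈ D ⊓ pCore 2 P ∧
      ∀ b ∈ cj x (D ⊓ pCore 2 P), b * e * b⁻¹ * e⁻¹ ∈ Λ) →
      2 * (D ⊓ pCore 2 P).relIndex D ^ 2 ≤ R.relIndex (D ⊓ pCore 2 P)

/-- Piece P3, (5*). -/
def Key {P : Type u} [Group P] [Finite P] (D : Subgroup P) (x : P) : Prop :=
  ∀ W : Subgroup P, W ≤ D ⊓ pCore 2 P →
    (∀ e ∈ (D ⊓ pCore 2 P) ⊔ cj x (D ⊓ pCore 2 P), ∀ w ∈ W, e * w * e⁻¹ ∈ W) →
    (∀ A : Subgroup P, A ≤ (D ⊓ pCore 2 P) ⊔ cj x (D ⊓ pCore 2 P) →
      (∀ a ∈ A, ∀ b ∈ A, a * b * a⁻¹ * b⁻¹ ∈ Subgroup.centralizer (W : Set P)) →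
      A ≤ Subgroup.centralizer (W : Set P) ∨
      (Subgroup.centralizer (W : Set P)).relIndex A <
        (Subgroup.centralizer (A : Set P)).relIndex W) → W ≤ Subgroup.center P

theorem exists_rho {P V : Type*} [Group P] [Group V] {D : Subgroup P} {j : V →* P}
    (hj : Function.Injective j) (hD : j.range = D) :
    ∃ ρ : Subgroup.normalizer (D : Set P) →* MulAut V,
      ∀ (s : Subgroup.normalizer (D : Set P)) (v : V), j (ρ s v) = s * j v * (s : P)⁻¹ := by
  have hjD : ∀ v, j v ∈ D := fun v => hD ▸ ⟨v, rfl⟩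
  have h1 : ∀ s : Subgroup.normalizer (D : Set P), ∃ β : MulAut V,
      ∀ v, j (β v) = s * j v * (s : P)⁻¹ := by
    intro s
    apply exists_aut hj
    · intro v
      rw [hD]
      exact (Subgroup.mem_normalizer_iff.1 s.2 _).1 (hjD v)
    · intro v
      rw [hD]
      have := (Subgroup.mem_normalizer_iff.1 (inv_mem s.2) (j v)).1 (hjD v)
      rwa [inv_inv] at this
  choose f hf using h1
  refine ⟨MonoidHom.mk' f ?_, hf⟩
  intro s t
  ext v
  apply hj
  rw [MulAut.mul_apply, hf, hf, hf, Subgroup.coe_mul]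
  group

variable {P : Type u} [Group P] [Finite P] {S : Sylow 2 P} {D M : Subgroup P}

theorem preFlag (h : Zip S D M) {x : P} (hF : PF D x) (hbig : Big D x)
    (hkey : Key D x) : ∃ (V : Type u) (_ : CommGroup V) (j : V →* P) (B : Subgroup (MulAut V))
      (E E₀ : Subgroup V), Function.Injective j ∧ j.range = D ∧
      PreFlag (MonoidHom.id (MulAut V)) B E E₀ ∧
      (∀ W ≤ E, Unoff (MonoidHom.id (MulAut V)) B W → W ≤ E₀) ∧
      ∀ b ∈ B, ∃ s ∈ (S : Subgroup P), ∀ v, j (b v) = s * j v * s⁻¹ := by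
  obtain ⟨V, _, j, hj, hD⟩ := exists_mod h.two
  have hfinV : Finite V := Finite.of_injective j hj
  obtain ⟨ρ, hρ⟩ := exists_rho hj hD
  obtain ⟨Q, hQ⟩ : ∃ Q, Q = pCore 2 P := ⟨_, rfl⟩
  obtain ⟨N, hN⟩ : ∃ N : Subgroup P, N = Subgroup.normalizer (D : Set P) := ⟨_, rfl⟩
  have hjD : ∀ v, j v ∈ D := fun v => hD ▸ ⟨v, rfl⟩
  have hDj : ∀ a ∈ D, ∃ v, j v = a := fun a ha => by rw [← hD] at ha; exact ha
  have hQn : Q.Normal := hQ ▸ Cores.pCore_normal 2
  have hQN : Q ≤ Subgroup.normalizer (D : Set P) := by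
    rw [h.nrm, hQ]
    exact (Cores.pCore_le_sylow S).trans h.SM
  set F : Subgroup P := cj x (D ⊓ Q) with hFd
  have hxQ : F ≤ Q := by
    rintro _ ⟨e, he, rfl⟩
    exact hQn.conj_mem e he.2 x
  have hFN : F ≤ Subgroup.normalizer (D : Set P) := hxQ.trans hQN
  have hF2 : ∀ s ∈ F, s * s = 1 := by
    rintro _ ⟨e, he, rfl⟩
    show x * e * x⁻¹ * (x * e * x⁻¹) = 1
    calc x * e * x⁻¹ * (x * e * x⁻¹) = x * (e * e) * x⁻¹ := by group
      _ = 1 := by rw [h.two e he.1, mul_one, mul_inv_cancel]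
  obtain ⟨B, hB⟩ : ∃ B, B = (F.subgroupOf (Subgroup.normalizer (D : Set P))).map ρ := ⟨_, rfl⟩
  have hmB : ∀ b : MulAut V, b ∈ B ↔ ∃ s ∈ F, ∀ v, j (b v) = s * j v * s⁻¹ := by
    intro b
    rw [hB]
    constructor
    · rintro ⟨s, hs, rfl⟩
      exact ⟨s, hs, hρ s⟩
    · rintro ⟨s, hs, hb⟩
      refine ⟨⟨s, hFN hs⟩, hs, ?_⟩
      ext v
      apply hj
      rw [hρ, hb]
  obtain ⟨E, hE⟩ : ∃ E : Subgroup V, E = Q.comap j := ⟨_, rfl⟩
  obtain ⟨E₀, hE₀⟩ : ∃ E₀ : Subgroup V, E₀ = (Subgroup.center P).comap j := ⟨_, rfl⟩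
  have hmE : ∀ v, v ∈ E ↔ j v ∈ Q := fun v => by rw [hE]; rfl
  have hmE₀ : ∀ v, v ∈ E₀ ↔ j v ∈ Subgroup.center P := fun v => by rw [hE₀]; rfl
  have hcc : ∀ s ∈ Q, ∀ v, s * j v * s⁻¹ * (j v)⁻¹ ∈ D ⊓ Q := fun s hs v => by
    rw [hQ] at hs ⊢
    exact hF.comm s hs (j v) (hjD v)
  have hcomm0 : ∀ s ∈ F, ∀ e ∈ D ⊓ Q, s * e * s⁻¹ * e⁻¹ ∈ Subgroup.center P := by
    intro s hs e he
    obtain ⟨v, hv⟩ := hDj e he.1
    have h1 : s * e * s⁻¹ * e⁻¹ ∈ D := by
      rw [← hv]
      exact (hcc s (hxQ hs) v).1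
    have h2 : s * e * s⁻¹ * e⁻¹ ∈ cj x D := by
      obtain ⟨f, hf, rfl⟩ := hs
      rw [mem_cj]
      have h3 : x⁻¹ * e * x ∈ pCore 2 P := by
        have := hQn.conj_mem e he.2 x⁻¹
        rw [inv_inv] at this
        rwa [← hQ]
      have h4 := (hF.comm _ h3 f hf.1).1
      have h5 : x⁻¹ * ((MulAut.conj x).toMonoidHom f * e * ((MulAut.conj x).toMonoidHom f)⁻¹ *
          e⁻¹) * x = f * (x⁻¹ * e * x) * f⁻¹ * (x⁻¹ * e * x)⁻¹ := by
        show x⁻¹ * (x * f * x⁻¹ * e * (x * f * x⁻¹)⁻¹ * e⁻¹) * x = _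
        group
      rw [h5]
      have h6 : f * (x⁻¹ * e * x) * f⁻¹ * (x⁻¹ * e * x)⁻¹ =
          ((x⁻¹ * e * x) * f * (x⁻¹ * e * x)⁻¹ * f⁻¹)⁻¹ := by group
      rw [h6]
      exact inv_mem h4
    have h3 : s * e * s⁻¹ * e⁻¹ ∈ D ⊓ cj x D := ⟨h1, h2⟩
    rw [hF.inf] at h3
    exact h3.2
  have hidE : E.map j = D ⊓ Q := by
    rw [hE, Subgroup.map_comap_eq, hD]
  have hidE₀ : E₀.map j = D ⊓ Subgroup.center P := by
    rw [hE₀, Subgroup.map_comap_eq, hD]
  have hcenQ : D ⊓ Subgroup.center P ≤ Q := by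
    intro a ha
    have h1 : (Subgroup.zpowers a).Normal := by
      refine ⟨fun n hn g => ?_⟩
      have h2 : Subgroup.zpowers a ≤ Subgroup.center P := by
        rw [Subgroup.zpowers_le]
        exact ha.2
      have h3 := Subgroup.mem_center_iff.1 (h2 hn) g
      rwa [h3, mul_inv_cancel_right]
    have h2 : IsPGroup 2 (Subgroup.zpowers a) := by
      intro y
      obtain ⟨y, k, rfl⟩ := y
      refine ⟨1, Subtype.ext ?_⟩
      show (a ^ k) ^ (2 ^ 1) = 1
      rw [pow_one, pow_two, ← (Commute.refl a).mul_zpow, h.two a ha.1, one_zpow]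
    rw [hQ]
    exact Cores.le_pCore h1 h2 (Subgroup.mem_zpowers a)
  refine ⟨V, _, j, B, E, E₀, hj, hD, ?_, ?_, ?_⟩
  · refine { exp := ?_, le := ?_, ne := ?_, lt := ?_, two := ?_, a1 := ?_, a2 := ?_, fix := ?_,
             inj := ?_, surj := ?_, big := ?_ }
    · intro v
      apply hj
      rw [map_mul, map_one]
      exact h.two _ (hjD v)
    · intro v hv
      rw [hmE]
      rw [hmE₀] at hv
      exact hcenQ ⟨hjD v, hv⟩
    · intro hEt
      apply h.notle
      intro a ha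
      obtain ⟨v, rfl⟩ := hDj a ha
      have : v ∈ E := by rw [hEt]; trivial
      rw [hmE] at this
      rwa [← hQ]
    · intro hEE
      apply hF.lt
      rw [← hQ]
      rintro a ⟨ha, haQ⟩
      obtain ⟨v, rfl⟩ := hDj a ha
      rwa [← hmE₀, hEE, hmE]
    · intro b hb
      obtain ⟨s, hs, hbs⟩ := (hmB b).1 hb
      ext v
      apply hj
      rw [MulAut.mul_apply, hbs, hbs, MulAut.one_apply]
      have : s * (s * j v * s⁻¹) * s⁻¹ = (s * s) * j v * (s * s)⁻¹ := by group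
      rw [this, hF2 s hs, one_mul, inv_one, mul_one]
    · intro b hb v
      obtain ⟨s, hs, hbs⟩ := (hmB b).1 hb
      rw [hmE]
      show j (b v * v⁻¹) ∈ Q
      rw [map_mul, map_inv, hbs]
      exact (hcc s (hxQ hs) v).2
    · intro b hb u hu
      obtain ⟨s, hs, hbs⟩ := (hmB b).1 hb
      rw [hmE₀]
      show j (b u * u⁻¹) ∈ _
      rw [map_mul, map_inv, hbs]
      exact hcomm0 s hs (j u) ⟨hjD u, (hmE u).1 hu⟩
    · apply le_antisymm
      · intro v hv
        have hv' : ∀ s ∈ F, s * j v = j v * s := by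
          intro s hs
          have h1 := hv (ρ ⟨s, hFN hs⟩) ((hmB _).2 ⟨s, hs, hρ _⟩)
          have h2 := hρ ⟨s, hFN hs⟩ v
          rw [MonoidHom.id_apply] at h1
          rw [h1] at h2
          rw [eq_mul_inv_iff_mul_eq] at h2
          exact h2.symm
        rw [hmE₀]
        by_cases hvE : v ∈ E
        · exact hF.cent (j v) ⟨hjD v, hQ ▸ (hmE v).1 hvE⟩ (fun s hs => hv' s (by
            rw [hFd, hQ]; exact hs))
        · exfalso
          apply hF.lt
          intro e he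
          have h1 : x * e * x⁻¹ ∈ cj x (D ⊓ pCore 2 P) := conj_mem_cj he
          have h2 := hF.inj (j v) (hjD v) (fun hc => hvE ((hmE v).2 (hQ ▸ hc))) _ h1 (by
            rw [hv' _ (by rw [hFd, hQ]; exact h1), mul_inv_cancel_right, mul_inv_cancel]
            exact one_mem _)
          have h3 := Subgroup.mem_center_iff.1 h2 x
          have h4 : x * (x * e * x⁻¹) = x * x * e * x⁻¹ := by group
          have h5 : x * e = e * x := by
            have h6 : x * (x * e * x⁻¹) = x * e := by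
              rw [h3]; group
            have h7 : x * e * x⁻¹ = e := mul_left_cancel h6
            calc x * e = x * e * x⁻¹ * x := by group
              _ = e * x := by rw [h7]
          have h6 : x * e * x⁻¹ = e := by rw [h5, mul_inv_cancel_right]
          rwa [h6] at h2
      · intro v hv b hb
        obtain ⟨s, hs, hbs⟩ := (hmB b).1 hb
        apply hj
        rw [MonoidHom.id_apply, hbs]
        have h1 := Subgroup.mem_center_iff.1 ((hmE₀ v).1 hv) s
        rw [h1, mul_inv_cancel_right]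
    · intro v hv b hb hbv
      obtain ⟨s, hs, hbs⟩ := (hmB b).1 hb
      rw [hmE₀] at hbv
      rw [MonoidHom.id_apply, map_mul, map_inv, hbs] at hbv
      have h1 := hF.inj (j v) (hjD v) (fun hc => hv ((hmE v).2 (hQ ▸ hc))) s (by
        rw [← hQ]; exact hs) hbv
      ext w
      apply hj
      rw [hbs, MulAut.one_apply, (Subgroup.mem_center_iff.1 h1 (j w)).symm, mul_inv_cancel_right]
    · intro v hv u hu
      obtain ⟨s, hs, hsu⟩ := hF.surj (j v) (hjD v) (fun hc => hv ((hmE v).2 (hQ ▸ hc))) (j u)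
        ⟨hjD u, hQ ▸ (hmE u).1 hu⟩
      rw [← hQ] at hs
      refine ⟨ρ ⟨s, hFN hs⟩, (hmB _).2 ⟨s, hs, hρ _⟩, ?_⟩
      rw [hmE₀, map_mul, map_mul, map_inv, MonoidHom.id_apply, hρ]
      exact hsu
    · intro Λ hΛ hΛ2
      have e1 : (Λ.map j).relIndex (D ⊓ Subgroup.center P) = 2 := by
        rw [← hidE₀, Subgroup.relIndex_map_map_of_injective _ _ hj, hΛ2]
      have hΛc : Λ.map j ≤ D ⊓ Subgroup.center P := by
        rw [← hidE₀]
        exact Subgroup.map_mono hΛ
      rcases hbig (Λ.map j) hΛc e1 with h1 | h1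
      · left
        intro b hb u hu
        obtain ⟨s, hs, hbs⟩ := (hmB b).1 hb
        have h2 := h1 (j u) ⟨hjD u, hQ ▸ (hmE u).1 hu⟩ s (by rw [← hQ]; exact hs)
        rw [← hbs, ← map_inv, ← map_mul] at h2
        obtain ⟨w, hw, hw'⟩ := h2
        rw [hj hw'] at hw
        exact hw
      · right
        have h2 := h1 ((rad (MonoidHom.id (MulAut V)) B E Λ).map j) ?_
        · rw [← hQ, ← hidE, Subgroup.relIndex_map_map_of_injective _ _ hj] at h2
          have h3 : (E.map j).relIndex D = E.index := by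
            rw [← Subgroup.relIndex_top_right, ← Subgroup.relIndex_map_map_of_injective _ _ hj,
              ← MonoidHom.range_eq_map, hD]
          rwa [h3] at h2
        · intro e
          rw [← hQ]
          constructor
          · rintro ⟨u, ⟨hu, hu'⟩, rfl⟩
            refine ⟨⟨hjD u, (hmE u).1 hu⟩, fun s hs => ?_⟩
            have h2 := hu' (ρ ⟨s, hFN hs⟩) ((hmB _).2 ⟨s, hs, hρ _⟩)
            refine ⟨_, h2, ?_⟩
            rw [map_mul, map_inv, MonoidHom.id_apply, hρ]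
          · rintro ⟨⟨he, heQ⟩, he'⟩
            obtain ⟨u, rfl⟩ := hDj e he
            refine ⟨u, ⟨(hmE u).2 heQ, fun b hb => ?_⟩, rfl⟩
            obtain ⟨s, hs, hbs⟩ := (hmB b).1 hb
            obtain ⟨w, hw, hw'⟩ := he' s hs
            rw [← hbs, ← map_inv, ← map_mul] at hw'
            rw [hj hw'] at hw
            exact hw
  · intro W hWE hoff
    have h1 := hkey (W.map j) ?_ ?_ ?_
    · intro w hw
      rw [hmE₀]
      exact h1 ⟨w, hw, rfl⟩
    · rw [← hQ, ← hidE]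
      exact Subgroup.map_mono hWE
    · have hN' : (D ⊓ pCore 2 P) ⊔ cj x (D ⊓ pCore 2 P) ≤
          Subgroup.normalizer (W.map j : Set P) := by
        apply sup_le
        · rw [← hQ]
          refine le_trans ?_ (Subgroup.centralizer_le_normalizer _)
          intro e he
          rw [Subgroup.mem_centralizer_iff]
          rintro _ ⟨w, hw, rfl⟩
          obtain ⟨v, rfl⟩ := hDj e he.1
          rw [← map_mul, ← map_mul, mul_comm]
        · rw [← hQ, ← hFd]
          intro s hs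
          rw [Subgroup.mem_normalizer_iff]
          have hinv : ∀ t ∈ F, ∀ w ∈ W.map j, t * w * t⁻¹ ∈ W.map j := by
            rintro t ht _ ⟨w, hw, rfl⟩
            refine ⟨_, hoff.inv (ρ ⟨t, hFN ht⟩) ((hmB _).2 ⟨t, ht, hρ _⟩) w hw, ?_⟩
            exact hρ _ w
          intro w
          refine ⟨hinv s hs w, fun hw => ?_⟩
          have h2 := hinv s⁻¹ (inv_mem hs) _ hw
          have h3 : s⁻¹ * (s * w * s⁻¹) * s⁻¹⁻¹ = w := by group
          rwa [h3] at h2
      intro e he w hw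
      exact (Subgroup.mem_normalizer_iff.1 (hN' he) w).1 hw
    · intro A hA hab
      rw [← hQ, ← hFd] at hA
      have hAQ : A ≤ Q := hA.trans (sup_le inf_le_right hxQ)
      have hAN : A ≤ Subgroup.normalizer (D : Set P) := hAQ.trans hQN
      obtain ⟨A₁, hA₁⟩ : ∃ A₁, A₁ = (A.subgroupOf (Subgroup.normalizer (D : Set P))).map ρ :=
        ⟨_, rfl⟩
      have hmA : ∀ s (hs : s ∈ A), ρ ⟨s, hAN hs⟩ ∈ A₁ := fun s hs => by
        rw [hA₁]
        exact ⟨⟨s, hAN hs⟩, hs, rfl⟩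
      have hA₁B : A₁ ≤ B := by
        have hK : (D ⊓ Q) ⊔ F ≤
            (B.comap ρ).map (Subgroup.normalizer (D : Set P)).subtype := by
          apply sup_le
          · intro e he
            have heN : e ∈ Subgroup.normalizer (D : Set P) := hQN he.2
            refine ⟨⟨e, heN⟩, ?_, rfl⟩
            have h2 : ρ ⟨e, heN⟩ = 1 := by
              ext v
              apply hj
              rw [hρ, MulAut.one_apply]
              obtain ⟨w, rfl⟩ := hDj e he.1
              show j w * j v * (j w)⁻¹ = j v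
              rw [← map_inv, ← map_mul, ← map_mul, mul_comm w, mul_inv_cancel_right]
            show ρ ⟨e, heN⟩ ∈ B
            rw [h2]
            exact one_mem _
          · intro s hs
            refine ⟨⟨s, hFN hs⟩, ?_, rfl⟩
            exact (hmB _).2 ⟨s, hs, hρ _⟩
        rw [hA₁]
        rintro _ ⟨s, hs, rfl⟩
        obtain ⟨t, ht, hts⟩ := hK (hA hs)
        have : t = s := Subtype.ext hts
        rw [← this]
        exact ht
      have hmc : ∀ s (hs : s ∈ A), s ∈ Subgroup.centralizer ((W.map j : Subgroup P) : Set P) ↔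
          ρ ⟨s, hAN hs⟩ ∈ cn (MonoidHom.id (MulAut V)) W := by
        intro s hs
        rw [Subgroup.mem_centralizer_iff, mem_cn]
        constructor
        · intro h2 u hu
          apply hj
          rw [MonoidHom.id_apply, hρ]
          show s * j u * s⁻¹ = j u
          rw [← h2 (j u) ⟨u, hu, rfl⟩, mul_inv_cancel_right]
        · rintro h2 _ ⟨u, hu, rfl⟩
          have h3 := hρ ⟨s, hAN hs⟩ u
          have h4 := h2 u hu
          rw [MonoidHom.id_apply] at h4
          rw [h4, eq_mul_inv_iff_mul_eq] at h3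
          exact h3
      have e1 : (cn (MonoidHom.id (MulAut V)) W).relIndex A₁ =
          (Subgroup.centralizer ((W.map j : Subgroup P) : Set P)).relIndex A := by
        rw [hA₁, ← Subgroup.relIndex_comap, ← Subgroup.relIndex_subgroupOf hAN]
        rw [← Subgroup.inf_relIndex_right, ← Subgroup.inf_relIndex_right
          ((Subgroup.centralizer ((W.map j : Subgroup P) : Set P)).subgroupOf _)]
        congr 1
        ext s
        constructor
        · rintro ⟨h2, h3⟩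
          exact ⟨(hmc s h3).2 h2, h3⟩
        · rintro ⟨h2, h3⟩
          exact ⟨(hmc s h3).1 h2, h3⟩
      have e2 : (W ⊓ fx (MonoidHom.id (MulAut V)) A₁).map j =
          W.map j ⊓ Subgroup.centralizer (A : Set P) := by
        ext y
        constructor
        · rintro ⟨w, ⟨hw, hw'⟩, rfl⟩
          refine ⟨⟨w, hw, rfl⟩, ?_⟩
          show j w ∈ Subgroup.centralizer (A : Set P)
          rw [Subgroup.mem_centralizer_iff]
          intro s hs
          have h2 := hw' _ (hmA s hs)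
          have h3 := hρ ⟨s, hAN hs⟩ w
          rw [MonoidHom.id_apply] at h2
          rw [h2, eq_mul_inv_iff_mul_eq] at h3
          exact h3.symm
        · rintro ⟨⟨w, hw, rfl⟩, hw'⟩
          refine ⟨w, ⟨hw, ?_⟩, rfl⟩
          intro a ha
          rw [hA₁] at ha
          obtain ⟨s, hs, rfl⟩ := ha
          apply hj
          rw [MonoidHom.id_apply, hρ]
          have h2 := Subgroup.mem_centralizer_iff.1 hw' s hs
          rw [h2, mul_inv_cancel_right]
      have e3 : Nat.card (W.map j) = (Subgroup.centralizer (A : Set P)).relIndex (W.map j) *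
          Nat.card (W ⊓ fx (MonoidHom.id (MulAut V)) A₁ : Subgroup V) := by
        rw [← Subgroup.card_map_of_injective hj (K := W ⊓ fx (MonoidHom.id (MulAut V)) A₁), e2,
          mul_comm]
        rw [← Subgroup.inf_relIndex_right, inf_comm]
        have h2 := Subgroup.relIndex_mul_relIndex ⊥
          (Subgroup.centralizer (A : Set P) ⊓ W.map j) (W.map j) bot_le inf_le_right
        rw [Subgroup.relIndex_bot_left, Subgroup.relIndex_bot_left] at h2
        exact h2.symm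
      by_contra hcon
      rw [not_or, not_lt] at hcon
      obtain ⟨hcon1, hcon2⟩ := hcon
      apply hcon1
      have h5 := hoff.off A₁ hA₁B ?_ ?_
      · intro s hs
        exact (hmc s hs).2 (h5 (hmA s hs))
      · intro a ha b hb u hu
        rw [hA₁] at ha hb
        obtain ⟨s, hs, rfl⟩ := ha
        obtain ⟨t, ht, rfl⟩ := hb
        apply hj
        simp only [MonoidHom.id_apply, hρ]
        have h2 : j u * ((s : P)⁻¹ * (t : P)⁻¹ * (s : P)⁻¹⁻¹ * (t : P)⁻¹⁻¹) =
            ((s : P)⁻¹ * (t : P)⁻¹ * (s : P)⁻¹⁻¹ * (t : P)⁻¹⁻¹) * j u :=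
          Subgroup.mem_centralizer_iff.1
            (hab _ (inv_mem hs) _ (inv_mem ht)) (j u) ⟨u, hu, rfl⟩
        rw [inv_inv, inv_inv] at h2
        calc (s : P) * (t * j u * (t : P)⁻¹) * (s : P)⁻¹ =
            t * s * (((s : P)⁻¹ * (t : P)⁻¹ * s * t) * j u) * ((s : P) * t)⁻¹ := by group
          _ = t * s * (j u * ((s : P)⁻¹ * (t : P)⁻¹ * s * t)) * ((s : P) * t)⁻¹ := by rw [← h2]
          _ = _ := by group
      · rw [← Subgroup.card_map_of_injective hj (K := W), e3]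
        unfold ms
        rw [e1]
        exact Nat.mul_le_mul_right _ hcon2
  · intro b hb
    obtain ⟨s, hs, hbs⟩ := (hmB b).1 hb
    exact ⟨s, Cores.pCore_le_sylow S (hQ ▸ hxQ hs), hbs⟩

end Cfsg.Agent.PLocal.S4ConPreFlag
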