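import Mathlib
import Cfsg.Agent.PLocal.S4ConDefs
import Cfsg.Agent.PLocal.S4ConSection
import Cfsg.Agent.PLocal.S4FreeNoS3
import Cfsg.Agent.PLocal.S4ConPreFlag
import Cfsg.Agent.PLocal.S4ConCount

set_option autoImplicit false

/-!
# The module `Ê/E₀` of the P-side and the quadratic maps on it
-/

namespace Cfsg.Agent.PLocal.S4ConPts

open Cfsg Cfsg.Agent.Lib
open Cfsg.Agent.PLocal.SFourBasic Cfsg.Agent.PLocal.SFourOffender
open Cfsg.Agent.PLocal.S4FreeClosureBasic Cfsg.Agent.PLocal.S4FreeClosureUniq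
open Cfsg.Agent.PLocal.S4ConDefs Cfsg.Agent.PLocal.S4ConSection Cfsg.Agent.PLocal.S4ConPreFlag
open Cfsg.Agent.PLocal.S4ConCount (Pts)

universe u v

/-- The facts of piece P1. -/
structure PFs {P : Type u} [Group P] [Finite P] (D M : Subgroup P) : Prop where
  comm : ∀ q ∈ pCore 2 P, ∀ a ∈ D, q * a * q⁻¹ * a⁻¹ ∈ D ⊓ pCore 2 P
  six : ∀ x, x ∉ M → D ⊓ cj x M ≤ pCore 2 P
  inf : ∀ x, x ∉ M → D ⊓ cj x D = D ⊓ Subgroup.center P
  hatN : ∀ x, x ∉ M → ((D ⊓ pCore 2 P) ⊔ cj x (D ⊓ pCore 2 P)).Normal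
  hatEq : ∀ x y, x ∉ M → y ∉ M → (D ⊓ pCore 2 P) ⊔ cj x (D ⊓ pCore 2 P) =
    (D ⊓ pCore 2 P) ⊔ cj y (D ⊓ pCore 2 P)
  inj : ∀ x, x ∉ M → ∀ a ∈ D, a ∉ pCore 2 P → ∀ b ∈ cj x (D ⊓ pCore 2 P),
    b * a * b⁻¹ * a⁻¹ ∈ Subgroup.center P → b ∈ Subgroup.center P
  surj : ∀ x, x ∉ M → ∀ a ∈ D, a ∉ pCore 2 P → ∀ u ∈ D ⊓ pCore 2 P,
    ∃ b ∈ cj x (D ⊓ pCore 2 P), b * a * b⁻¹ * a⁻¹ * u ∈ Subgroup.center P
  lt : ¬ D ⊓ pCore 2 P ≤ Subgroup.center P
  cent : ∀ x, x ∉ M → ∀ u ∈ D ⊓ pCore 2 P, (∀ b ∈ cj x (D ⊓ pCore 2 P), b * u = u * b) →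
    u ∈ Subgroup.center P

variable {P : Type u} [Group P] [Finite P] {S : Sylow 2 P} {D M : Subgroup P}

set_option linter.unusedSectionVars false

theorem PFs.pf (h : PFs D M) {x : P} (hx : x ∉ M) : PF D x :=
  ⟨h.comm, h.inf x hx, h.hatN x hx, h.inj x hx, h.surj x hx, h.lt, h.cent x hx⟩

theorem mem_sup_of_norm {A B : Subgroup P} (h : A ≤ Subgroup.normalizer (B : Set P)) {x : P}
    (hx : x ∈ A ⊔ B) : ∃ a ∈ A, ∃ b ∈ B, a * b = x := by
  have h1 := Subgroup.coe_mul_of_left_le_normalizer_right A B h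
  rw [← SetLike.mem_coe, h1] at hx
  exact hx

theorem normal_of_le_center {N : Subgroup P} (h : N ≤ Subgroup.center P) : N.Normal := by
  refine ⟨fun n hn g => ?_⟩
  rw [Subgroup.mem_center_iff.1 (h hn) g, mul_inv_cancel_right]
  exact hn

theorem comm_of_two (h2 : ∀ a ∈ D, a * a = 1) : ∀ a ∈ D, ∀ b ∈ D, a * b = b * a := by
  intro a ha b hb
  have h1 := h2 _ (D.mul_mem ha hb)
  have h3 : (a * b)⁻¹ = a * b := inv_eq_of_mul_eq_one_left h1
  have h4 : a⁻¹ = a := inv_eq_of_mul_eq_one_left (h2 a ha)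
  have h5 : b⁻¹ = b := inv_eq_of_mul_eq_one_left (h2 b hb)
  rw [← h3, mul_inv_rev, h4, h5]

theorem center_le_core (h : Zip S D M) : D ⊓ Subgroup.center P ≤ pCore 2 P := by
  rintro n ⟨hnD, hnc⟩
  have h1 : (Subgroup.zpowers n).Normal :=
    normal_of_le_center (by rwa [Subgroup.zpowers_le])
  have h2 : IsPGroup 2 (Subgroup.zpowers n) := by
    intro y
    obtain ⟨y, k, rfl⟩ := y
    refine ⟨1, Subtype.ext ?_⟩
    show (n ^ k) ^ (2 ^ 1) = 1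
    rw [pow_one, pow_two, ← (Commute.refl n).mul_zpow, h.two n hnD, one_zpow]
  exact Cores.le_pCore h1 h2 (Subgroup.mem_zpowers n)

/-- Data of the module `Ê/E₀`. -/
structure Mod {P : Type u} [Group P] [Finite P] {V : Type v} [CommGroup V] (D M H : Subgroup P)
    (π : H →* V) (φ : P →* MulAut V) (Y : Subgroup V) : Prop where
  hN : H.Normal
  hat : ∀ x, x ∉ M → H = (D ⊓ pCore 2 P) ⊔ cj x (D ⊓ pCore 2 P)
  dec : ∀ x, x ∉ M → ∀ n ∈ H, ∃ f ∈ cj x (D ⊓ pCore 2 P), ∃ e ∈ D ⊓ pCore 2 P, f * e = n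
  surj : Function.Surjective π
  ker : ∀ n : H, π n = 1 ↔ (n : P) ∈ D ⊓ Subgroup.center P
  act : ∀ (g : P) (n : H), φ g (π n) = π ⟨g * n * g⁻¹, hN.conj_mem n n.2 g⟩
  memY : ∀ n : H, π n ∈ Y ↔ (n : P) ∈ D
  pts : Pts φ D M (D ⊓ pCore 2 P) Y

theorem exists_module (h : Zip S D M) (hF : PFs D M) : ∃ (V : Type u) (_ : CommGroup V)
    (H : Subgroup P) (π : H →* V) (φ : P →* MulAut V) (Y : Subgroup V), Mod D M H π φ Y := by
  obtain ⟨x, hx⟩ : ∃ x, x ∉ M := by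
    by_contra hcon
    push Not at hcon
    exact h.ne (eq_top_iff.2 fun y _ => hcon y)
  obtain ⟨Q, hQ⟩ : ∃ Q, Q = pCore 2 P := ⟨_, rfl⟩
  have hQn : Q.Normal := hQ ▸ Cores.pCore_normal 2
  obtain ⟨E, hE⟩ : ∃ E, E = D ⊓ pCore 2 P := ⟨_, rfl⟩
  have hEQ : E ≤ Q := hE ▸ hQ ▸ inf_le_right
  have hED : E ≤ D := hE ▸ inf_le_left
  obtain ⟨H, hH⟩ : ∃ H, H = E ⊔ cj x E := ⟨_, rfl⟩
  have hHx : ∀ y, y ∉ M → H = E ⊔ cj y E := fun y hy => by
    rw [hH, hE]; exact hF.hatEq x y hx hy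
  have hHn : H.Normal := by rw [hH, hE]; exact hF.hatN x hx
  obtain ⟨E₀, hE₀⟩ : ∃ E₀, E₀ = D ⊓ Subgroup.center P := ⟨_, rfl⟩
  have hE₀c : E₀ ≤ Subgroup.center P := hE₀ ▸ inf_le_right
  have hE₀D : E₀ ≤ D := hE₀ ▸ inf_le_left
  have hE₀n : E₀.Normal := normal_of_le_center hE₀c
  have hcjQ : ∀ y, cj y E ≤ Q := by
    rintro y _ ⟨e, he, rfl⟩
    exact hQn.conj_mem e (hEQ he) y
  have hHQ : H ≤ Q := by rw [hH]; exact sup_le hEQ (hcjQ x)
  have hQE : ∀ q ∈ Q, ∀ a ∈ D, q * a * q⁻¹ * a⁻¹ ∈ E := by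
    rw [hQ, hE]; exact hF.comm
  have hDc := comm_of_two h.two
  have hcjE2 : ∀ y, ∀ f ∈ cj y E, f * f = 1 := by
    rintro y _ ⟨e, he, rfl⟩
    show y * e * y⁻¹ * (y * e * y⁻¹) = 1
    calc y * e * y⁻¹ * (y * e * y⁻¹) = y * (e * e) * y⁻¹ := by group
      _ = 1 := by rw [h.two e (hED he), mul_one, mul_inv_cancel]
  -- elements of the centre in a conjugate of `D`
  have hcen : ∀ y, ∀ f ∈ cj y E, f ∈ Subgroup.center P → f ∈ E₀ := by
    rintro y _ ⟨e, he, rfl⟩ hc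
    have h1 : (MulAut.conj y).toMonoidHom e = e := by
      have h2 := Subgroup.mem_center_iff.1 hc y⁻¹
      have h3 : y⁻¹ * (y * e * y⁻¹) = (y * e * y⁻¹) * y⁻¹ := h2
      have h4 : y * e * y⁻¹ = e := by
        calc y * e * y⁻¹ = (y * e * y⁻¹ * y⁻¹) * y := by group
          _ = y⁻¹ * (y * e * y⁻¹) * y := by rw [h3]
          _ = e := by group
      exact h4
    rw [h1] at hc ⊢
    rw [hE₀]
    exact ⟨hED he, hc⟩
  -- `[E, E^y] ≤ E₀`
  have hcomm0 : ∀ y, y ∉ M → ∀ f ∈ cj y E, ∀ e ∈ E, f * e * f⁻¹ * e⁻¹ ∈ E₀ := by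
    intro y hy f hf e he
    have h1 : f * e * f⁻¹ * e⁻¹ ∈ D := hED (hQE f (hcjQ y hf) e (hED he))
    have h2 : f * e * f⁻¹ * e⁻¹ ∈ cj y D := by
      obtain ⟨g, hg, rfl⟩ := hf
      rw [mem_cj]
      have h3 : y⁻¹ * e * y ∈ Q := by
        have := hQn.conj_mem e (hEQ he) y⁻¹
        rwa [inv_inv] at this
      have h4 := hED (hQE _ h3 g (hED hg))
      have h5 : y⁻¹ * ((MulAut.conj y).toMonoidHom g * e * ((MulAut.conj y).toMonoidHom g)⁻¹ *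
          e⁻¹) * y = ((y⁻¹ * e * y) * g * (y⁻¹ * e * y)⁻¹ * g⁻¹)⁻¹ := by
        show y⁻¹ * (y * g * y⁻¹ * e * (y * g * y⁻¹)⁻¹ * e⁻¹) * y = _
        group
      rw [h5]
      exact inv_mem h4
    rw [hE₀, ← hF.inf y hy]
    exact ⟨h1, h2⟩
  have hnorm : ∀ y, y ∉ M → cj y E ≤ Subgroup.normalizer (E : Set P) := by
    intro y hy f hf
    have hinv : ∀ g ∈ cj y E, ∀ e ∈ E, g * e * g⁻¹ ∈ E := by
      intro g hg e he
      have := E.mul_mem (hQE g (hcjQ y hg) e (hED he)) he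
      rwa [inv_mul_cancel_right] at this
    rw [Subgroup.mem_normalizer_iff]
    intro e
    refine ⟨hinv f hf e, fun he => ?_⟩
    have h2 := hinv f⁻¹ (inv_mem hf) _ he
    have h3 : f⁻¹ * (f * e * f⁻¹) * f⁻¹⁻¹ = e := by group
    rwa [h3] at h2
  have hdec : ∀ y, y ∉ M → ∀ n ∈ H, ∃ f ∈ cj y E, ∃ e ∈ E, f * e = n := by
    intro y hy n hn
    rw [hHx y hy, sup_comm] at hn
    exact mem_sup_of_norm (hnorm y hy) hn
  have hsq : ∀ n ∈ H, n * n ∈ E₀ := by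
    intro n hn
    obtain ⟨f, hf, e, he, rfl⟩ := hdec x hx n hn
    have h1 := hcomm0 x hx f hf e he
    have h2 : f * e * f⁻¹ * e⁻¹ = f * e * (f * e) := by
      rw [inv_eq_of_mul_eq_one_left (hcjE2 x f hf),
        inv_eq_of_mul_eq_one_left (h.two e (hED he)), mul_assoc]
    rwa [h2] at h1
  have hkey : ∀ f e a : P, a * e = e * a → (a * (f * e) * a⁻¹)⁻¹ * (f * e) =
      e⁻¹ * (f⁻¹ * a * f⁻¹⁻¹ * a⁻¹)⁻¹ * e := by
    intro f e a hae
    have h1 : a * (f * e) * a⁻¹ = a * f * a⁻¹ * e := by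
      calc a * (f * e) * a⁻¹ = a * f * (e * a⁻¹) := by simp only [mul_assoc]
        _ = a * f * (a⁻¹ * e) := by
          rw [show e * a⁻¹ = a⁻¹ * e by
            rw [eq_inv_mul_iff_mul_eq, ← mul_assoc, hae, mul_inv_cancel_right]]
        _ = _ := by simp only [mul_assoc]
    rw [h1]
    group
  obtain ⟨V, inst, π, φ, hπ, hker, hexp, hact⟩ := exists_sec hHn hE₀n hsq
  have : Finite V := Finite.of_surjective π hπ
  have hEH : E ≤ H := by rw [hH]; exact le_sup_left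
  have hHD : H ⊓ D ≤ E := by
    rintro a ⟨ha, haD⟩
    rw [hE, ← hQ]
    exact ⟨haD, hHQ ha⟩
  have hE₀E : E₀ ≤ E := by
    rw [hE₀, hE]
    exact le_inf inf_le_left (center_le_core h)
  have hπeq : ∀ n m : H, π n = π m ↔ (n : P)⁻¹ * m ∈ E₀ := by
    intro n m
    rw [← inv_mul_eq_one, ← map_inv, ← map_mul, hker]
    rfl
  obtain ⟨Y, hY⟩ : ∃ Y, Y = (E.subgroupOf H).map π := ⟨_, rfl⟩
  have hmemY : ∀ n : H, π n ∈ Y ↔ (n : P) ∈ D := by
    intro n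
    rw [hY]
    constructor
    · rintro ⟨m, hm, hmn⟩
      have h1 := (hπeq m n).1 hmn
      have h2 := D.mul_mem (hED hm) (hE₀D h1)
      rwa [H.subtype_apply, mul_inv_cancel_left] at h2
    · intro hn
      exact ⟨n, hHD ⟨n.2, hn⟩, rfl⟩
  have hact' : ∀ (g : P) (n : H) (m : H), (m : P) = g * n * g⁻¹ → φ g (π n) = π m := by
    intro g n m hm
    rw [hact]
    congr 1
    exact Subtype.ext hm.symm
  refine ⟨V, inst, H, π, φ, Y, ⟨hHn, ?_, ?_, hπ, ?_, hact, hmemY, ?_⟩⟩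
  · rw [← hE]; exact hHx
  · rw [← hE]; exact hdec
  · rw [← hE₀]; exact hker
  rw [← hE]
  refine { exp := hexp, noS3 := ?_, two := h.two, ED := hED, DE := ?_, DM := ?_, ne := h.ne,
           triv := ?_, comm := ?_, fixY := ?_, inj := ?_, inv := ?_, disj := ?_, sup := ?_,
           semi := ?_, Yne := ?_ }
  · exact S4FreeNoS3.noS3_of_section h.s4 hHn hexp π hπ φ fun g a => (hact g a).symm
  · intro hcon
    apply h.notle
    rw [← hQ]
    exact hcon.trans hEQ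
  · exact h.DS.trans h.SM
  · intro a ha v
    obtain ⟨n, rfl⟩ := hπ v
    rw [hact, hπeq]
    obtain ⟨f, hf, e, he, hfe⟩ := hdec x hx n n.2
    show (a * (n : P) * a⁻¹)⁻¹ * n ∈ E₀
    rw [← hfe, hkey f e a (hDc a (hED ha) e (hED he))]
    have h1 := hE₀n.conj_mem _ (inv_mem (hcomm0 x hx f⁻¹ (inv_mem hf) a ha)) e⁻¹
    rwa [inv_inv e] at h1
  · intro a ha v
    obtain ⟨n, rfl⟩ := hπ v
    rw [hact, ← map_inv, ← map_mul, hmemY]
    have h1 := inv_mem (hQE n (hHQ n.2) a ha)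
    have h2 : ((n : P) * a * (n : P)⁻¹ * a⁻¹)⁻¹ = a * n * a⁻¹ * (n : P)⁻¹ := by group
    rw [h2] at h1
    exact hED h1
  · intro a ha y hy
    obtain ⟨n, rfl⟩ := hπ y
    rw [hmemY] at hy
    apply hact'
    rw [hDc a ha n hy, mul_inv_cancel_right]
  · intro a ha haE v hv
    obtain ⟨n, rfl⟩ := hπ v
    rw [hact, hπeq] at hv
    obtain ⟨f, hf, e, he, hfe⟩ := hdec x hx n n.2
    have hv' : (a * (n : P) * a⁻¹)⁻¹ * n ∈ E₀ := hv
    rw [← hfe, hkey f e a (hDc a ha e (hED he))] at hv'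
    have h1 := hE₀n.conj_mem _ hv' e
    have h2 : e * (e⁻¹ * (f⁻¹ * a * f⁻¹⁻¹ * a⁻¹)⁻¹ * e) * e⁻¹ =
      (f⁻¹ * a * f⁻¹⁻¹ * a⁻¹)⁻¹ := by group
    rw [h2, inv_mem_iff] at h1
    have h3 := hF.inj x hx a ha (fun hc => haE (by rw [hE]; exact ⟨ha, hc⟩)) f⁻¹
      (by rw [← hE]; exact inv_mem hf) (hE₀c h1)
    rw [hmemY, ← hfe]
    exact D.mul_mem (hE₀D (hcen x f hf ((inv_mem_iff).1 h3))) (hED he)
  · intro m hm y hy
    obtain ⟨n, rfl⟩ := hπ y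
    rw [hmemY] at hy
    rw [hact, hmemY]
    rw [← h.nrm] at hm
    exact (Subgroup.mem_normalizer_iff.1 hm n).1 hy
  · intro y hy
    rw [eq_bot_iff]
    rintro v ⟨hv, hv'⟩
    rw [Subgroup.mem_bot]
    obtain ⟨u, hu, rfl⟩ := hv'
    obtain ⟨m, rfl⟩ := hπ u
    have hm := (hmemY m).1 hu
    have hv1 : φ y (π m) ∈ Y := hv
    rw [hact, hmemY] at hv1
    show φ y (π m) = 1
    rw [hact, hker, hE₀, ← hF.inf y hy]
    exact ⟨hv1, conj_mem_cj hm⟩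
  · intro y hy
    rw [eq_top_iff]
    intro v _
    obtain ⟨n, rfl⟩ := hπ v
    obtain ⟨f, hf, e, he, hfe⟩ := hdec y hy n n.2
    obtain ⟨g, hg, hgf⟩ := hf
    have hgf' : y * g * y⁻¹ = f := hgf
    have hfH : f ∈ H := by rw [← hgf']; exact hHn.conj_mem g (hEH hg) y
    have h1 : n = (⟨f, hfH⟩ : H) * ⟨e, hEH he⟩ := Subtype.ext hfe.symm
    rw [h1, map_mul, mul_comm]
    refine Subgroup.mul_mem_sup ((hmemY _).2 (hED he)) ?_
    refine ⟨π ⟨g, hEH hg⟩, (hmemY _).2 (hED hg), ?_⟩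
    exact hact' y ⟨g, hEH hg⟩ ⟨f, hfH⟩ hgf'.symm
  · rw [hE]
    intro y hy
    exact le_inf inf_le_left (hF.six y hy)
  · intro hYb
    apply hF.lt
    rw [← hE]
    intro e he
    have h1 : π ⟨e, hEH he⟩ ∈ Y := (hmemY _).2 (hED he)
    rw [hYb, Subgroup.mem_bot, hker] at h1
    exact hE₀c h1

/-- `E₀` and the module. -/
theorem Mod.mem_of_eq {V : Type v} [CommGroup V] {H : Subgroup P} {π : H →* V}
    {φ : P →* MulAut V} {Y : Subgroup V} (hM : Mod D M H π φ Y) {n m : H} (h : π n = π m) :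
    (n : P)⁻¹ * m ∈ D ⊓ Subgroup.center P := by
  rw [← inv_mul_eq_one, ← map_inv, ← map_mul, hM.ker] at h
  exact h

/-- (7b) in the group `P`. -/
theorem big (h : Zip S D M) (hF : PFs D M) {x : P} (hx : x ∉ M) : Big D x := by
  obtain ⟨V, inst, H, π, φ, Y, hM⟩ := exists_module h hF
  have : Finite V := Finite.of_surjective π hM.surj
  intro Λ hΛ hΛ2
  obtain ⟨E, hE⟩ : ∃ E, E = D ⊓ pCore 2 P := ⟨_, rfl⟩
  obtain ⟨E₀, hE₀⟩ : ∃ E₀, E₀ = D ⊓ Subgroup.center P := ⟨_, rfl⟩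
  rw [← hE₀] at hΛ hΛ2
  rw [← hE]
  have hED : E ≤ D := hE ▸ inf_le_left
  have hE₀c : E₀ ≤ Subgroup.center P := hE₀ ▸ inf_le_right
  have hE₀D : E₀ ≤ D := hE₀ ▸ inf_le_left
  have hE₀n : E₀.Normal := normal_of_le_center hE₀c
  have hΛn : Λ.Normal := normal_of_le_center (hΛ.trans hE₀c)
  have hH : H = E ⊔ cj x E := by rw [hE]; exact hM.hat x hx
  have hEH : E ≤ H := by rw [hH]; exact le_sup_left
  have hFH : cj x E ≤ H := by rw [hH]; exact le_sup_right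
  have hker : ∀ n : H, π n = 1 ↔ (n : P) ∈ E₀ := by rw [hE₀]; exact hM.ker
  have heq : ∀ {n m : H}, π n = π m → (n : P)⁻¹ * m ∈ E₀ := by
    intro n m hnm
    rw [hE₀]
    exact hM.mem_of_eq hnm
  -- the quotient `E₀ / Λ`
  obtain ⟨Z, instZ, χ, -, hχ, hχk, hZ2, -⟩ := exists_sec hE₀n hΛn
    (fun z hz => by rw [h.two z (hE₀D hz)]; exact one_mem _)
  by_cases hall : ∀ e ∈ E, ∀ b ∈ cj x E, b * e * b⁻¹ * e⁻¹ ∈ Λ
  · exact Or.inl hall
  right
  intro R hR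
  have hcomm : ∀ n m : H, (n : P)⁻¹ * m * n * (m : P)⁻¹ ∈ E₀ := by
    intro n m
    have h1 : π (n⁻¹ * m * n * m⁻¹) = 1 := by
      rw [map_mul, map_mul, map_mul, map_inv, map_inv, mul_comm (π n)⁻¹, inv_mul_cancel_right,
        mul_inv_cancel]
    exact (hker _).1 h1
  have hsqE₀ : ∀ n : H, (n : P) * n ∈ E₀ := by
    intro n
    have h1 : π (n * n) = 1 := by rw [map_mul]; exact hM.pts.exp _
    exact (hker _).1 h1
  have hcen : ∀ z ∈ E₀, ∀ g : P, g * z = z * g := fun z hz g =>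
    Subgroup.mem_center_iff.1 (hE₀c hz) g
  have hDc := comm_of_two h.two
  let ν : V → H := Function.surjInv hM.surj
  have hν : ∀ v, π (ν v) = v := Function.surjInv_eq hM.surj
  let q : V → Z := fun v => χ ⟨(ν v : P) * ν v, hsqE₀ _⟩
  let β : V → V → Z := fun v w => χ ⟨(ν v : P)⁻¹ * ν w * ν v * (ν w : P)⁻¹, hcomm _ _⟩
  have hq : ∀ n : H, q (π n) = χ ⟨(n : P) * n, hsqE₀ _⟩ := by
    intro n
    have h1 := heq (hν (π n))
    show χ _ = χ _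
    congr 1
    apply Subtype.ext
    show (ν (π n) : P) * ν (π n) = n * n
    obtain ⟨z, hz⟩ : ∃ z, z = (ν (π n) : P)⁻¹ * n := ⟨_, rfl⟩
    rw [← hz] at h1
    have h2 : (n : P) = ν (π n) * z := by rw [hz]; group
    rw [h2]
    calc (ν (π n) : P) * ν (π n) = ν (π n) * (ν (π n) * z) * z := by
          rw [mul_assoc, mul_assoc (ν (π n) : P) z z, h.two z (hE₀D h1), mul_one]
      _ = ν (π n) * z * (ν (π n) * z) := by
          have h3 := hcen z h1 (ν (π n))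
          rw [mul_assoc (ν (π n) : P) z, ← mul_assoc z, ← h3]
          simp only [mul_assoc]
  have hβ : ∀ n m : H, β (π n) (π m) = χ ⟨(n : P)⁻¹ * m * n * (m : P)⁻¹, hcomm _ _⟩ := by
    intro n m
    have h1 := heq (hν (π n))
    have h2 := heq (hν (π m))
    show χ _ = χ _
    congr 1
    apply Subtype.ext
    show (ν (π n) : P)⁻¹ * ν (π m) * ν (π n) * (ν (π m) : P)⁻¹ = (n : P)⁻¹ * m * n * (m : P)⁻¹
    obtain ⟨z, hz⟩ : ∃ z, z = (ν (π n) : P)⁻¹ * n := ⟨_, rfl⟩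
    obtain ⟨y, hy⟩ : ∃ y, y = (ν (π m) : P)⁻¹ * m := ⟨_, rfl⟩
    rw [← hz] at h1
    rw [← hy] at h2
    have h3 : (n : P) = ν (π n) * z := by rw [hz]; group
    have h4 : (m : P) = ν (π m) * y := by rw [hy]; group
    rw [h3, h4]
    obtain ⟨a, ha⟩ : ∃ a, a = (ν (π n) : P) := ⟨_, rfl⟩
    obtain ⟨b, hb⟩ : ∃ b, b = (ν (π m) : P) := ⟨_, rfl⟩
    rw [← ha, ← hb]
    have hy' := hcen y h2 (a * z)
    have hz' := hcen z h1 (a⁻¹ * b * a)
    symm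
    calc (a * z)⁻¹ * (b * y) * (a * z) * (b * y)⁻¹ =
        z⁻¹ * a⁻¹ * b * (y * (a * z)) * y⁻¹ * b⁻¹ := by group
      _ = z⁻¹ * (a⁻¹ * b * a * z) * b⁻¹ := by rw [← hy']; group
      _ = a⁻¹ * b * a * b⁻¹ := by rw [hz']; group
  have hker' : π.ker = E₀.subgroupOf H := by
    ext n
    rw [MonoidHom.mem_ker, hker, Subgroup.mem_subgroupOf]
  have hE₀E : E₀ ≤ E := by
    rw [hE₀, hE]
    exact le_inf inf_le_left (center_le_core h)
  have hHD : H ⊓ D ≤ E := by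
    have h1 : H ≤ pCore 2 P := by
      rw [hH]
      apply sup_le
      · rw [hE]; exact inf_le_right
      · rintro _ ⟨e, he, rfl⟩
        have := Cores.pCore_normal (G := P) 2
        rw [hE] at he
        exact this.conj_mem e he.2 x
    rw [hE]
    exact le_inf inf_le_right (inf_le_left.trans h1)
  have hbig := hM.pts.quad' (q := q) (β := β) ?_ ?_ ?_ ?_ ?_ (R := (R.subgroupOf H).map π) ?_
  · have hY : Y = (E.subgroupOf H).map π := by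
      ext v
      obtain ⟨n, rfl⟩ := hM.surj v
      rw [hM.memY]
      constructor
      · intro hn
        exact ⟨n, hHD ⟨n.2, hn⟩, rfl⟩
      · rintro ⟨m, hm, hmn⟩
        have h1 := heq hmn
        have h2 := D.mul_mem (hED hm) (hE₀D h1)
        rwa [H.subtype_apply, mul_inv_cancel_left] at h2
    rw [hY, Subgroup.relIndex_map_map, hker'] at hbig
    have h1 : R.subgroupOf H ⊔ E₀.subgroupOf H = R.subgroupOf H := by
      rw [sup_eq_left]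
      intro n hn
      rw [Subgroup.mem_subgroupOf] at hn ⊢
      rw [hR]
      refine ⟨hE₀E hn, fun b _ => ?_⟩
      rw [hcen _ hn b, mul_inv_cancel_right, mul_inv_cancel]
      exact one_mem _
    have h2 : E.subgroupOf H ⊔ E₀.subgroupOf H = E.subgroupOf H := by
      rw [sup_eq_left]
      intro n hn
      exact hE₀E hn
    rw [h1, h2, Subgroup.relIndex_subgroupOf hEH, ← hE] at hbig
    exact hbig
  · intro p v
    obtain ⟨n, rfl⟩ := hM.surj v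
    rw [hM.act, hq, hq]
    congr 1
    apply Subtype.ext
    show p * (n : P) * p⁻¹ * (p * n * p⁻¹) = n * n
    have h1 := hcen _ (hsqE₀ n) p
    calc p * (n : P) * p⁻¹ * (p * n * p⁻¹) = p * ((n : P) * n) * p⁻¹ := by group
      _ = _ := by rw [h1, mul_inv_cancel_right]
  · intro v w
    obtain ⟨n, rfl⟩ := hM.surj v
    obtain ⟨m, rfl⟩ := hM.surj w
    rw [← map_mul, hq, hq, hq, hβ, ← map_mul, ← map_mul]
    congr 1
    apply Subtype.ext
    show (n : P) * m * (n * m) = n * n * (m * m) * ((n : P)⁻¹ * m * n * (m : P)⁻¹)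
    have h1 := hcen _ (hcomm n m) (m * m)
    calc (n : P) * m * (n * m) = n * n * (((n : P)⁻¹ * m * n * (m : P)⁻¹) * (m * m)) := by group
      _ = _ := by rw [← h1, ← mul_assoc]
  · intro v w u
    obtain ⟨n, rfl⟩ := hM.surj v
    obtain ⟨m, rfl⟩ := hM.surj w
    obtain ⟨k, rfl⟩ := hM.surj u
    rw [← map_mul, hβ, hβ, hβ, ← map_mul]
    congr 1
    apply Subtype.ext
    show ((n : P) * m)⁻¹ * k * (n * m) * (k : P)⁻¹ =
      ((n : P)⁻¹ * k * n * (k : P)⁻¹) * ((m : P)⁻¹ * k * m * (k : P)⁻¹)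
    have h1 := hcen _ (hcomm n k) (m : P)⁻¹
    calc ((n : P) * m)⁻¹ * k * (n * m) * (k : P)⁻¹ =
        ((m : P)⁻¹ * ((n : P)⁻¹ * k * n * (k : P)⁻¹)) * (k * m * (k : P)⁻¹) := by group
      _ = _ := by rw [h1]; simp only [mul_assoc]
  · intro y hy
    obtain ⟨n, rfl⟩ := hM.surj y
    rw [hM.memY] at hy
    rw [hq, hχk]
    show (n : P) * n ∈ Λ
    rw [h.two _ hy]
    exact one_mem _
  · push Not at hall
    obtain ⟨e, he, b, hb, hbe⟩ := hall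
    refine ⟨π ⟨b, hFH hb⟩⁻¹, π ⟨e, hEH he⟩, ?_⟩
    rw [hβ, Ne, hχk]
    show (b⁻¹)⁻¹ * e * b⁻¹ * e⁻¹ ∉ Λ
    rwa [inv_inv]
  · intro y
    constructor
    · rintro ⟨n, hn, rfl⟩
      have hn' := (hR n).1 hn
      refine ⟨(hM.memY n).2 (hED hn'.1), fun w => ?_⟩
      obtain ⟨m, rfl⟩ := hM.surj w
      rw [hβ, hχk]
      show (n : P)⁻¹ * m * n * (m : P)⁻¹ ∈ Λ
      obtain ⟨f, hf, e, he, hef⟩ : ∃ f ∈ cj x E, ∃ e ∈ E, f * e = m := by
        rw [hE]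
        exact hM.dec x hx m m.2
      have hen : e * n = n * e := hDc e (hED he) n (hED hn'.1)
      have h1 := ((hR _).1 (inv_mem hn)).2 f hf
      have h2 : (n : P)⁻¹ * m * n * (m : P)⁻¹ = (f * (n : P)⁻¹ * f⁻¹ * (n : P)⁻¹⁻¹)⁻¹ := by
        rw [← hef]
        calc (n : P)⁻¹ * (f * e) * n * (f * e)⁻¹ = (n : P)⁻¹ * f * (e * n) * e⁻¹ * f⁻¹ := by group
          _ = _ := by rw [hen]; group
      rw [h2]
      exact inv_mem h1
    · rintro ⟨hy, hy'⟩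
      obtain ⟨n, rfl⟩ := hM.surj y
      rw [hM.memY] at hy
      refine ⟨n, (hR n).2 ⟨hHD ⟨n.2, hy⟩, fun b hb => ?_⟩, rfl⟩
      have h1 := hy' (π ⟨b, hFH hb⟩)
      rw [hβ, hχk] at h1
      have h2 := hΛn.conj_mem _ h1 n
      have h3 : (n : P) * ((n : P)⁻¹ * b * n * b⁻¹) * (n : P)⁻¹ = b * n * b⁻¹ * (n : P)⁻¹ := by
        group
      rw [← h3]
      exact h2

end Cfsg.Agent.PLocal.S4ConPts
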