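import Mathlib
import Cfsg.Agent.PLocal.S4ConDefs
import Cfsg.Agent.PLocal.S4FreeClosure
import Cfsg.Agent.PLocal.S4FreeNoS3
import Cfsg.Agent.PLocal.S4ConSection
import Cfsg.Agent.Lib.Cores

set_option autoImplicit false

/-!
# S0665, P-side: group-theoretic facts of the configuration `Zip S D M`

`E := D ⊓ pCore 2 P`, `E₀ := D ⊓ center P`, `x ∉ M`.
-/

namespace Cfsg.Agent.PLocal.S4ConZip

open Cfsg Cfsg.Agent.Lib Cfsg.Agent.Lib.Cores
open Cfsg.Agent.PLocal.SFourBasic Cfsg.Agent.PLocal.SFourOffender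
open Cfsg.Agent.PLocal.S4FreeClosureBasic Cfsg.Agent.PLocal.S4FreeClosureUniq
open Cfsg.Agent.PLocal.S4ConDefs

universe u

variable {P : Type u} [Group P] [Finite P] {S : Sylow 2 P} {D M : Subgroup P}

section basic

omit [Finite P] in
/-- A subgroup normalised by generators is normal. -/
theorem normal_of_gen {A B R : Subgroup P} (hAB : A ⊔ B = ⊤)
    (hA : ∀ a ∈ A, ∀ r ∈ R, a * r * a⁻¹ ∈ R) (hB : ∀ b ∈ B, ∀ r ∈ R, b * r * b⁻¹ ∈ R) :
    R.Normal := by
  have key : ∀ C : Subgroup P, (∀ a ∈ C, ∀ r ∈ R, a * r * a⁻¹ ∈ R) →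
      C ≤ Subgroup.normalizer (R : Set P) := by
    intro C hC a ha
    rw [Subgroup.mem_normalizer_iff]
    intro r
    constructor
    · exact hC a ha r
    · intro hr
      have := hC a⁻¹ (inv_mem ha) _ hr
      have e : a⁻¹ * (a * r * a⁻¹) * a⁻¹⁻¹ = r := by group
      rwa [e] at this
  have h1 : (⊤ : Subgroup P) ≤ Subgroup.normalizer (R : Set P) := by
    rw [← hAB]
    exact sup_le (key A hA) (key B hB)
  refine ⟨fun n hn g => ?_⟩
  exact (Subgroup.mem_normalizer_iff.1 (h1 (Subgroup.mem_top g)) n).1 hn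

theorem QM (h : Zip S D M) : pCore 2 P ≤ M := (pCore_le_sylow S).trans h.SM

theorem DM (h : Zip S D M) : D ≤ M := h.DS.trans h.SM

theorem inv_eq (h : Zip S D M) {a : P} (ha : a ∈ D) : a⁻¹ = a :=
  inv_eq_of_mul_eq_one_left (h.two a ha)

theorem comm (h : Zip S D M) {a b : P} (ha : a ∈ D) (hb : b ∈ D) : a * b = b * a := by
  have h1 := inv_eq h (mul_mem ha hb)
  rw [mul_inv_rev, inv_eq h ha, inv_eq h hb] at h1
  exact h1.symm

theorem conj_mem (h : Zip S D M) {m a : P} (hm : m ∈ M) (ha : a ∈ D) : m * a * m⁻¹ ∈ D := by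
  rw [← h.nrm, Subgroup.mem_normalizer_iff] at hm
  exact (hm a).1 ha

/-- The configuration is invariant under conjugation. -/
theorem cj_conj_mem (h : Zip S D M) (x : P) {a m : P} (hm : m ∈ cj x M) (ha : a ∈ cj x D) :
    m * a * m⁻¹ ∈ cj x D := by
  rw [mem_cj] at hm ha ⊢
  have := conj_mem h hm ha
  convert this using 1
  group

theorem cj_two (h : Zip S D M) (x : P) {a : P} (ha : a ∈ cj x D) :
    a * a = 1 := by
  rw [mem_cj] at ha
  have h1 := h.two _ ha
  have h2 : x⁻¹ * a * x * (x⁻¹ * a * x) = x⁻¹ * (a * a) * x := by group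
  rw [h2] at h1
  have h3 : a * a = x * (x⁻¹ * (a * a) * x) * x⁻¹ := by group
  rw [h3, h1]
  group

theorem cj_inv_eq (h : Zip S D M) (x : P) {a : P} (ha : a ∈ cj x D) :
    a⁻¹ = a :=
  inv_eq_of_mul_eq_one_left (cj_two h x ha)

theorem cj_comm (h : Zip S D M) (x : P) {a b : P} (ha : a ∈ cj x D)
    (hb : b ∈ cj x D) : a * b = b * a := by
  have h1 := cj_inv_eq h x (mul_mem ha hb)
  rw [mul_inv_rev, cj_inv_eq h x ha, cj_inv_eq h x hb] at h1
  exact h1.symm

theorem cj_uniq (h : Zip S D M) (x : P) {Y : Subgroup P} (hQ : pCore 2 P ≤ Y)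
    (hD : cj x D ≤ Y) (hY : Y ≠ ⊤) : Y ≤ cj x M := by
  have h1 : cj x⁻¹ Y ≤ M := by
    refine h.uniq _ ?_ ?_ ?_
    · have := cj_mono x⁻¹ hQ
      rwa [cj_eq_of_normal] at this
    · have := cj_mono x⁻¹ hD
      rwa [cj_inv_cj] at this
    · intro h2
      apply hY
      have h3 := congrArg (cj x) h2
      rw [cj_cj_inv] at h3
      rw [h3]
      exact cj_eq_of_normal x ⊤
  have h4 := cj_mono x h1
  rwa [cj_cj_inv] at h4

omit [Finite P] in
theorem inv_not_mem {x : P} (hx : x ∉ M) : x⁻¹ ∉ M := fun h => hx (by simpa using inv_mem h)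

theorem cj_le_cj (h : Zip S D M) {x : P} : cj x D ≤
    cj x M := cj_mono x (DM h)

/-- `[Q, D] ≤ E`. -/
theorem comm_mem (h : Zip S D M) {q a : P} (hq : q ∈ pCore 2 P) (ha : a ∈ D) :
    q * a * q⁻¹ * a⁻¹ ∈ D ⊓ pCore 2 P := by
  have h0 : q * a * q⁻¹ * a⁻¹ ∈ D := mul_mem (conj_mem h ((QM h) hq) ha) (inv_mem ha)
  have h1 := (Cfsg.pCore_normal 2 P).conj_mem _ (inv_mem hq) a
  have h2 : q * (a * q⁻¹ * a⁻¹) ∈ pCore 2 P := mul_mem hq h1
  have h3 : q * (a * q⁻¹ * a⁻¹) = q * a * q⁻¹ * a⁻¹ := by group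
  rw [h3] at h2
  exact ⟨h0, h2⟩

theorem cj_comm_mem (h : Zip S D M) (x : P) {q a : P} (hq : q ∈ pCore 2 P)
    (ha : a ∈ cj x D) :
    q * a * q⁻¹ * a⁻¹ ∈ cj x (D ⊓ pCore 2 P) := by
  rw [mem_cj] at ha ⊢
  have hq' : x⁻¹ * q * x ∈ pCore 2 P := by
    have := (Cfsg.pCore_normal 2 P).conj_mem _ hq x⁻¹
    rwa [inv_inv] at this
  have := comm_mem h hq' ha
  convert this using 1
  group

omit [Finite P] in
theorem mem_cj_of_center {x u : P} {T : Subgroup P} (hu : u ∈ Subgroup.center P) :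
    u ∈ cj x T ↔ u ∈ T := by
  rw [mem_cj]
  have h1 := Subgroup.mem_center_iff.1 hu x
  have : x⁻¹ * u * x = u := by
    rw [mul_assoc, ← h1, inv_mul_cancel_left]
  rw [this]

omit [Finite P] in
theorem mem_center_of_gen {A B : Subgroup P} (hAB : A ⊔ B = ⊤) {u : P}
    (hA : ∀ a ∈ A, a * u = u * a) (hB : ∀ b ∈ B, b * u = u * b) : u ∈ Subgroup.center P := by
  have h1 : A ⊔ B ≤ Subgroup.centralizer ({u} : Set P) := by
    refine sup_le ?_ ?_
    · intro a ha
      rw [Subgroup.mem_centralizer_singleton_iff]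
      exact hA a ha
    · intro b hb
      rw [Subgroup.mem_centralizer_singleton_iff]
      exact hB b hb
  rw [hAB] at h1
  rw [Subgroup.mem_center_iff]
  intro g
  have := h1 (Subgroup.mem_top g)
  rwa [Subgroup.mem_centralizer_singleton_iff] at this

/-- `D ∩ D^x = D ∩ Z(P)`. -/
theorem inf_cj (h : Zip S D M) {x : P} (hx : x ∉ M) :
    D ⊓ cj x D = D ⊓ Subgroup.center P := by
  ext u
  constructor
  · rintro ⟨hu, hu'⟩
    exact ⟨hu, mem_center_of_gen (h.gen x hx) (fun a ha => comm h ha hu)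
      (fun b hb => cj_comm h x hb hu')⟩
  · rintro ⟨hu, hu'⟩
    exact ⟨hu, (mem_cj_of_center hu').2 hu⟩

end basic

section six

omit [Finite P] in
/-- An element of `P ∖ Q` of order two is not central modulo `Q`. -/
theorem exists_not_comm {a : P} (ha2 : a * a = 1) (ha : a ∉ pCore 2 P) :
    ∃ C : Subgroup P, C ≠ ⊤ ∧ pCore 2 P ≤ C ∧ ∀ g, g * a = a * g → g ∈ C := by
  let π := QuotientGroup.mk' (pCore 2 P)
  refine ⟨(Subgroup.centralizer ({π a} : Set _)).comap π, ?_, ?_, ?_⟩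
  · intro htop
    apply ha
    have hc : π a ∈ Subgroup.center (P ⧸ pCore 2 P) := by
      rw [Subgroup.mem_center_iff]
      intro g
      obtain ⟨g, rfl⟩ := QuotientGroup.mk'_surjective _ g
      have h1 : g ∈ (Subgroup.centralizer ({π a} : Set _)).comap π := by
        rw [htop]; exact Subgroup.mem_top g
      rw [Subgroup.mem_comap, Subgroup.mem_centralizer_singleton_iff] at h1
      exact h1
    have hn : (Subgroup.zpowers (π a)).Normal := by
      refine ⟨?_⟩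
      rintro n hn g
      have hn' : n ∈ Subgroup.center (P ⧸ pCore 2 P) :=
        (Subgroup.zpowers_le.2 hc) hn
      have h2 := Subgroup.mem_center_iff.1 hn' g
      rw [h2, mul_inv_cancel_right]
      exact hn
    have h2g : IsPGroup 2 (Subgroup.zpowers (π a)) := by
      have : (π a) ^ 2 = 1 := by
        rw [← map_pow, pow_two, ha2, map_one]
      rintro ⟨g, k, rfl⟩
      refine ⟨1, ?_⟩
      apply Subtype.ext
      show ((π a) ^ k) ^ 2 ^ 1 = 1
      rw [pow_one, ← zpow_natCast, zpow_comm, zpow_natCast, this, one_zpow]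
    have h3 := le_pCore hn h2g
    rw [pCore_quotient_pCore] at h3
    have h4 := h3 (Subgroup.mem_zpowers (π a))
    rw [Subgroup.mem_bot] at h4
    exact (QuotientGroup.eq_one_iff a).1 h4
  · intro q hq
    rw [Subgroup.mem_comap]
    have : π q = 1 := (QuotientGroup.eq_one_iff q).2 hq
    rw [this]
    exact one_mem _
  · intro g hg
    rw [Subgroup.mem_comap, Subgroup.mem_centralizer_singleton_iff, ← map_mul, ← map_mul, hg]

omit [Finite P] in
theorem isPGroup_of_two {A : Subgroup P} (hA : ∀ a ∈ A, a * a = 1) : IsPGroup 2 A := by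
  rintro ⟨a, ha⟩
  refine ⟨1, Subtype.ext ?_⟩
  show a ^ 2 ^ 1 = 1
  rw [pow_one, pow_two, hA a ha]


omit [Finite P] in
/-- One half of the symmetric argument in (6): `D'` normalises `(D ∩ M')(D' ∩ M)Q`. -/
theorem six_aux {D₁ M₁ D₂ M₂ R : Subgroup P} (two₁ : ∀ a ∈ D₁, a * a = 1)
    (two₂ : ∀ a ∈ D₂, a * a = 1)
    (conj₂ : ∀ m ∈ M₂, ∀ a ∈ D₂, m * a * m⁻¹ ∈ D₂)
    (com₂ : ∀ a ∈ D₂, ∀ b ∈ D₂, a * b = b * a)
    (uniq₁ : ∀ Y : Subgroup P, pCore 2 P ≤ Y → D₁ ≤ Y → Y ≠ ⊤ → Y ≤ M₁)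
    (com₁ : ∀ a ∈ D₁, ∀ b ∈ D₁, a * b = b * a)
    (hR : R = D₁ ⊓ M₂ ⊔ D₂ ⊓ M₁ ⊔ pCore 2 P) :
    ∀ d ∈ D₂, ∀ r ∈ R, d * r * d⁻¹ ∈ R := by
  intro d hd
  have hQR : pCore 2 P ≤ R := by rw [hR]; exact le_sup_right
  have h2R : D₂ ⊓ M₁ ≤ R := by rw [hR]; exact le_sup_right.trans le_sup_left
  have h1R : D₁ ⊓ M₂ ≤ R := by rw [hR]; exact le_sup_left.trans le_sup_left
  have key : R ≤ R.comap (MulAut.conj d).toMonoidHom := by
    conv_lhs => rw [hR]
    refine sup_le (sup_le ?_ ?_) ?_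
    · rintro a ⟨ha, ha2⟩
      show d * a * d⁻¹ ∈ R
      set c := d * (a * d * a⁻¹) with hc
      have hainv : a⁻¹ = a := inv_eq_of_mul_eq_one_left (two₁ a ha)
      have hdinv : d⁻¹ = d := inv_eq_of_mul_eq_one_left (two₂ d hd)
      have hcD : c ∈ D₂ := mul_mem hd (conj₂ a ha2 d hd)
      have hac : c * a = a * c := by
        have h1 := com₂ d hd _ (conj₂ a ha2 d hd)
        have h2 : a * c = (a * d * a⁻¹) * (a * a) * d * a⁻¹ := by rw [hc]; group
        rw [two₁ a ha, mul_one, ← h1, ← hc] at h2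
        rw [h2]
        conv_rhs => rw [hainv]
      have hcR : c ∈ R := by
        by_cases haQ : a ∈ pCore 2 P
        · have h1 := (Cfsg.pCore_normal 2 P).conj_mem _ haQ d
          have h2 : d * a * d⁻¹ * a⁻¹ ∈ pCore 2 P := mul_mem h1 (inv_mem haQ)
          have h3 : c = d * a * d⁻¹ * a⁻¹ := by rw [hc, hdinv]; group
          rw [h3]
          exact hQR h2
        · obtain ⟨C, hC, hQC, hgC⟩ := exists_not_comm (two₁ a ha) haQ
          have h1 : C ≤ M₁ := uniq₁ C hQC (fun g hg => hgC g (com₁ g hg a ha)) hC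
          exact h2R ⟨hcD, h1 (hgC c hac)⟩
      have h4 : d * a * d⁻¹ = c * a := by rw [hc, hdinv]; group
      rw [h4]
      exact mul_mem hcR (h1R ⟨ha, ha2⟩)
    · rintro b ⟨hb, hb2⟩
      show d * b * d⁻¹ ∈ R
      rw [com₂ d hd b hb, mul_inv_cancel_right]
      exact h2R ⟨hb, hb2⟩
    · intro q hq
      exact hQR ((Cfsg.pCore_normal 2 P).conj_mem _ hq d)
  exact fun r hr => key hr

/-- (6) `D ∩ M^x ≤ Q`. -/
theorem six (h : Zip S D M) {x : P} (hx : x ∉ M) : D ⊓ cj x M ≤ pCore 2 P := by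
  set R := D ⊓ cj x M ⊔ cj x D ⊓ M ⊔ pCore 2 P with hR
  have hn1 : ∀ d ∈ cj x D, ∀ r ∈ R, d * r * d⁻¹ ∈ R :=
    six_aux (D₁ := D) (M₁ := M) (D₂ := cj x D) (M₂ := cj x M) h.two (fun a ha => cj_two h x ha)
      (fun m hm a ha => cj_conj_mem h x hm ha) (fun a ha b hb => cj_comm h x ha hb) h.uniq
      (fun a ha b hb => comm h ha hb) rfl
  have hn2 : ∀ d ∈ D, ∀ r ∈ R, d * r * d⁻¹ ∈ R :=
    six_aux (D₁ := cj x D) (M₁ := cj x M) (D₂ := D) (M₂ := M) (fun a ha => cj_two h x ha) h.two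
      (fun m hm a ha => conj_mem h hm ha) (fun a ha b hb => comm h ha hb)
      (fun Y h1 h2 h3 => cj_uniq h x h1 h2 h3)
      (fun a ha b hb => cj_comm h x ha hb) (by rw [hR, sup_comm (D ⊓ cj x M)])
  have hN : R.Normal := normal_of_gen (h.gen x hx) hn2 hn1
  have h1 : IsPGroup 2 (D ⊓ cj x M : Subgroup P) := isPGroup_of_two fun a ha => h.two a ha.1
  have h2 : IsPGroup 2 (cj x D ⊓ M : Subgroup P) :=
    isPGroup_of_two fun a ha => cj_two h x ha.1
  have h3 : IsPGroup 2 (D ⊓ cj x M ⊔ cj x D ⊓ M : Subgroup P) := by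
    refine IsPGroup.to_sup_of_normal_right' h1 h2 ?_
    intro a ha
    rw [Subgroup.mem_normalizer_iff]
    have hk : ∀ a ∈ D ⊓ cj x M, ∀ b ∈ cj x D ⊓ M, a * b * a⁻¹ ∈ cj x D ⊓ M := by
      rintro a ⟨ha, ha2⟩ b ⟨hb, hb2⟩
      have haM : a ∈ M := DM h ha
      have hbM : b ∈ M := hb2
      exact Subgroup.mem_inf.2 ⟨cj_conj_mem h x ha2 hb, mul_mem (mul_mem haM hbM) (inv_mem haM)⟩
    intro b
    constructor
    · exact hk a ha b
    · intro hb
      have := hk a⁻¹ (inv_mem ha) _ hb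
      have e : a⁻¹ * (a * b * a⁻¹) * a⁻¹⁻¹ = b := by group
      rwa [e] at this
  have h4 : IsPGroup 2 R := h3.to_sup_of_normal_right (pCore_isPGroup 2)
  exact (le_sup_left.trans le_sup_left).trans (le_pCore hN h4)

/-- A normal subgroup of `P` contained in `M` meets `D` in a subgroup of `Q`. -/
theorem inf_normal_le (h : Zip S D M) {N : Subgroup P} (hN : N.Normal) (hNM : N ≤ M) :
    D ⊓ N ≤ pCore 2 P := by
  obtain ⟨x, hx⟩ : ∃ x, x ∉ M := by
    by_contra hcon
    push Not at hcon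
    exact h.ne ((Subgroup.eq_top_iff' M).2 hcon)
  have h1 := cj_mono x hNM
  rw [cj_eq_of_normal] at h1
  exact (inf_le_inf_left D h1).trans (six h hx)

end six

section hat

/-- `E ⊔ E^x` is normal in `P`. -/
theorem hat_normal (h : Zip S D M) {x : P} (hx : x ∉ M) :
    (D ⊓ pCore 2 P ⊔ cj x (D ⊓ pCore 2 P)).Normal := by
  set E := D ⊓ pCore 2 P with hE
  have hcE : cj x E ≤ pCore 2 P := by
    intro b hb
    have h1 := cj_mono x (inf_le_right : E ≤ pCore 2 P) hb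
    rwa [cj_eq_of_normal] at h1
  have hcD : cj x E ≤ cj x D := cj_mono x inf_le_left
  have key : ∀ d, (∀ r ∈ E, d * r * d⁻¹ ∈ E ⊔ cj x E) → (∀ r ∈ cj x E, d * r * d⁻¹ ∈ E ⊔ cj x E) →
      ∀ r ∈ E ⊔ cj x E, d * r * d⁻¹ ∈ E ⊔ cj x E := by
    intro d h1 h2
    have h3 : E ⊔ cj x E ≤ (E ⊔ cj x E).comap (MulAut.conj d).toMonoidHom := sup_le h1 h2
    exact fun r hr => h3 hr
  refine normal_of_gen (h.gen x hx) ?_ ?_
  · intro d hd
    refine key d ?_ ?_
    · intro r hr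
      rw [comm h hd hr.1, mul_inv_cancel_right]
      exact Subgroup.mem_sup_left hr
    · intro r hr
      have h1 := comm_mem h (hcE hr) hd
      have h2 : d * r * d⁻¹ = (r * d * r⁻¹ * d⁻¹)⁻¹ * r := by group
      rw [h2]
      exact mul_mem (Subgroup.mem_sup_left (inv_mem h1)) (Subgroup.mem_sup_right hr)
  · intro d hd
    refine key d ?_ ?_
    · intro r hr
      have h1 := cj_comm_mem h x hr.2 hd
      have h2 : d * r * d⁻¹ = (r * d * r⁻¹ * d⁻¹)⁻¹ * r := by group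
      rw [h2]
      exact mul_mem (Subgroup.mem_sup_right (inv_mem h1)) (Subgroup.mem_sup_left hr)
    · intro r hr
      rw [cj_comm h x hd (hcD hr), mul_inv_cancel_right]
      exact Subgroup.mem_sup_right hr

theorem mem_hat (h : Zip S D M) {x y : P} (hy : y ∈ D ⊓ pCore 2 P ⊔ cj x (D ⊓ pCore 2 P)) :
    ∃ e ∈ D ⊓ pCore 2 P, ∃ b ∈ cj x (D ⊓ pCore 2 P), e * b = y := by
  have h1 : cj x (D ⊓ pCore 2 P) ≤
      Subgroup.normalizer ((D ⊓ pCore 2 P : Subgroup P) : Set P) := by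
    rw [Subgroup.le_normalizer_iff]
    intro b hb e he
    have hbQ : b ∈ pCore 2 P := by
      have h2 := cj_mono x (inf_le_right : D ⊓ pCore 2 P ≤ pCore 2 P) hb
      rwa [cj_eq_of_normal] at h2
    exact Subgroup.mem_inf.2 ⟨conj_mem h (QM h hbQ) he.1,
      (Cfsg.pCore_normal 2 P).conj_mem _ he.2 b⟩
  have h2 : y ∈ ((D ⊓ pCore 2 P ⊔ cj x (D ⊓ pCore 2 P) : Subgroup P) : Set P) := hy
  rw [Subgroup.coe_mul_of_right_le_normalizer_left _ _ h1] at h2
  exact Set.mem_mul.1 h2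

/-- Every conjugate of `E` lies in `E ⊔ E^x`. -/
theorem cj_le_hat (h : Zip S D M) {x : P} (hx : x ∉ M) (y : P) :
    cj y (D ⊓ pCore 2 P) ≤ D ⊓ pCore 2 P ⊔ cj x (D ⊓ pCore 2 P) := by
  have hN := hat_normal h hx
  have h1 := cj_mono y (le_sup_left : D ⊓ pCore 2 P ≤ D ⊓ pCore 2 P ⊔ cj x (D ⊓ pCore 2 P))
  rwa [cj_eq_of_normal y (D ⊓ pCore 2 P ⊔ cj x (D ⊓ pCore 2 P))] at h1

theorem hat_eq (h : Zip S D M) {x y : P} (hx : x ∉ M) (hy : y ∉ M) :
    D ⊓ pCore 2 P ⊔ cj x (D ⊓ pCore 2 P) = D ⊓ pCore 2 P ⊔ cj y (D ⊓ pCore 2 P) :=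
  le_antisymm (sup_le le_sup_left (cj_le_hat h hy x)) (sup_le le_sup_left (cj_le_hat h hx y))

omit [Finite P] in
theorem cj_core_le {x : P} {E : Subgroup P} (hE : E ≤ pCore 2 P) : cj x E ≤ pCore 2 P := by
  intro b hb
  have h1 := cj_mono x hE hb
  rwa [cj_eq_of_normal] at h1

omit [Finite P] in
theorem hat_le_core {x : P} :
    D ⊓ pCore 2 P ⊔ cj x (D ⊓ pCore 2 P) ≤ pCore 2 P :=
  sup_le inf_le_right (cj_core_le inf_le_right)

/-- `[E, E^x] ≤ Z(P)`. -/
theorem comm_center (h : Zip S D M) {x : P} (hx : x ∉ M) {u b : P} (hu : u ∈ D ⊓ pCore 2 P)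
    (hb : b ∈ cj x (D ⊓ pCore 2 P)) : b * u * b⁻¹ * u⁻¹ ∈ Subgroup.center P := by
  have hbQ := cj_core_le inf_le_right hb
  have hbD : b ∈ cj x D := cj_mono x inf_le_left hb
  have h1 := comm_mem h hbQ hu.1
  have h2 := cj_comm_mem h x hu.2 hbD
  have h3 : b * u * b⁻¹ * u⁻¹ ∈ cj x D := by
    have h4 := inv_mem (cj_mono x inf_le_left h2)
    have h5 : (u * b * u⁻¹ * b⁻¹)⁻¹ = b * u * b⁻¹ * u⁻¹ := by group
    rwa [h5] at h4
  have h6 : b * u * b⁻¹ * u⁻¹ ∈ D ⊓ cj x D := ⟨h1.1, h3⟩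
  rw [inf_cj h hx] at h6
  exact h6.2

/-- (5) injectivity. -/
theorem inj (h : Zip S D M) {x : P} (hx : x ∉ M) {a b : P} (ha : a ∈ D) (haQ : a ∉ pCore 2 P)
    (hb : b ∈ cj x (D ⊓ pCore 2 P)) (hab : b * a * b⁻¹ * a⁻¹ ∈ Subgroup.center P) :
    b ∈ Subgroup.center P := by
  have hbQ := cj_core_le inf_le_right hb
  have hbD : b ∈ cj x D := cj_mono x inf_le_left hb
  have h1 := comm_mem h hbQ ha
  have h2 : b * a * b⁻¹ * a⁻¹ ∈ cj x D := (mem_cj_of_center hab).2 h1.1
  have h3 : a * b * a⁻¹ = (b * a * b⁻¹ * a⁻¹)⁻¹ * b := by group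
  have h4 : a * b * a⁻¹ ∈ cj x D := by
    rw [h3]
    exact mul_mem (inv_mem h2) hbD
  have hxa : x⁻¹ * a⁻¹ * x ∉ M := by
    intro hm
    apply haQ
    have hm' := inv_mem hm
    refine six h hx (Subgroup.mem_inf.2 ⟨ha, ?_⟩)
    rw [mem_cj]
    convert hm' using 1
    group
  rw [mem_cj] at hbD h4
  have h5 : x⁻¹ * b * x ∈ D ⊓ cj (x⁻¹ * a⁻¹ * x) D := by
    refine Subgroup.mem_inf.2 ⟨hbD, ?_⟩
    rw [mem_cj]
    convert h4 using 1
    group
  rw [inf_cj h hxa] at h5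
  have h7 := (inferInstance : (Subgroup.center P).Normal).conj_mem _ h5.2 x
  convert h7 using 1
  group

/-- (5) surjectivity. -/
theorem surj (h : Zip S D M) {x : P} (hx : x ∉ M) {a u : P} (ha : a ∈ D) (haQ : a ∉ pCore 2 P)
    (hu : u ∈ D ⊓ pCore 2 P) :
    ∃ b ∈ cj x (D ⊓ pCore 2 P), b * a * b⁻¹ * a⁻¹ * u ∈ Subgroup.center P := by
  set E := D ⊓ pCore 2 P with hE
  let π := QuotientGroup.mk' (Subgroup.center P)
  let f : cj x E →* P ⧸ Subgroup.center P :=
    { toFun := fun b => π ((b : P) * a * (b : P)⁻¹ * a⁻¹)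
      map_one' := by
        rw [Subgroup.coe_one, inv_one, mul_one, one_mul, mul_inv_cancel, map_one]
      map_mul' := by
        intro b c
        have hc := comm_mem h (cj_core_le inf_le_right c.2) ha
        have h1 := comm_center h hx hc b.2
        have h2 : ((b * c : cj x E) : P) * a * ((b * c : cj x E) : P)⁻¹ * a⁻¹ =
            ((b : P) * ((c : P) * a * (c : P)⁻¹ * a⁻¹) * (b : P)⁻¹ *
              ((c : P) * a * (c : P)⁻¹ * a⁻¹)⁻¹) *
            ((c : P) * a * (c : P)⁻¹ * a⁻¹) * ((b : P) * a * (b : P)⁻¹ * a⁻¹) := by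
          rw [Subgroup.coe_mul]
          group
        have h3 : π ((b : P) * ((c : P) * a * (c : P)⁻¹ * a⁻¹) * (b : P)⁻¹ *
              ((c : P) * a * (c : P)⁻¹ * a⁻¹)⁻¹) = 1 := (QuotientGroup.eq_one_iff _).2 h1
        have h4 : ((c : P) * a * (c : P)⁻¹ * a⁻¹) * ((b : P) * a * (b : P)⁻¹ * a⁻¹) =
            ((b : P) * a * (b : P)⁻¹ * a⁻¹) * ((c : P) * a * (c : P)⁻¹ * a⁻¹) :=
          comm h hc.1 (comm_mem h (cj_core_le inf_le_right b.2) ha).1
        rw [h2, mul_assoc, h4, map_mul, h3, one_mul, map_mul] }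
  have hker : f.ker = (Subgroup.center P).subgroupOf (cj x E) := by
    ext b
    rw [MonoidHom.mem_ker, Subgroup.mem_subgroupOf]
    have h0 : f b = 1 ↔ (b : P) * a * (b : P)⁻¹ * a⁻¹ ∈ Subgroup.center P :=
      QuotientGroup.eq_one_iff _
    rw [h0]
    constructor
    · intro hb
      exact inj h hx ha haQ b.2 hb
    · intro hb
      have h1 := Subgroup.mem_center_iff.1 hb a
      rw [← h1, mul_inv_cancel_right, mul_inv_cancel]
      exact one_mem _
  have hle : f.range ≤ E.map π := by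
    rintro _ ⟨b, rfl⟩
    exact ⟨_, comm_mem h (cj_core_le inf_le_right b.2) ha, rfl⟩
  have hcard : Nat.card f.range = Nat.card (E.map π) := by
    rw [← Subgroup.index_ker, hker]
    have h1 : (Subgroup.center P).relIndex E = Nat.card (E.map π) := by
      rw [← Subgroup.relIndex_ker, QuotientGroup.ker_mk']
    rw [← h1, ← relIndex_cj x (Subgroup.center P) E, cj_eq_of_normal x (Subgroup.center P)]
    rfl
  have heq : f.range = E.map π := Subgroup.eq_of_le_of_card_ge hle hcard.ge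
  have hmem : π u⁻¹ ∈ f.range := by
    rw [heq]
    exact ⟨_, inv_mem hu, rfl⟩
  obtain ⟨b, hb⟩ := hmem
  refine ⟨b, b.2, ?_⟩
  have h1 : π ((b : P) * a * (b : P)⁻¹ * a⁻¹ * u) = 1 := by
    rw [map_mul]
    have h2 : π ((b : P) * a * (b : P)⁻¹ * a⁻¹) = π u⁻¹ := hb
    rw [h2, ← map_mul, inv_mul_cancel, map_one]
  exact (QuotientGroup.eq_one_iff _).1 h1

end hat

section odd

omit [Finite P] in
theorem fix_of_odd {g w z : P} (hg : Odd (orderOf g)) (hz : g * z = z * g)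
    (hw : g * w * g⁻¹ = w * z) {k : ℕ} (hz2 : z ^ 2 ^ k = 1) : z = 1 := by
  have h1 : ∀ n : ℕ, g ^ n * w * (g ^ n)⁻¹ = w * z ^ n := by
    intro n
    induction n with
    | zero => simp
    | succ n ih =>
      have e : g ^ (n + 1) * w * (g ^ (n + 1))⁻¹ = g * (g ^ n * w * (g ^ n)⁻¹) * g⁻¹ := by
        rw [pow_succ' g n]
        group
      have hzn : g * z ^ n = z ^ n * g := by
        have : Commute g z := hz
        exact this.pow_right n
      rw [e, ih]
      calc g * (w * z ^ n) * g⁻¹ = g * w * (z ^ n * g⁻¹) := by group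
        _ = g * w * (g⁻¹ * (g * z ^ n) * g⁻¹) := by group
        _ = g * w * (g⁻¹ * (z ^ n * g) * g⁻¹) := by rw [hzn]
        _ = (g * w * g⁻¹) * z ^ n := by group
        _ = w * z * z ^ n := by rw [hw]
        _ = w * z ^ (n + 1) := by rw [pow_succ', mul_assoc]
  have h2 := h1 (orderOf g)
  rw [pow_orderOf_eq_one, one_mul, inv_one, mul_one] at h2
  have h3 : z ^ orderOf g = 1 := by
    have := h2.symm
    rwa [mul_eq_left] at this
  have h4 : orderOf z ∣ Nat.gcd (2 ^ k) (orderOf g) :=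
    Nat.dvd_gcd (orderOf_dvd_of_pow_eq_one hz2) (orderOf_dvd_of_pow_eq_one h3)
  have h5 : Nat.gcd (2 ^ k) (orderOf g) = 1 :=
    Nat.Coprime.pow_left k (Nat.coprime_two_left.2 hg)
  rw [h5, Nat.dvd_one, orderOf_eq_one_iff] at h4
  exact h4

/-- A subgroup containing a Sylow 2-subgroup and all elements of odd order. -/
theorem top_of_odd {N : Subgroup P} (S : Sylow 2 P) (hS : (S : Subgroup P) ≤ N)
    (hodd : ∀ g : P, Odd (orderOf g) → g ∈ N) : N = ⊤ := by
  rw [← Subgroup.index_eq_one]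
  by_contra hne
  obtain ⟨p, hp, hpd⟩ := Nat.exists_prime_and_dvd hne
  have := Fact.mk hp
  by_cases h2 : p = 2
  · subst h2
    exact S.not_dvd_index (hpd.trans (Subgroup.index_dvd_of_le hS))
  · let T : Sylow p P := default
    have hT : (T : Subgroup P) ≤ N := by
      intro g hg
      apply hodd
      obtain ⟨k, hk⟩ := T.2 ⟨g, hg⟩
      have hk' : g ^ p ^ k = 1 := by
        have := congrArg Subtype.val hk
        simpa using this
      exact Odd.of_dvd_nat ((hp.odd_of_ne_two h2).pow) (orderOf_dvd_of_pow_eq_one hk')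
    exact T.not_dvd_index (hpd.trans (Subgroup.index_dvd_of_le hT))

/-- (6) `E` is not central. -/
theorem lt (h : Zip S D M) {x : P} (hx : x ∉ M) : ¬ D ⊓ pCore 2 P ≤ Subgroup.center P := by
  intro hE
  let π := QuotientGroup.mk' (Subgroup.center P)
  have hQ2 : IsPGroup 2 (pCore 2 P) := pCore_isPGroup 2
  have hcomm : ∀ g : P, ∀ q ∈ pCore 2 P, q * g * q⁻¹ * g⁻¹ ∈ Subgroup.center P := by
    have h1 : D ⊔ cj x D ≤ (Subgroup.centralizer ((pCore 2 P).map π : Set _)).comap π := by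
      have key : ∀ g : P, (∀ q ∈ pCore 2 P, q * g * q⁻¹ * g⁻¹ ∈ Subgroup.center P) →
          g ∈ (Subgroup.centralizer ((pCore 2 P).map π : Set _)).comap π := by
        intro g hg
        rw [Subgroup.mem_comap, Subgroup.mem_centralizer_iff]
        rintro _ ⟨q, hq, rfl⟩
        have h2 : π (q * g * q⁻¹ * g⁻¹) = 1 := (QuotientGroup.eq_one_iff _).2 (hg q hq)
        rw [map_mul, map_mul, map_mul, map_inv, map_inv, mul_inv_eq_one, mul_inv_eq_iff_eq_mul]
          at h2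
        exact h2
      refine sup_le ?_ ?_
      · intro a ha
        exact key a fun q hq => hE (comm_mem h hq ha)
      · intro a ha
        refine key a fun q hq => ?_
        have h3 := cj_mono x hE (cj_comm_mem h x hq ha)
        rwa [cj_eq_of_normal x (Subgroup.center P)] at h3
    rw [h.gen x hx] at h1
    intro g q hq
    have h2 := h1 (Subgroup.mem_top g)
    rw [Subgroup.mem_comap, Subgroup.mem_centralizer_iff] at h2
    have h3 := h2 (π q) ⟨q, hq, rfl⟩
    have h4 : π (q * g * q⁻¹ * g⁻¹) = 1 := by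
      rw [map_mul, map_mul, map_mul, map_inv, map_inv, mul_inv_eq_one, mul_inv_eq_iff_eq_mul]
      exact h3
    exact (QuotientGroup.eq_one_iff _).1 h4
  have hodd : ∀ g : P, Odd (orderOf g) → g ∈ pCore 2 P := by
    intro g hg
    apply h.char2
    rw [Subgroup.mem_centralizer_iff]
    intro q hq
    have hz : q⁻¹ * g * q * g⁻¹ ∈ Subgroup.center P := by
      have := hcomm g q⁻¹ (inv_mem hq)
      rwa [inv_inv] at this
    have hzQ : q⁻¹ * g * q * g⁻¹ ∈ pCore 2 P := by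
      have h2 := (Cfsg.pCore_normal 2 P).conj_mem _ hq g
      have h3 : q⁻¹ * (g * q * g⁻¹) ∈ pCore 2 P := mul_mem (inv_mem hq) h2
      have h4 : q⁻¹ * (g * q * g⁻¹) = q⁻¹ * g * q * g⁻¹ := by group
      rwa [h4] at h3
    obtain ⟨k, hk⟩ := hQ2 ⟨_, hzQ⟩
    have hk' : (q⁻¹ * g * q * g⁻¹) ^ 2 ^ k = 1 := by
      have := congrArg Subtype.val hk
      simpa using this
    have h5 := fix_of_odd (g := g) (w := q) (z := q⁻¹ * g * q * g⁻¹) hg
      (Subgroup.mem_center_iff.1 hz g) (by group) hk'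
    have h6 : g * q = q * g := by
      rw [mul_inv_eq_one, mul_assoc, inv_mul_eq_iff_eq_mul] at h5
      exact h5
    exact h6.symm
  apply h.ne
  exact top_of_odd S h.SM fun g hg => QM h (hodd g hg)

end odd

section centre

open Cfsg.Agent.PLocal.S4ConSection

/-- A normal elementary abelian subgroup `Y ≤ S` centralised by `E` is centralised by all elements
of odd order. -/
theorem odd_central (h : Zip S D M) {Y : Subgroup P} (hY : Y.Normal) (hY2 : ∀ y ∈ Y, y * y = 1)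
    (hYS : Y ≤ (S : Subgroup P))
    (hEY : D ⊓ pCore 2 P ≤ Subgroup.centralizer (Y : Set P)) :
    ∀ g : P, Odd (orderOf g) → ∀ y ∈ Y, g * y = y * g := by
  classical
  let F : Subgroup P → Prop := fun W => W.Normal ∧ W ≤ Y ∧
    ∀ g : P, Odd (orderOf g) → ∀ y ∈ W, g * y = y * g
  have hbot : F ⊥ := by
    refine ⟨inferInstance, bot_le, ?_⟩
    intro g _ y hy
    rw [Subgroup.mem_bot.1 hy, mul_one, one_mul]
  obtain ⟨W, hWF, hWmax⟩ := (Set.toFinite {W | F W}).exists_maximal ⟨⊥, hbot⟩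
  obtain ⟨hWn, hWY, hWodd⟩ := hWF
  by_cases hWeq : W = Y
  · rw [← hWeq]
    exact hWodd
  exfalso
  have hYab : ∀ a ∈ Y, ∀ b ∈ Y, a * b = b * a := by
    intro a ha b hb
    have h1 : ∀ x ∈ Y, x⁻¹ = x := fun x hx => inv_eq_of_mul_eq_one_left (hY2 x hx)
    calc a * b = (a * b)⁻¹ := (h1 _ (mul_mem ha hb)).symm
      _ = b⁻¹ * a⁻¹ := mul_inv_rev a b
      _ = b * a := by rw [h1 a ha, h1 b hb]
  obtain ⟨V, instV, π, φ, hπ, hπ1, hexp, hφ⟩ := exists_sec hY hWn (fun y hy => by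
    rw [hY2 y hy]
    exact one_mem _)
  have hVfin : Finite V := Finite.of_surjective π hπ
  have hS3 : NoS3 φ := S4FreeNoS3.noS3_of_section h.s4 hY hexp π hπ φ
    (fun g a => (hφ g a).symm)
  have hVnt : Nontrivial V := by
    by_contra hcon
    rw [not_nontrivial_iff_subsingleton] at hcon
    apply hWeq
    apply le_antisymm hWY
    intro y hy
    exact (hπ1 ⟨y, hy⟩).1 (Subsingleton.elim _ _)
  -- preimages
  let pre : Subgroup V → Subgroup P := fun U => (U.comap π).map Y.subtype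
  have hpre : ∀ (U : Subgroup V) (y : P), y ∈ pre U ↔ ∃ hy : y ∈ Y, π ⟨y, hy⟩ ∈ U := by
    intro U y
    constructor
    · rintro ⟨y', hy', rfl⟩
      exact ⟨y'.2, hy'⟩
    · rintro ⟨hy, hy'⟩
      exact ⟨⟨y, hy⟩, hy', rfl⟩
  have hpreY : ∀ U, pre U ≤ Y := by
    intro U y hy
    exact ((hpre U y).1 hy).1
  -- fixed points of `S`
  set V₀ : Subgroup V := fx φ (S : Subgroup P) with hV₀
  obtain ⟨v, hv1, hv⟩ := SFourBasic.exists_fixed (isPGroup_of_exp hexp) φ (S : Subgroup P) S.2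
  have hunoff : Unoff φ (S : Subgroup P) V₀ := by
    have hc : (S : Subgroup P) ≤ cn φ V₀ := le_fx_iff.1 le_rfl
    refine ⟨fun a ha u hu => ?_, fun A hA _ _ => hA.trans hc⟩
    rw [hc ha u hu]
    exact hu
  have hunoff₁ : Unoff φ (S : Subgroup P) (⨆ x : P, im φ x V₀) :=
    S4FreeClosure.unoff_iSup hexp hS3 S hunoff
  set V₁ : Subgroup V := ⨆ x : P, im φ x V₀ with hV₁
  have hV₁inv : ∀ g : P, ∀ w ∈ V₁, φ g w ∈ V₁ := by
    intro g w hw
    have h1 : V₁ ≤ V₁.comap (φ g).toMonoidHom := by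
      refine iSup_le fun x => ?_
      rintro _ ⟨u, hu, rfl⟩
      refine (le_iSup (fun x : P => im φ x V₀) (g * x)) ⟨u, hu, ?_⟩
      show φ (g * x) u = φ g (φ x u)
      rw [map_mul, MulAut.mul_apply]
    exact h1 hw
  have hV₀V₁ : V₀ ≤ V₁ := by
    refine le_trans ?_ (le_iSup (fun x : P => im φ x V₀) 1)
    intro u hu
    rw [mem_im]
    simpa using hu
  set N : Subgroup P := cn φ V₁ with hN
  have hNn : N.Normal := by
    refine ⟨fun n hn g => ?_⟩
    intro w hw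
    have h1 := hn (φ g⁻¹ w) (hV₁inv g⁻¹ w hw)
    rw [map_mul, map_mul, MulAut.mul_apply, MulAut.mul_apply, h1, apply_inv_cancel]
  by_cases hNM : N ≤ M
  · -- `D` acts nontrivially on `V₁`
    have hDN : D ⊓ N ≤ pCore 2 P := inf_normal_le h hNn hNM
    have hDnN : ¬ D ≤ N := by
      intro h1
      apply h.notle
      rwa [inf_eq_left.2 h1] at hDN
    have h1 : ¬ Nat.card V₁ ≤ ms φ V₁ D := by
      intro h2
      refine hDnN (hunoff₁.off D h.DS ?_ h2)
      intro a ha b hb u _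
      rw [← MulAut.mul_apply, ← MulAut.mul_apply, ← map_mul, ← map_mul, comm h ha hb]
    unfold ms at h1
    push Not at h1
    -- the preimage of `V₁`
    have hY₁S : pre V₁ ≤ (S : Subgroup P) := (hpreY _).trans hYS
    have hfixD : ∀ (y : P) (hy : y ∈ Y), y ∈ Subgroup.centralizer (D : Set P) →
        π ⟨y, hy⟩ ∈ fx φ D := by
      intro y hy hyD d hd
      rw [hφ]
      congr 1
      apply Subtype.ext
      show d * y * d⁻¹ = y
      rw [Subgroup.mem_centralizer_iff] at hyD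
      rw [hyD d hd, mul_inv_cancel_right]
    rcases h.unoff (pre V₁) hY₁S (by
      intro a ha b hb
      have h2 := hYab a (hpreY _ ha) b (hpreY _ hb)
      rw [h2, mul_inv_cancel_right, mul_inv_cancel]
      exact one_mem _) with h2 | h2
    · apply hDnN
      rw [hN, ← le_fx_iff]
      intro w hw
      obtain ⟨⟨y, hy⟩, rfl⟩ := hπ w
      exact hfixD y hy (h2 ((hpre _ _).2 ⟨hy, hw⟩))
    · -- index inequalities
      have e1 : (D ⊓ pCore 2 P).relIndex D ≤ N.relIndex D := by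
        rw [← Subgroup.inf_relIndex_left D N]
        exact Subgroup.relIndex_le_of_le_left (le_inf inf_le_left hDN)
          Subgroup.index_ne_zero_of_finite
      have e2 : (Subgroup.centralizer ((pre V₁ : Subgroup P) : Set P)).relIndex D ≤
          (D ⊓ pCore 2 P).relIndex D := by
        refine Subgroup.relIndex_le_of_le_left ?_ Subgroup.index_ne_zero_of_finite
        exact hEY.trans (Subgroup.centralizer_le (hpreY V₁))
      have e3 : (V₁ ⊓ fx φ D).relIndex V₁ ≤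
          (Subgroup.centralizer (D : Set P)).relIndex (pre V₁) := by
        have f1 : V₁ = (V₁.comap π).map π := (Subgroup.map_comap_eq_self_of_surjective hπ V₁).symm
        have f2 : (V₁ ⊓ fx φ D).relIndex V₁ = ((fx φ D).comap π).relIndex (V₁.comap π) := by
          rw [Subgroup.inf_relIndex_left, Subgroup.relIndex_comap, ← f1]
        have f3 : (Subgroup.centralizer (D : Set P)).relIndex (pre V₁) =
            ((Subgroup.centralizer (D : Set P)).comap Y.subtype).relIndex (V₁.comap π) :=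
          (Subgroup.relIndex_comap _ _ _).symm
        rw [f2, f3]
        refine Subgroup.relIndex_le_of_le_left ?_ Subgroup.index_ne_zero_of_finite
        rintro ⟨y, hy⟩ hyD
        exact hfixD y hy hyD
      have e4 : (V₁ ⊓ fx φ D).relIndex V₁ * Nat.card (V₁ ⊓ fx φ D : Subgroup V) = Nat.card V₁ := by
        have f1 := Subgroup.relIndex_mul_relIndex ⊥ (V₁ ⊓ fx φ D) V₁ bot_le inf_le_left
        rw [Subgroup.relIndex_bot_left, Subgroup.relIndex_bot_left] at f1
        rw [mul_comm]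
        exact f1
      rw [← e4, ← hN] at h1
      have e5 := Nat.lt_of_mul_lt_mul_right h1
      omega
  · -- `P = N S`
    have hNS : N ⊔ (S : Subgroup P) = ⊤ := by
      by_contra hne
      exact hNM (le_sup_left.trans (h.max _ le_sup_right hne))
    have hfix : ∀ g : P, ∀ v ∈ V₀, φ g v = v := by
      have h1 : N ⊔ (S : Subgroup P) ≤ cn φ V₀ :=
        sup_le (cn_anti φ hV₀V₁) (le_fx_iff.1 le_rfl)
      rw [hNS] at h1
      exact fun g v hv => h1 (Subgroup.mem_top g) v hv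
    have hF : F (pre V₀) := by
      refine ⟨⟨?_⟩, hpreY _, ?_⟩
      · intro y hy g
        obtain ⟨hyY, hy⟩ := (hpre _ _).1 hy
        refine (hpre _ _).2 ⟨hY.conj_mem y hyY g, ?_⟩
        rw [← hφ g ⟨y, hyY⟩, hfix g _ hy]
        exact hy
      · intro g hg y hy
        obtain ⟨hyY, hy⟩ := (hpre _ _).1 hy
        have hzY : y⁻¹ * (g * y * g⁻¹) ∈ Y := mul_mem (inv_mem hyY) (hY.conj_mem y hyY g)
        have hzW : y⁻¹ * (g * y * g⁻¹) ∈ W := by
          have h1 : π ⟨y⁻¹ * (g * y * g⁻¹), hzY⟩ = 1 := by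
            have h2 : (⟨y⁻¹ * (g * y * g⁻¹), hzY⟩ : Y) =
                (⟨y, hyY⟩ : Y)⁻¹ * ⟨g * y * g⁻¹, hY.conj_mem y hyY g⟩ := rfl
            rw [h2, map_mul, map_inv, ← hφ g ⟨y, hyY⟩, hfix g _ hy, inv_mul_cancel]
          exact (hπ1 _).1 h1
        have h3 := fix_of_odd (g := g) (w := y) (z := y⁻¹ * (g * y * g⁻¹)) (k := 1) hg
          (hWodd g hg _ hzW) (by group) (by rw [pow_one, pow_two, hY2 _ hzY])
        rw [inv_mul_eq_one] at h3
        exact mul_inv_eq_iff_eq_mul.1 h3.symm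
    have h4 : W ≤ pre V₀ := by
      intro w hw
      refine (hpre _ _).2 ⟨hWY hw, ?_⟩
      rw [(hπ1 ⟨w, hWY hw⟩).2 hw]
      exact one_mem _
    have h5 : pre V₀ ≤ W := hWmax hF h4
    obtain ⟨⟨y, hy⟩, rfl⟩ := hπ v
    apply hv1
    exact (hπ1 _).2 (h5 ((hpre _ _).2 ⟨hy, hv⟩))

/-- (5'') -/
theorem cent (h : Zip S D M) {x : P} (hx : x ∉ M) {u : P} (hu : u ∈ D ⊓ pCore 2 P)
    (hub : ∀ b ∈ cj x (D ⊓ pCore 2 P), b * u = u * b) : u ∈ Subgroup.center P := by
  set E := D ⊓ pCore 2 P with hE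
  set H := E ⊔ cj x E with hH
  have hHn : H.Normal := hat_normal h hx
  have hHQ : H ≤ pCore 2 P := hat_le_core
  set Y := H ⊓ Subgroup.centralizer (H : Set P) with hYdef
  have hY : Y.Normal := by
    have := Subgroup.normal_centralizer (H := H)
    infer_instance
  have hEE : ∀ a ∈ E, ∀ b ∈ E, a * b = b * a := fun a ha b hb => comm h ha.1 hb.1
  have hmemY : ∀ y ∈ Y, ∀ e ∈ H, e * y = y * e := by
    intro y hy e he
    exact Subgroup.mem_centralizer_iff.1 hy.2 e he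
  have hY2 : ∀ y ∈ Y, y * y = 1 := by
    intro y hy
    obtain ⟨e, he, b, hb, rfl⟩ := mem_hat h hy.1
    have h1 := hmemY _ hy e (Subgroup.mem_sup_left he)
    have h2 : e * b = b * e := by
      have h3 : e * (e * b) = e * (b * e) := by rw [h1, mul_assoc]
      exact mul_left_cancel h3
    calc e * b * (e * b) = e * (b * e) * b := by group
      _ = (e * e) * (b * b) := by rw [← h2]; group
      _ = 1 := by rw [h.two e he.1, cj_two h x (cj_mono x inf_le_left hb), one_mul]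
  have hYS : Y ≤ (S : Subgroup P) := inf_le_left.trans (hHQ.trans (pCore_le_sylow S))
  have hEY : E ≤ Subgroup.centralizer (Y : Set P) := by
    intro e he
    rw [Subgroup.mem_centralizer_iff]
    intro y hy
    exact (hmemY y hy e (Subgroup.mem_sup_left he)).symm
  have hodd := odd_central h hY hY2 hYS hEY
  have huY : u ∈ Y := by
    refine Subgroup.mem_inf.2 ⟨Subgroup.mem_sup_left hu, ?_⟩
    rw [Subgroup.mem_centralizer_iff]
    intro y hy
    obtain ⟨e, he, b, hb, rfl⟩ := mem_hat h hy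
    rw [mul_assoc, hub b hb, ← mul_assoc, hEE e he u hu, mul_assoc]
  obtain ⟨x₀, hx₀, hx₀M⟩ : ∃ x₀ ∈ Subgroup.centralizer (Y : Set P), x₀ ∉ M := by
    by_contra hcon
    push Not at hcon
    apply h.ne
    refine top_of_odd S h.SM fun g hg => hcon g ?_
    rw [Subgroup.mem_centralizer_iff]
    intro y hy
    exact (hodd g hg y hy).symm
  refine mem_center_of_gen (h.gen x₀ hx₀M) (fun a ha => comm h ha hu.1) ?_
  intro b hb
  rw [mem_cj] at hb
  have h1 := comm h hb hu.1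
  have h2 := Subgroup.mem_centralizer_iff.1 hx₀ u huY
  have h3 : x₀ * u * x₀⁻¹ = u := by rw [← h2, mul_inv_cancel_right]
  calc b * u = b * (x₀ * u * x₀⁻¹) := by rw [h3]
    _ = x₀ * (x₀⁻¹ * b * x₀ * u) * x₀⁻¹ := by group
    _ = x₀ * (u * (x₀⁻¹ * b * x₀)) * x₀⁻¹ := by rw [h1]
    _ = (x₀ * u * x₀⁻¹) * b := by group
    _ = u * b := by rw [h3]

end centre

end Cfsg.Agent.PLocal.S4ConZip
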