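import Mathlib
import Cfsg.Agent.PLocal.S4ConZip
import Cfsg.Agent.PLocal.S4ConPts
import Cfsg.Agent.PLocal.S4ConKey

set_option autoImplicit false

/-!
# The P-side: assembly
-/

namespace Cfsg.Agent.PLocal.S4ConPside

open Cfsg Cfsg.Agent.Lib
open Cfsg.Agent.PLocal.SFourBasic Cfsg.Agent.PLocal.SFourOffender
open Cfsg.Agent.PLocal.S4FreeClosureBasic Cfsg.Agent.PLocal.S4FreeClosureUniq
open Cfsg.Agent.PLocal.S4ConDefs Cfsg.Agent.PLocal.S4ConSection Cfsg.Agent.PLocal.S4ConPreFlag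
open Cfsg.Agent.PLocal.S4ConPts

universe u

variable {P : Type u} [Group P] [Finite P] {S : Sylow 2 P} {D M : Subgroup P}

theorem exists_notMem (h : Zip S D M) : ∃ x, x ∉ M := by
  by_contra hcon
  push Not at hcon
  exact h.ne (eq_top_iff.2 fun y _ => hcon y)

theorem pFs (h : Zip S D M) : PFs D M where
  comm _ hq _ ha := S4ConZip.comm_mem h hq ha
  six _ hx := S4ConZip.six h hx
  inf _ hx := S4ConZip.inf_cj h hx
  hatN _ hx := S4ConZip.hat_normal h hx
  hatEq _ _ hx hy := S4ConZip.hat_eq h hx hy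
  inj _ hx _ ha haQ _ hb hc := S4ConZip.inj h hx ha haQ hb hc
  surj _ hx _ ha haQ _ hu := S4ConZip.surj h hx ha haQ hu
  lt := by
    obtain ⟨x, hx⟩ := exists_notMem h
    exact S4ConZip.lt h hx
  cent _ hx _ hu hb := S4ConZip.cent h hx hu hb

/-- **The P-side theorem**, from (5*). -/
theorem pside_of_key (h : Zip S D M) (hkey : ∀ x, x ∉ M → Key D x) :
    ∃ (V : Type u) (_ : CommGroup V) (j : V →* P) (B : Subgroup (MulAut V))
      (E E₀ : Subgroup V), Function.Injective j ∧ j.range = D ∧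
      PreFlag (MonoidHom.id (MulAut V)) B E E₀ ∧
      (∀ W ≤ E, Unoff (MonoidHom.id (MulAut V)) B W → W ≤ E₀) ∧
      ∀ b ∈ B, ∃ s ∈ (S : Subgroup P), ∀ v, j (b v) = s * j v * s⁻¹ := by
  obtain ⟨x, hx⟩ := exists_notMem h
  have hF := pFs h
  exact preFlag h (hF.pf hx) (big h hF hx) (hkey x hx)

theorem key (h : Zip S D M) (x : P) (hx : x ∉ M) : Key D x := by
  have hF := pFs h
  intro W hWE hW hoff
  exact S4ConKey.key_of h hF.comm (hF.inf x hx) (hF.hatN x hx) (hF.inj x hx) hWE hW hoff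

/-- **The P-side theorem.** -/
theorem pside (h : Zip S D M) :
    ∃ (V : Type u) (_ : CommGroup V) (j : V →* P) (B : Subgroup (MulAut V))
      (E E₀ : Subgroup V), Function.Injective j ∧ j.range = D ∧
      PreFlag (MonoidHom.id (MulAut V)) B E E₀ ∧
      (∀ W ≤ E, Unoff (MonoidHom.id (MulAut V)) B W → W ≤ E₀) ∧
      ∀ b ∈ B, ∃ s ∈ (S : Subgroup P), ∀ v, j (b v) = s * j v * s⁻¹ :=
  pside_of_key h (key h)

end Cfsg.Agent.PLocal.S4ConPside
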