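import Mathlib
import Cfsg.Agent.PLocal.S4ConDefs

set_option autoImplicit false

/-!
# The chain argument of the `H`-side (piece L5a of the proof of S0665, bulletin board P15)

(8i), (8j), (8k): there is `g` with `U₀^g ∩ U₁` contained in the largest invariant subgroup of
`U₁`.
-/

namespace Cfsg.Agent.PLocal.S4ConChain

open Cfsg.Agent.PLocal.SFourBasic Cfsg.Agent.PLocal.SFourOffender
open Cfsg.Agent.PLocal.S4FreeClosureBasic Cfsg.Agent.PLocal.S4FreeClosureUniq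
open Cfsg.Agent.PLocal.S4ConDefs

universe u v

variable {X : Type u} [Group X] {V : Type v} [CommGroup V] {φ : X →* MulAut V}
  {B : Subgroup X} {U₁ U₀ : Subgroup V} {T : Sylow 2 X} {X₀ : Subgroup X} {G : Subgroup V}

theorem fx_top_inv (φ : X →* MulAut V) : ∀ x : X, ∀ v ∈ fx φ ⊤, φ x v ∈ fx φ ⊤ := by
  intro x v hv
  rw [hv x (Subgroup.mem_top x)]
  exact hv

theorem fx_top_le (hF : PreFlag φ B U₁ U₀) : fx φ ⊤ ≤ U₀ := by
  rw [← hF.fix]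
  exact fx_anti φ le_top

theorem fx_top_le_core {W : Subgroup V} (hW : fx φ ⊤ ≤ W) : fx φ ⊤ ≤ core φ W := by
  intro v hv
  rw [mem_core]
  intro x
  exact hW (fx_top_inv φ x v hv)

theorem inf_im_le (hF : PreFlag φ B U₁ U₀) (hU : Uniq φ B U₀ T X₀ G) {x : X} (hx : x ∉ X₀) :
    U₀ ⊓ im φ x U₀ ≤ fx φ ⊤ := by
  rw [← hF.fix, ← fx_cj, ← fx_sup, hU.gen x hx]

/-- `(#)`: the centraliser of `w ∈ U₀^x - N₀` lies in `X₀^x`. -/
theorem mem_cj_of_fix (hF : PreFlag φ B U₁ U₀) (hU : Uniq φ B U₀ T X₀ G) {x : X} {w : V}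
    (hw : w ∈ im φ x U₀) (hw' : w ∉ fx φ ⊤) {r : X} (hr : φ r w = w) : r ∈ cj x X₀ := by
  set Y : Subgroup X := (MulAction.stabilizer (MulAut V) w).comap φ with hY
  have hmem : ∀ y : X, y ∈ Y ↔ φ y w = w := fun y => Iff.rfl
  have hBY : cj x B ≤ Y := by
    intro b hb
    rw [← hF.fix, ← fx_cj] at hw
    exact (hmem b).2 (hw b hb)
  have hYne : Y ≠ ⊤ := by
    intro h
    apply hw'
    intro y _
    exact (hmem y).1 (h ▸ Subgroup.mem_top y)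
  have hYne' : cj x⁻¹ Y ≠ ⊤ := by
    intro h
    apply hYne
    rw [← cj_cj_inv x Y, h, eq_top_iff]
    intro y _
    rw [mem_cj]
    exact Subgroup.mem_top _
  have h1 : cj x⁻¹ Y ≤ X₀ := by
    apply hU.uniq 1
    · rw [cj_one]
      exact hU.BT.trans hU.TX
    · rw [cj_one]
      rw [← cj_inv_cj x B]
      exact cj_mono _ hBY
    · exact hYne'
  have h2 : Y ≤ cj x X₀ := by
    rw [← cj_cj_inv x Y]
    exact cj_mono x h1
  exact h2 hr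

/-- (8i) -/
theorem exists_r (hF : PreFlag φ B U₁ U₀) (hU : Uniq φ B U₀ T X₀ G) {g : X} {Z : Subgroup V}
    (hZ : Inv φ X₀ Z) (hZU : Z ≤ U₀) {z w : V} (hz : z ∈ im φ g Z) (hz' : z ∉ U₁)
    (hw : w ∈ im φ g U₀) (hw1 : w ∈ U₁) :
    ∃ r ∈ B, φ r z * z⁻¹ ∈ im φ g Z ∧ φ r z * z⁻¹ * w ∈ fx φ ⊤ ∧ φ r w = w := by
  by_cases hw0 : w ∈ fx φ ⊤
  · refine ⟨1, one_mem _, ?_, ?_, ?_⟩
    · rw [map_one, MulAut.one_apply, mul_inv_cancel]
      exact one_mem _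
    · rw [map_one, MulAut.one_apply, mul_inv_cancel, one_mul]
      exact hw0
    · rw [map_one, MulAut.one_apply]
  have hinv : ∀ v : V, v⁻¹ = v := fun v => inv_eq_of_mul_eq_one_left (hF.exp v)
  obtain ⟨r, hrB, hr⟩ := hF.surj z hz' w hw1
  have hr2 : φ r (φ r z) = z := by
    rw [← MulAut.mul_apply, ← map_mul, hF.two r hrB, map_one, MulAut.one_apply]
  have hU0r : ∀ u ∈ U₀, φ r u = u := by
    intro u hu
    rw [← hF.fix] at hu
    exact hu r hrB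
  -- `r` centralises `w`
  have h1 : φ r (φ r z * z⁻¹) = φ r z * z⁻¹ := by
    rw [map_mul, hr2, map_inv, hinv (φ r z), hinv z, mul_comm]
  have hrw : φ r w = w := by
    have h2 := hU0r _ hr
    rw [map_mul, h1] at h2
    exact mul_left_cancel h2
  have hrX : r ∈ cj g X₀ := mem_cj_of_fix hF hU hw hw0 hrw
  have hrZ : φ r z ∈ im φ g Z := by
    rw [mem_cj] at hrX
    rw [mem_im] at hz ⊢
    have h3 := hZ _ hrX _ hz
    rw [map_mul, map_mul, MulAut.mul_apply, MulAut.mul_apply, apply_inv_cancel] at h3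
    exact h3
  have hzr : φ r z * z⁻¹ ∈ im φ g Z := mul_mem hrZ (inv_mem hz)
  refine ⟨r, hrB, hzr, ?_, hrw⟩
  -- `g ∉ X₀`
  have hg : g ∉ X₀ := by
    intro hg
    apply hz'
    rw [mem_im] at hz
    have h4 := hZ g hg _ hz
    rw [apply_inv_cancel] at h4
    exact hF.le (hZU h4)
  apply inf_im_le hF hU hg
  refine ⟨hr, ?_⟩
  have hle : im φ g Z ≤ im φ g U₀ := Subgroup.map_mono hZU
  exact mul_mem (hle hzr) hw

/-- (8j): the chain property. -/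
theorem chain (hF : PreFlag φ B U₁ U₀) (hS : NoS3 φ) (hU : Uniq φ B U₀ T X₀ G)
    {Z : Subgroup V} (hZ : Inv φ X₀ Z) (hZU : Z ≤ U₀) (h h' : X) :
    Z ⊓ im φ h U₁ ≤ im φ h' U₁ ∨ Z ⊓ im φ h' U₁ ≤ im φ h U₁ := by
  by_contra hcon
  push Not at hcon
  obtain ⟨h1, h2⟩ := hcon
  obtain ⟨c, ⟨hcZ, hch⟩, hch'⟩ := SetLike.not_le_iff_exists.1 h1
  obtain ⟨c', ⟨hcZ', hch1⟩, hch1'⟩ := SetLike.not_le_iff_exists.1 h2
  have key : ∀ (h : X) (c c' : V), c ∈ Z → c ∈ im φ h U₁ → c' ∈ Z → c' ∉ im φ h U₁ →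
      ∃ r : X, φ r c' * c'⁻¹ * c ∈ fx φ ⊤ ∧ φ r c = c := by
    intro h c c' hcZ hch hcZ' hch1'
    have hz : φ h⁻¹ c' ∈ im φ h⁻¹ Z := ⟨c', hcZ', rfl⟩
    have hz' : φ h⁻¹ c' ∉ U₁ := fun h3 => hch1' (mem_im.2 h3)
    have hw : φ h⁻¹ c ∈ im φ h⁻¹ U₀ := ⟨c, hZU hcZ, rfl⟩
    have hw1 : φ h⁻¹ c ∈ U₁ := mem_im.1 hch
    obtain ⟨r, -, -, hr1, hr2⟩ := exists_r hF hU hZ hZU hz hz' hw hw1
    refine ⟨h * r * h⁻¹, ?_, ?_⟩
    · have h3 := fx_top_inv φ h _ hr1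
      rw [map_mul (φ h), map_mul (φ h), map_inv (φ h), apply_inv_cancel, apply_inv_cancel] at h3
      rw [map_mul φ, map_mul φ, MulAut.mul_apply, MulAut.mul_apply]
      exact h3
    · rw [map_mul φ, map_mul φ, MulAut.mul_apply, MulAut.mul_apply, hr2, apply_inv_cancel]
  obtain ⟨r, hr1, hr2⟩ := key h c c' hcZ hch hcZ' hch1'
  obtain ⟨r', hr1', hr2'⟩ := key h' c' c hcZ' hch1 hcZ hch'
  have hinv : ∀ v : V, v⁻¹ = v := fun v => inv_eq_of_mul_eq_one_left (hF.exp v)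
  have hN : ∀ x : X, ∀ v ∈ fx φ ⊤, v ∈ im φ x U₁ := by
    intro x v hv
    rw [mem_im]
    exact hF.le (fx_top_le hF (fx_top_inv φ _ v hv))
  have hmk : ∀ a b : V, a * b ∈ fx φ ⊤ → (a : V ⧸ fx φ ⊤) = b := by
    intro a b hab
    rw [QuotientGroup.eq, hinv a]
    exact hab
  refine not_noS3 (φ := quotHom φ (fx φ ⊤) (fx_top_inv φ)) (v := (c' : V ⧸ fx φ ⊤))
    (w := (c : V ⧸ fx φ ⊤)) (a := r) (b := r') ?_ ?_ ?_ ?_ ?_ ?_ ?_ ?_ ?_
    (noS3_quot hS _ _)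
  · rw [← QuotientGroup.mk_mul, hF.exp, QuotientGroup.mk_one]
  · rw [← QuotientGroup.mk_mul, hF.exp, QuotientGroup.mk_one]
  · intro h3
    exact hch1' (hN h _ ((QuotientGroup.eq_one_iff c').1 h3))
  · intro h3
    exact hch' (hN h' _ ((QuotientGroup.eq_one_iff c).1 h3))
  · intro h3
    rw [QuotientGroup.eq] at h3
    apply hch1'
    have h4 : c * (c'⁻¹ * c)⁻¹ ∈ im φ h U₁ := Subgroup.mul_mem _ hch (Subgroup.inv_mem _ (hN h _ h3))
    rw [mul_inv, inv_inv, ← mul_assoc, mul_comm c c', mul_assoc, mul_inv_cancel, mul_one] at h4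
    exact h4
  · rw [quotHom_mk, ← QuotientGroup.mk_mul]
    apply hmk
    rw [hinv c'] at hr1
    rwa [← mul_assoc]
  · rw [quotHom_mk, hr2]
  · rw [quotHom_mk, ← QuotientGroup.mk_mul]
    apply hmk
    rw [hinv c] at hr1'
    rwa [← mul_assoc]
  · rw [quotHom_mk, hr2']

/-- (8j), (8k) for an arbitrary invariant `Z ≤ U₀` not contained in the core of `U₁`. -/
theorem exists_g_aux [Finite X] [Finite V] (hF : PreFlag φ B U₁ U₀) (hS : NoS3 φ)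
    (hU : Uniq φ B U₀ T X₀ G) {Z : Subgroup V} (hZ : Inv φ X₀ Z) (hZU : Z ≤ U₀)
    (hZg : ¬ Z ≤ core φ U₁) :
    ∃ g : X, ¬ im φ g Z ≤ U₁ ∧ im φ g U₀ ⊓ U₁ ≤ core φ U₁ := by
  classical
  have hex : {h : X | ¬ Z ≤ im φ h U₁}.Nonempty := by
    by_contra hne
    rw [Set.not_nonempty_iff_eq_empty, Set.eq_empty_iff_forall_notMem] at hne
    apply hZg
    intro z hz
    unfold core
    rw [Subgroup.mem_iInf]
    intro x
    have := hne x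
    rw [Set.mem_ofPred_eq, not_not] at this
    exact this hz
  obtain ⟨h, hh, hmin⟩ := Set.exists_min_image {h : X | ¬ Z ≤ im φ h U₁}
    (fun h => Nat.card (Z ⊓ im φ h U₁ : Subgroup V)) (Set.toFinite _) hex
  have hcore : Z ⊓ im φ h U₁ ≤ core φ U₁ := by
    unfold core
    refine le_iInf fun x => ?_
    by_cases hx : Z ≤ im φ x U₁
    · exact inf_le_left.trans hx
    · rcases chain hF hS hU hZ hZU h x with h1 | h1
      · exact h1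
      · have h2 : Z ⊓ im φ x U₁ ≤ Z ⊓ im φ h U₁ := le_inf inf_le_left h1
        have h3 := Subgroup.eq_of_le_of_card_ge h2 (hmin x hx)
        rw [← h3]
        exact inf_le_right
  have hZ1 : im φ h⁻¹ Z ⊓ U₁ ≤ core φ U₁ := by
    rintro v ⟨hv1, hv2⟩
    replace hv1 : φ h v ∈ Z := by
      have hv3 : v ∈ im φ h⁻¹ Z := hv1
      rwa [mem_im, inv_inv] at hv3
    have h4 : φ h v ∈ core φ U₁ := hcore ⟨hv1, ⟨v, hv2, rfl⟩⟩
    have h5 := core_inv φ U₁ h⁻¹ _ h4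
    rwa [inv_apply_cancel] at h5
  obtain ⟨z, hz, hz'⟩ := SetLike.not_le_iff_exists.1 hh
  refine ⟨h⁻¹, ?_, ?_⟩
  · intro h6
    exact hz' (mem_im.2 (h6 ⟨z, hz, rfl⟩))
  · rintro w ⟨hw, hw1⟩
    have hz1 : φ h⁻¹ z ∈ im φ h⁻¹ Z := ⟨z, hz, rfl⟩
    have hz2 : φ h⁻¹ z ∉ U₁ := fun h6 => hz' (mem_im.2 h6)
    obtain ⟨r, hrB, hr1, hr2, -⟩ := exists_r hF hU hZ hZU hz1 hz2 hw hw1
    have h7 : φ r (φ h⁻¹ z) * (φ h⁻¹ z)⁻¹ ∈ core φ U₁ := hZ1 ⟨hr1, hF.a1 r hrB _⟩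
    have h8 := fx_top_le_core ((fx_top_le hF).trans hF.le) hr2
    exact (Subgroup.mul_mem_cancel_left _ h7).1 h8

/-- (8k), with `G^g ≰ U₁` -/
theorem exists_g_not_le [Finite X] [Finite V] (hF : Flag φ B U₁ U₀) (hU : Uniq φ B U₀ T X₀ G) :
    ∃ g : X, ¬ im φ g G ≤ U₁ ∧ im φ g U₀ ⊓ U₁ ≤ core φ U₁ := by
  refine exists_g_aux hF.toPreFlag hF.noS3 hU hU.Ginv hU.GU ?_
  intro h
  apply hF.ne
  rw [eq_top_iff, ← hU.Ggen _ h (core_inv φ U₁)]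
  exact core_le φ U₁

/-- (8k) -/
theorem exists_g [Finite X] [Finite V] (hF : Flag φ B U₁ U₀) (hU : Uniq φ B U₀ T X₀ G) :
    ∃ g : X, im φ g U₀ ⊓ U₁ ≤ core φ U₁ := by
  obtain ⟨g, -, hg⟩ := exists_g_not_le hF hU
  exact ⟨g, hg⟩

end Cfsg.Agent.PLocal.S4ConChain
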