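import Mathlib
import Cfsg.Agent.PLocal.S4ConChain
import Cfsg.Agent.PLocal.S4FreeClosure

set_option autoImplicit false

/-!
# The bad case of the `H`-side (piece L5b of the proof of S0665, bulletin board P15)

`[U₁, B]` is not contained in the largest invariant subgroup `K` of `U₁`.
-/

namespace Cfsg.Agent.PLocal.S4ConBad

open Cfsg Cfsg.Agent.Lib
open Cfsg.Agent.PLocal.SFourBasic Cfsg.Agent.PLocal.SFourOffender
open Cfsg.Agent.PLocal.S4FreeClosureBasic Cfsg.Agent.PLocal.S4FreeClosureUniq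
open Cfsg.Agent.PLocal.S4FreeClosure
open Cfsg.Agent.PLocal.S4ConDefs Cfsg.Agent.PLocal.S4ConChain

universe u v

theorem rel_ne_zero {Y : Type*} [Group Y] [Finite Y] (A A' : Subgroup Y) : A.relIndex A' ≠ 0 :=
  Subgroup.index_ne_zero_of_finite (H := A.subgroupOf A')

section hyperplane

variable {V : Type v} [CommGroup V]

/-- Hyperplanes of `U` over `N` separate the points of `U - N`. -/
theorem exists_hyperplane [Finite V] (hexp : ∀ v : V, v * v = 1) {N U : Subgroup V} (hNU : N ≤ U)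
    {c : V} (hcU : c ∈ U) (hcN : c ∉ N) :
    ∃ Λ : Subgroup V, N ≤ Λ ∧ Λ ≤ U ∧ Λ.relIndex U = 2 ∧ c ∉ Λ := by
  classical
  let S : Set (Subgroup V) := {L | N ≤ L ∧ L ≤ U ∧ c ∉ L}
  obtain ⟨L, hL⟩ := S.toFinite.exists_maximal ⟨N, le_rfl, hNU, hcN⟩
  obtain ⟨hNL, hLU, hcL⟩ := hL.prop
  refine ⟨L, hNL, hLU, ?_, hcL⟩
  have hinv : ∀ v : V, v⁻¹ = v := fun v => inv_eq_of_mul_eq_one_left (hexp v)
  rw [Subgroup.relIndex_eq_two_iff]
  refine ⟨c, hcU, fun b hb => ?_⟩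
  by_cases hbL : b ∈ L
  · right
    exact ⟨hbL, fun h => hcL ((Subgroup.mul_mem_cancel_left _ hbL).1 h)⟩
  · left
    refine ⟨?_, hbL⟩
    by_contra hbc
    have hlt : L < L ⊔ Subgroup.zpowers b := by
      refine lt_of_le_of_ne le_sup_left fun h => hbL ?_
      rw [h]
      exact (le_sup_right : Subgroup.zpowers b ≤ _) (Subgroup.mem_zpowers b)
    have hmem : c ∈ L ⊔ Subgroup.zpowers b := by
      by_contra hc
      have h2 : L ⊔ Subgroup.zpowers b ∈ S :=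
        ⟨hNL.trans le_sup_left, sup_le hLU (by rwa [Subgroup.zpowers_le]), hc⟩
      exact hlt.not_ge (hL.le_of_ge h2 le_sup_left)
    obtain ⟨l, hl, w, hw, hlw⟩ := Subgroup.mem_sup.1 hmem
    obtain ⟨k, rfl⟩ := Subgroup.mem_zpowers_iff.1 hw
    have hbk : b ^ k = 1 ∨ b ^ k = b := by
      have hb2 : b ^ (2 : ℤ) = 1 := by
        rw [zpow_two]
        exact hexp b
      rcases Int.even_or_odd' k with ⟨m, hm | hm⟩
      · left
        rw [hm, zpow_mul, hb2, one_zpow]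
      · right
        rw [hm, zpow_add, zpow_mul, hb2, one_zpow, one_mul, zpow_one]
    rcases hbk with h | h
    · rw [h, mul_one] at hlw
      exact hcL (hlw ▸ hl)
    · rw [h] at hlw
      apply hbc
      rw [← hlw, mul_comm l b, ← mul_assoc, hexp, one_mul]
      exact hl

end hyperplane

variable {X : Type u} [Group X] {V : Type v} [CommGroup V] {φ : X →* MulAut V}
  {B : Subgroup X} {U₁ U₀ : Subgroup V} {T : Sylow 2 X} {X₀ : Subgroup X} {G : Subgroup V}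

/-- `{u ∈ K | [u, A] ≤ Λ}` has index at most `|A : A₀|` in `K` if `[K, A₀] ≤ Λ`. -/
theorem relIndex_rad_le [Finite X] [Finite V] {B₀ : Subgroup X} (hB₀ : B₀ ≤ B)
    {K Λ : Subgroup V} (hΛ : Λ.relIndex U₀ = 2) (hK : ∀ b ∈ B, ∀ u ∈ K, φ b u * u⁻¹ ∈ U₀)
    (hΛinv : ∀ b ∈ B, ∀ u ∈ U₀, φ b u = u) (hK₀ : ∀ b ∈ B₀, ∀ u ∈ K, φ b u * u⁻¹ ∈ Λ) :
    (rad φ B K Λ).relIndex K ≤ B₀.relIndex B := by
  classical
  let S : Set (Subgroup X) := {A | B₀ ≤ A ∧ A ≤ B ∧ (rad φ A K Λ).relIndex K ≤ B₀.relIndex A}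
  have hne : S.Nonempty := by
    refine ⟨B₀, le_rfl, hB₀, ?_⟩
    have h1 : K ≤ rad φ B₀ K Λ := fun u hu => ⟨hu, fun b hb => hK₀ b hb u hu⟩
    rw [Subgroup.relIndex_eq_one.2 h1, Subgroup.relIndex_self]
  obtain ⟨A, hA⟩ := S.toFinite.exists_maximal hne
  obtain ⟨hBA, hAB, hAle⟩ := hA.prop
  by_cases hAB' : A = B
  · rwa [hAB'] at hAle
  exfalso
  obtain ⟨b, hbB, hbA⟩ := SetLike.not_le_iff_exists.1 (fun h => hAB' (le_antisymm hAB h))
  let l : V →* V :=
    { toFun := fun v => φ b v * v⁻¹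
      map_one' := by rw [map_one, inv_one, mul_one]
      map_mul' := fun v w => by rw [map_mul, mul_inv, mul_mul_mul_comm] }
  set A' := A ⊔ Subgroup.zpowers b with hA'
  have hlt : A < A' := by
    refine lt_of_le_of_ne le_sup_left fun h => hbA ?_
    rw [h]
    exact (le_sup_right : Subgroup.zpowers b ≤ _) (Subgroup.mem_zpowers b)
  have hA'B : A' ≤ B := sup_le hAB (by rwa [Subgroup.zpowers_le])
  have hrad : rad φ A K Λ ⊓ Λ.comap l ≤ rad φ A' K Λ := by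
    rintro u ⟨⟨huK, hu1⟩, hu2⟩
    refine ⟨huK, ?_⟩
    -- the subgroup of all `a ∈ B` with `[u, a] ∈ Λ`
    have hsub : A' ≤ ({
        carrier := {a | a ∈ B ∧ φ a u * u⁻¹ ∈ Λ}
        one_mem' := ⟨one_mem _, by
          rw [map_one, MulAut.one_apply, mul_inv_cancel]
          exact one_mem _⟩
        mul_mem' := fun {a b} ha hb => ⟨mul_mem ha.1 hb.1, by
          have h1 := mul_mem ha.2 hb.2
          have h2 : φ (a * b) u * u⁻¹ = φ a u * u⁻¹ * (φ b u * u⁻¹) := by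
            have h3 : φ a (φ b u * u⁻¹) = φ b u * u⁻¹ := hΛinv a ha.1 _ (hK b hb.1 u huK)
            have h4 : φ a (φ b u) = (φ b u * u⁻¹) * φ a u := by
              conv_lhs => rw [show φ b u = (φ b u * u⁻¹) * u by rw [inv_mul_cancel_right]]
              rw [map_mul, h3]
            rw [map_mul, MulAut.mul_apply, h4, mul_comm (φ a u * u⁻¹), mul_assoc]
          rw [h2]
          exact h1⟩
        inv_mem' := fun {a} ha => ⟨inv_mem ha.1, by
          have h1 := inv_mem ha.2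
          have h2 : φ a⁻¹ u * u⁻¹ = (φ a u * u⁻¹)⁻¹ := by
            have h3 : φ a⁻¹ (φ a u * u⁻¹) = φ a u * u⁻¹ :=
              hΛinv _ (inv_mem ha.1) _ (hK a ha.1 u huK)
            rw [← h3, map_mul (φ a⁻¹), inv_apply_cancel, map_inv (φ a⁻¹), mul_inv, inv_inv, mul_comm]
          rw [h2]
          exact h1⟩ } : Subgroup X) := by
      refine sup_le (fun a ha => ⟨hAB ha, hu1 a ha⟩) ?_
      rw [Subgroup.zpowers_le]
      exact ⟨hbB, hu2⟩
    intro a ha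
    exact (hsub ha).2
  have h2 : (Λ.comap l).relIndex (rad φ A K Λ) ≤ 2 := by
    rw [Subgroup.relIndex_comap, ← hΛ]
    refine Subgroup.relIndex_le_of_le_right ?_ (by rw [hΛ]; norm_num)
    rintro _ ⟨u, hu, rfl⟩
    exact hK b hbB u hu.1
  have h3 : (rad φ A' K Λ).relIndex K ≤ 2 * (rad φ A K Λ).relIndex K := by
    have hle : rad φ A K Λ ≤ K := fun u hu => hu.1
    have h4 := Subgroup.relIndex_mul_relIndex (rad φ A K Λ ⊓ Λ.comap l) (rad φ A K Λ) K
      inf_le_left hle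
    rw [Subgroup.inf_relIndex_left] at h4
    have h9 : (rad φ A' K Λ).relIndex K ≤ (rad φ A K Λ ⊓ Λ.comap l).relIndex K :=
      Subgroup.relIndex_le_of_le_left hrad (rel_ne_zero _ _)
    rw [← h4] at h9
    exact h9.trans (Nat.mul_le_mul_right _ h2)
  have h5 : 2 ≤ A.relIndex A' := by
    have h6 : A.relIndex A' ≠ 0 := rel_ne_zero _ _
    have h7 : A.relIndex A' ≠ 1 := fun h => hlt.not_ge (Subgroup.relIndex_eq_one.1 h)
    omega
  have h8 : A' ∈ S := by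
    refine ⟨hBA.trans hlt.le, hA'B, ?_⟩
    rw [← Subgroup.relIndex_mul_relIndex B₀ A A' hBA hlt.le]
    calc (rad φ A' K Λ).relIndex K ≤ 2 * (rad φ A K Λ).relIndex K := h3
      _ ≤ A.relIndex A' * B₀.relIndex A := Nat.mul_le_mul h5 hAle
      _ = _ := mul_comm _ _
  exact hlt.not_ge (hA.le_of_ge h8 hlt.le)

/-- The elements acting trivially modulo `C`. -/
def triv (φ : X →* MulAut V) (C : Subgroup V) : Subgroup X where
  carrier := {h | ∀ v, φ h v * v⁻¹ ∈ C}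
  one_mem' := fun v => by
    rw [map_one, MulAut.one_apply, mul_inv_cancel]
    exact one_mem _
  mul_mem' := fun {a b} ha hb v => by
    have h1 := mul_mem (ha (φ b v)) (hb v)
    rw [← mul_assoc, inv_mul_cancel_right] at h1
    rw [map_mul, MulAut.mul_apply]
    exact h1
  inv_mem' := fun {a} ha v => by
    have h1 := inv_mem (ha (φ a⁻¹ v))
    rw [apply_inv_cancel, mul_inv_rev, inv_inv] at h1
    exact h1

theorem mem_triv {C : Subgroup V} {h : X} : h ∈ triv φ C ↔ ∀ v, φ h v * v⁻¹ ∈ C := Iff.rfl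

theorem exists_notMem (hU : Uniq φ B U₀ T X₀ G) : ∃ g, g ∉ X₀ := by
  by_contra hcon
  push Not at hcon
  exact hU.X₀ne (eq_top_iff.2 fun x _ => hcon x)

theorem inf_im_le_core (hU : Uniq φ B U₀ T X₀ G)
    (hC : ∀ b ∈ B, ∀ u ∈ U₁, φ b u * u⁻¹ ∈ core φ U₁) {x : X} (hx : x ∉ X₀) :
    U₁ ⊓ im φ x U₁ ≤ core φ U₁ := by
  set K := core φ U₁ with hK
  let S : Subgroup X :=
    { carrier := {h | ∀ w ∈ U₁ ⊓ im φ x U₁, φ h w * w⁻¹ ∈ K}
      one_mem' := fun v _ => by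
        rw [map_one, MulAut.one_apply, mul_inv_cancel]
        exact one_mem _
      mul_mem' := fun {a b} ha hb v hv => by
        have h1 := mul_mem (core_inv φ U₁ a _ (hb v hv)) (ha v hv)
        rw [map_mul (φ a), map_inv (φ a), ← mul_assoc, inv_mul_cancel_right] at h1
        rw [map_mul φ, MulAut.mul_apply]
        exact h1
      inv_mem' := fun {a} ha v hv => by
        have h1 := inv_mem (core_inv φ U₁ a⁻¹ _ (ha v hv))
        rw [map_mul (φ a⁻¹), map_inv (φ a⁻¹), inv_apply_cancel, mul_inv, inv_inv, mul_comm] at h1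
        exact h1 }
  have hS : S = ⊤ := by
    rw [eq_top_iff, ← hU.gen x hx]
    refine sup_le (fun b hb w hw => hC b hb w hw.1) ?_
    rintro _ ⟨b, hb, rfl⟩ w ⟨-, hw⟩
    obtain ⟨u, hu, rfl⟩ := hw
    show φ (x * b * x⁻¹) (φ x u) * (φ x u)⁻¹ ∈ K
    have h1 := core_inv φ U₁ x _ (hC b hb u hu)
    rw [map_mul (φ x), map_inv (φ x)] at h1
    rw [map_mul φ, map_mul φ, MulAut.mul_apply, MulAut.mul_apply, inv_apply_cancel]
    exact h1
  intro w hw
  rw [hK, mem_core]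
  intro h
  have h1 : h ∈ S := hS ▸ Subgroup.mem_top h
  have h2 := mul_mem (core_le φ U₁ (h1 w hw)) hw.1
  rwa [inv_mul_cancel_right] at h2

theorem sup_eq (hU : Uniq φ B U₀ T X₀ G) {x : X} (hx : x ∉ X₀) :
    im φ x G ⊔ (cm φ B ⊔ cm φ (cj x B)) = ⊤ := by
  set C := cm φ B ⊔ cm φ (cj x B) with hC
  have hS : triv φ C = ⊤ := by
    rw [eq_top_iff, ← hU.gen x hx]
    exact sup_le (fun a ha v => (le_sup_left : cm φ B ≤ C) (mem_cm ha v))
      (fun a ha v => (le_sup_right : cm φ (cj x B) ≤ C) (mem_cm ha v))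
  have hall : ∀ (h : X) (v : V), φ h v * v⁻¹ ∈ C := fun h =>
    (hS ▸ Subgroup.mem_top h : h ∈ triv φ C)
  apply hU.Ggen
  · intro g hg
    have h1 := hall x⁻¹ (φ x g)
    rw [inv_apply_cancel] at h1
    have h2 : g = φ x g * (g * (φ x g)⁻¹) := by
      rw [mul_comm, inv_mul_cancel_right]
    rw [h2]
    exact Subgroup.mul_mem_sup ⟨g, hg, rfl⟩ h1
  · intro h w hw
    have h1 : φ h w = φ h w * w⁻¹ * w := by rw [inv_mul_cancel_right]
    rw [h1]
    exact Subgroup.mul_mem _ ((le_sup_right : C ≤ _) (hall h w)) hw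

/-- No nontrivial central quotient above the core. -/
theorem eq_top_of_central (hF : PreFlag φ B U₁ U₀) (hU : Uniq φ B U₀ T X₀ G)
    (hC : ∀ b ∈ B, ∀ u ∈ U₁, φ b u * u⁻¹ ∈ core φ U₁) {D : Subgroup V}
    (hKD : core φ U₁ ≤ D) (hD : ∀ x : X, ∀ v, φ x v * v⁻¹ ∈ D) : D = ⊤ := by
  obtain ⟨g, hg⟩ := exists_notMem hU
  have hinv : ∀ x : X, ∀ w ∈ D, φ x w ∈ D := by
    intro x w hw
    have h1 := D.mul_mem (hD x w) hw
    rwa [inv_mul_cancel_right] at h1
  have hU₁ : U₁ ≤ D := by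
    intro u hu
    have h1 : u ∈ im φ g G ⊔ (cm φ B ⊔ cm φ (cj g B)) := sup_eq hU hg ▸ Subgroup.mem_top u
    obtain ⟨a, ha, w, hw, rfl⟩ := Subgroup.mem_sup.1 h1
    obtain ⟨c, hc, d, hd, rfl⟩ := Subgroup.mem_sup.1 hw
    have hcU : c ∈ U₁ := (cm_le.2 hF.a1 : cm φ B ≤ U₁) hc
    have hcD : c ∈ D := (cm_le.2 fun b _ v => hD b v : cm φ B ≤ D) hc
    have hdU : d ∈ im φ g U₁ := by
      refine (cm_le.2 ?_ : cm φ (cj g B) ≤ im φ g U₁) hd
      rintro _ ⟨b, hb, rfl⟩ v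
      refine ⟨φ b (φ g⁻¹ v) * (φ g⁻¹ v)⁻¹, hF.a1 b hb _, ?_⟩
      show φ g (φ b (φ g⁻¹ v) * (φ g⁻¹ v)⁻¹) = φ (g * b * g⁻¹) v * v⁻¹
      rw [map_mul (φ g), map_inv (φ g), apply_inv_cancel, map_mul φ, map_mul φ, MulAut.mul_apply,
        MulAut.mul_apply]
    have haU : a ∈ im φ g U₁ := by
      obtain ⟨z, hz, rfl⟩ := ha
      exact ⟨z, hF.le (hU.GU hz), rfl⟩
    have h2 : a * (c * d) = c * (a * d) := mul_left_comm a c d
    rw [h2] at hu ⊢
    refine D.mul_mem hcD (hKD (inf_im_le_core hU hC hg ⟨?_, mul_mem haU hdU⟩))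
    exact (Subgroup.mul_mem_cancel_left _ hcU).1 hu
  exact hU.Ggen D ((hU.GU.trans hF.le).trans hU₁) hinv

theorem exp_quot (h : ∀ v : V, v * v = 1) (D : Subgroup V) : ∀ q : V ⧸ D, q * q = 1 := by
  intro q
  obtain ⟨v, rfl⟩ := QuotientGroup.mk_surjective q
  rw [← QuotientGroup.mk_mul, h, QuotientGroup.mk_one]

/-- `|B / (B ∩ O₂(X))| < s` -/
theorem relIndex_lt [Finite X] [Finite V] (hF : Flag φ B U₁ U₀) (hU : Uniq φ B U₀ T X₀ G)
    (hC : ∀ b ∈ B, ∀ u ∈ U₁, φ b u * u⁻¹ ∈ core φ U₁) :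
    (pCore 2 X).relIndex B < U₁.index := by
  classical
  have hKne : core φ U₁ ≠ ⊤ := fun h => hF.ne (eq_top_iff.2 (h ▸ core_le φ U₁))
  let S : Set (Subgroup V) := {Y | Y ≠ ⊤ ∧ core φ U₁ ≤ Y ∧ ∀ h : X, ∀ w ∈ Y, φ h w ∈ Y}
  obtain ⟨D, hDmax⟩ := S.toFinite.exists_maximal ⟨core φ U₁, hKne, le_rfl, core_inv φ U₁⟩
  obtain ⟨hDne, hKD, hDinv⟩ := hDmax.prop
  have hmax : ∀ Y : Subgroup V, D < Y → (∀ h : X, ∀ w ∈ Y, φ h w ∈ Y) → Y = ⊤ := by
    intro Y hY hinv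
    by_contra hne
    exact hY.not_ge (hDmax.le_of_ge (⟨hne, hKD.trans hY.le, hinv⟩ : Y ∈ S) hY.le)
  let ρ : X →* MulAut (V ⧸ D) := quotHom φ D hDinv
  have hρ : ∀ (h : X) (v : V), ρ h (QuotientGroup.mk v) = QuotientGroup.mk (φ h v) :=
    fun h v => rfl
  have hnt : Nontrivial (V ⧸ D) := by
    rw [QuotientGroup.nontrivial_iff]
    exact hDne
  have hexp := exp_quot hF.exp D
  have hV2 : IsPGroup 2 (V ⧸ D) := isPGroup_of_exp hexp
  -- invariant subgroups of the quotient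
  have hirr : ∀ Y : Subgroup (V ⧸ D), Y ≠ ⊥ → (∀ h : X, ∀ w ∈ Y, ρ h w ∈ Y) → Y = ⊤ := by
    intro Y hYne hY
    have h1 : D ≤ Y.comap (QuotientGroup.mk' D) := by
      intro v hv
      have h2 : QuotientGroup.mk' D v = 1 := (QuotientGroup.eq_one_iff v).2 hv
      rw [Subgroup.mem_comap, h2]
      exact one_mem _
    have h2 : D ≠ Y.comap (QuotientGroup.mk' D) := by
      intro h3
      apply hYne
      rw [eq_bot_iff]
      intro q hq
      obtain ⟨v, rfl⟩ := QuotientGroup.mk_surjective q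
      have h4 : v ∈ Y.comap (QuotientGroup.mk' D) := hq
      rw [← h3] at h4
      exact (QuotientGroup.eq_one_iff v).2 h4
    have h3 := hmax _ (lt_of_le_of_ne h1 h2) (fun h w hw => hY h _ hw)
    rw [eq_top_iff]
    intro q _
    obtain ⟨v, rfl⟩ := QuotientGroup.mk_surjective q
    exact (h3 ▸ Subgroup.mem_top v : v ∈ Y.comap (QuotientGroup.mk' D))
  -- `X` has no fixed points on the quotient
  have hfix : fx ρ ⊤ = ⊥ := by
    by_contra hne
    have h1 := hirr _ hne (fx_top_inv ρ)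
    apply hDne
    apply eq_top_of_central hF.toPreFlag hU hC hKD
    intro x v
    have h2 : (QuotientGroup.mk v : V ⧸ D) ∈ fx ρ ⊤ := h1 ▸ Subgroup.mem_top _
    have h3 := h2 x (Subgroup.mem_top x)
    rw [hρ, eq_comm, QuotientGroup.eq, mul_comm] at h3
    exact h3
  have hRn : (pCore 2 X).Normal := Cores.pCore_normal 2
  have hcore : pCore 2 X ≤ ρ.ker := by
    have h1 : fx ρ (pCore 2 X) = ⊤ := by
      apply hirr
      · obtain ⟨q, hq1, hq⟩ := exists_fixed hV2 ρ (pCore 2 X)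
          (T.isPGroup'.to_le (Cores.pCore_le_sylow T))
        intro h2
        apply hq1
        rw [← Subgroup.mem_bot, ← h2]
        exact hq
      · intro h w hw r hr
        have h2 := hw (h⁻¹ * r * h) (by
          have := hRn.conj_mem r hr h⁻¹
          rwa [inv_inv] at this)
        rw [map_mul ρ, map_mul ρ, MulAut.mul_apply, MulAut.mul_apply] at h2
        have h3 := congrArg (ρ h) h2
        rwa [apply_inv_cancel] at h3
    rw [← cn_top]
    exact le_fx_iff.1 h1.ge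
  have hker : ρ.ker ≤ X₀ := by
    by_contra hcon
    have h1 : ρ.ker ⊔ B = ⊤ := by
      by_contra hne
      exact hcon (le_sup_left.trans (hU.uniq 1 (by
        rw [cj_one]
        exact hU.BT.trans hU.TX) _ (by
        rw [cj_one]
        exact le_sup_right) hne))
    obtain ⟨q, hq1, hq⟩ := exists_fixed hV2 ρ B (T.isPGroup'.to_le hU.BT)
    apply hq1
    rw [← Subgroup.mem_bot, ← hfix, ← h1, fx_sup]
    refine ⟨fun a ha => ?_, hq⟩
    rw [MonoidHom.mem_ker.1 ha, MulAut.one_apply]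
  have hCfg : Cfg ρ T X₀ :=
    ⟨hexp, hU.TX, hU.X₀ne, hU.max, hcore, hker, noS3_quot hF.noS3 D hDinv⟩
  have hBker : B ⊓ ρ.ker ≤ pCore 2 X :=
    (inf_le_inf_right _ hU.BT).trans (inf_le_pCore T hU.X₀ne hU.max ρ.ker hker)
  have hBn : ¬ B ≤ ρ.ker := fun h => hU.Bnot ((le_inf le_rfl h).trans hBker)
  have hab : ∀ a ∈ B, ∀ b ∈ B, a * b = b * a := by
    intro a ha b hb
    have h1 := hF.two _ (mul_mem ha hb)
    have ha1 : a⁻¹ = a := inv_eq_of_mul_eq_one_left (hF.two a ha)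
    have hb1 : b⁻¹ = b := inv_eq_of_mul_eq_one_left (hF.two b hb)
    have h2 : a * b = (a * b)⁻¹ := eq_inv_of_mul_eq_one_left h1
    rw [h2, mul_inv_rev, ha1, hb1]
  have hoff := noOff hCfg B hU.BT (fun a ha b hb => by
    rw [← map_mul, ← map_mul, hab a ha b hb]) hBn
  -- `|B ρ| = |B : B ∩ R|`
  have hcard : Nat.card (B.map ρ) = (pCore 2 X).relIndex B := by
    rw [← Subgroup.relIndex_ker, ← Subgroup.inf_relIndex_right, ← Subgroup.inf_relIndex_right
      (pCore 2 X)]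
    congr 1
    apply le_antisymm
    · exact le_inf ((le_of_eq (inf_comm _ _)).trans hBker) inf_le_right
    · exact inf_le_inf_right _ hcore
  -- `|F / C_F(B)| ≤ s`
  have hidx : Nat.card (V ⧸ D) ≤ U₁.index * Nat.card (fixV (B.map ρ)) := by
    have h1 : U₁.map (QuotientGroup.mk' D) ≤ fixV (B.map ρ) := by
      rw [← fx_eq]
      rintro _ ⟨u, hu, rfl⟩ b hb
      show ρ b (QuotientGroup.mk u) = QuotientGroup.mk u
      rw [hρ, eq_comm, QuotientGroup.eq, mul_comm]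
      exact hKD (hC b hb u hu)
    have h2 : (U₁.map (QuotientGroup.mk' D)).index ≤ U₁.index := by
      refine Nat.le_of_dvd ?_ (Subgroup.index_map_dvd _ (QuotientGroup.mk'_surjective D))
      exact Nat.pos_of_ne_zero Subgroup.index_ne_zero_of_finite
    rw [← Subgroup.index_mul_card (U₁.map (QuotientGroup.mk' D))]
    exact Nat.mul_le_mul h2 (Subgroup.card_le_of_le h1)
  rw [hcard] at hoff
  exact Nat.lt_of_mul_lt_mul_right (hoff.trans_le hidx)

/-- An element of `G - K` centralised by `O₂(X)` modulo `K`. -/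
theorem exists_fixed_mod [Finite X] [Finite V] (hF : PreFlag φ B U₁ U₀)
    (hU : Uniq φ B U₀ T X₀ G) :
    ∃ v ∈ G, v ∉ core φ U₁ ∧ ∀ r ∈ pCore 2 X, φ r v * v⁻¹ ∈ core φ U₁ := by
  set K := core φ U₁ with hK
  let ρ : X →* MulAut (V ⧸ K) := quotHom φ K (core_inv φ U₁)
  let G' : Subgroup (V ⧸ K) := G.map (QuotientGroup.mk' K)
  have hG' : ∀ x : X₀, ∀ w ∈ G', (ρ.comp X₀.subtype) x w ∈ G' := by
    rintro ⟨x, hx⟩ _ ⟨g, hg, rfl⟩
    exact ⟨φ x g, hU.Ginv x hx g hg, rfl⟩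
  have hGK : ¬ G ≤ K := by
    intro h
    apply hF.ne
    rw [eq_top_iff, ← hU.Ggen _ h (core_inv φ U₁)]
    exact core_le φ U₁
  have hnt : Nontrivial G' := by
    rw [Subgroup.nontrivial_iff_ne_bot]
    intro h
    apply hGK
    intro g hg
    rw [← QuotientGroup.eq_one_iff, ← Subgroup.mem_bot, ← h]
    exact ⟨g, hg, rfl⟩
  have hRT : pCore 2 X ≤ (T : Subgroup X) := Cores.pCore_le_sylow T
  have hR2 : IsPGroup 2 ((pCore 2 X).subgroupOf X₀) := (T.isPGroup'.to_le hRT).comap_subtype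
  obtain ⟨⟨_, ⟨g, hg, rfl⟩⟩, hw1, hw⟩ := exists_fixed (V := G')
    (isPGroup_of_exp fun v => Subtype.ext (exp_quot hF.exp K v))
    (subHom (ρ.comp X₀.subtype) G' hG') ((pCore 2 X).subgroupOf X₀) hR2
  refine ⟨g, hg, ?_, ?_⟩
  · intro hgK
    exact hw1 (Subtype.ext ((QuotientGroup.eq_one_iff g).2 hgK))
  · intro r hr
    have h1 := hw ⟨r, (hRT.trans hU.TX) hr⟩ hr
    have h2 : (QuotientGroup.mk (φ r g) : V ⧸ K) = QuotientGroup.mk g := congrArg Subtype.val h1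
    rw [eq_comm, QuotientGroup.eq, mul_comm] at h2
    exact h2

/-- `b ↦ [v, b]` modulo `U₀` -/
def brk (hF : PreFlag φ B U₁ U₀) (v : V) : B →* V ⧸ U₀ where
  toFun b := QuotientGroup.mk (φ b v * v⁻¹)
  map_one' := by
    rw [QuotientGroup.eq_one_iff, Subgroup.coe_one, map_one, MulAut.one_apply, mul_inv_cancel]
    exact one_mem _
  map_mul' := fun a b => by
    rw [← QuotientGroup.mk_mul, QuotientGroup.eq, mul_comm]
    have h1 := inv_mem (hF.a2 a a.2 _ (hF.a1 b b.2 v))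
    have h2 : (φ (a : X) v * v⁻¹ * (φ (b : X) v * v⁻¹)) * (φ ((a * b : B) : X) v * v⁻¹)⁻¹ =
        (φ (a : X) (φ (b : X) v * v⁻¹) * (φ (b : X) v * v⁻¹)⁻¹)⁻¹ := by
      rw [Subgroup.coe_mul, map_mul φ, MulAut.mul_apply, map_mul (φ (a : X)), map_inv (φ (a : X))]
      have key : ∀ a c d e : Additive V,
          (c + -e + (d + -e)) + -(a + -e) = -((a + -c) + -(d + -e)) := by
        intro a c d e
        abel
      exact key _ _ _ _
    rw [h2]
    exact h1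

theorem brk_injective (hF : PreFlag φ B U₁ U₀) {v : V} (hv : v ∉ U₁) :
    Function.Injective (brk hF v) := by
  rw [injective_iff_map_eq_one]
  intro b hb
  exact Subtype.ext (hF.inj v hv b b.2 ((QuotientGroup.eq_one_iff _).1 hb))

theorem brk_range (hF : PreFlag φ B U₁ U₀) {v : V} (hv : v ∉ U₁) :
    (brk hF v).range = U₁.map (QuotientGroup.mk' U₀) := by
  apply le_antisymm
  · rintro _ ⟨b, rfl⟩
    exact ⟨_, hF.a1 b b.2 v, rfl⟩
  · rintro _ ⟨u, hu, rfl⟩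
    obtain ⟨b, hb, hbu⟩ := hF.surj v hv u⁻¹ (inv_mem hu)
    refine ⟨⟨b, hb⟩, ?_⟩
    show (QuotientGroup.mk (φ b v * v⁻¹) : V ⧸ U₀) = QuotientGroup.mk u
    rw [eq_comm, QuotientGroup.eq, mul_comm]
    exact hbu

/-- `|U₁ / U₀| = |B|`, and more generally the image of `A ≤ B` has index `|B : A|`. -/
theorem relIndex_brk [Finite X] [Finite V] (hF : PreFlag φ B U₁ U₀) {v : V} (hv : v ∉ U₁)
    (A : Subgroup B) :
    ((A.map (brk hF v)).comap (QuotientGroup.mk' U₀)).relIndex U₁ = A.index := by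
  rw [Subgroup.relIndex_comap, ← brk_range hF hv, MonoidHom.range_eq_map,
    Subgroup.relIndex_map_map_of_injective _ _ (brk_injective hF hv), Subgroup.relIndex_top_right]

/-- **The bad case** -/
theorem bad_case [Finite X] [Finite V] (hF : Flag φ B U₁ U₀) (hU : Uniq φ B U₀ T X₀ G) :
    ¬ ∀ b ∈ B, ∀ u ∈ U₁, φ b u * u⁻¹ ∈ core φ U₁ := by
  classical
  intro hC
  have hP := hF.toPreFlag
  have hlt := relIndex_lt hF hU hC
  have hRn : (pCore 2 X).Normal := Cores.pCore_normal 2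
  set R := pCore 2 X with hR
  set K := core φ U₁ with hK
  have hRX : R ≤ X₀ := (Cores.pCore_le_sylow T).trans hU.TX
  have hU₀B : ∀ b ∈ B, ∀ u ∈ U₀, φ b u = u := by
    intro b hb u hu
    rw [← hF.fix] at hu
    exact hu b hb
  obtain ⟨v₀, hv₀G, hv₀K, hv₀⟩ := exists_fixed_mod hP hU
  rw [mem_core] at hv₀K
  push Not at hv₀K
  obtain ⟨x, hx⟩ := hv₀K
  set v := φ x v₀ with hv
  have hxX : x ∉ X₀ := fun h => hx (hF.le (hU.GU (hU.Ginv x h _ hv₀G)))
  -- `[v, b] ∈ K ∩ G^x` for `b ∈ R`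
  have hvb : ∀ b ∈ R, ∃ k ∈ G, k ∈ K ∧ φ b v * v⁻¹ = φ x k := by
    intro b hb
    have hb' : x⁻¹ * b * x ∈ R := by
      have := hRn.conj_mem b hb x⁻¹
      rwa [inv_inv] at this
    refine ⟨φ (x⁻¹ * b * x) v₀ * v₀⁻¹,
      mul_mem (hU.Ginv _ (hRX hb') _ hv₀G) (inv_mem hv₀G), hv₀ _ hb', ?_⟩
    rw [map_mul (φ x), map_inv (φ x), map_mul φ, map_mul φ, MulAut.mul_apply, MulAut.mul_apply,
      apply_inv_cancel]
  have hN₀ := inf_im_le hP hU hxX
  -- `[[v, B₀], B₀] ≤ N₀`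
  have hvbb : ∀ b ∈ B ⊓ R, ∀ b' ∈ B ⊓ R, φ b' (φ b v * v⁻¹) * (φ b v * v⁻¹)⁻¹ ∈ fx φ ⊤ := by
    rintro b ⟨-, hb⟩ b' ⟨hb'B, hb'R⟩
    obtain ⟨k, hkG, hkK, hk⟩ := hvb b hb
    rw [hk]
    apply hN₀
    constructor
    · exact hF.a2 b' hb'B _ (core_le φ U₁ (core_inv φ U₁ x k hkK))
    · have hb'' : x⁻¹ * b' * x ∈ R := by
        have := hRn.conj_mem b' hb'R x⁻¹
        rwa [inv_inv] at this
      refine ⟨φ (x⁻¹ * b' * x) k * k⁻¹, hU.GU (mul_mem (hU.Ginv _ (hRX hb'') _ hkG)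
        (inv_mem hkG)), ?_⟩
      show φ x (φ (x⁻¹ * b' * x) k * k⁻¹) = _
      rw [map_mul (φ x), map_inv (φ x), map_mul φ, map_mul φ, MulAut.mul_apply, MulAut.mul_apply,
        apply_inv_cancel]
  -- the subgroup `K₁ = [v, B₀] U₀` of index `b₀` in `U₁`
  set B₁ : Subgroup B := R.subgroupOf B with hB₁
  set K₁ : Subgroup V := (B₁.map (brk hP v)).comap (QuotientGroup.mk' U₀) with hK₁
  have hK₁mem : ∀ u ∈ K₁, ∃ b ∈ B ⊓ R, (φ b v * v⁻¹)⁻¹ * u ∈ U₀ := by
    rintro u ⟨b, hb, hbu⟩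
    refine ⟨b, ⟨b.2, hb⟩, ?_⟩
    have h1 : (QuotientGroup.mk (φ b v * v⁻¹) : V ⧸ U₀) = QuotientGroup.mk u := hbu
    rwa [QuotientGroup.eq] at h1
  have hK₁U : K₁ ≤ U₁ := by
    intro u hu
    obtain ⟨b, hb, hbu⟩ := hK₁mem u hu
    exact (Subgroup.mul_mem_cancel_left _ (inv_mem (hF.a1 b hb.1 v))).1 (hF.le hbu)
  have hidx : K₁.relIndex U₁ = R.relIndex B := relIndex_brk hP hx B₁
  have hK₁B : ∀ b' ∈ B ⊓ R, ∀ u ∈ K₁, φ b' u * u⁻¹ ∈ fx φ ⊤ := by
    intro b' hb' u hu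
    obtain ⟨b, hb, hbu⟩ := hK₁mem u hu
    have h0 := hvbb b hb b' hb'
    generalize φ b v * v⁻¹ = w at h0 hbu
    have h1 : φ b' u * u⁻¹ = φ b' w * w⁻¹ := by
      have h2 := hU₀B b' hb'.1 _ hbu
      rw [map_mul (φ b'), map_inv (φ b'), inv_mul_eq_iff_eq_mul] at h2
      rw [h2, mul_assoc, mul_assoc, mul_inv_cancel, mul_one]
    rw [h1]
    exact h0
  -- `[U₁, B] ≤ N₀`
  have hCN : ∀ b ∈ B, ∀ u ∈ U₁, φ b u * u⁻¹ ∈ fx φ ⊤ := by
    intro b hb u hu
    by_contra hcon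
    obtain ⟨Λ, hNΛ, hΛU, hΛ2, hcΛ⟩ := exists_hyperplane hF.exp (fx_top_le hP) (hF.a2 b hb u hu) hcon
    rcases hF.big Λ hΛU hΛ2 with h1 | h1
    · exact hcΛ (h1 b hb u hu)
    · have h2 : (rad φ B K₁ Λ).relIndex K₁ ≤ (B ⊓ R).relIndex B :=
        relIndex_rad_le (U₀ := U₀) inf_le_left hΛ2
          (fun b hb u hu => hF.a2 b hb u (hK₁U hu)) hU₀B
          (fun b hb u hu => hNΛ (hK₁B b hb u hu))
      rw [Subgroup.inf_relIndex_left] at h2
      have h3 : rad φ B K₁ Λ ≤ K₁ := fun u hu => hu.1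
      have h4 : rad φ B K₁ Λ ≤ rad φ B U₁ Λ := fun u hu => ⟨hK₁U hu.1, hu.2⟩
      have h5 : (rad φ B U₁ Λ).relIndex U₁ ≤ (rad φ B K₁ Λ).relIndex U₁ :=
        Subgroup.relIndex_le_of_le_left h4 (rel_ne_zero _ _)
      rw [← Subgroup.relIndex_mul_relIndex _ _ _ h3 hK₁U, hidx] at h5
      have h6 : (rad φ B U₁ Λ).relIndex U₁ ≤ U₁.index * U₁.index :=
        h5.trans (Nat.mul_le_mul (h2.trans hlt.le) hlt.le)
      have h7 : 0 < U₁.index * U₁.index := by
        have : 0 < U₁.index := lt_of_le_of_lt (Nat.zero_le _) hlt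
        positivity
      have h8 := h1.trans h6
      rw [pow_two] at h8
      omega
  -- `G^x ∩ K ≤ U₀`
  have hGK : ∀ k ∈ G, k ∈ K → φ x k ∈ U₀ := by
    intro k hkG hkK
    -- `X` centralises `K / N₀`
    have hS : ∀ y : X, ∀ w ∈ K, φ y w * w⁻¹ ∈ fx φ ⊤ := by
      let S : Subgroup X :=
        { carrier := {h | ∀ w ∈ K, φ h w * w⁻¹ ∈ fx φ ⊤}
          one_mem' := fun v _ => by
            rw [map_one, MulAut.one_apply, mul_inv_cancel]
            exact one_mem _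
          mul_mem' := fun {a b} ha hb v hv => by
            have h1 := mul_mem (ha _ (core_inv φ U₁ b v hv)) (hb v hv)
            rw [← mul_assoc, inv_mul_cancel_right] at h1
            rw [map_mul φ, MulAut.mul_apply]
            exact h1
          inv_mem' := fun {a} ha v hv => by
            have h1 := inv_mem (ha _ (core_inv φ U₁ a⁻¹ v hv))
            rw [apply_inv_cancel, mul_inv_rev, inv_inv] at h1
            exact h1 }
      have hS : S = ⊤ := by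
        rw [eq_top_iff, ← hU.gen x hxX]
        refine sup_le (fun b hb w hw => hCN b hb w (core_le φ U₁ hw)) ?_
        rintro _ ⟨b, hb, rfl⟩ w hw
        have h1 := fx_top_inv φ x _ (hCN b hb (φ x⁻¹ w) (core_le φ U₁ (core_inv φ U₁ _ w hw)))
        rw [map_mul (φ x), map_inv (φ x), apply_inv_cancel] at h1
        show φ (x * b * x⁻¹) w * w⁻¹ ∈ _
        rw [map_mul φ, map_mul φ, MulAut.mul_apply, MulAut.mul_apply]
        exact h1
      intro y
      exact (hS ▸ Subgroup.mem_top y : y ∈ S)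
    have h1 := mul_mem (fx_top_le hP (hS x k hkK)) (hU.GU hkG)
    rwa [inv_mul_cancel_right] at h1
  -- `B₀ = 1`
  have hB0 : B ⊓ R = ⊥ := by
    rw [eq_bot_iff]
    rintro b ⟨hb, hbR⟩
    obtain ⟨k, hkG, hkK, hk⟩ := hvb b hbR
    rw [Subgroup.mem_bot]
    apply hF.inj v hx b hb
    rw [hk]
    exact hGK k hkG hkK
  -- `|B| < s`
  have hBs : Nat.card B < U₁.index := by
    rw [← Subgroup.inf_relIndex_left, hB0, Subgroup.relIndex_bot_left] at hlt
    exact hlt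
  -- `|U₁ : U₀| = |B|`
  have hUU : U₀.relIndex U₁ = Nat.card B := by
    have h1 := relIndex_brk hP hx (⊥ : Subgroup B)
    rw [Subgroup.map_bot, MonoidHom.comap_bot, QuotientGroup.ker_mk', Subgroup.index_bot] at h1
    exact h1
  -- a functional not killing `[U₁, B]`
  obtain ⟨u, huU, hu⟩ := SetLike.not_le_iff_exists.1 (fun h => hF.lt (le_antisymm hF.le h))
  have hu' : ∃ b ∈ B, φ b u ≠ u := by
    by_contra hcon
    push Not at hcon
    apply hu
    rw [← hF.fix]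
    exact hcon
  obtain ⟨b, hb, hbu⟩ := hu'
  have hc1 : φ b u * u⁻¹ ∉ (⊥ : Subgroup V) := by
    rw [Subgroup.mem_bot, mul_inv_eq_one]
    exact hbu
  obtain ⟨Λ, -, hΛU, hΛ2, hcΛ⟩ := exists_hyperplane hF.exp bot_le (hF.a2 b hb u huU) hc1
  rcases hF.big Λ hΛU hΛ2 with h1 | h1
  · exact hcΛ (h1 b hb u huU)
  · have h2 : U₀ ≤ rad φ B U₁ Λ := by
      intro w hw
      refine ⟨hF.le hw, fun b hb => ?_⟩
      rw [hU₀B b hb w hw, mul_inv_cancel]
      exact one_mem _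
    have h3 : (rad φ B U₁ Λ).relIndex U₁ ≤ U₀.relIndex U₁ :=
      Subgroup.relIndex_le_of_le_left h2 (rel_ne_zero _ _)
    rw [hUU] at h3
    have h4 := h1.trans h3
    have h5 : U₁.index ≤ U₁.index ^ 2 := Nat.le_self_pow (by norm_num) _
    omega

end Cfsg.Agent.PLocal.S4ConBad
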