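import Mathlib
import Cfsg.Agent.PLocal.SFourOffender

set_option autoImplicit false

/-!
# The Chevalley-Warning step for the characteristic subgroup of `S₄`-free groups

`no_flag`: a finite group acting on an elementary abelian 2-group `V` without `S₃`-sections and
with a flag `V > V₁ > V₂` and an elementary abelian subgroup `B` acting "cubically" on the flag
satisfies `|B| ≤ |V : V₁|²`.
-/

namespace Cfsg.Agent.PLocal.S4FreeCW

open Module

/-- Chevalley-Warning for a quadratic map over the field with two elements. -/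
theorem exists_zero {B Q : Type*} [AddCommGroup B] [Module (ZMod 2) B] [Module.Finite (ZMod 2) B]
    [AddCommGroup Q] [Module (ZMod 2) Q] [Module.Finite (ZMod 2) Q]
    (f : QuadraticMap (ZMod 2) B Q)
    (h : 2 * finrank (ZMod 2) Q < finrank (ZMod 2) B) : ∃ b, b ≠ 0 ∧ f b = 0 := by
  classical
  let bB := finBasis (ZMod 2) B
  let bQ := finBasis (ZMod 2) Q
  let T := f.toBilin bB
  have hT : ∀ x, T x x = f x := fun x => by
    have := QuadraticMap.toQuadraticMap_toBilin f bB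
    exact congrArg (fun g : QuadraticMap (ZMod 2) B Q => g x) this
  let F : Fin (finrank (ZMod 2) Q) → MvPolynomial (Fin (finrank (ZMod 2) B)) (ZMod 2) := fun k =>
    ∑ i, ∑ j, MvPolynomial.C (bQ.repr (T (bB i) (bB j)) k) *
      (MvPolynomial.X i * MvPolynomial.X j)
  have hdeg : ∀ k, (F k).totalDegree ≤ 2 := by
    intro k
    refine MvPolynomial.totalDegree_finsetSum_le fun i _ => ?_
    refine MvPolynomial.totalDegree_finsetSum_le fun j _ => ?_
    refine (MvPolynomial.totalDegree_mul _ _).trans ?_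
    rw [MvPolynomial.totalDegree_C, zero_add]
    refine (MvPolynomial.totalDegree_mul _ _).trans ?_
    rw [MvPolynomial.totalDegree_X, MvPolynomial.totalDegree_X]
  have hsum : (∑ k, (F k).totalDegree) < Fintype.card (Fin (finrank (ZMod 2) B)) := by
    rw [Fintype.card_fin]
    calc (∑ k, (F k).totalDegree) ≤ ∑ _k : Fin (finrank (ZMod 2) Q), 2 :=
          Finset.sum_le_sum fun k _ => hdeg k
      _ = 2 * finrank (ZMod 2) Q := by
          rw [Finset.sum_const, Finset.card_univ, Fintype.card_fin, smul_eq_mul, mul_comm]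
      _ < _ := h
  have hev : ∀ x : Fin (finrank (ZMod 2) B) → ZMod 2, ∀ k,
      MvPolynomial.eval x (F k) = bQ.repr (f (∑ i, x i • bB i)) k := by
    intro x k
    rw [← hT]
    simp only [F, map_sum, map_mul, MvPolynomial.eval_C, MvPolynomial.eval_X,
      LinearMap.sum_apply, map_smul, LinearMap.smul_apply, Finsupp.coe_finsetSum,
      Finset.sum_apply, Finsupp.smul_apply, smul_eq_mul]
    rw [Finset.sum_comm]
    refine Finset.sum_congr rfl fun i _ => ?_
    rw [Finset.mul_sum]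
    refine Finset.sum_congr rfl fun j _ => ?_
    ring
  have hdvd := char_dvd_card_solutions_of_fintype_sum_lt 2 hsum
  have h0 : ∃ x : Fin (finrank (ZMod 2) B) → ZMod 2, x ≠ 0 ∧ ∀ k, MvPolynomial.eval x (F k) = 0 := by
    by_contra hcon
    push Not at hcon
    have hz : ∀ k, MvPolynomial.eval (0 : Fin (finrank (ZMod 2) B) → ZMod 2) (F k) = 0 := by
      intro k
      rw [hev]
      simp
    have : Nat.card { x : Fin (finrank (ZMod 2) B) → ZMod 2 //
        ∀ k, MvPolynomial.eval x (F k) = 0 } = 1 := by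
      rw [Nat.card_eq_fintype_card, Fintype.card_eq_one_iff]
      refine ⟨⟨0, hz⟩, ?_⟩
      rintro ⟨y, hy⟩
      rw [Subtype.mk.injEq]
      by_contra hy0
      obtain ⟨k, hk⟩ := hcon y hy0
      exact hk (hy k)
    rw [Fintype.card_eq_nat_card, this] at hdvd
    omega
  obtain ⟨x, hx, hx0⟩ := h0
  refine ⟨∑ i, x i • bB i, ?_, ?_⟩
  · intro hs
    apply hx
    have h1 : (bB.equivFun.symm x) = 0 := by
      rw [Basis.equivFun_symm_apply]
      exact hs
    exact (LinearEquiv.map_eq_zero_iff _).1 h1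
  · apply bQ.repr.injective
    ext k
    rw [← hev, hx0 k]
    simp

/-- Chevalley-Warning for a quadratic map between elementary abelian 2-groups. -/
theorem exists_ne_one {B Q : Type*} [CommGroup B] [CommGroup Q] [Finite B] [Finite Q]
    (hB : ∀ b : B, b * b = 1) (hQ : ∀ q : Q, q * q = 1) (f : B → Q) (β : B → B → Q)
    (hβ1 : ∀ a b c, β (a * b) c = β a c * β b c) (hβ2 : ∀ a b c, β a (b * c) = β a b * β a c)
    (hf : ∀ a b, f (a * b) = f a * f b * β a b)
    (hcard : Nat.card Q ^ 2 < Nat.card B) : ∃ b, b ≠ 1 ∧ f b = 1 := by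
  classical
  let _ : Module (ZMod 2) (Additive B) := AddCommGroup.zmodModule (n := 2) fun x => by
    rw [two_nsmul]; exact hB x
  let _ : Module (ZMod 2) (Additive Q) := AddCommGroup.zmodModule (n := 2) fun x => by
    rw [two_nsmul]; exact hQ x
  have _ : Finite (Additive B) := ‹Finite B›
  have _ : Finite (Additive Q) := ‹Finite Q›
  have _ : Module.Finite (ZMod 2) (Additive B) := inferInstance
  have _ : Module.Finite (ZMod 2) (Additive Q) := inferInstance
  have hf1 : f 1 = 1 := by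
    have h1 := hf 1 1
    have h2 := hβ1 1 1 1
    rw [mul_one] at h1 h2
    have h3 : β 1 1 = 1 := by
      exact mul_eq_left.1 h2.symm
    rw [h3, mul_one] at h1
    exact mul_eq_left.1 h1.symm
  have hβr : ∀ a, β a 1 = 1 := fun a => by
    have h2 := hβ2 a 1 1
    rw [mul_one] at h2
    exact mul_eq_left.1 h2.symm
  have hβl : ∀ a, β 1 a = 1 := fun a => by
    have h2 := hβ1 1 1 a
    rw [mul_one] at h2
    exact mul_eq_left.1 h2.symm
  let β1 : Additive B → Additive B →+ Additive Q := fun a =>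
    { toFun := fun b => Additive.ofMul (β a.toMul b.toMul)
      map_zero' := hβr a.toMul
      map_add' := fun b c => hβ2 a.toMul b.toMul c.toMul }
  let β2 : Additive B →+ (Additive B →+ Additive Q) :=
    { toFun := β1
      map_zero' := DFunLike.ext _ _ fun b => hβl b.toMul
      map_add' := fun a b => DFunLike.ext _ _ fun c => hβ1 a.toMul b.toMul c.toMul }
  let T : LinearMap.BilinMap (ZMod 2) (Additive B) (Additive Q) :=
    LinearMap.mk₂ (ZMod 2) (fun a b => β2 a b)
      (fun a b c => by rw [map_add]; rfl)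
      (fun t a b => ZMod.map_smul (β2.flip b) t a)
      (fun a b c => by rw [map_add])
      (fun t a b => ZMod.map_smul (β2 a) t b)
  let F : QuadraticMap (ZMod 2) (Additive B) (Additive Q) :=
    { toFun := fun a => Additive.ofMul (f a.toMul)
      toFun_smul := fun t a => by
        fin_cases t
        · show Additive.ofMul (f ((0 : ZMod 2) • a).toMul) = ((0 : ZMod 2) * 0) • _
          rw [zero_smul, mul_zero, zero_smul]
          exact hf1
        · show Additive.ofMul (f ((1 : ZMod 2) • a).toMul) = ((1 : ZMod 2) * 1) • _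
          rw [one_smul, mul_one, one_smul]
      exists_companion' := ⟨T, fun a b => hf a.toMul b.toMul⟩ }
  have hcB : Nat.card B = 2 ^ finrank (ZMod 2) (Additive B) := by
    have := Module.natCard_eq_pow_finrank (K := ZMod 2) (V := Additive B)
    rw [Nat.card_zmod] at this
    exact this
  have hcQ : Nat.card Q = 2 ^ finrank (ZMod 2) (Additive Q) := by
    have := Module.natCard_eq_pow_finrank (K := ZMod 2) (V := Additive Q)
    rw [Nat.card_zmod] at this
    exact this
  have hlt : 2 * finrank (ZMod 2) (Additive Q) < finrank (ZMod 2) (Additive B) := by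
    rw [hcB, hcQ, ← pow_mul, mul_comm] at hcard
    exact (Nat.pow_lt_pow_iff_right (by norm_num)).1 hcard
  obtain ⟨b, hb, hb0⟩ := exists_zero F hlt
  exact ⟨b.toMul, hb, hb0⟩

open Cfsg.Agent.PLocal.SFourBasic Cfsg.Agent.PLocal.SFourOffender

universe u v

section flag

variable {H : Type u} [Group H] {V : Type v} [CommGroup V]

/-- Two mutually collinear points produce a section `S₃`. -/
theorem no_mutual {φ : H →* MulAut V} (hV : ∀ v : V, v * v = 1) (h3 : NoS3 φ)
    {V1 V2 : Subgroup V} {B : Subgroup H}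
    (hB2 : ∀ b ∈ B, ∀ v ∈ V2, φ b v = v)
    (hperf : ∀ c ∈ V1, c ∉ V2 → ∀ z ∈ V2, ∃ b ∈ B, φ b c * c⁻¹ = z)
    {g h : H} {z z' : V} (hz1 : φ g⁻¹ z ∈ V2) (hz2 : φ h⁻¹ z ∈ V1) (hz3 : φ h⁻¹ z ∉ V2)
    (hz'1 : φ h⁻¹ z' ∈ V2) (hz'2 : φ g⁻¹ z' ∈ V1) (hz'3 : φ g⁻¹ z' ∉ V2) : False := by
  have hinv : ∀ (x : H) (w : V), φ x (φ x⁻¹ w) = w := fun x w => by
    rw [← MulAut.mul_apply, ← map_mul, mul_inv_cancel, map_one, MulAut.one_apply]
  have hconj : ∀ (x b : H) (w : V), φ (x * b * x⁻¹) w = φ x (φ b (φ x⁻¹ w)) := fun x b w => by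
    rw [map_mul, map_mul, MulAut.mul_apply, MulAut.mul_apply]
  obtain ⟨b, hb, hbz⟩ := hperf _ hz'2 hz'3 _ hz1
  obtain ⟨b', hb', hbz'⟩ := hperf _ hz2 hz3 _ hz'1
  have e1 : φ (g * b * g⁻¹) z' = z' * z := by
    rw [hconj, mul_inv_eq_iff_eq_mul.1 hbz, map_mul, hinv, hinv, mul_comm]
  have e2 : φ (g * b * g⁻¹) z = z := by
    rw [hconj, hB2 b hb _ hz1, hinv]
  have e3 : φ (h * b' * h⁻¹) z = z * z' := by
    rw [hconj, mul_inv_eq_iff_eq_mul.1 hbz', map_mul, hinv, hinv, mul_comm]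
  have e4 : φ (h * b' * h⁻¹) z' = z' := by
    rw [hconj, hB2 b' hb' _ hz'1, hinv]
  refine not_noS3 (hV z') (hV z) ?_ ?_ ?_ e1 e2 e3 e4 h3
  · rintro rfl
    exact hz'3 (by rw [map_one]; exact one_mem _)
  · rintro rfl
    exact hz3 (by rw [map_one]; exact one_mem _)
  · rintro rfl
    exact hz'3 hz1

/-- The Chevalley-Warning step: the order of `B` is at most `|V : V₁|²`. -/
theorem no_flag [Finite V] (φ : H →* MulAut V) (hV : ∀ v : V, v * v = 1) (h3 : NoS3 φ)
    (V1 V2 : Subgroup V) (B : Subgroup H) (h21 : V2 ≤ V1)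
    (hB0 : ∀ b ∈ B, ∀ v, φ b v * v⁻¹ ∈ V1) (hB1 : ∀ b ∈ B, ∀ v ∈ V1, φ b v * v⁻¹ ∈ V2)
    (hB2 : ∀ b ∈ B, ∀ v ∈ V2, φ b v = v)
    (hBc : ∀ a ∈ B, ∀ b ∈ B, φ a * φ b = φ b * φ a) (hBe : ∀ b ∈ B, φ b * φ b = 1)
    (hinj : ∀ v, v ∉ V1 → ∀ b ∈ B, φ b v * v⁻¹ ∈ V2 → φ b = 1)
    (hperf : ∀ c ∈ V1, c ∉ V2 → ∀ z ∈ V2, ∃ b ∈ B, φ b c * c⁻¹ = z)
    (hcard : V1.index ^ 2 < Nat.card (B.map φ)) (hne : ∃ h, ∃ v ∈ V2, φ h v ∉ V2) : False := by
  classical
  have hinv : ∀ (x : H) (w : V), φ x (φ x⁻¹ w) = w := fun x w => by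
    rw [← MulAut.mul_apply, ← map_mul, mul_inv_cancel, map_one, MulAut.one_apply]
  have hinv' : ∀ (x : H) (w : V), φ x⁻¹ (φ x w) = w := fun x w => by
    rw [← MulAut.mul_apply, ← map_mul, inv_mul_cancel, map_one, MulAut.one_apply]
  -- choice of the conjugate
  obtain ⟨h, ⟨v0, hv0, hv0'⟩, hcap⟩ : ∃ h, (∃ v ∈ V2, φ h v ∉ V2) ∧
      ∀ v ∈ V2, φ h v ∈ V1 → φ h v ∈ V2 := by
    obtain ⟨h0, w0, hw0, hw0'⟩ := hne
    by_cases hc : ∀ v ∈ V2, φ h0 v ∈ V1 → φ h0 v ∈ V2
    · exact ⟨h0, ⟨w0, hw0, hw0'⟩, hc⟩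
    · push Not at hc
      obtain ⟨u, hu, hu1, hu2⟩ := hc
      refine ⟨h0⁻¹, ?_, ?_⟩
      · by_contra hcon
        push Not at hcon
        have hle : V2.map (φ h0⁻¹).toMonoidHom ≤ V2 := by
          rintro _ ⟨x, hx, rfl⟩
          exact hcon x hx
        have heq : V2.map (φ h0⁻¹).toMonoidHom = V2 := by
          apply Subgroup.eq_of_le_of_card_ge hle
          exact (Nat.card_congr (V2.equivMapOfInjective _ (φ h0⁻¹).injective).toEquiv).le
        have hw : w0 ∈ V2.map (φ h0⁻¹).toMonoidHom := by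
          rw [heq]
          exact hw0
        obtain ⟨x, hx, hxw⟩ := hw
        apply hw0'
        have : φ h0 w0 = x := by
          rw [← hxw]
          exact hinv h0 x
        rw [this]
        exact hx
      · intro w hw hw1
        by_contra hw2
        refine no_mutual hV h3 hB2 hperf (g := 1) (h := h0) (z := w) (z' := φ h0 u) ?_ hw1 hw2 ?_ ?_ ?_
        · rw [inv_one, map_one, MulAut.one_apply]
          exact hw
        · rw [hinv']
          exact hu
        · rw [inv_one, map_one, MulAut.one_apply]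
          exact hu1
        · rw [inv_one, map_one, MulAut.one_apply]
          exact hu2
  set z' := φ h v0 with hz'
  have hz'1 : z' ∉ V1 := fun hcon => hv0' (hcap v0 hv0 hcon)
  -- the conjugate of `V1`
  let W : Subgroup V := V1.map (φ h).toMonoidHom
  have hW : ∀ v, v ∈ W ↔ φ h⁻¹ v ∈ V1 := by
    intro v
    constructor
    · rintro ⟨x, hx, rfl⟩
      show φ h⁻¹ (φ h x) ∈ V1
      rw [hinv']
      exact hx
    · intro hv
      exact ⟨φ h⁻¹ v, hv, hinv h v⟩
  have hWcard : Nat.card (V ⧸ W) = V1.index := by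
    show W.index = V1.index
    exact Subgroup.index_map_equiv V1 (φ h)
  -- the group `B.map φ`
  have hb0 : ∀ b ∈ B.map φ, ∀ v, b v * v⁻¹ ∈ V1 := by
    rintro _ ⟨b, hb, rfl⟩ v
    exact hB0 b hb v
  have hb1 : ∀ b ∈ B.map φ, ∀ v ∈ V1, b v * v⁻¹ ∈ V2 := by
    rintro _ ⟨b, hb, rfl⟩ v
    exact hB1 b hb v
  have hb2 : ∀ b ∈ B.map φ, ∀ v ∈ V2, b v = v := by
    rintro _ ⟨b, hb, rfl⟩ v
    exact hB2 b hb v
  have hbc : ∀ a b : B.map φ, a * b = b * a := by
    rintro ⟨_, a, ha, rfl⟩ ⟨_, b, hb, rfl⟩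
    exact Subtype.ext (hBc a ha b hb)
  let _ : CommGroup (B.map φ) := { (inferInstance : Group (B.map φ)) with mul_comm := hbc }
  have _ : Finite (B.map φ) := inferInstance
  let c : B.map φ → V → V := fun a v => (a : MulAut V) v * v⁻¹
  have hc : ∀ (a : B.map φ) (v : V), (a : MulAut V) v = c a v * v := fun a v => by
    show _ = (a : MulAut V) v * v⁻¹ * v
    rw [inv_mul_cancel_right]
  have hcmul : ∀ (a : B.map φ) (v w : V), c a (v * w) = c a v * c a w := fun a v w => by
    show (a : MulAut V) (v * w) * (v * w)⁻¹ = (a : MulAut V) v * v⁻¹ * ((a : MulAut V) w * w⁻¹)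
    rw [map_mul, mul_inv]
    exact mul_mul_mul_comm _ _ _ _
  have hcmul2 : ∀ (a b : B.map φ) (v : V), c (a * b) v = c a (c b v) * c a v * c b v := by
    intro a b v
    have h1 : ((a : MulAut V) * (b : MulAut V)) v = (c a (c b v) * c b v) * (c a v * v) := by
      rw [MulAut.mul_apply, ← hc a (c b v), ← hc a v, ← map_mul, ← hc b v]
    show ((a : MulAut V) * (b : MulAut V)) v * v⁻¹ = _
    rw [h1, ← mul_assoc, mul_inv_cancel_right]
    exact mul_right_comm _ _ _
  have hc2 : ∀ (a : B.map φ) (v : V), v ∈ V2 → c a v = 1 := fun a v hv => by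
    show (a : MulAut V) v * v⁻¹ = 1
    rw [hb2 a a.2 v hv, mul_inv_cancel]
  let f : B.map φ → V ⧸ W := fun a => QuotientGroup.mk (c a z')
  let β : B.map φ → B.map φ → V ⧸ W := fun a b => QuotientGroup.mk (c a (c b z'))
  obtain ⟨b, hb, hfb⟩ := exists_ne_one (B := B.map φ) (Q := V ⧸ W)
    (by
      rintro ⟨_, b, hb, rfl⟩
      exact Subtype.ext (hBe b hb))
    (by
      intro q
      induction q using QuotientGroup.induction_on with
      | H v =>
        rw [← QuotientGroup.mk_mul, hV v]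
        rfl)
    f β
    (by
      intro a a' b
      show QuotientGroup.mk (c (a * a') (c b z')) = (QuotientGroup.mk (c a (c b z')) *
        QuotientGroup.mk (c a' (c b z')) : V ⧸ W)
      rw [hcmul2, hc2 a (c a' (c b z')) (hb1 a' a'.2 _ (hb0 b b.2 _)), one_mul]
      rfl)
    (by
      intro a b b'
      show QuotientGroup.mk (c a (c (b * b') z')) = (QuotientGroup.mk (c a (c b z')) *
        QuotientGroup.mk (c a (c b' z')) : V ⧸ W)
      rw [hcmul2, hcmul, hcmul, hc2 a (c b (c b' z')) (hb1 b b.2 _ (hb0 b' b'.2 _)), one_mul]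
      rfl)
    (by
      intro a b
      show QuotientGroup.mk (c (a * b) z') = (QuotientGroup.mk (c a z') *
        QuotientGroup.mk (c b z') * QuotientGroup.mk (c a (c b z')) : V ⧸ W)
      rw [hcmul2, mul_assoc, mul_comm]
      rfl)
    (by rw [hWcard]; exact hcard)
  have hbW : c b z' ∈ W := (QuotientGroup.eq_one_iff _).1 hfb
  have hz'W : z' ∈ W := (hW z').2 (by rw [hz', hinv']; exact h21 hv0)
  obtain ⟨b1, hb1B, hb1φ⟩ := b.2
  have hbne : φ b1 ≠ 1 := fun hcon => hb (Subtype.ext (hb1φ.symm.trans hcon))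
  have hcb : c b z' = φ b1 z' * z'⁻¹ := by
    show (b : MulAut V) z' * z'⁻¹ = _
    rw [← hb1φ]
  have hnot : c b z' ∉ V2 := fun hcon => hbne (hinj z' hz'1 b1 hb1B (hcb ▸ hcon))
  have hin : c b z' ∈ V1 := hb0 b b.2 z'
  set z1 := φ b1 z' with hz1
  have hz1c : z1 = c b z' * z' := by rw [hcb, inv_mul_cancel_right]
  have hz1W : z1 ∈ W := by rw [hz1c]; exact mul_mem hbW hz'W
  have hz1V2 : φ h⁻¹ z1 ∉ V2 := by
    intro hcon
    apply hnot
    have h1 : φ h⁻¹ (c b z') ∈ V2 := by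
      have h2 : c b z' = z1 * z'⁻¹ := hcb
      rw [h2, map_mul, map_inv (φ h⁻¹) z']
      refine mul_mem hcon (inv_mem ?_)
      rw [hz', hinv']
      exact hv0
    have h2 := hcap _ h1
    rw [hinv] at h2
    exact h2 hin
  have hb1z1 : φ b1 z1 = z' := by
    rw [hz1, ← MulAut.mul_apply, hBe b1 hb1B, MulAut.one_apply]
  have hb1inv : ∀ w, φ b1⁻¹ w = φ b1 w := by
    intro w
    have h1 : φ b1⁻¹ = φ b1 := by
      rw [map_inv]
      exact inv_eq_of_mul_eq_one_right (hBe b1 hb1B)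
    rw [h1]
  have hgh : ∀ w, φ (b1 * h)⁻¹ w = φ h⁻¹ (φ b1 w) := by
    intro w
    rw [mul_inv_rev, map_mul, MulAut.mul_apply, hb1inv]
  refine no_mutual hV h3 hB2 hperf (g := b1 * h) (h := h) (z := z1) (z' := z') ?_ ?_ hz1V2 ?_ ?_ ?_
  · rw [hgh, hb1z1, hz', hinv']
    exact hv0
  · exact (hW z1).1 hz1W
  · rw [hz', hinv']
    exact hv0
  · rw [hgh]
    exact (hW z1).1 hz1W
  · rw [hgh]
    exact hz1V2

end flag

end Cfsg.Agent.PLocal.S4FreeCW
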