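import Mathlib
import Cfsg.Agent.PLocal.S4ConDefs
import Cfsg.Agent.PLocal.S4FreeCW

set_option autoImplicit false

/-!
# The good case of the H-side of S0665 (piece L6)

Characters `V →* ℤˣ` of an elementary abelian 2-group, the pairing lemma, dual detection,
and the Chevalley-Warning argument.
-/

namespace Cfsg.Agent.PLocal.S4ConGood

open Cfsg.Agent.PLocal.SFourBasic Cfsg.Agent.PLocal.SFourOffender
open Cfsg.Agent.PLocal.S4FreeClosureBasic Cfsg.Agent.PLocal.S4ConDefs
open Cfsg.Agent.PLocal.S4FreeCW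

universe u v

section general

/-- A finite group has at most `|G|` characters with values `±1`. -/
theorem card_char_le (G : Type*) [Group G] [Finite G] : Nat.card (G →* ℤˣ) ≤ Nat.card G := by
  classical
  let _ := Fintype.ofFinite G
  have _ : Finite (G →* ℤˣ) := Finite.of_injective (fun f : G →* ℤˣ => (f : G → ℤˣ))
    DFunLike.coe_injective
  let _ := Fintype.ofFinite (G →* ℤˣ)
  let i : ℤˣ →* ℚ := (Int.castRingHom ℚ : ℤ →* ℚ).comp (Units.coeHom ℤ)
  have hi : Function.Injective i := by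
    intro a b hab
    apply Units.ext
    exact Int.cast_injective (α := ℚ) hab
  have h1 := linearIndependent_monoidHom G ℚ
  have h2 : LinearIndependent ℚ (fun f : G →* ℤˣ => ((i.comp f : G →* ℚ) : G → ℚ)) := by
    refine h1.comp (fun f : G →* ℤˣ => i.comp f) ?_
    intro f f' hff'
    ext1 x
    exact hi (DFunLike.congr_fun hff' x)
  have h3 := h2.fintype_card_le_finrank
  rw [Module.finrank_fintype_fun_eq_card] at h3
  rw [Nat.card_eq_fintype_card, Nat.card_eq_fintype_card]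
  exact h3

/-- Pairings with values `±1`. -/
theorem index_ker_le {A B : Type*} [Group A] [Group B] [Finite A] [Finite B]
    (p : A →* B →* ℤˣ) : p.ker.index ≤ p.flip.ker.index := by
  rw [Subgroup.index_ker]
  refine le_trans ?_ (card_char_le (B ⧸ p.flip.ker))
  have _ : Finite (B ⧸ p.flip.ker →* ℤˣ) := Finite.of_injective
    (fun f : B ⧸ p.flip.ker →* ℤˣ => (f : B ⧸ p.flip.ker → ℤˣ)) DFunLike.coe_injective
  have hker : ∀ q ∈ p.range, ∀ b ∈ p.flip.ker, q b = 1 := by
    rintro _ ⟨a, rfl⟩ b hb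
    exact DFunLike.congr_fun (MonoidHom.mem_ker.1 hb) a
  refine Nat.card_le_card_of_injective
    (fun q : p.range => QuotientGroup.lift p.flip.ker (q : B →* ℤˣ) (hker q q.2)) ?_
  intro q q' hqq'
  apply Subtype.ext
  ext1 b
  have := DFunLike.congr_fun hqq' (QuotientGroup.mk b : B ⧸ p.flip.ker)
  exact this

theorem index_flip_ker_le {A B : Type*} [Group A] [Group B] [Finite A] [Finite B]
    (p : A →* B →* ℤˣ) : p.flip.ker.index ≤ p.ker.index :=
  index_ker_le p.flip

/-- The annihilator of a subgroup in the group of characters. -/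
def ann {V : Type*} [CommGroup V] (U : Subgroup V) : Subgroup (V →* ℤˣ) where
  carrier := {f | ∀ u ∈ U, f u = 1}
  one_mem' := fun u _ => rfl
  mul_mem' := by
    intro f f' hf hf' u hu
    rw [MonoidHom.mul_apply, hf u hu, hf' u hu, mul_one]
  inv_mem' := by
    intro f hf u hu
    rw [MonoidHom.inv_apply, hf u hu, inv_one]

theorem mem_ann {V : Type*} [CommGroup V] {U : Subgroup V} {f : V →* ℤˣ} :
    f ∈ ann U ↔ ∀ u ∈ U, f u = 1 := Iff.rfl

theorem finite_char (V : Type*) [Group V] [Finite V] : Finite (V →* ℤˣ) :=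
  Finite.of_injective (fun f : V →* ℤˣ => (f : V → ℤˣ)) DFunLike.coe_injective

theorem card_ann_le {V : Type*} [CommGroup V] [Finite V] (U : Subgroup V) :
    Nat.card (ann U) ≤ U.index := by
  refine le_trans ?_ (card_char_le (V ⧸ U))
  have _ : Finite (V ⧸ U →* ℤˣ) := finite_char _
  refine Nat.card_le_card_of_injective
    (fun q : ann U => QuotientGroup.lift U (q : V →* ℤˣ) q.2) ?_
  intro q q' hqq'
  apply Subtype.ext
  ext1 b
  exact DFunLike.congr_fun hqq' (QuotientGroup.mk b : V ⧸ U)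

/-- Characters separate points from subgroups. -/
theorem exists_char {V : Type*} [CommGroup V] [Finite V] (hV : ∀ v : V, v * v = 1)
    (U : Subgroup V) {w : V} (hw : w ∉ U) : ∃ f : V →* ℤˣ, (∀ u ∈ U, f u = 1) ∧ f w ≠ 1 := by
  classical
  obtain ⟨M, hM⟩ := (Set.toFinite {M : Subgroup V | U ≤ M ∧ w ∉ M}).exists_maximal
    ⟨U, le_refl U, hw⟩
  have hMw : w ∉ M := hM.1.2
  have hone : ∀ v, v ∉ M → v * w ∈ M := by
    intro v hv
    have h1 : w ∈ M ⊔ Subgroup.zpowers v := by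
      by_contra hcon
      apply hv
      exact hM.2 ⟨hM.1.1.trans le_sup_left, hcon⟩ le_sup_left
        (Subgroup.mem_sup_right (Subgroup.mem_zpowers v))
    obtain ⟨m, hm, z, hz, hmz⟩ := Subgroup.mem_sup.1 h1
    obtain ⟨k, rfl⟩ := Subgroup.mem_zpowers_iff.1 hz
    rcases Int.even_or_odd' k with ⟨j, hj | hj⟩
    · have h2 : v ^ k = 1 := by rw [hj, zpow_mul, zpow_two, hV, one_zpow]
      rw [h2, mul_one] at hmz
      exact absurd (hmz ▸ hm) hMw
    · have h2 : v ^ k = v := by rw [hj, zpow_add, zpow_mul, zpow_two, hV, one_zpow, one_mul,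
        zpow_one]
      rw [h2] at hmz
      rw [← hmz, mul_comm m v, ← mul_assoc, hV, one_mul]
      exact hm
  refine ⟨⟨⟨fun v => if v ∈ M then 1 else -1, if_pos (one_mem M)⟩, ?_⟩, ?_, ?_⟩
  · intro x y
    show (if x * y ∈ M then (1 : ℤˣ) else -1) = (if x ∈ M then 1 else -1) * if y ∈ M then 1 else -1
    by_cases hx : x ∈ M
    · by_cases hy : y ∈ M
      · rw [if_pos hx, if_pos hy, if_pos (mul_mem hx hy), mul_one]
      · rw [if_pos hx, if_neg hy, if_neg, one_mul]
        exact fun hxy => hy ((Subgroup.mul_mem_cancel_left M hx).1 hxy)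
    · by_cases hy : y ∈ M
      · rw [if_neg hx, if_pos hy, if_neg, mul_one]
        exact fun hxy => hx ((Subgroup.mul_mem_cancel_right M hy).1 hxy)
      · rw [if_neg hx, if_neg hy, if_pos, neg_mul_neg, mul_one]
        have := mul_mem (hone x hx) (hone y hy)
        rwa [mul_mul_mul_comm, hV w, mul_one] at this
  · intro u hu
    exact if_pos (hM.1.1 hu)
  · show (if w ∈ M then (1 : ℤˣ) else -1) ≠ 1
    rw [if_neg hMw]
    decide

/-- Complements in elementary abelian 2-groups. -/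
theorem exists_compl {A : Type*} [CommGroup A] [Finite A] (hA : ∀ a : A, a * a = 1)
    {I B : Subgroup A} (hIB : I ≤ B) :
    ∃ C : Subgroup A, C ≤ B ∧ C ⊓ I = ⊥ ∧ Nat.card C = I.relIndex B := by
  classical
  obtain ⟨C, hC⟩ := (Set.toFinite {C : Subgroup A | C ≤ B ∧ C ⊓ I = ⊥}).exists_maximal
    ⟨⊥, bot_le, bot_inf_eq I⟩
  refine ⟨C, hC.1.1, hC.1.2, ?_⟩
  have hsup : C ⊔ I = B := by
    apply le_antisymm (sup_le hC.1.1 hIB)
    intro b hb
    by_contra hcon
    have h1 : C ⊔ Subgroup.zpowers b ≤ C := by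
      refine hC.2 ⟨sup_le hC.1.1 (Subgroup.zpowers_le.2 hb), ?_⟩ le_sup_left
      rw [eq_bot_iff]
      rintro x ⟨hx, hxI⟩
      obtain ⟨c, hc, z, hz, rfl⟩ := Subgroup.mem_sup.1 hx
      obtain ⟨k, rfl⟩ := Subgroup.mem_zpowers_iff.1 hz
      rcases Int.even_or_odd' k with ⟨j, hj | hj⟩
      · have h2 : b ^ k = 1 := by rw [hj, zpow_mul, zpow_two, hA, one_zpow]
        rw [h2, mul_one] at hxI ⊢
        rw [← hC.1.2]
        exact ⟨hc, hxI⟩
      · have h2 : b ^ k = b := by rw [hj, zpow_add, zpow_mul, zpow_two, hA, one_zpow, one_mul,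
          zpow_one]
        rw [h2] at hxI
        exfalso
        apply hcon
        have h3 : b = c * (c * b) := by rw [← mul_assoc, hA, one_mul]
        rw [h3]
        exact Subgroup.mul_mem_sup hc hxI
    exact hcon (Subgroup.mem_sup_left (h1 (Subgroup.mem_sup_right (Subgroup.mem_zpowers b))))
  rw [← hsup, sup_comm, Subgroup.relIndex_sup_left, ← Subgroup.inf_relIndex_right, inf_comm,
    hC.1.2, Subgroup.relIndex_bot_left]

end general

section dual

variable {X : Type u} [Group X] {V : Type v} [CommGroup V]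

/-- The action on the characters. -/
def dual (φ : X →* MulAut V) : X →* MulAut (V →* ℤˣ) where
  toFun x :=
    { toFun := fun f => f.comp (φ x⁻¹).toMonoidHom
      invFun := fun f => f.comp (φ x).toMonoidHom
      left_inv := fun f => by
        ext1 v
        show f (φ x⁻¹ (φ x v)) = f v
        rw [inv_apply_cancel]
      right_inv := fun f => by
        ext1 v
        show f (φ x (φ x⁻¹ v)) = f v
        rw [apply_inv_cancel]
      map_mul' := fun f f' => rfl }
  map_one' := by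
    ext f v
    show ((f (φ (1 : X)⁻¹ v) : ℤˣ) : ℤ) = f v
    rw [inv_one, map_one, MulAut.one_apply]
  map_mul' := by
    intro x y
    ext f v
    show ((f (φ (x * y)⁻¹ v) : ℤˣ) : ℤ) = f (φ y⁻¹ (φ x⁻¹ v))
    rw [mul_inv_rev, map_mul, MulAut.mul_apply]

theorem dual_apply (φ : X →* MulAut V) (x : X) (f : V →* ℤˣ) (v : V) :
    dual φ x f v = f (φ x⁻¹ v) := rfl

theorem noS3_dual {φ : X →* MulAut V} (h : NoS3 φ) : NoS3 (dual φ) := by
  rintro ⟨D, ψ, hψ, hker⟩
  apply h
  refine ⟨D, ψ, hψ, fun d hd => hker d ?_⟩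
  ext f v
  show ((f (φ (d : X)⁻¹ v) : ℤˣ) : ℤ) = f v
  rw [map_inv, hd, inv_one, MulAut.one_apply]

end dual

section commutator

variable {X : Type u} [Group X] {V : Type v} [CommGroup V]

/-- The commutator `[v, b]`. -/
def cm (φ : X →* MulAut V) (b : X) (v : V) : V := φ b v * v⁻¹

theorem cm_def (φ : X →* MulAut V) (b : X) (v : V) : cm φ b v = φ b v * v⁻¹ := rfl

theorem apply_eq (φ : X →* MulAut V) (b : X) (v : V) : φ b v = cm φ b v * v := by
  rw [cm_def, inv_mul_cancel_right]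

theorem cm_mul (φ : X →* MulAut V) (b : X) (v w : V) :
    cm φ b (v * w) = cm φ b v * cm φ b w := by
  rw [cm_def, cm_def, cm_def, map_mul, mul_inv]
  exact mul_mul_mul_comm _ _ _ _

theorem cm_comp (φ : X →* MulAut V) (a b : X) (v : V) :
    cm φ (a * b) v = cm φ a (cm φ b v) * cm φ a v * cm φ b v := by
  have h1 : φ (a * b) v = (cm φ a (cm φ b v) * cm φ b v) * (cm φ a v * v) := by
    rw [map_mul, MulAut.mul_apply, ← apply_eq φ a (cm φ b v), ← apply_eq φ a v, ← map_mul,
      ← apply_eq φ b v]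
  rw [cm_def φ (a * b) v, h1, ← mul_assoc, mul_inv_cancel_right]
  exact mul_right_comm _ _ _

theorem cm_fix {φ : X →* MulAut V} {b : X} {v : V} (h : φ b v = v) : cm φ b v = 1 := by
  rw [cm_def, h, mul_inv_cancel]

/-- `v ↦ f [v, b]`. -/
def fc (φ : X →* MulAut V) (f : V →* ℤˣ) (b : X) : V →* ℤˣ where
  toFun v := f (cm φ b v)
  map_one' := by rw [cm_def, map_one, inv_one, mul_one, map_one]
  map_mul' v w := by rw [cm_mul, map_mul]

theorem fc_apply (φ : X →* MulAut V) (f : V →* ℤˣ) (b : X) (v : V) :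
    fc φ f b v = f (cm φ b v) := rfl

/-- The pairing `(u, b) ↦ f [u, b]` on `S × B`, if `B` centralises `[S, B]`. -/
def pair (φ : X →* MulAut V) (f : V →* ℤˣ) (S : Subgroup V) (B : Subgroup X)
    (h : ∀ a ∈ B, ∀ b ∈ B, ∀ u ∈ S, f (cm φ a (cm φ b u)) = 1) : S →* B →* ℤˣ where
  toFun u :=
    { toFun := fun b => f (cm φ b u)
      map_one' := by
        show f (cm φ (1 : X) u) = 1
        rw [cm_def, map_one, MulAut.one_apply, mul_inv_cancel, map_one]
      map_mul' := fun a b => by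
        show f (cm φ ((a : X) * b) u) = f (cm φ a u) * f (cm φ b u)
        rw [cm_comp, map_mul, map_mul, h a a.2 b b.2 u u.2, one_mul] }
  map_one' := by
    ext1 b
    show f (cm φ (b : X) 1) = 1
    rw [cm_def, map_one, inv_one, mul_one, map_one]
  map_mul' u u' := by
    ext1 b
    show f (cm φ (b : X) ((u : V) * u')) = f (cm φ b u) * f (cm φ b u')
    rw [cm_mul, map_mul]

theorem pair_apply {φ : X →* MulAut V} {f : V →* ℤˣ} {S : Subgroup V} {B : Subgroup X}
    {h : ∀ a ∈ B, ∀ b ∈ B, ∀ u ∈ S, f (cm φ a (cm φ b u)) = 1} (u : S) (b : B) :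
    pair φ f S B h u b = f (cm φ b u) := rfl

end commutator

section detect

variable {X : Type u} [Group X] {V : Type v} [CommGroup V] {φ : X →* MulAut V}
  {B : Subgroup X} {U₁ U₀ : Subgroup V}

/-- Dual detection (9). -/
theorem dual_detect [Finite X] [Finite V] (hF : Flag φ B U₁ U₀) (f : V →* ℤˣ)
    (hf : ∀ u ∈ U₁, f u = 1) {t : X} (ht : t * t = 1) (h0 : ∀ u ∈ U₀, f (cm φ t u) = 1) :
    ∀ u ∈ U₁, f (cm φ t u) = 1 := by
  by_contra hcon
  push Not at hcon
  obtain ⟨u1, hu1, hfu1⟩ := hcon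
  let ψ : V →* ℤˣ := f.comp (φ t).toMonoidHom
  have hψ : ∀ v, ψ v = f (φ t v) := fun v => rfl
  have hψU : ∀ v ∈ U₁, ψ v = f (cm φ t v) := by
    intro v hv
    rw [hψ, apply_eq, map_mul, hf v hv, mul_one]
  have hψ0 : ∀ u ∈ U₀, ψ u = 1 := fun u hu => by rw [hψU u (hF.le hu), h0 u hu]
  have hψ1 : ψ u1 ≠ 1 := by rw [hψU u1 hu1]; exact hfu1
  have hcc : ∀ a ∈ B, ∀ b ∈ B, ∀ u ∈ (⊤ : Subgroup V), ψ (cm φ a (cm φ b u)) = 1 := by
    intro a ha b hb u _
    exact hψ0 _ (hF.a2 a ha _ (hF.a1 b hb u))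
  let p := pair φ ψ ⊤ B hcc
  have hker : p.ker ≤ U₁.subgroupOf ⊤ := by
    intro v hv
    by_contra hv1
    obtain ⟨b, hb, hbu⟩ := hF.surj (v : V) hv1 u1 hu1
    have h1 : ψ (cm φ b v) = 1 := DFunLike.congr_fun (MonoidHom.mem_ker.1 hv) ⟨b, hb⟩
    have h2 := hψ0 _ hbu
    rw [← cm_def, map_mul, h1, one_mul] at h2
    exact hψ1 h2
  -- the characters `v ↦ ψ [v, b]`
  let q : B →* (V →* ℤˣ) :=
    { toFun := fun b => fc φ ψ b
      map_one' := by
        ext1 v
        exact DFunLike.congr_fun (map_one p.flip) ⟨v, Subgroup.mem_top v⟩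
      map_mul' := fun a b => by
        ext1 v
        exact DFunLike.congr_fun (map_mul p.flip a b) ⟨v, Subgroup.mem_top v⟩ }
  have hq : ∀ (b : B) (v : V), q b v = ψ (cm φ b v) := fun b v => rfl
  have _ : Finite (V →* ℤˣ) := finite_char V
  have hrange : q.range = ann U₁ := by
    apply Subgroup.eq_of_le_of_card_ge
    · rintro _ ⟨b, rfl⟩ u hu
      exact hψ0 _ (hF.a2 b b.2 u hu)
    · refine (card_ann_le U₁).trans ?_
      rw [← Subgroup.index_ker]
      have h1 : q.ker = p.flip.ker := by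
        ext b
        rw [MonoidHom.mem_ker, MonoidHom.mem_ker]
        constructor
        · intro h
          ext1 v
          exact DFunLike.congr_fun h (v : V)
        · intro h
          ext1 v
          exact DFunLike.congr_fun h ⟨v, Subgroup.mem_top v⟩
      rw [h1]
      refine le_trans ?_ (index_ker_le p)
      refine le_trans ?_ (Subgroup.index_antitone hker)
      apply le_of_eq
      show _ = U₁.relIndex ⊤
      rw [Subgroup.relIndex_top_right]
  have hfr : f ∈ q.range := by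
    rw [hrange]
    exact hf
  obtain ⟨b, hb⟩ := hfr
  have hbf : ∀ v, ψ (cm φ b v) = f v := fun v => DFunLike.congr_fun hb v
  have hbb : ((b : X))⁻¹ = b := inv_eq_of_mul_eq_one_right (hF.two b b.2)
  have htt : t⁻¹ = t := inv_eq_of_mul_eq_one_right ht
  have e1 : dual φ (b : X) ψ = ψ * f := by
    ext1 v
    rw [dual_apply, hbb, apply_eq, map_mul, hbf v, MonoidHom.mul_apply, mul_comm]
  have e2 : dual φ (b : X) f = f := by
    ext1 v
    rw [dual_apply, hbb, apply_eq, map_mul, hf (cm φ b v) (hF.a1 b b.2 v), one_mul]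
  have e3 : dual φ t f = ψ := by
    ext1 v
    rw [dual_apply, htt]
    rfl
  have e4 : dual φ t ψ = f := by
    ext1 v
    rw [dual_apply, htt, hψ, ← MulAut.mul_apply, ← map_mul, ht, map_one, MulAut.one_apply]
  have e5 : dual φ (t * b * t⁻¹) f = f * ψ := by
    rw [map_mul, map_mul, MulAut.mul_apply, MulAut.mul_apply, htt, e3, e1, map_mul, e4, e3]
  have e6 : dual φ (t * b * t⁻¹) ψ = ψ := by
    rw [map_mul, map_mul, MulAut.mul_apply, MulAut.mul_apply, htt, e4, e2, e3]
  have hsq : ∀ θ : V →* ℤˣ, θ * θ = 1 := by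
    intro θ
    ext1 v
    rw [MonoidHom.mul_apply]
    exact Int.units_mul_self _
  refine not_noS3 (φ := dual φ) (v := ψ) (w := f) (a := (b : X)) (b := t * b * t⁻¹)
    (hsq ψ) (hsq f) ?_ ?_ ?_ e1 e2 e5 e6 (noS3_dual hF.noS3)
  · intro h
    exact hψ1 (by rw [h]; rfl)
  · intro h
    apply hfu1
    rw [h]
    rfl
  · intro h
    apply hψ1
    rw [h]
    exact hf u1 hu1

end detect

section good

variable {X : Type u} [Group X] {V : Type v} [CommGroup V] {φ : X →* MulAut V}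
  {B : Subgroup X} {U₁ U₀ : Subgroup V}

theorem relIndex_im (x : X) (A C : Subgroup V) :
    (im φ x A).relIndex (im φ x C) = A.relIndex C :=
  Subgroup.relIndex_map_map_of_injective A C (φ x).injective

theorem index_im (x : X) (A : Subgroup V) : (im φ x A).index = A.index :=
  Subgroup.index_map_equiv A (φ x)

theorem arith {n s y ν b₁ bJ m : ℕ} (h1 : 2 * s ^ 2 ≤ n) (h2 : b₁ * ν ≤ y) (h3 : n * y ≤ bJ * s)
    (h4 : bJ ≤ b₁ * m) (h5 : ν ≤ s) (hb : 0 < b₁) (hν : 0 < ν) (hs : 0 < s) : ν ^ 2 < m := by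
  have e1 : b₁ * (n * ν) ≤ b₁ * (m * s) := by
    calc b₁ * (n * ν) = n * (b₁ * ν) := by ring
      _ ≤ n * y := Nat.mul_le_mul_left _ h2
      _ ≤ bJ * s := h3
      _ ≤ b₁ * m * s := Nat.mul_le_mul_right _ h4
      _ = b₁ * (m * s) := by ring
  have e2 : n * ν ≤ m * s := Nat.le_of_mul_le_mul_left e1 hb
  have e3 : s * (2 * s * ν) ≤ s * m := by
    calc s * (2 * s * ν) = 2 * s ^ 2 * ν := by ring
      _ ≤ n * ν := Nat.mul_le_mul_right _ h1
      _ ≤ m * s := e2
      _ = s * m := by ring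
  have e4 : 2 * s * ν ≤ m := Nat.le_of_mul_le_mul_left e3 hs
  nlinarith

/-- (9), (10): the good case. -/
theorem good_case [Finite X] [Finite V] (hF : Flag φ B U₁ U₀) {K : Subgroup V}
    (hK : ∀ x : X, ∀ v ∈ K, φ x v ∈ K) (hKU : K ≤ U₁) {g : X}
    (hg : im φ g U₀ ⊓ U₁ ≤ K) (hC : ¬ ∀ b ∈ B, ∀ u ∈ U₁, φ b u * u⁻¹ ∈ K) : False := by
  classical
  push Not at hC
  obtain ⟨b0, hb0, u0, hu0, hbu0⟩ := hC
  have hbu00 : cm φ b0 u0 ∈ U₀ := hF.a2 b0 hb0 u0 hu0
  -- the conjugates
  set h : X := g⁻¹ with hh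
  have hhinv : h⁻¹ = g := by rw [hh, inv_inv]
  have hK' : ∀ x : X, ∀ v, φ x v ∈ K → v ∈ K := by
    intro x v hv
    have := hK x⁻¹ _ hv
    rwa [inv_apply_cancel] at this
  have hKh : K ≤ im φ h U₁ := by
    intro v hv
    rw [mem_im]
    exact hKU (hK _ _ hv)
  have hU0h : U₀ ⊓ im φ h U₁ ≤ K := by
    intro v hv
    have hv1 := mem_im.1 (Subgroup.mem_inf.1 hv).2
    rw [hhinv] at hv1
    refine hK' g v (hg ⟨?_, hv1⟩)
    exact ⟨v, hv.1, rfl⟩
  have hw : cm φ b0 u0 ∉ im φ h U₁ := fun hcon => hbu0 (hU0h ⟨hbu00, hcon⟩)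
  obtain ⟨f, hf1, hfw⟩ := exists_char hF.exp (im φ h U₁) hw
  -- fixed points
  have hfix : ∀ b ∈ B, ∀ u ∈ U₀, φ b u = u := by
    intro b hb u hu
    rw [← hF.fix] at hu
    exact hu b hb
  have hcc : ∀ a ∈ B, ∀ b ∈ B, ∀ u ∈ U₁, cm φ a (cm φ b u) = 1 := by
    intro a ha b hb u hu
    exact cm_fix (hfix a ha _ (hF.a2 b hb u hu))
  -- the radical
  set Λ : Subgroup V := f.ker ⊓ U₀ with hΛ
  have hΛ2 : Λ.relIndex U₀ = 2 := by
    rw [hΛ, Subgroup.inf_relIndex_right, Subgroup.relIndex_ker]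
    have h1 : U₀.map f = ⊤ := by
      rw [eq_top_iff]
      intro z _
      rcases Int.units_eq_one_or z with rfl | rfl
      · exact one_mem _
      · refine ⟨cm φ b0 u0, hbu00, ?_⟩
        rcases Int.units_eq_one_or (f (cm φ b0 u0)) with h | h
        · exact absurd h hfw
        · exact h
    rw [h1, Subgroup.card_top, Nat.card_eq_fintype_card]
    rfl
  have hn : 2 * U₁.index ^ 2 ≤ (rad φ B U₁ Λ).relIndex U₁ := by
    rcases hF.big Λ inf_le_right hΛ2 with h | h
    · exact absurd (MonoidHom.mem_ker.1 (h b0 hb0 u0 hu0).1) hfw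
    · exact h
  -- W = U₀^h ∩ U₁
  set W : Subgroup V := im φ h U₀ ⊓ U₁ with hW
  have hWc : ∀ a ∈ B, ∀ b ∈ B, ∀ u ∈ W, f (cm φ a (cm φ b u)) = 1 := by
    intro a ha b hb u hu
    rw [hcc a ha b hb u hu.2, map_one]
  let pW := pair φ f W B hWc
  set B1 : Subgroup B := pW.flip.ker with hB1
  have hB1i : B1.index ≤ (K ⊓ im φ h U₀).relIndex W := by
    refine (index_flip_ker_le pW).trans ?_
    refine Subgroup.index_antitone (H := (K ⊓ im φ h U₀).subgroupOf W) ?_
    intro w hw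
    rw [MonoidHom.mem_ker]
    ext1 b
    refine hf1 _ (hKh ?_)
    exact mul_mem (hK _ _ hw.1) (inv_mem hw.1)
  set y := (K ⊓ im φ h U₀).relIndex (im φ h U₀) with hy
  set ν := W.relIndex (im φ h U₀) with hν
  have h2 : B1.index * ν ≤ y := by
    have h3 := Subgroup.relIndex_mul_relIndex (K ⊓ im φ h U₀) W (im φ h U₀)
      (le_inf inf_le_right (inf_le_left.trans hKU)) inf_le_left
    rw [hy, ← h3]
    exact Nat.mul_le_mul_right _ hB1i
  have hKim : im φ h K = K := by
    ext v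
    rw [mem_im]
    exact ⟨hK' _ _, hK _ _⟩
  have hy2 : (im φ h U₁ ⊓ U₀).relIndex U₀ = y := by
    have h3 : im φ h U₁ ⊓ U₀ = K ⊓ U₀ := by
      apply le_antisymm
      · rintro v ⟨hv, hv0⟩
        exact ⟨hU0h ⟨hv0, hv⟩, hv0⟩
      · exact inf_le_inf_right _ hKh
    rw [h3, hy, Subgroup.inf_relIndex_right, Subgroup.inf_relIndex_right]
    conv_rhs => rw [← hKim]
    exact (relIndex_im h K U₀).symm
  -- J = U₁^h ∩ U₁
  set J : Subgroup V := im φ h U₁ ⊓ U₁ with hJ
  have hJc : ∀ a ∈ B, ∀ b ∈ B, ∀ u ∈ J, f (cm φ a (cm φ b u)) = 1 := by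
    intro a ha b hb u hu
    rw [hcc a ha b hb u hu.2, map_one]
  let pJ := pair φ f J B hJc
  set BJ : Subgroup B := pJ.flip.ker with hBJ
  have hBJi : (rad φ B U₁ Λ).relIndex J ≤ BJ.index := by
    refine le_trans ?_ (index_ker_le pJ)
    refine Subgroup.index_antitone (K := (rad φ B U₁ Λ).subgroupOf J) ?_
    intro w hw
    rw [MonoidHom.mem_ker] at hw
    refine ⟨w.2.2, fun b hb => ⟨?_, hF.a2 b hb _ w.2.2⟩⟩
    exact DFunLike.congr_fun hw ⟨b, hb⟩
  have hrad1 : rad φ B U₁ Λ ≤ U₁ := fun v hv => hv.1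
  have hrad0 : U₀ ≤ rad φ B U₁ Λ := by
    intro v hv
    refine ⟨hF.le hv, fun b hb => ?_⟩
    rw [← cm_def, cm_fix (hfix b hb v hv)]
    exact one_mem _
  have h3 : (rad φ B U₁ Λ).relIndex U₁ * y ≤ BJ.index * U₁.index := by
    have e1 : (rad φ B U₁ Λ).relIndex U₁ ≤ BJ.index * (J ⊔ U₀).relIndex U₁ := by
      have e2 := Subgroup.relIndex_mul_relIndex (rad φ B U₁ Λ) (rad φ B U₁ Λ ⊔ J) U₁ le_sup_left
        (sup_le hrad1 inf_le_right)
      rw [Subgroup.relIndex_sup_left] at e2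
      rw [← e2]
      refine Nat.mul_le_mul hBJi ?_
      refine Nat.le_of_dvd (Nat.pos_of_ne_zero (Subgroup.index_ne_zero_of_finite)) ?_
      refine Subgroup.relIndex_dvd_of_le_left _ ?_
      exact sup_le le_sup_right (hrad0.trans le_sup_left)
    have e3 : (J ⊔ U₀).relIndex U₁ * y ≤ U₁.index := by
      have e4 := Subgroup.relIndex_mul_relIndex J (J ⊔ U₀) U₁ le_sup_left
        (sup_le inf_le_right hF.le)
      rw [Subgroup.relIndex_sup_left] at e4
      have e5 : J.relIndex U₀ = y := by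
        rw [← hy2, ← Subgroup.inf_relIndex_right]
        congr 1
        rw [hJ, inf_assoc, inf_eq_right.2 hF.le]
      have e6 : J.relIndex U₁ = (im φ h U₁).relIndex U₁ := by
        rw [hJ, Subgroup.inf_relIndex_right]
      have e7 : (im φ h U₁).relIndex U₁ ≤ U₁.index := by
        rw [← index_im (φ := φ) h U₁]
        refine Nat.le_of_dvd (Nat.pos_of_ne_zero Subgroup.index_ne_zero_of_finite) ?_
        exact Subgroup.relIndex_dvd_index_of_normal _ _
      rw [← e5, mul_comm, e4, e6]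
      exact e7
    calc (rad φ B U₁ Λ).relIndex U₁ * y ≤ BJ.index * (J ⊔ U₀).relIndex U₁ * y :=
          Nat.mul_le_mul_right _ e1
      _ = BJ.index * ((J ⊔ U₀).relIndex U₁ * y) := mul_assoc _ _ _
      _ ≤ _ := Nat.mul_le_mul_left _ e3
  have h4 : BJ.index ≤ B1.index * (B1 ⊓ BJ).relIndex B1 := by
    rw [mul_comm, Subgroup.relIndex_mul_index inf_le_left]
    exact Subgroup.index_antitone inf_le_right
  have h5 : ν ≤ U₁.index := by
    rw [hν, hW, inf_comm, Subgroup.inf_relIndex_right]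
    exact Nat.le_of_dvd (Nat.pos_of_ne_zero Subgroup.index_ne_zero_of_finite)
      (Subgroup.relIndex_dvd_index_of_normal _ _)
  have hm := arith hn h2 h3 h4 h5 (Nat.pos_of_ne_zero Subgroup.index_ne_zero_of_finite)
    (Nat.pos_of_ne_zero Subgroup.index_ne_zero_of_finite)
    (Nat.pos_of_ne_zero Subgroup.index_ne_zero_of_finite)
  -- Chevalley-Warning
  have hBc : ∀ a b : B, a * b = b * a := by
    intro a b
    have h1 : ∀ c : B, c⁻¹ = c := fun c =>
      inv_eq_of_mul_eq_one_right (Subtype.ext (hF.two c c.2))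
    rw [← h1 (a * b), mul_inv_rev, h1 a, h1 b]
  let _ : CommGroup B := { (inferInstance : Group B) with mul_comm := hBc }
  obtain ⟨C, hC1, hC2, hC3⟩ := exists_compl (A := B) (fun c => Subtype.ext (hF.two c c.2))
    (I := B1 ⊓ BJ) (B := B1) inf_le_left
  have _ : Finite ((im φ h U₀ : Subgroup V) →* ℤˣ) := finite_char _
  let Wh : Subgroup (im φ h U₀ : Subgroup V) := W.subgroupOf (im φ h U₀)
  let Q : Subgroup ((im φ h U₀ : Subgroup V) →* ℤˣ) := ann Wh
  have hQcard : Nat.card Q ≤ ν := card_ann_le Wh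
  let F : C → Q := fun b => ⟨(fc φ f ((b : B) : X)).comp (im φ h U₀).subtype, by
    intro w hw
    have hb : (b : B) ∈ B1 := hC1 b.2
    exact DFunLike.congr_fun (MonoidHom.mem_ker.1 hb) ⟨w, hw⟩⟩
  let fcc : X → X → (V →* ℤˣ) := fun a b =>
    { toFun := fun v => f (cm φ a (cm φ b v))
      map_one' := by
        have h1 : cm φ b (1 : V) = 1 := by rw [cm_def, map_one, inv_one, mul_one]
        have h2 : cm φ a (1 : V) = 1 := by rw [cm_def, map_one, inv_one, mul_one]
        rw [h1, h2, map_one]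
      map_mul' := fun v w => by rw [cm_mul, cm_mul, map_mul] }
  have hfcc : ∀ a b v, fcc a b v = f (cm φ a (cm φ b v)) := fun a b v => rfl
  let β : C → C → Q := fun a b => ⟨(fcc ((a : B) : X) ((b : B) : X)).comp (im φ h U₀).subtype, by
    intro w hw
    have hw1 : (w : V) ∈ U₁ := hw.2
    have h1 := hcc _ (a : B).2 _ (b : B).2 _ hw1
    show f (cm φ ((a : B) : X) (cm φ ((b : B) : X) (w : V))) = 1
    rw [h1, map_one]⟩
  have hfix3 : ∀ a ∈ B, ∀ b ∈ B, ∀ c ∈ B, ∀ v : V, cm φ a (cm φ b (cm φ c v)) = 1 :=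
    fun a ha b hb c hc v => hcc a ha b hb _ (hF.a1 c hc v)
  obtain ⟨b, hbne, hFb⟩ := exists_ne_one (B := C) (Q := Q)
    (fun b => Subtype.ext (Subtype.ext (hF.two _ (b : B).2)))
    (fun q => by
      apply Subtype.ext
      ext1 v
      show (q : (im φ h U₀ : Subgroup V) →* ℤˣ) v * (q : (im φ h U₀ : Subgroup V) →* ℤˣ) v = 1
      exact Int.units_mul_self _)
    F β
    (by
      intro a a' b
      apply Subtype.ext
      ext1 v
      show f (cm φ ((a : B) * (a' : B) : X) (cm φ ((b : B) : X) (v : V))) =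
        f (cm φ ((a : B) : X) (cm φ ((b : B) : X) (v : V))) *
          f (cm φ ((a' : B) : X) (cm φ ((b : B) : X) (v : V)))
      rw [cm_comp, hfix3 _ (a : B).2 _ (a' : B).2 _ (b : B).2, one_mul, map_mul])
    (by
      intro a b b'
      apply Subtype.ext
      ext1 v
      show f (cm φ ((a : B) : X) (cm φ ((b : B) * (b' : B) : X) (v : V))) =
        f (cm φ ((a : B) : X) (cm φ ((b : B) : X) (v : V))) *
          f (cm φ ((a : B) : X) (cm φ ((b' : B) : X) (v : V)))
      rw [cm_comp, cm_mul, cm_mul, hfix3 _ (a : B).2 _ (b : B).2 _ (b' : B).2, one_mul, map_mul])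
    (by
      intro a b
      apply Subtype.ext
      ext1 v
      show f (cm φ ((a : B) * (b : B) : X) (v : V)) = f (cm φ ((a : B) : X) (v : V)) *
        f (cm φ ((b : B) : X) (v : V)) * f (cm φ ((a : B) : X) (cm φ ((b : B) : X) (v : V)))
      rw [cm_comp, map_mul, map_mul, mul_assoc, mul_comm])
    (by
      rw [hC3]
      exact lt_of_le_of_lt (Nat.pow_le_pow_left hQcard 2) hm)
  have hb1 : (b : B) ∈ B1 := hC1 b.2
  have hbJ : (b : B) ∉ BJ := by
    intro hcon
    apply hbne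
    have h1 : (b : B) ∈ C ⊓ (B1 ⊓ BJ) := ⟨b.2, hb1, hcon⟩
    rw [hC2, Subgroup.mem_bot] at h1
    exact Subtype.ext h1
  have hfb0 : ∀ v ∈ im φ h U₀, f (cm φ ((b : B) : X) v) = 1 := by
    intro v hv
    exact DFunLike.congr_fun (congrArg Subtype.val hFb) ⟨v, hv⟩
  -- dual detection
  have hdet := dual_detect hF (f.comp (φ h).toMonoidHom) (t := h⁻¹ * ((b : B) : X) * h)
    (by
      intro u hu
      exact hf1 _ ⟨u, hu, rfl⟩)
    (by
      have h1 := hF.two _ (b : B).2
      calc h⁻¹ * ((b : B) : X) * h * (h⁻¹ * ((b : B) : X) * h)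
          = h⁻¹ * (((b : B) : X) * ((b : B) : X)) * h := by group
        _ = 1 := by rw [h1, mul_one, inv_mul_cancel])
    (by
      intro u hu
      have h1 : φ h (cm φ (h⁻¹ * ((b : B) : X) * h) u) = cm φ ((b : B) : X) (φ h u) := by
        rw [cm_def, cm_def, map_mul (φ h), map_inv (φ h), ← MulAut.mul_apply, ← MulAut.mul_apply,
          ← map_mul, ← map_mul]
        congr 3
        group
      show f (φ h (cm φ (h⁻¹ * ((b : B) : X) * h) u)) = 1
      rw [h1]
      exact hfb0 _ ⟨u, hu, rfl⟩)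
  apply hbJ
  rw [hBJ, MonoidHom.mem_ker]
  ext1 w
  show f (cm φ ((b : B) : X) (w : V)) = 1
  have hw1 : φ h⁻¹ (w : V) ∈ U₁ := mem_im.1 w.2.1
  have h6 := hdet _ hw1
  have h1 : φ h (cm φ (h⁻¹ * ((b : B) : X) * h) (φ h⁻¹ (w : V))) = cm φ ((b : B) : X) (w : V) := by
    have h7 : φ h (φ h⁻¹ (w : V)) = w := apply_inv_cancel φ h _
    rw [cm_def, cm_def, map_mul (φ h), map_inv (φ h), h7]
    congr 1
    rw [← MulAut.mul_apply, ← MulAut.mul_apply, ← map_mul, ← map_mul]
    congr 2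
    group
  rw [← h1]
  exact h6

end good

end Cfsg.Agent.PLocal.S4ConGood
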