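import Mathlib
import Cfsg.Agent.PLocal.S4ConDefs

set_option autoImplicit false

/-!
# Piece L4 of the proof of S0665: the unique maximal subgroup over a flag group

From the functor `Gf` (structure `Fun`) we get the unique maximal subgroup `X₀ = stb φ (Gf T)`
(structure `Uniq`).
-/

namespace Cfsg.Agent.PLocal.S4ConUniq

open Cfsg Cfsg.Agent.Lib Cfsg.Agent.Lib.Cores
open Cfsg.Agent.PLocal.SFourBasic Cfsg.Agent.PLocal.SFourOffender
open Cfsg.Agent.PLocal.S4FreeClosureBasic Cfsg.Agent.PLocal.S4FreeClosureUniq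
open Cfsg.Agent.PLocal.S4ConDefs

universe u v

section

variable {X : Type u} [Group X] {V : Type v} [CommGroup V]

theorem im_mono (φ : X →* MulAut V) (x : X) {U W : Subgroup V} (h : U ≤ W) :
    im φ x U ≤ im φ x W := Subgroup.map_mono h

theorem im_im_inv (φ : X →* MulAut V) (x : X) (U : Subgroup V) : im φ x (im φ x⁻¹ U) = U := by
  have := im_inv_im φ x⁻¹ U
  rwa [inv_inv] at this

theorem im_le_iff {φ : X →* MulAut V} {x : X} {U W : Subgroup V} :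
    im φ x U ≤ W ↔ U ≤ im φ x⁻¹ W := by
  constructor
  · intro h
    rw [← im_inv_im φ x U]
    exact im_mono φ _ h
  · intro h
    rw [← im_im_inv φ x W]
    exact im_mono φ _ h

theorem cj_ne_top [Finite X] (x : X) {Y : Subgroup X} (hY : Y ≠ ⊤) : cj x Y ≠ ⊤ := by
  intro h1
  apply hY
  apply Subgroup.eq_top_of_card_eq
  rw [← card_cj x Y, h1, Subgroup.card_top]

variable {φ : X →* MulAut V} {B : Subgroup X} {U₀ : Subgroup V} {T : Sylow 2 X}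
  {Gf : Subgroup X → Subgroup V}

/-- Normalisers stabilise the values of the functor. -/
theorem normalizer_le_stb (h : Fun φ B U₀ T Gf) (T₁ : Subgroup X) [Finite X] :
    Subgroup.normalizer (T₁ : Set X) ≤ stb φ (Gf T₁) := by
  rw [le_stb_iff]
  intro x hx w hw
  have h1 := h.conj x T₁
  rw [cj_eq_iff.2 hx] at h1
  rw [h1]
  exact ⟨w, hw, rfl⟩

theorem anti' (h : Fun φ B U₀ T Gf) {x : X} {T₁ T₂ : Subgroup X} (hT₂ : IsPGroup 2 T₂)
    (hB : cj x B ≤ T₁) (hT : T₁ ≤ T₂) : Gf T₂ ≤ Gf T₁ := by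
  have h1 := h.anti (cj x⁻¹ T₁) (cj x⁻¹ T₂) (hT₂.map _) (cj_le_iff.1 hB) (cj_mono _ hT)
  rw [h.conj, h.conj, im_le_iff, im_inv_im] at h1
  exact h1

theorem le' (h : Fun φ B U₀ T Gf) {x : X} {T₁ : Subgroup X} (hT₁ : IsPGroup 2 T₁)
    (hB : cj x B ≤ T₁) : Gf T₁ ≤ im φ x U₀ := by
  have h1 := h.le (cj x⁻¹ T₁) (hT₁.map _) (cj_le_iff.1 hB)
  rw [h.conj, im_le_iff, inv_inv] at h1
  exact h1

/-- `inv` for maximal `2`-subgroups of `Y`. -/
theorem inv_of_max [Finite X] (h : Fun φ B U₀ T Gf) {Y T₁ : Subgroup X} (hY : Y ≠ ⊤)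
    (hT₁Y : T₁ ≤ Y) (hT₁ : IsPGroup 2 T₁)
    (hmax : ∀ T₃ : Subgroup X, IsPGroup 2 T₃ → T₁ ≤ T₃ → T₃ ≤ Y → T₃ = T₁)
    (hB : B ≤ T₁) : Y ≤ stb φ (Gf T₁) := by
  let T' : Sylow 2 Y :=
    { toSubgroup := T₁.subgroupOf Y
      isPGroup' := hT₁.comap_subtype
      is_maximal' := by
        intro Q hQ hle
        have h1 := hmax (Q.map Y.subtype) (hQ.map _) (by
          intro t ht
          exact ⟨⟨t, hT₁Y ht⟩, hle ht, rfl⟩) (by
          rintro _ ⟨a, _, rfl⟩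
          exact a.2)
        rw [← h1]
        exact (Subgroup.comap_map_eq_self_of_injective Y.subtype_injective _).symm }
  have hT'm : (T' : Subgroup Y).map Y.subtype = T₁ := by
    show (T₁.subgroupOf Y).map Y.subtype = T₁
    rw [Subgroup.subgroupOf_map_subtype, inf_eq_left.2 hT₁Y]
  have h1 := h.inv Y T' hY (by rw [hT'm]; exact hB)
  rw [hT'm] at h1
  exact le_stb_iff.2 h1

theorem inv' [Finite X] (h : Fun φ B U₀ T Gf) {Y T₁ : Subgroup X} (hY : Y ≠ ⊤)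
    (hT₁Y : T₁ ≤ Y) (hT₁ : IsPGroup 2 T₁)
    (hmax : ∀ T₃ : Subgroup X, IsPGroup 2 T₃ → T₁ ≤ T₃ → T₃ ≤ Y → T₃ = T₁) {x : X}
    (hB : cj x B ≤ T₁) : Y ≤ stb φ (Gf T₁) := by
  have h1 := inv_of_max h (Y := cj x⁻¹ Y) (T₁ := cj x⁻¹ T₁) (cj_ne_top _ hY) (cj_mono _ hT₁Y)
    (hT₁.map _) (by
      intro T₃ hT₃ hle hle'
      have h2 := hmax (cj x T₃) (hT₃.map _) (by
        rw [← cj_cj_inv x T₁]
        exact cj_mono _ hle) (by
        rw [← cj_cj_inv x Y]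
        exact cj_mono _ hle')
      rw [← h2, cj_inv_cj]) (cj_le_iff.1 hB)
  rw [le_stb_iff] at h1 ⊢
  intro y hy w hw
  have h3 := h1 (x⁻¹ * y * x) (by
    rw [mem_cj]
    simpa [mul_assoc] using hy) (φ x⁻¹ w) (by
    rw [h.conj]
    exact ⟨w, hw, rfl⟩)
  rw [h.conj, mem_im, inv_inv, ← MulAut.mul_apply, ← MulAut.mul_apply, ← map_mul, ← map_mul] at h3
  have h4 : x * (x⁻¹ * y * x) * x⁻¹ = y := by group
  rwa [h4] at h3

variable [Finite X]

theorem T_le (h : Fun φ B U₀ T Gf) : (T : Subgroup X) ≤ stb φ (Gf T) :=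
  Subgroup.le_normalizer.trans (normalizer_le_stb h _)

omit [Finite X] in
theorem stb_ne (h : Fun φ B U₀ T Gf) : stb φ (Gf T) ≠ ⊤ := by
  intro htop
  apply h.ne
  rw [eq_top_iff, ← h.gen (Gf T) le_rfl (fun x w hw =>
    ((htop ▸ Subgroup.mem_top x : x ∈ stb φ (Gf T)) w).2 hw)]
  exact h.le T T.isPGroup' h.BT

theorem le_stb (h : Fun φ B U₀ T Gf) {Y : Subgroup X} (hTY : (T : Subgroup X) ≤ Y)
    (hY : Y ≠ ⊤) : Y ≤ stb φ (Gf T) := by
  refine inv_of_max h hY hTY T.isPGroup' ?_ h.BT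
  intro T₃ hT₃ hle _
  exact T.is_maximal' hT₃ hle

theorem notle_pCore (h : Fun φ B U₀ T Gf) : ¬ B ≤ pCore 2 X := by
  intro hle
  have : Fact (Nat.Prime 2) := ⟨Nat.prime_two⟩
  have h1 : ∀ x : X, im φ x (Gf T) ≤ U₀ := by
    intro x
    rw [← h.conj]
    refine h.le _ (T.isPGroup'.map _) (hle.trans ?_)
    have h2 : cj x (pCore 2 X) ≤ cj x T := cj_mono x (pCore_le_sylow T)
    rwa [cj_eq_of_normal] at h2
  apply h.ne
  have h3 : (⨆ x : X, im φ x (Gf T)) = ⊤ := by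
    refine h.gen _ ?_ ?_
    · refine le_trans ?_ (le_iSup (fun x : X => im φ x (Gf T)) 1)
      intro w hw
      rw [mem_im]
      simpa using hw
    · intro x w hw
      have h4 : (⨆ x : X, im φ x (Gf T)) ≤
          (⨆ x : X, im φ x (Gf T)).comap (φ x).toMonoidHom := by
        refine iSup_le fun y => ?_
        rintro _ ⟨w, hw, rfl⟩
        have h5 : im φ (x * y) (Gf T) ≤ ⨆ x : X, im φ x (Gf T) :=
          le_iSup (fun x : X => im φ x (Gf T)) (x * y)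
        apply h5
        refine ⟨w, hw, ?_⟩
        show φ (x * y) w = φ x (φ y w)
        rw [map_mul, MulAut.mul_apply]
      exact h4 hw
  rw [eq_top_iff, ← h3]
  exact iSup_le h1

/-- (8.3): the unique maximal subgroup over a conjugate of `B`. -/
theorem uniq (h : Fun φ B U₀ T Gf) (hB : IsPGroup 2 B) {x₀ : X}
    (hx₀ : cj x₀ B ≤ stb φ (Gf T)) {Y₁ : Subgroup X} (hBY : cj x₀ B ≤ Y₁) (hY₁ : Y₁ ≠ ⊤) :
    Y₁ ≤ stb φ (Gf T) := by
  classical
  set M := stb φ (Gf T) with hM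
  have hTM : (T : Subgroup X) ≤ M := T_le h
  by_contra hXM
  have hconjM : ∀ m ∈ M, ∀ Y : Subgroup X, ¬ Y ≤ M → ¬ cj m Y ≤ M := by
    intro m hm Y hY h1
    apply hY
    rw [cj_le_iff, cj_eq_of_mem (inv_mem hm)] at h1
    exact h1
  let S : Set (Subgroup X × Subgroup X) := {p | p.1 ≠ ⊤ ∧ ¬ p.1 ≤ M ∧ p.2 ≤ p.1 ∧
    p.2 ≤ (T : Subgroup X) ∧ ∃ x : X, cj x B ≤ p.2}
  obtain ⟨m, hm, hmA⟩ := exists_cj_le hTM (hB.map _ : IsPGroup 2 (cj x₀ B)) hx₀
  have hne : S.Nonempty := ⟨(cj m Y₁, cj m (cj x₀ B)), cj_ne_top m hY₁, hconjM m hm Y₁ hXM,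
    cj_mono m hBY, hmA, m * x₀, by rw [cj_cj]⟩
  obtain ⟨⟨Y, T₁⟩, ⟨hY, hYM, hT₁Y, hT₁T, x, hxT₁⟩, hmax⟩ :=
    S.toFinite.exists_maximalFor (fun p => Nat.card p.2) S hne
  dsimp only at hY hYM hT₁Y hT₁T hxT₁
  have hmax' : ∀ p ∈ S, Nat.card p.2 ≤ Nat.card T₁ := by
    intro p hp
    rcases le_total (Nat.card p.2) (Nat.card T₁) with h1 | h1
    · exact h1
    · exact hmax hp h1
  have key : ∀ Z T₂ : Subgroup X, Z ≠ ⊤ → ¬ Z ≤ M → T₂ ≤ Z → T₂ ≤ M → IsPGroup 2 T₂ →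
      T₁ < T₂ → False := by
    intro Z T₂ hZ hZM hTZ hT₂M hT₂ hlt
    obtain ⟨m, hm, hmT⟩ := exists_cj_le hTM hT₂ hT₂M
    have h1 := hmax' (cj m Z, cj m T₂) ⟨cj_ne_top m hZ, hconjM m hm Z hZM, cj_mono m hTZ, hmT,
      m * x, by
        rw [← cj_cj]
        exact cj_mono m (hxT₁.trans hlt.le)⟩
    dsimp only at h1
    rw [card_cj] at h1
    exact hlt.ne (Subgroup.eq_of_le_of_card_ge hlt.le h1)
  have hT₁2 : IsPGroup 2 T₁ := T.isPGroup'.to_le hT₁T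
  have hT₁lt : T₁ < (T : Subgroup X) := by
    refine lt_of_le_of_ne hT₁T ?_
    rintro heq
    exact hYM (le_stb h (heq ▸ hT₁Y) hY)
  set T₂ := (T : Subgroup X) ⊓ Subgroup.normalizer (T₁ : Set X) with hT₂
  have hT₁T₂ : T₁ < T₂ := lt_inf_normalizer T.isPGroup' hT₁lt
  -- the subgroup generated by the conjugates of `B` in `T₁`
  let K : Subgroup X := sSup {C | C ≤ T₁ ∧ ∃ y : X, C = cj y B}
  have hxK : cj x B ≤ K := le_sSup ⟨hxT₁, x, rfl⟩
  have hKT₁ : K ≤ T₁ := sSup_le fun C hC => hC.1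
  have hcjK : ∀ y : X, cj y T₁ = T₁ → cj y K ≤ K := by
    intro y hy
    rw [cj_le_iff]
    refine sSup_le ?_
    rintro C ⟨hC, z, rfl⟩
    rw [← cj_inv_cj y (cj z B)]
    refine cj_mono _ (le_sSup ⟨?_, y * z, by rw [cj_cj]⟩)
    rw [← hy]
    exact cj_mono y hC
  have hNN : Subgroup.normalizer (T₁ : Set X) ≤ Subgroup.normalizer (K : Set X) := by
    intro y hy
    rw [← cj_eq_iff] at hy ⊢
    exact Subgroup.eq_of_le_of_card_ge (hcjK y hy) (card_cj y K).ge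
  have hNK : Subgroup.normalizer (K : Set X) ≠ ⊤ := by
    intro htop
    have hKn : K.Normal := Subgroup.normalizer_eq_top_iff.1 htop
    apply notle_pCore h
    have h1 : cj x B ≤ pCore 2 X := hxK.trans (le_pCore hKn (hT₁2.to_le hKT₁))
    rw [cj_le_iff, cj_eq_of_normal] at h1
    exact h1
  have hT₂N : T₂ ≤ Subgroup.normalizer (K : Set X) := inf_le_right.trans hNN
  have hT₂M : T₂ ≤ M := inf_le_left.trans hTM
  have hT₂2 : IsPGroup 2 T₂ := T.isPGroup'.to_le inf_le_left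
  have hNKM : Subgroup.normalizer (K : Set X) ≤ M := by
    by_contra hcon
    exact key _ T₂ hNK hcon hT₂N hT₂M hT₂2 hT₁T₂
  have hsyl : ∀ T₃ : Subgroup X, IsPGroup 2 T₃ → T₁ ≤ T₃ → T₃ ≤ Y → T₃ = T₁ := by
    intro T₃ hT₃ hle hT₃Y
    by_contra hne
    have hlt : T₁ < T₃ := lt_of_le_of_ne hle (Ne.symm hne)
    have h1 := lt_inf_normalizer hT₃ hlt
    exact key Y _ hY hYM (inf_le_left.trans hT₃Y) ((inf_le_right.trans hNN).trans hNKM)
      (hT₃.to_le inf_le_left) h1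
  have hinv : Y ≤ stb φ (Gf T₁) := inv' h hY hT₁Y hT₁2 hsyl hxT₁
  have hnorm : T₂ ≤ stb φ (Gf T₁) := inf_le_right.trans (normalizer_le_stb h T₁)
  have hStop : stb φ (Gf T₁) = ⊤ := by
    by_contra hcon
    exact key _ T₂ hcon (fun h1 => hYM (hinv.trans h1)) hnorm hT₂M hT₂2 hT₁T₂
  have hGtop : Gf T₁ = ⊤ := by
    refine h.gen _ (anti' h T.isPGroup' hxT₁ hT₁T) ?_
    intro y w hw
    exact ((hStop ▸ Subgroup.mem_top y : y ∈ stb φ (Gf T₁)) w).2 hw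
  have h1 := le' h hT₁2 hxT₁
  rw [hGtop, top_le_iff] at h1
  apply h.ne
  rw [eq_top_iff]
  intro v _
  have h2 : φ x v ∈ im φ x U₀ := h1 ▸ Subgroup.mem_top _
  rwa [mem_im, inv_apply_cancel] at h2

theorem notle (h : Fun φ B U₀ T Gf) (hB : IsPGroup 2 B) {x : X} (hx : x ∉ stb φ (Gf T)) :
    ¬ cj x B ≤ stb φ (Gf T) := by
  intro hle
  set M := stb φ (Gf T) with hM
  have hTM : (T : Subgroup X) ≤ M := T_le h
  have h1 : cj x M ≤ M := uniq h hB hle (cj_mono x (h.BT.trans hTM)) (cj_ne_top x (stb_ne h))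
  obtain ⟨m, hm, hmT⟩ := exists_cj_le (T := T) (A := cj x T) hTM (T.isPGroup'.map _)
    ((cj_mono x hTM).trans h1)
  rw [cj_cj] at hmT
  have h2 : cj (m * x) (T : Subgroup X) = T :=
    Subgroup.eq_of_le_of_card_ge hmT (card_cj _ _).ge
  have h3 : m * x ∈ M := normalizer_le_stb h _ (cj_eq_iff.1 h2)
  apply hx
  have h4 := mul_mem (inv_mem hm) h3
  rwa [inv_mul_cancel_left] at h4

/-- Piece L4. -/
theorem exists_uniq (h : Fun φ B U₀ T Gf) (hB : IsPGroup 2 B) :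
    ∃ X₀ : Subgroup X, Uniq φ B U₀ T X₀ (Gf T) := by
  refine ⟨stb φ (Gf T), h.BT, T_le h, stb_ne h, fun Y hTY hY => le_stb h hTY hY, notle_pCore h,
    fun x hx Y hBY hY => uniq h hB hx hBY hY, fun x hx => ?_, fun x hx => notle h hB hx,
    le_stb_iff.1 le_rfl, h.le T T.isPGroup' h.BT, h.gen⟩
  by_contra hne
  apply notle h hB hx
  refine le_sup_right.trans (uniq h hB (x₀ := 1) ?_ ?_ hne)
  · rw [cj_one]
    exact h.BT.trans (T_le h)
  · rw [cj_one]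
    exact le_sup_left

end

end Cfsg.Agent.PLocal.S4ConUniq
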