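import Mathlib
import Cfsg.Agent.PLocal.S4FreeFlagConv
import Cfsg.Agent.PLocal.S4ConChain
import Cfsg.Agent.PLocal.S4ConUniq
import Cfsg.Agent.PLocal.S4ConBad
import Cfsg.Agent.PLocal.S4ConGood

set_option autoImplicit false

/-!
# The second closure theorem (S0665)

`good_iSup`: `H` acts `S₃`-freely on the elementary abelian `2`-group `V`, `T` is a Sylow `2`-subgroup, `U` is
`T`-good; then the submodule generated by `U` is `T`-good.
-/

namespace Cfsg.Agent.PLocal.S4FreeFlagG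

open Cfsg Cfsg.Agent.Lib
open Cfsg.Agent.PLocal.SFourBasic Cfsg.Agent.PLocal.SFourOffender
open Cfsg.Agent.PLocal.S4FreeClosureBasic Cfsg.Agent.PLocal.S4FreeFlag
open Cfsg.Agent.PLocal.S4FreeFlagConv

universe u v

section closure

open Cfsg.Agent.PLocal.S4FreeClosureUniq

/-- `wgd` is equivariant. -/
theorem wgd_cj {H : Type u} [Group H] {V : Type v} [CommGroup V] (φ : H →* MulAut V) (x : H)
    (T : Subgroup H) : wgd φ (cj x T) = im φ x (wgd φ T) := by
  have key : ∀ (x : H) (T : Subgroup H), im φ x (wgd φ T) ≤ wgd φ (cj x T) := by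
    intro x T
    unfold wgd
    rw [im, sSup_eq_iSup, Subgroup.map_iSup]
    refine iSup_le fun U => ?_
    rw [Subgroup.map_iSup]
    refine iSup_le fun hU => ?_
    exact le_sSup (hU.cj x)
  apply le_antisymm
  · have h1 := key x⁻¹ (cj x T)
    rw [cj_inv_cj] at h1
    have h2 := Subgroup.map_mono (f := (φ x).toMonoidHom) h1
    have h3 : im φ x (im φ x⁻¹ (wgd φ (cj x T))) = wgd φ (cj x T) := by
      ext v
      rw [mem_im, mem_im, inv_inv, apply_inv_cancel]
    rw [← h3]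
    exact h2
  · exact key x T

/-- Induction hypothesis. -/
def IHyp (n : ℕ) : Prop :=
  ∀ (H : Type u) [Group H] [Finite H] (V : Type v) [CommGroup V] [Finite V] (φ : H →* MulAut V)
    (T : Sylow 2 H) (U : Subgroup V), Nat.card H < n → (∀ v : V, v * v = 1) → NoS3 φ →
    Good φ T U → (∀ W : Subgroup V, U ≤ W → (∀ h : H, ∀ w ∈ W, φ h w ∈ W) → W = ⊤) →
    Good φ T ⊤

/-- A counterexample with faithful action. -/
structure Hyp {H : Type u} [Group H] {V : Type v} [CommGroup V] (φ : H →* MulAut V) (T : Sylow 2 H)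
    (U : Subgroup V) : Prop where
  exp : ∀ v : V, v * v = 1
  inj : Function.Injective φ
  noS3 : NoS3 φ
  good : Good φ T U
  gen : ∀ W : Subgroup V, U ≤ W → (∀ h : H, ∀ w ∈ W, φ h w ∈ W) → W = ⊤
  notop : ¬ Good φ T ⊤

variable {H : Type u} [Group H] {V : Type v} [CommGroup V] [Finite H] [Finite V]
  {φ : H →* MulAut V} {T : Sylow 2 H} {U : Subgroup V}

/-- `wgd` of a Sylow `2`-subgroup of a proper subgroup `P` is `P`-invariant. -/
theorem wgd_inv (hexp : ∀ v : V, v * v = 1) (hS3 : NoS3 φ) (hIH : IHyp.{u, v} (Nat.card H))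
    {P : Subgroup H} (hP : P ≠ ⊤)
    (T' : Sylow 2 P) {T₁ : Subgroup H} (hT₁ : (T' : Subgroup P).map P.subtype = T₁) :
    Inv φ P (wgd φ T₁) := by
  have hT₁P : T₁ ≤ P := by
    rw [← hT₁]
    rintro _ ⟨a, _, rfl⟩
    exact a.2
  have hT₁2 : IsPGroup 2 T₁ := hT₁ ▸ T'.isPGroup'.map _
  have hsub : T₁.subgroupOf P = T' := by
    rw [← hT₁]
    exact Subgroup.comap_map_eq_self_of_injective P.subtype_injective _
  set W := wgd φ T₁ with hW
  have hWun : Good φ T₁ W := good_wgd hexp hT₁2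
  let Y : Subgroup V := ⨆ p : P, im φ p W
  have hWY : W ≤ Y := by
    have : im φ ((1 : P) : H) W ≤ Y := le_iSup (fun p : P => im φ (p : H) W) 1
    refine le_trans ?_ this
    intro w hw
    rw [mem_im]
    simpa using hw
  have hYinv : Inv φ P Y := by
    intro p hp y hy
    have h1 : Y ≤ (Y.comap (φ p).toMonoidHom) := by
      refine iSup_le fun q => ?_
      rintro _ ⟨w, hw, rfl⟩
      have h2 : im φ ((⟨p, hp⟩ * q : P) : H) W ≤ Y :=
        le_iSup (fun p : P => im φ (p : H) W) (⟨p, hp⟩ * q)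
      apply h2
      refine ⟨w, hw, ?_⟩
      show φ (p * q) w = φ p (φ q w)
      rw [map_mul, MulAut.mul_apply]
    exact h1 hy
  have hYinv' : ∀ x : P, ∀ w ∈ Y, (φ.comp P.subtype) x w ∈ Y := fun x w hw => hYinv x x.2 w hw
  have hPcard : Nat.card P < Nat.card H := by
    have h1 := Subgroup.card_le_card_group P
    refine lt_of_le_of_ne h1 fun h2 => hP (Subgroup.eq_top_of_card_eq P h2)
  have key := hIH P Y (subHom (φ.comp P.subtype) Y hYinv') T' (W.subgroupOf Y) hPcard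
    (fun y => Subtype.ext (hexp y)) (noS3_sub hS3 P Y hYinv') (by
      rw [← hsub, good_sub_iff φ P Y hYinv' hWY hT₁P]
      exact hWun) (by
      intro W' hWW' hW'
      rw [eq_top_iff]
      rintro ⟨y, hy⟩ -
      have h1 : Y ≤ W'.map Y.subtype := by
        refine iSup_le fun q => ?_
        rintro _ ⟨w, hw, rfl⟩
        have h2 : (⟨w, hWY hw⟩ : Y) ∈ W' := hWW' hw
        exact ⟨_, hW' q _ h2, rfl⟩
      obtain ⟨z, hz, hzy⟩ := h1 hy
      have h3 : z = ⟨y, hy⟩ := Subtype.ext hzy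
      rw [← h3]
      exact hz)
  rw [← hsub, ← Subgroup.subgroupOf_self, good_sub_iff φ P Y hYinv' le_rfl hT₁P] at key
  have hYW : Y = W := le_antisymm (le_wgd key) hWY
  rw [← hYW]
  exact hYinv

/-- The functor `wgd` in a minimal counterexample. -/
theorem fun_wgd (h : Hyp φ T U) (hIH : IHyp.{u, v} (Nat.card H)) {B : Subgroup H}
    {E : Subgroup V} (hBT : B ≤ (T : Subgroup H)) (hF : Flag φ B ⊤ E) :
    S4ConDefs.Fun φ B (fx φ B) T (wgd φ) := by
  have hle : ∀ T₁ : Subgroup H, IsPGroup 2 T₁ → B ≤ T₁ → wgd φ T₁ ≤ fx φ B := by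
    intro T₁ hT₁ hB
    exact le_fx_iff.2 (hF.le_cn le_top ((good_wgd h.exp hT₁).mono hB))
  refine ⟨?_, hBT, fun x T₁ => wgd_cj φ x T₁, ?_, hle, ?_, ?_⟩
  · intro htop
    exact hF.not_le_cn (le_fx_iff.1 htop.ge)
  · intro T₁ T₂ hT₂ _ hle'
    exact le_wgd ((good_wgd h.exp hT₂).mono hle')
  · intro Y T' hY _
    exact wgd_inv h.exp h.noS3 hIH hY T' rfl
  · intro W hW hinv
    exact h.gen W ((le_wgd h.good).trans hW) hinv

theorem hyp_false (h : Hyp φ T U) (hIH : IHyp.{u, v} (Nat.card H)) : False := by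
  classical
  have hun : Unoff φ T ⊤ := S4FreeClosure.unoff_top h.exp h.noS3 T h.good.unoff h.gen
  obtain ⟨B, hBT, E, hF⟩ : ∃ B ≤ (T : Subgroup H), ∃ E : Subgroup V, Flag φ B ⊤ E := by
    by_contra hcon
    push Not at hcon
    exact h.notop ⟨hun, hcon⟩
  have hP := preFlag_of_flag h.inj h.exp hF
  have hP' : S4ConDefs.Flag φ B E (fx φ B) := { hP with noS3 := h.noS3 }
  obtain ⟨X₀, hU⟩ := S4ConUniq.exists_uniq (fun_wgd h hIH hBT hF) (T.isPGroup'.to_le hBT)
  obtain ⟨g, hg⟩ := S4ConChain.exists_g hP' hU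
  exact S4ConGood.good_case hP' (S4ConDefs.core_inv φ E) (S4ConDefs.core_le φ E) hg
    (S4ConBad.bad_case hP' hU)

theorem ihyp (n : ℕ) : IHyp.{u, v} n := by
  induction n with
  | zero =>
    intro H _ _ V _ _ φ T U h
    exact absurd h (Nat.not_lt_zero _)
  | succ n ih =>
    intro H _ _ V _ _ φ T U hn hexp hS3 hU hgen
    have : Fact (Nat.Prime 2) := ⟨Nat.prime_two⟩
    by_contra hcon
    let π := QuotientGroup.mk' φ.ker
    have hπ : Function.Surjective π := QuotientGroup.mk'_surjective _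
    let φ' : H ⧸ φ.ker →* MulAut V := QuotientGroup.kerLift φ
    have hφ : ∀ h, φ' (π h) = φ h := fun h => rfl
    have hle : Nat.card (H ⧸ φ.ker) ≤ Nat.card H := Nat.card_le_card_of_surjective π hπ
    refine hyp_false (φ := φ') (T := T.mapSurjective hπ) (U := U) ⟨hexp,
      QuotientGroup.kerLift_injective φ, S4FreeClosure.noS3_of_surjective π hπ hφ hS3,
      (good_map_iff π hφ T U).1 hU, ?_, ?_⟩ ?_
    · intro W hUW hW
      exact hgen W hUW fun h w hw => hW (π h) w hw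
    · intro h
      exact hcon ((good_map_iff π hφ T ⊤).2 h)
    · intro H' _ _ V' _ _ ψ T' U' hlt
      exact ih H' V' ψ T' U' (by omega)

/-- **The second closure theorem.** -/
theorem good_top {H : Type u} [Group H] [Finite H] {V : Type v} [CommGroup V] [Finite V]
    {φ : H →* MulAut V} (hexp : ∀ v : V, v * v = 1) (hS3 : NoS3 φ) (T : Sylow 2 H)
    {U : Subgroup V} (hU : Good φ T U)
    (hgen : ∀ W : Subgroup V, U ≤ W → (∀ h : H, ∀ w ∈ W, φ h w ∈ W) → W = ⊤) :
    Good φ T ⊤ :=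
  ihyp (Nat.card H + 1) H V φ T U (Nat.lt_succ_self _) hexp hS3 hU hgen

/-- The closure theorem for the submodule generated by a good subgroup. -/
theorem good_iSup {H : Type u} [Group H] [Finite H] {V : Type v} [CommGroup V] [Finite V]
    {φ : H →* MulAut V} (hexp : ∀ v : V, v * v = 1) (hS3 : NoS3 φ) (T : Sylow 2 H)
    {U : Subgroup V} (hU : Good φ T U) : Good φ T (⨆ x : H, im φ x U) := by
  set Y : Subgroup V := ⨆ x : H, im φ x U with hY
  have hUY : U ≤ Y := by
    refine le_trans ?_ (le_iSup (fun x : H => im φ x U) 1)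
    intro u hu
    rw [mem_im]
    simpa using hu
  have hYinv : ∀ g, ∀ w ∈ Y, φ g w ∈ Y := by
    intro g w hw
    have h1 : Y ≤ Y.comap (φ g).toMonoidHom := by
      refine iSup_le fun x => ?_
      rintro _ ⟨u, hu, rfl⟩
      refine (le_iSup (fun x : H => im φ x U) (g * x)) ⟨u, hu, ?_⟩
      show φ (g * x) u = φ g (φ x u)
      rw [map_mul, MulAut.mul_apply]
    exact h1 hw
  have hYinv' : ∀ x : (⊤ : Subgroup H), ∀ w ∈ Y, (φ.comp (⊤ : Subgroup H).subtype) x w ∈ Y :=
    fun x w hw => hYinv x w hw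
  have hsub : (((T.subtype (N := ⊤) le_top : Sylow 2 (⊤ : Subgroup H))) :
      Subgroup (⊤ : Subgroup H)) = (T : Subgroup H).subgroupOf ⊤ := rfl
  have key := good_top (φ := subHom (φ.comp (⊤ : Subgroup H).subtype) Y hYinv')
    (fun y => Subtype.ext (hexp y)) (noS3_sub hS3 ⊤ Y hYinv') (T.subtype (N := ⊤) le_top)
    (U := U.subgroupOf Y) (by
      rw [hsub, good_sub_iff φ ⊤ Y hYinv' hUY le_top]
      exact hU) (by
      intro W' hWW' hW'
      rw [eq_top_iff]
      rintro ⟨y, hy⟩ -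
      have h1 : Y ≤ W'.map Y.subtype := by
        refine iSup_le fun q => ?_
        rintro _ ⟨w, hw, rfl⟩
        have h2 : (⟨w, hUY hw⟩ : Y) ∈ W' := hWW' hw
        exact ⟨_, hW' ⟨q, Subgroup.mem_top q⟩ _ h2, rfl⟩
      obtain ⟨z, hz, hzy⟩ := h1 hy
      have h3 : z = ⟨y, hy⟩ := Subtype.ext hzy
      rw [← h3]
      exact hz)
  rwa [hsub, ← Subgroup.subgroupOf_self, good_sub_iff φ ⊤ Y hYinv' le_rfl le_top] at key

end closure

end Cfsg.Agent.PLocal.S4FreeFlagG
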