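import Mathlib
import Cfsg.Agent.Lib.ProductSet
import Cfsg.Agent.Lib.PGroupCoprimeAction

/-!
If a `p`-group `A` normalizes the `p'`-group `Q` and centralizes every `A`-invariant `q`-subgroup of `Q` for all primes
`q ≠ r`, then `[Q, A]` is an `r`-group. And some facts on `SL(2,2)` and `SL(2,3)`.
-/

set_option autoImplicit false

namespace Cfsg.Agent.PLocal.CoprimeRPart

open Subgroup
open scoped Pointwise commutatorElement

variable {G : Type*} [Group G]

theorem isPGroup_commutator [Finite G] {p r : ℕ} [Fact p.Prime] [Fact r.Prime] {Q A : Subgroup G}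
    (hA : IsPGroup p A) (hQ : ¬ p ∣ Nat.card Q) (hAQ : A ≤ normalizer (Q : Set G))
    (h : ∀ q : ℕ, q.Prime → q ≠ r → ∀ S : Subgroup G, S ≤ Q → IsPGroup q S →
      (∀ a ∈ A, ∀ u ∈ S, a * u * a⁻¹ ∈ S) → S ≤ centralizer (A : Set G)) :
    IsPGroup r ↥(⁅Q, A⁆) := by
  classical
  have hAQ' : ∀ b ∈ A, ∀ u ∈ Q, b * u * b⁻¹ ∈ Q := fun b hb u hu =>
    (mem_normalizer_iff.mp (hAQ hb) u).mp hu
  obtain ⟨R, ⟨T, hT⟩, hR⟩ := Cfsg.Agent.Lib.PGroupCoprimeAction.exists_invariant_sylow hA hQ hAQ' r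
  have hRQ : R ≤ Q := by rw [← hT]; exact map_subtype_le _
  have hRp : IsPGroup r R := by rw [← hT]; exact T.isPGroup'.map _
  have hRcard : Nat.card R = Nat.card (T : Subgroup Q) := by
    rw [← hT]; exact card_map_of_injective (subtype_injective Q)
  set C := Q ⊓ centralizer (A : Set G) with hC
  -- the `r'`-part of `|Q|` divides `|C|`
  have hdiv : (T : Subgroup Q).index ∣ Nat.card C := by
    rw [Nat.dvd_iff_prime_pow_dvd_dvd]
    intro q k hq hqk
    by_cases hqr : q = r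
    · subst hqr
      rcases Nat.eq_zero_or_pos k with rfl | hk
      · simp
      · exfalso
        exact T.not_dvd_index ((dvd_pow_self q hk.ne').trans hqk)
    · have : Fact q.Prime := ⟨hq⟩
      obtain ⟨S, ⟨U, hU⟩, hS⟩ := Cfsg.Agent.Lib.PGroupCoprimeAction.exists_invariant_sylow hA hQ hAQ' q
      have hSQ : S ≤ Q := by rw [← hU]; exact map_subtype_le _
      have hSp : IsPGroup q S := by rw [← hU]; exact U.isPGroup'.map _
      have hSC : S ≤ C := le_inf hSQ (h q hq hqr S hSQ hSp hS)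
      have h1 : q ^ k ∣ Nat.card Q := by
        refine hqk.trans ?_
        exact Subgroup.index_dvd_card _
      have h2 : q ^ k ∣ Nat.card (U : Subgroup Q) := U.pow_dvd_card_of_pow_dvd_card h1
      have h3 : Nat.card (U : Subgroup Q) = Nat.card S := by
        rw [← hU]; exact (card_map_of_injective (subtype_injective Q)).symm
      rw [h3] at h2
      exact h2.trans (card_dvd_of_le hSC)
  -- `Q = R C`
  have hprod : (Q : Set G) = (R : Set G) * (C : Set G) := by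
    apply Cfsg.Agent.Lib.ProductSet.coe_eq_mul_of_card_le hRQ inf_le_left
    obtain ⟨c, hc⟩ := hdiv
    have hcop : (T : Subgroup Q).index.Coprime (Nat.card (R ⊓ C : Subgroup G)) := by
      obtain ⟨n, hn⟩ := IsPGroup.iff_card.mp (hRp.to_le (inf_le_left : R ⊓ C ≤ R))
      rw [hn]
      apply Nat.Coprime.pow_right
      rw [Nat.coprime_comm, Nat.Prime.coprime_iff_not_dvd Fact.out]
      exact T.not_dvd_index
    have h1 : Nat.card (R ⊓ C : Subgroup G) ∣ Nat.card C := card_dvd_of_le inf_le_right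
    have h2 : (T : Subgroup Q).index * Nat.card (R ⊓ C : Subgroup G) ∣ Nat.card C :=
      hcop.mul_dvd_of_dvd_of_dvd ⟨c, hc⟩ h1
    have h3 : Nat.card Q = Nat.card (T : Subgroup Q) * (T : Subgroup Q).index := (card_mul_index _).symm
    rw [h3, hRcard, mul_assoc]
    exact Nat.mul_le_mul_left _ (Nat.le_of_dvd Nat.card_pos h2)
  -- `[Q, A] ≤ R`
  have hle : ⁅Q, A⁆ ≤ R := by
    rw [commutator_le]
    intro y hy a ha
    have hy' : y ∈ (R : Set G) * (C : Set G) := by rw [← hprod]; exact hy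
    obtain ⟨s, hs, c, hc, rfl⟩ := Set.mem_mul.mp hy'
    have hs' : s ∈ R := hs
    have hca : c * a = a * c := ((mem_centralizer_iff.mp (mem_inf.mp hc).2) a ha).symm
    have h1 : ⁅s * c, a⁆ = s * (a * s⁻¹ * a⁻¹) := by
      rw [commutatorElement_def]
      calc s * c * a * (s * c)⁻¹ * a⁻¹ = s * (c * a) * c⁻¹ * s⁻¹ * a⁻¹ := by group
        _ = s * (a * s⁻¹ * a⁻¹) := by rw [hca]; group
    rw [h1]
    exact mul_mem hs' (hR a ha s⁻¹ (inv_mem hs'))
  exact hRp.to_le hle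

theorem card_sl_two_two : Nat.card (Matrix.SpecialLinearGroup (Fin 2) (ZMod 2)) = 6 := by
  rw [Nat.card_eq_fintype_card]
  decide +kernel

theorem card_sl_two_three : Nat.card (Matrix.SpecialLinearGroup (Fin 2) (ZMod 3)) = 24 := by
  rw [Nat.card_eq_fintype_card]
  decide +kernel

/-- `SL(2,3)` is not metabelian. -/
theorem sl_two_three_not_metabelian : ∃ a b c d : Matrix.SpecialLinearGroup (Fin 2) (ZMod 3),
    ⁅a, b⁆ * ⁅c, d⁆ ≠ ⁅c, d⁆ * ⁅a, b⁆ := by
  refine ⟨⟨!![1, 1; 0, 1], by decide⟩, ⟨!![1, 0; 1, 1], by decide⟩, ⟨!![1, 1; 0, 1], by decide⟩,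
    ⟨!![1, 0; 2, 1], by decide⟩, ?_⟩
  decide +kernel

/-- If `A` is commutative and normalizes `N` then `[NA, NA] ≤ N`. -/
theorem commutator_sup_le {N A : Subgroup G} (hA : ∀ a ∈ A, ∀ b ∈ A, a * b = b * a)
    (hAN : A ≤ normalizer (N : Set G)) {x y : G} (hx : x ∈ N ⊔ A) (hy : y ∈ N ⊔ A) : ⁅x, y⁆ ∈ N := by
  have hset : (↑(N ⊔ A) : Set G) = N * A := coe_mul_of_right_le_normalizer_left N A hAN
  have hx' : x ∈ (N : Set G) * (A : Set G) := by rw [← hset]; exact hx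
  have hy' : y ∈ (N : Set G) * (A : Set G) := by rw [← hset]; exact hy
  obtain ⟨n₁, hn₁, a₁, ha₁, rfl⟩ := Set.mem_mul.mp hx'
  obtain ⟨n₂, hn₂, a₂, ha₂, rfl⟩ := Set.mem_mul.mp hy'
  have h1 : a₁ * n₂ * a₁⁻¹ ∈ N := (mem_normalizer_iff.mp (hAN ha₁) n₂).mp hn₂
  have h2 : a₂ * n₁⁻¹ * a₂⁻¹ ∈ N := (mem_normalizer_iff.mp (hAN ha₂) n₁⁻¹).mp (inv_mem hn₁)
  have h3 : ⁅n₁ * a₁, n₂ * a₂⁆ = n₁ * (a₁ * n₂ * a₁⁻¹) * (a₂ * n₁⁻¹ * a₂⁻¹) * n₂⁻¹ := by
    rw [commutatorElement_def]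
    calc n₁ * a₁ * (n₂ * a₂) * (n₁ * a₁)⁻¹ * (n₂ * a₂)⁻¹
        = n₁ * (a₁ * n₂ * a₁⁻¹) * (a₁ * a₂) * a₁⁻¹ * n₁⁻¹ * a₂⁻¹ * n₂⁻¹ := by group
      _ = _ := by rw [hA a₁ ha₁ a₂ ha₂]; group
  rw [h3]
  exact mul_mem (mul_mem (mul_mem hn₁ h1) h2) (inv_mem hn₂)

/-- The group generated by `A` and a conjugate `A^x`, `x ∈ S`, lies in `S A` (here `[S,A] A`). -/
theorem sup_conj_le {S A : Subgroup G} {x : G} (hx : x ∈ S) :
    A ⊔ A.map (MulAut.conj x).toMonoidHom ≤ ⁅S, A⁆ ⊔ A := by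
  refine sup_le le_sup_right ?_
  rintro _ ⟨a, ha, rfl⟩
  have : (MulAut.conj x).toMonoidHom a = ⁅x, a⁆ * a := by
    rw [commutatorElement_def]; simp
  rw [this]
  exact mul_mem (mem_sup_left (commutator_mem_commutator hx ha)) (mem_sup_right ha)

/-- A subgroup isomorphic to `SL(2,3)` does not lie in `N A` with `A` and `N` commutative. -/
theorem not_isMulCommutative {E N A : Subgroup G} (e : E ≃* Matrix.SpecialLinearGroup (Fin 2) (ZMod 3))
    (hE : E ≤ N ⊔ A) (hA : ∀ a ∈ A, ∀ b ∈ A, a * b = b * a) (hAN : A ≤ normalizer (N : Set G)) :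
    ¬ IsMulCommutative N := by
  intro hcomm
  obtain ⟨a, b, c, d, hne⟩ := sl_two_three_not_metabelian
  apply hne
  have h1 := commutator_sup_le hA hAN (hE (e.symm a).2) (hE (e.symm b).2)
  have h2 := commutator_sup_le hA hAN (hE (e.symm c).2) (hE (e.symm d).2)
  have h3 := congrArg Subtype.val (hcomm.is_comm.comm (⟨_, h1⟩ : N) ⟨_, h2⟩)
  have h4 : ⁅e.symm a, e.symm b⁆ * ⁅e.symm c, e.symm d⁆ = ⁅e.symm c, e.symm d⁆ * ⁅e.symm a, e.symm b⁆ :=
    Subtype.ext h3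
  have h5 := congrArg e h4
  simpa only [map_mul, map_commutatorElement, MulEquiv.apply_symm_apply] using h5

/-- cardinality of `S A`. -/
theorem card_sup_dvd {S A : Subgroup G} [Finite G] (hAS : A ≤ normalizer (S : Set G)) :
    Nat.card (S ⊔ A : Subgroup G) ∣ Nat.card S * Nat.card A := by
  have h1 := Cfsg.Agent.Lib.ProductSet.card_mul_card_inf S A
  have h2 : (↑(S ⊔ A) : Set G) = S * A := coe_mul_of_right_le_normalizer_left S A hAS
  rw [← h1, ← h2]
  exact dvd_mul_right _ _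

end Cfsg.Agent.PLocal.CoprimeRPart
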