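import Mathlib

/-!
Counting: a noncyclic group of order `p ^ 2` has exactly `p + 1` subgroups of order `p`
(equivalently of index `p`).
-/

set_option autoImplicit false

namespace Cfsg.Agent.PLocal.CountSubgroups

open Subgroup

/-- A noncyclic group of order `p ^ 2` has exactly `p + 1` subgroups of order `p`. -/
theorem card_subgroups_card_eq_prime {Q : Type*} [Group Q] {p : ℕ} [Fact p.Prime]
    (hQ : Nat.card Q = p ^ 2) (hcyc : ¬ IsCyclic Q) :
    Nat.card {H : Subgroup Q // Nat.card H = p} = p + 1 := by
  classical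
  have hp : p.Prime := Fact.out
  have hfin : Finite Q := Nat.finite_of_card_ne_zero (by rw [hQ]; exact pow_ne_zero _ hp.ne_zero)
  have hord : ∀ x : Q, x ≠ 1 → orderOf x = p := by
    intro x hx
    have h1 : orderOf x ∣ p ^ 2 := hQ ▸ orderOf_dvd_natCard x
    obtain ⟨k, hk, hk'⟩ := (Nat.dvd_prime_pow hp).mp h1
    interval_cases k
    · rw [pow_zero, orderOf_eq_one_iff] at hk'; exact absurd hk' hx
    · rw [hk', pow_one]
    · exfalso
      apply hcyc
      exact isCyclic_of_orderOf_eq_card x (by rw [hk', hQ])
  let f : {x : Q // x ≠ 1} → {H : Subgroup Q // Nat.card H = p} := fun x =>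
    ⟨Subgroup.zpowers x.1, by rw [Nat.card_zpowers]; exact hord x.1 x.2⟩
  have hfib : ∀ H : {H : Subgroup Q // Nat.card H = p}, Nat.card {x // f x = H} = p - 1 := by
    intro H
    have e : {x // f x = H} ≃ {x : H.1 // x ≠ 1} :=
      { toFun := fun x => ⟨⟨x.1.1, by
            have := congrArg Subtype.val x.2
            have h2 : Subgroup.zpowers x.1.1 = H.1 := this
            rw [← h2]; exact Subgroup.mem_zpowers _⟩, fun h => x.1.2 (congrArg Subtype.val h)⟩
        invFun := fun x => ⟨⟨x.1.1, fun h => x.2 (Subtype.ext h)⟩, by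
            apply Subtype.ext
            change Subgroup.zpowers (x.1.1 : Q) = H.1
            apply Subgroup.eq_of_le_of_card_ge
            · rw [Subgroup.zpowers_le]; exact x.1.2
            · rw [H.2, Nat.card_zpowers, hord _ (fun h => x.2 (Subtype.ext h))]⟩
        left_inv := fun x => rfl
        right_inv := fun x => rfl }
    rw [Nat.card_congr e]
    have : Nat.card {x : H.1 // x ≠ 1} = Nat.card H.1 - 1 := by
      have := Fintype.ofFinite H.1
      rw [Nat.card_eq_fintype_card, Nat.card_eq_fintype_card, Fintype.card_subtype_compl]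
      simp
    rw [this, H.2]
  have htot : Nat.card {x : Q // x ≠ 1} = Nat.card Q - 1 := by
    have := Fintype.ofFinite Q
    rw [Nat.card_eq_fintype_card, Nat.card_eq_fintype_card, Fintype.card_subtype_compl]
    simp
  have := Fintype.ofFinite {H : Subgroup Q // Nat.card H = p}
  have h1 : Nat.card {x : Q // x ≠ 1} =
      Nat.card {H : Subgroup Q // Nat.card H = p} * (p - 1) := by
    rw [← Nat.card_congr (Equiv.sigmaFiberEquiv f), Nat.card_sigma]
    simp only [hfib, Finset.sum_const, Finset.card_univ, smul_eq_mul]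
    rw [Nat.card_eq_fintype_card]
  rw [htot, hQ] at h1
  have h2 : p ^ 2 - 1 = (p + 1) * (p - 1) := by
    have := Nat.sq_sub_sq p 1
    simpa using this
  rw [h2] at h1
  have h3 : 0 < p - 1 := by have := hp.two_le; omega
  exact (Nat.eq_of_mul_eq_mul_right h3 h1).symm

/-- If `M` is a normal subgroup of index `p ^ 2` with noncyclic quotient, there are exactly `p + 1`
normal subgroups of index `p` containing `M`. -/
theorem card_normal_index_prime_of_le {G : Type*} [Group G] {p : ℕ} [Fact p.Prime]
    (M : Subgroup G) [M.Normal] (hM : M.index = p ^ 2) (hcyc : ¬ IsCyclic (G ⧸ M)) :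
    Nat.card {N : Subgroup G // M ≤ N ∧ N.index = p} = p + 1 := by
  have hp : p.Prime := Fact.out
  rw [← card_subgroups_card_eq_prime (Q := G ⧸ M) hM hcyc]
  refine Nat.card_congr
    { toFun := fun N => ⟨N.1.map (QuotientGroup.mk' M), ?_⟩
      invFun := fun H => ⟨H.1.comap (QuotientGroup.mk' M), ?_, ?_⟩
      left_inv := ?_
      right_inv := ?_ }
  · have h1 := Subgroup.index_map_eq (H := N.1) (f := QuotientGroup.mk' M) (QuotientGroup.mk'_surjective M) (by
      rw [QuotientGroup.ker_mk']; exact N.2.1)
    have h2 := Subgroup.card_mul_index (N.1.map (QuotientGroup.mk' M))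
    rw [h1, N.2.2] at h2
    have h3 : Nat.card (G ⧸ M) = p ^ 2 := hM
    rw [h3, pow_two] at h2
    exact Nat.eq_of_mul_eq_mul_right hp.pos h2
  · have := Subgroup.ker_le_comap (QuotientGroup.mk' M) H.1
    rwa [QuotientGroup.ker_mk'] at this
  · rw [Subgroup.index_comap_of_surjective _ (QuotientGroup.mk'_surjective M)]
    have h2 := Subgroup.card_mul_index H.1
    have h3 : Nat.card (G ⧸ M) = p ^ 2 := hM
    rw [h3, H.2, pow_two] at h2
    exact Nat.eq_of_mul_eq_mul_left hp.pos h2
  · intro N
    apply Subtype.ext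
    change (N.1.map (QuotientGroup.mk' M)).comap (QuotientGroup.mk' M) = N.1
    rw [Subgroup.comap_map_eq, QuotientGroup.ker_mk', sup_eq_left]
    exact N.2.1
  · intro H
    apply Subtype.ext
    change (H.1.comap (QuotientGroup.mk' M)).map (QuotientGroup.mk' M) = H.1
    exact Subgroup.map_comap_eq_self_of_surjective (QuotientGroup.mk'_surjective M) H.1

end Cfsg.Agent.PLocal.CountSubgroups
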