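import Mathlib

/-!
The centralizer of an endomorphism, as a submodule of the endomorphism algebra (used for Hall-Higman Theorem B).
-/

set_option autoImplicit false
open Module

namespace Cfsg.Agent.PLocal.HHBCent

/-- The centralizer of `X` in `End K V` as a submodule. -/
def cent {K V : Type*} [Field K] [AddCommGroup V] [Module K V] (X : Module.End K V) :
    Submodule K (Module.End K V) where
  carrier := {T | T * X = X * T}
  add_mem' := by
    intro a b ha hb
    simp only [Set.mem_ofPred_eq] at *
    rw [add_mul, mul_add, ha, hb]
  zero_mem' := by simp
  smul_mem' := by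
    intro c x hx
    simp only [Set.mem_ofPred_eq] at *
    rw [smul_mul_assoc, mul_smul_comm, hx]

theorem mem_cent {K V : Type*} [Field K] [AddCommGroup V] [Module K V] {X T : Module.End K V} :
    T ∈ cent X ↔ T * X = X * T := Iff.rfl

end Cfsg.Agent.PLocal.HHBCent
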