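import Mathlib

set_option autoImplicit false

/-!
The Clifford step in Theorem B of Hall and Higman: if `X` normalizes the representation `ρ` of `Q` on
`V`, there are an irreducible `Q`-submodule `U` with nontrivial action and an `s` such that
`X^(p^s)` stabilizes `U` and the translates `X^i U`, `i < p^s`, are independent.
-/

namespace Cfsg.Agent.PLocal.HHBClifford

variable {K : Type*} [Field K] {V : Type*} [AddCommGroup V] [Module K V]

section Twist

variable (A : Subalgebra K (Module.End K V)) (X : (Module.End K V)ˣ)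

/-- `X` normalizes the algebra `A` -/
def Nrm : Prop :=
  (∀ a ∈ A, (X : Module.End K V) * a * ((X⁻¹ : (Module.End K V)ˣ) : Module.End K V) ∈ A) ∧
    (∀ a ∈ A, ((X⁻¹ : (Module.End K V)ˣ) : Module.End K V) * a * (X : Module.End K V) ∈ A)

variable {A X}

theorem smul_def' (a : A) (v : V) : a • v = (a : Module.End K V) v := rfl

theorem inv_apply_apply (v : V) :
    ((X⁻¹ : (Module.End K V)ˣ) : Module.End K V) ((X : Module.End K V) v) = v := by
  rw [← Module.End.mul_apply, Units.inv_mul, Module.End.one_apply]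

theorem apply_inv_apply (v : V) :
    (X : Module.End K V) (((X⁻¹ : (Module.End K V)ˣ) : Module.End K V) v) = v := by
  rw [← Module.End.mul_apply, Units.mul_inv, Module.End.one_apply]

/-- the translate of a submodule by `X` -/
def tw (h : Nrm A X) : Submodule A V ≃o Submodule A V where
  toFun W :=
    { carrier := {v | ((X⁻¹ : (Module.End K V)ˣ) : Module.End K V) v ∈ W}
      add_mem' := by
        intro a b ha hb
        show _ ∈ W
        rw [map_add]; exact W.add_mem ha hb
      zero_mem' := by
        show _ ∈ W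
        rw [map_zero]; exact W.zero_mem
      smul_mem' := by
        intro a v hv
        show _ ∈ W
        have h1 := W.smul_mem ⟨_, h.2 a a.2⟩ hv
        rw [smul_def', Module.End.mul_apply, Module.End.mul_apply, apply_inv_apply] at h1
        exact h1 }
  invFun W :=
    { carrier := {v | (X : Module.End K V) v ∈ W}
      add_mem' := by
        intro a b ha hb
        show _ ∈ W
        rw [map_add]; exact W.add_mem ha hb
      zero_mem' := by
        show _ ∈ W
        rw [map_zero]; exact W.zero_mem
      smul_mem' := by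
        intro a v hv
        show _ ∈ W
        have h1 := W.smul_mem ⟨_, h.1 a a.2⟩ hv
        rw [smul_def', Module.End.mul_apply, Module.End.mul_apply, inv_apply_apply] at h1
        exact h1 }
  left_inv W := by
    ext v
    show ((X⁻¹ : (Module.End K V)ˣ) : Module.End K V) ((X : Module.End K V) v) ∈ W ↔ _
    rw [inv_apply_apply]
  right_inv W := by
    ext v
    show (X : Module.End K V) (((X⁻¹ : (Module.End K V)ˣ) : Module.End K V) v) ∈ W ↔ _
    rw [apply_inv_apply]
  map_rel_iff' := by
    intro W W'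
    constructor
    · intro hle v hv
      have : (X : Module.End K V) v ∈
          {v | ((X⁻¹ : (Module.End K V)ˣ) : Module.End K V) v ∈ W} := by
        show _ ∈ W
        rw [inv_apply_apply]; exact hv
      have h2 := hle this
      have h3 : ((X⁻¹ : (Module.End K V)ˣ) : Module.End K V) ((X : Module.End K V) v) ∈ W' := h2
      rwa [inv_apply_apply] at h3
    · intro hle v hv
      exact hle hv

theorem mem_tw (h : Nrm A X) (W : Submodule A V) (v : V) :
    v ∈ tw h W ↔ ((X⁻¹ : (Module.End K V)ˣ) : Module.End K V) v ∈ W := Iff.rfl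

theorem mem_tw_symm (h : Nrm A X) (W : Submodule A V) (v : V) :
    v ∈ (tw h).symm W ↔ (X : Module.End K V) v ∈ W := Iff.rfl

theorem apply_mem_tw (h : Nrm A X) {W : Submodule A V} {v : V} (hv : v ∈ W) :
    (X : Module.End K V) v ∈ tw h W := by
  rw [mem_tw, inv_apply_apply]; exact hv

/-- isomorphisms are transported by the twist -/
def twEquiv (h : Nrm A X) {m m' : Submodule A V} (e : m ≃ₗ[A] m') : tw h m ≃ₗ[A] tw h m' where
  toFun v := ⟨(X : Module.End K V) (e ⟨_, (mem_tw h m v).1 v.2⟩), apply_mem_tw h (e _).2⟩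
  invFun v := ⟨(X : Module.End K V) (e.symm ⟨_, (mem_tw h m' v).1 v.2⟩), apply_mem_tw h (e.symm _).2⟩
  map_add' := by
    rintro ⟨v, hv⟩ ⟨w, hw⟩
    apply Subtype.ext
    show (X : Module.End K V) (e ⟨_, _⟩) = (X : Module.End K V) (e ⟨_, _⟩) +
      (X : Module.End K V) (e ⟨_, _⟩)
    rw [← map_add, ← Submodule.coe_add, ← map_add]
    congr 3
    apply Subtype.ext
    show ((X⁻¹ : (Module.End K V)ˣ) : Module.End K V) (v + w) = _
    rw [map_add]; rfl
  map_smul' := by
    rintro a ⟨v, hv⟩
    apply Subtype.ext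
    show (X : Module.End K V) (e ⟨_, _⟩) = (a : Module.End K V) ((X : Module.End K V) (e ⟨_, _⟩))
    have h1 : (⟨((X⁻¹ : (Module.End K V)ˣ) : Module.End K V) (a • v),
        (mem_tw h m (a • v)).1 ((tw h m).smul_mem a hv)⟩ : m) =
        (⟨_, h.2 a a.2⟩ : A) • (⟨((X⁻¹ : (Module.End K V)ˣ) : Module.End K V) v,
          (mem_tw h m v).1 hv⟩ : m) := by
      apply Subtype.ext
      show ((X⁻¹ : (Module.End K V)ˣ) : Module.End K V) ((a : Module.End K V) v) =
        (((X⁻¹ : (Module.End K V)ˣ) : Module.End K V) * a * (X : Module.End K V))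
          (((X⁻¹ : (Module.End K V)ˣ) : Module.End K V) v)
      rw [Module.End.mul_apply, Module.End.mul_apply, apply_inv_apply]
    have h2 := congrArg (fun z : m => (X : Module.End K V) (e z)) h1
    simp only [map_smul] at h2
    refine h2.trans ?_
    show (X : Module.End K V) ((((X⁻¹ : (Module.End K V)ˣ) : Module.End K V) * a *
      (X : Module.End K V)) (e ⟨_, _⟩ : V)) = _
    rw [Module.End.mul_apply, Module.End.mul_apply, apply_inv_apply]
  left_inv := by
    rintro ⟨v, hv⟩
    apply Subtype.ext
    show (X : Module.End K V) (e.symm ⟨_, _⟩) = v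
    have h1 : (⟨((X⁻¹ : (Module.End K V)ˣ) : Module.End K V) ((X : Module.End K V)
      (e ⟨((X⁻¹ : (Module.End K V)ˣ) : Module.End K V) v, (mem_tw h m v).1 hv⟩)), by
        rw [inv_apply_apply]; exact (e _).2⟩ : m') =
        e ⟨((X⁻¹ : (Module.End K V)ˣ) : Module.End K V) v, (mem_tw h m v).1 hv⟩ := by
      apply Subtype.ext
      exact inv_apply_apply _
    have h2 := congrArg (fun z : m' => (X : Module.End K V) (e.symm z)) h1
    refine h2.trans ?_
    simp only [LinearEquiv.symm_apply_apply]
    exact apply_inv_apply _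
  right_inv := by
    rintro ⟨v, hv⟩
    apply Subtype.ext
    show (X : Module.End K V) (e ⟨_, _⟩) = v
    have h1 : (⟨((X⁻¹ : (Module.End K V)ˣ) : Module.End K V) ((X : Module.End K V)
      (e.symm ⟨((X⁻¹ : (Module.End K V)ˣ) : Module.End K V) v, (mem_tw h m' v).1 hv⟩)), by
        rw [inv_apply_apply]; exact (e.symm _).2⟩ : m) =
        e.symm ⟨((X⁻¹ : (Module.End K V)ˣ) : Module.End K V) v, (mem_tw h m' v).1 hv⟩ := by
      apply Subtype.ext
      exact inv_apply_apply _
    have h2 := congrArg (fun z : m => (X : Module.End K V) (e z)) h1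
    refine h2.trans ?_
    simp only [LinearEquiv.apply_symm_apply]
    exact apply_inv_apply _

theorem inv_nrm (h : Nrm A X) : Nrm A X⁻¹ := ⟨by simpa using h.2, by simpa using h.1⟩

theorem tw_symm_eq (h : Nrm A X) : (tw h).symm = tw (inv_nrm h) := by
  ext W v
  rw [mem_tw_symm, mem_tw, inv_inv]

theorem isSimple_tw (h : Nrm A X) {S : Submodule A V} (hS : IsSimpleModule A S) :
    IsSimpleModule A (tw h S) := by
  rw [isSimpleModule_iff_isAtom] at hS ⊢
  exact ((tw h).isAtom_iff S).2 hS

theorem tw_isotypicComponent (h : Nrm A X) (S : Submodule A V) :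
    tw h (isotypicComponent A V S) = isotypicComponent A V (tw h S) := by
  apply le_antisymm
  · rw [← OrderIso.le_symm_apply]
    refine sSup_le ?_
    rintro m ⟨e⟩
    rw [OrderIso.le_symm_apply]
    exact le_sSup ⟨twEquiv h e⟩
  · refine sSup_le ?_
    rintro m ⟨e⟩
    rw [← OrderIso.symm_apply_le, tw_symm_eq h]
    have e2 := twEquiv (inv_nrm h) e
    rw [← tw_symm_eq h, OrderIso.symm_apply_apply] at e2
    exact le_sSup ⟨e2⟩

theorem mem_tw_iterate (h : Nrm A X) (i : ℕ) : ∀ (W : Submodule A V) (v : V),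
    v ∈ (tw h)^[i] W ↔ (((X⁻¹ : (Module.End K V)ˣ) ^ i : (Module.End K V)ˣ) : Module.End K V) v ∈ W := by
  induction i with
  | zero => intro W v; simp
  | succ i ih =>
    intro W v
    rw [Function.iterate_succ_apply, ih, mem_tw, pow_succ', Units.val_mul, Module.End.mul_apply]

theorem apply_mem_tw_iterate (h : Nrm A X) (i : ℕ) {W : Submodule A V} {v : V} (hv : v ∈ W) :
    ((X : Module.End K V) ^ i) v ∈ (tw h)^[i] W := by
  rw [mem_tw_iterate, ← Units.val_pow_eq_pow_val, ← Module.End.mul_apply, ← Units.val_mul,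
    inv_pow, inv_mul_cancel, Units.val_one, Module.End.one_apply]
  exact hv

theorem isSimple_tw_iterate (h : Nrm A X) {S : Submodule A V} (hS : IsSimpleModule A S) (i : ℕ) :
    IsSimpleModule A ((tw h)^[i] S) := by
  induction i with
  | zero => exact hS
  | succ i ih =>
    rw [Function.iterate_succ_apply']
    exact isSimple_tw h ih

theorem tw_iterate_isotypicComponent (h : Nrm A X) (S : Submodule A V) (i : ℕ) :
    (tw h)^[i] (isotypicComponent A V S) = isotypicComponent A V ((tw h)^[i] S) := by
  induction i with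
  | zero => rfl
  | succ i ih =>
    rw [Function.iterate_succ_apply', Function.iterate_succ_apply', ih, tw_isotypicComponent]

theorem tw_iterate_mem_isotypicComponents (h : Nrm A X) {S : Submodule A V}
    (hS : IsSimpleModule A S) (i : ℕ) :
    (tw h)^[i] (isotypicComponent A V S) ∈ isotypicComponents A V :=
  ⟨_, isSimple_tw_iterate h hS i, tw_iterate_isotypicComponent h S i⟩

set_option maxHeartbeats 1000000 in
/-- the eigenvector argument: an isomorphism of `U` with its translate by `Y` gives a nonzero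
homomorphism of `U` into `V` whose image is stable under `Y`. -/
theorem exists_stable [IsAlgClosed K] [FiniteDimensional K V] (h : Nrm A X) {U : Submodule A V}
    (hU : IsSimpleModule A U) (θ : tw h U ≃ₗ[A] U) :
    ∃ f : U →ₗ[A] V, Function.Injective f ∧ IsSimpleModule A (LinearMap.range f) ∧
      ∀ v ∈ LinearMap.range f, (X : Module.End K V) v ∈ LinearMap.range f := by
  let Φ : Module.End K (U →ₗ[A] V) :=
    { toFun := fun f =>
        { toFun := fun u => (X : Module.End K V) (f ⟨_, (mem_tw h U _).1 (θ.symm u).2⟩)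
          map_add' := by
            intro u v
            rw [← map_add, ← map_add]
            congr 2
            apply Subtype.ext
            show ((X⁻¹ : (Module.End K V)ˣ) : Module.End K V) (θ.symm (u + v) : V) =
              ((X⁻¹ : (Module.End K V)ˣ) : Module.End K V) (θ.symm u : V) +
              ((X⁻¹ : (Module.End K V)ˣ) : Module.End K V) (θ.symm v : V)
            rw [← map_add, map_add]; rfl
          map_smul' := by
            intro a u
            have h1 : (⟨((X⁻¹ : (Module.End K V)ˣ) : Module.End K V) (θ.symm (a • u) : V),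
                (mem_tw h U _).1 (θ.symm (a • u)).2⟩ : U) =
                (⟨_, h.2 a a.2⟩ : A) • (⟨((X⁻¹ : (Module.End K V)ˣ) : Module.End K V)
                  (θ.symm u : V), (mem_tw h U _).1 (θ.symm u).2⟩ : U) := by
              apply Subtype.ext
              show ((X⁻¹ : (Module.End K V)ˣ) : Module.End K V) (θ.symm (a • u) : V) =
                (((X⁻¹ : (Module.End K V)ˣ) : Module.End K V) * a * (X : Module.End K V))
                  (((X⁻¹ : (Module.End K V)ˣ) : Module.End K V) (θ.symm u : V))
              rw [Module.End.mul_apply, Module.End.mul_apply, apply_inv_apply, map_smul]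
              rfl
            rw [h1, map_smul]
            show (X : Module.End K V) ((((X⁻¹ : (Module.End K V)ˣ) : Module.End K V) * a *
              (X : Module.End K V)) (f _)) = (a : Module.End K V) ((X : Module.End K V) (f _))
            rw [Module.End.mul_apply, Module.End.mul_apply, apply_inv_apply] }
      map_add' := by
        intro f g
        ext u
        show (X : Module.End K V) ((f + g) _) = (X : Module.End K V) (f _) +
          (X : Module.End K V) (g _)
        rw [LinearMap.add_apply, map_add]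
      map_smul' := by
        intro c f
        ext u
        show (X : Module.End K V) ((c • f) _) = c • (X : Module.End K V) (f _)
        rw [LinearMap.smul_apply, map_smul] }
  have hfin1 : Module.Finite K (U.restrictScalars K →ₗ[K] V) := inferInstance
  have hfin0 : Module.Finite K (U →ₗ[K] V) := hfin1
  have hfin : Module.Finite K (U →ₗ[A] V) :=
    Module.Finite.of_injective (LinearMap.restrictScalarsₗ K A U V K)
      (LinearMap.restrictScalars_injective _)
  have hUn : Nontrivial U := IsSimpleModule.nontrivial A U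
  have hnt : Nontrivial (U →ₗ[A] V) := by
    refine ⟨U.subtype, 0, ?_⟩
    intro h0
    obtain ⟨u, hu⟩ := exists_ne (0 : U)
    apply hu
    apply Subtype.ext
    exact LinearMap.congr_fun h0 u
  obtain ⟨c, hc⟩ := Module.End.exists_eigenvalue Φ
  obtain ⟨f, hf⟩ := hc.exists_hasEigenvector
  have hfinj : Function.Injective f := by
    rcases LinearMap.injective_or_eq_zero (R := A) (M := U) (N := V) f with h | h
    · exact h
    · exact absurd h hf.2
  let e : U ≃ₗ[A] LinearMap.range f := LinearEquiv.ofInjective f hfinj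
  refine ⟨f, hfinj, IsSimpleModule.congr (R := A) (M := LinearMap.range f) (N := U) e.symm, ?_⟩
  rintro _ ⟨u, rfl⟩
  have h1 : Φ f = c • f := hf.apply_eq_smul
  -- evaluate at `θ (X u)`
  let z : tw h U := ⟨(X : Module.End K V) u, apply_mem_tw h u.2⟩
  have h2 := LinearMap.congr_fun h1 (θ z)
  have h3 : Φ f (θ z) = (X : Module.End K V) (f u) := by
    show (X : Module.End K V) (f _) = _
    congr 2
    apply Subtype.ext
    show ((X⁻¹ : (Module.End K V)ˣ) : Module.End K V) (θ.symm (θ z) : V) = u
    rw [LinearEquiv.symm_apply_apply]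
    exact inv_apply_apply _
  rw [h3] at h2
  rw [h2, LinearMap.smul_apply]
  exact ((LinearMap.range f).restrictScalars K).smul_mem c ⟨θ z, rfl⟩

/-- distinct translates of an isotypic component are independent -/
theorem independent (h : Nrm A X) {S : Submodule A V} (hS : IsSimpleModule A S) (m : ℕ)
    (hm : Set.InjOn (fun i => (tw h)^[i] (isotypicComponent A V S)) (Set.Iio m))
    (w : ℕ → V) (hw : ∀ i < m, w i ∈ (tw h)^[i] (isotypicComponent A V S))
    (h0 : ∑ i ∈ Finset.range m, w i = 0) : ∀ i < m, w i = 0 := by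
  have hind : iSupIndep (fun i : Fin m => (tw h)^[(i : ℕ)] (isotypicComponent A V S)) := by
    have h1 := (sSupIndep_iff _).1 (sSupIndep_isotypicComponents A V)
    let f : Fin m → (isotypicComponents A V) := fun i =>
      ⟨(tw h)^[(i : ℕ)] (isotypicComponent A V S), tw_iterate_mem_isotypicComponents h hS i⟩
    have hf : Function.Injective f := by
      intro i j hij
      have h2 := congrArg Subtype.val hij
      exact Fin.ext (hm i.2 j.2 h2)
    exact h1.comp hf
  rw [iSupIndep_iff_finsetSum_eq_zero_imp_eq_zero] at hind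
  intro i hi
  refine hind Finset.univ (fun i => w i) (fun i _ => hw i i.2) ?_ ⟨i, hi⟩ (Finset.mem_univ _)
  rw [← h0, Finset.sum_range]

end Twist

section Group

variable {Q : Type*} [Group Q]

/-- the algebra generated by the image of `Q` -/
def alg (ρ : Q →* Module.End K V) : Subalgebra K (Module.End K V) :=
  Algebra.adjoin K (Set.range ρ)

theorem rho_mem_alg (ρ : Q →* Module.End K V) (h : Q) : ρ h ∈ alg ρ :=
  Algebra.subset_adjoin ⟨h, rfl⟩

theorem alg_apply_mem {ρ : Q →* Module.End K V} {S : Submodule K V}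
    (hS : ∀ h, ∀ u ∈ S, ρ h u ∈ S) {a : Module.End K V} (ha : a ∈ alg ρ) :
    ∀ v ∈ S, a v ∈ S := by
  induction ha using Algebra.adjoin_induction with
  | mem a ha =>
    obtain ⟨h, rfl⟩ := ha
    exact hS h
  | algebraMap c =>
    intro v hv
    rw [Module.algebraMap_end_apply]
    exact S.smul_mem c hv
  | add a b _ _ iha ihb => exact fun v hv => S.add_mem (iha v hv) (ihb v hv)
  | mul a b _ _ iha ihb => exact fun v hv => iha _ (ihb v hv)

/-- invariant subspaces are submodules -/
def toSub (ρ : Q →* Module.End K V) (S : Submodule K V) (hS : ∀ h, ∀ u ∈ S, ρ h u ∈ S) :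
    Submodule (alg ρ) V where
  carrier := S
  add_mem' := S.add_mem
  zero_mem' := S.zero_mem
  smul_mem' := fun a v hv => alg_apply_mem hS a.2 v hv

theorem mem_toSub {ρ : Q →* Module.End K V} {S : Submodule K V} {hS : ∀ h, ∀ u ∈ S, ρ h u ∈ S}
    {v : V} : v ∈ toSub ρ S hS ↔ v ∈ S := Iff.rfl

theorem rho_apply_mem {ρ : Q →* Module.End K V} (W : Submodule (alg ρ) V) (h : Q) {u : V}
    (hu : u ∈ W) : ρ h u ∈ W :=
  W.smul_mem ⟨ρ h, rho_mem_alg ρ h⟩ hu

/-- the elements normalizing `Q` normalize the algebra -/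
theorem nrm_alg {ρ : Q →* Module.End K V} {X : (Module.End K V)ˣ} {σ : MulAut Q}
    (hX : ∀ h, (X : Module.End K V) * ρ h = ρ (σ h) * X) : Nrm (alg ρ) X := by
  have h1 : ∀ h, (X : Module.End K V) * ρ h * ((X⁻¹ : (Module.End K V)ˣ) : Module.End K V) =
      ρ (σ h) := by
    intro h
    rw [hX, mul_assoc, Units.mul_inv, mul_one]
  have h2 : ∀ h, ((X⁻¹ : (Module.End K V)ˣ) : Module.End K V) * ρ h * (X : Module.End K V) =
      ρ (σ⁻¹ h) := by
    intro h
    have h3 := hX (σ⁻¹ h)
    rw [MulAut.apply_inv_self] at h3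
    rw [mul_assoc, ← h3, ← mul_assoc, Units.inv_mul, one_mul]
  constructor
  · intro a ha
    induction ha using Algebra.adjoin_induction with
    | mem a ha =>
      obtain ⟨h, rfl⟩ := ha
      rw [h1]
      exact rho_mem_alg ρ _
    | algebraMap c =>
      rw [← Algebra.commutes, mul_assoc, Units.mul_inv, mul_one]
      exact (alg ρ).algebraMap_mem c
    | add a b _ _ iha ihb =>
      rw [mul_add, add_mul]
      exact (alg ρ).add_mem iha ihb
    | mul a b _ _ iha ihb =>
      have : (X : Module.End K V) * (a * b) * ((X⁻¹ : (Module.End K V)ˣ) : Module.End K V) =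
          ((X : Module.End K V) * a * ((X⁻¹ : (Module.End K V)ˣ) : Module.End K V)) *
          ((X : Module.End K V) * b * ((X⁻¹ : (Module.End K V)ˣ) : Module.End K V)) := by
        rw [mul_assoc, mul_assoc, mul_assoc, mul_assoc, mul_assoc, ← mul_assoc _ (X : Module.End K V),
          Units.inv_mul, one_mul]
      rw [this]
      exact (alg ρ).mul_mem iha ihb
  · intro a ha
    induction ha using Algebra.adjoin_induction with
    | mem a ha =>
      obtain ⟨h, rfl⟩ := ha
      rw [h2]
      exact rho_mem_alg ρ _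
    | algebraMap c =>
      rw [← Algebra.commutes, mul_assoc, Units.inv_mul, mul_one]
      exact (alg ρ).algebraMap_mem c
    | add a b _ _ iha ihb =>
      rw [mul_add, add_mul]
      exact (alg ρ).add_mem iha ihb
    | mul a b _ _ iha ihb =>
      have : ((X⁻¹ : (Module.End K V)ˣ) : Module.End K V) * (a * b) * (X : Module.End K V) =
          (((X⁻¹ : (Module.End K V)ˣ) : Module.End K V) * a * (X : Module.End K V)) *
          (((X⁻¹ : (Module.End K V)ˣ) : Module.End K V) * b * (X : Module.End K V)) := by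
        rw [mul_assoc, mul_assoc, mul_assoc, mul_assoc, mul_assoc,
          ← mul_assoc (X : Module.End K V), Units.mul_inv, one_mul]
      rw [this]
      exact (alg ρ).mul_mem iha ihb

/-- existence of an irreducible submodule with nontrivial action -/
theorem exists_simple [FiniteDimensional K V] [Finite Q] (hcard : (Nat.card Q : K) ≠ 0)
    (ρ : Q →* Module.End K V) (hρ : ∃ h, ρ h ≠ 1) :
    ∃ W : Submodule (alg ρ) V, IsSimpleModule (alg ρ) W ∧ ∃ h, ∃ w ∈ W, ρ h w ≠ w := by
  classical
  have := Fintype.ofFinite Q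
  have hart : IsArtinian (alg ρ) V := isArtinian_of_tower K inferInstance
  let P : Set (Submodule (alg ρ) V) := {W | ∃ h, ∃ w ∈ W, ρ h w ≠ w}
  have hP : P.Nonempty := by
    obtain ⟨h, hh⟩ := hρ
    refine ⟨⊤, h, ?_⟩
    by_contra hcon
    push Not at hcon
    exact hh (LinearMap.ext fun w => hcon w trivial)
  obtain ⟨W, hW, hmin⟩ := WellFounded.has_min (wellFounded_lt (α := Submodule (alg ρ) V)) P hP
  have hmin' : ∀ W' : Submodule (alg ρ) V, W' < W → ∀ h, ∀ w ∈ W', ρ h w = w := by
    intro W' hlt h w hw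
    by_contra hne
    exact hmin W' ⟨h, w, hw, hne⟩ hlt
  -- the sum over the group
  let e : Module.End K V := ∑ h : Q, ρ h
  have he1 : ∀ g, e * ρ g = e := by
    intro g
    show (∑ h : Q, ρ h) * ρ g = ∑ h : Q, ρ h
    rw [Finset.sum_mul]
    exact Fintype.sum_equiv (Equiv.mulRight g) (fun h => ρ h * ρ g) ρ
      (fun h => by rw [Equiv.coe_mulRight, map_mul])
  have he2 : ∀ g, ρ g * e = e := by
    intro g
    show ρ g * (∑ h : Q, ρ h) = ∑ h : Q, ρ h
    rw [Finset.mul_sum]
    exact Fintype.sum_equiv (Equiv.mulLeft g) (fun h => ρ g * ρ h) ρ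
      (fun h => by rw [Equiv.coe_mulLeft, map_mul])
  have heW : ∀ w ∈ W, e w ∈ W := by
    intro w hw
    show (∑ h : Q, ρ h) w ∈ W
    rw [LinearMap.sum_apply]
    exact W.sum_mem fun h _ => rho_apply_mem W h hw
  have hefix : ∀ w : V, (∀ h, ρ h w = w) → e w = (Nat.card Q : K) • w := by
    intro w hw
    show (∑ h : Q, ρ h) w = _
    rw [LinearMap.sum_apply, Finset.sum_congr rfl fun h _ => hw h, Finset.sum_const,
      Finset.card_univ, Nat.card_eq_fintype_card, Nat.cast_smul_eq_nsmul]
  -- the kernel of `e` on `W`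
  let S : Submodule K V := (W.restrictScalars K) ⊓ LinearMap.ker e
  have hS : ∀ h, ∀ u ∈ S, ρ h u ∈ S := by
    rintro h u ⟨hu1, hu2⟩
    refine ⟨rho_apply_mem W h hu1, ?_⟩
    show e (ρ h u) = 0
    rw [← Module.End.mul_apply, he1]
    exact hu2
  have hSW : toSub ρ S hS = W := by
    by_contra hne
    have hlt : toSub ρ S hS < W := lt_of_le_of_ne (fun v hv => hv.1) hne
    have htriv := hmin' _ hlt
    obtain ⟨g, w, hw, hgw⟩ := hW
    apply hgw
    set c : K := (Nat.card Q : K) with hc
    -- `c w - e w` is in `S`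
    have h1 : c • w - e w ∈ toSub ρ S hS := by
      refine ⟨?_, ?_⟩
      · show c • w - e w ∈ W
        refine W.sub_mem ?_ (heW w hw)
        exact (W.restrictScalars K).smul_mem c hw
      · show e (c • w - e w) = 0
        have h2 : e (e w) = c • e w := by
          rw [hefix (e w) (fun h => by rw [← Module.End.mul_apply, he2])]
        rw [map_sub, map_smul, h2, sub_self]
    have h3 := htriv g _ h1
    rw [map_sub, map_smul, ← Module.End.mul_apply, he2] at h3
    have h4 : c • ρ g w = c • w := sub_left_injective h3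
    exact smul_right_injective V hcard h4
  refine ⟨W, ?_, hW⟩
  rw [isSimpleModule_iff_isAtom]
  refine ⟨?_, ?_⟩
  · rintro rfl
    obtain ⟨g, w, hw, hgw⟩ := hW
    rw [Submodule.mem_bot] at hw
    rw [hw, map_zero] at hgw
    exact hgw rfl
  · intro W' hlt
    rw [Submodule.eq_bot_iff]
    intro w hw
    have h1 := hefix w (fun h => hmin' W' hlt h w hw)
    have h2 : w ∈ toSub ρ S hS := by rw [hSW]; exact hlt.le hw
    have h3 : e w = 0 := h2.2
    rw [h3] at h1
    rcases smul_eq_zero.1 h1.symm with h | h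
    · exact absurd h hcard
    · exact h

set_option backward.isDefEq.respectTransparency false in
/-- **Clifford step.** -/
theorem clifford [IsAlgClosed K] {p : ℕ} [Fact p.Prime] [FiniteDimensional K V] [Finite Q]
    (hcard : (Nat.card Q : K) ≠ 0) (ρ : Q →* Module.End K V) (X : (Module.End K V)ˣ) (σ : MulAut Q)
    (hX : ∀ h, (X : Module.End K V) * ρ h = ρ (σ h) * X) (n : ℕ) (hXn : X ^ (p ^ n) = 1)
    (hρ : ∃ h, ρ h ≠ 1) :
    ∃ s ≤ n, ∃ U : Submodule K V, U ≠ ⊥ ∧ (∀ h, ∀ u ∈ U, ρ h u ∈ U) ∧
      (∀ S ≤ U, (∀ h, ∀ u ∈ S, ρ h u ∈ S) → S = ⊥ ∨ S = U) ∧ (∃ h, ∃ u ∈ U, ρ h u ≠ u) ∧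
      (∀ u ∈ U, ((X : Module.End K V) ^ (p ^ s)) u ∈ U) ∧
      (∀ u ∈ U, ∑ i ∈ Finset.range (p ^ s), ((X : Module.End K V) ^ i) u = 0 → u = 0) := by
  obtain ⟨U₀, hU₀, g₀, w₀, hw₀, hgw₀⟩ := exists_simple hcard ρ hρ
  have hN := nrm_alg hX
  set C := isotypicComponent (alg ρ) V U₀ with hC
  -- the period
  have hper : Function.IsPeriodicPt (tw hN) (p ^ n) C := by
    show (tw hN)^[p ^ n] C = C
    ext v
    rw [mem_tw_iterate, inv_pow, hXn, inv_one, Units.val_one, Module.End.one_apply]
  obtain ⟨s, hs, hms⟩ := (Nat.dvd_prime_pow (Fact.out : p.Prime)).1 hper.minimalPeriod_dvd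
  have hpos : 0 < p ^ s := pow_pos (Fact.out : p.Prime).pos s
  have hCs : (tw hN)^[p ^ s] C = C := by
    rw [← hms]
    exact Function.iterate_minimalPeriod
  have hinj : Set.InjOn (fun i => (tw hN)^[i] C) (Set.Iio (p ^ s)) := by
    rw [← hms]
    exact Function.iterate_injOn_Iio_minimalPeriod
  -- the stabilizer
  have hYρ : ∀ m : ℕ, ∀ h, ((X ^ m : (Module.End K V)ˣ) : Module.End K V) * ρ h =
      ρ ((σ ^ m) h) * ((X ^ m : (Module.End K V)ˣ) : Module.End K V) := by
    intro m
    induction m with
    | zero => intro h; simp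
    | succ m ih =>
      intro h
      rw [pow_succ', Units.val_mul, mul_assoc, ih, ← mul_assoc, hX, pow_succ', MulAut.mul_apply,
        mul_assoc]
  have hN' := nrm_alg (hYρ (p ^ s))
  have htw : ∀ W : Submodule (alg ρ) V, tw hN' W = (tw hN)^[p ^ s] W := by
    intro W
    ext v
    rw [mem_tw_iterate, mem_tw, inv_pow]
  have hθ : Nonempty (tw hN' U₀ ≃ₗ[alg ρ] U₀) := by
    have h1 : IsIsotypicOfType (alg ρ) C U₀ := IsIsotypicOfType.isotypicComponent (alg ρ) V U₀
    have h2 : tw hN' U₀ ≤ C := by
      rw [← hCs, ← htw]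
      exact (tw hN').monotone (Submodule.le_isotypicComponent U₀)
    have h3 := isSimple_tw hN' hU₀
    exact isIsotypicOfType_submodule_iff.1 h1 _ h2
  obtain ⟨θ⟩ := hθ
  obtain ⟨f, hfinj, hsimple, hfX⟩ := exists_stable hN' hU₀ θ
  let e : U₀ ≃ₗ[alg ρ] LinearMap.range f := LinearEquiv.ofInjective f hfinj
  have hatom : IsAtom (LinearMap.range f) := isSimpleModule_iff_isAtom.1 hsimple
  have hle : LinearMap.range f ≤ C := le_sSup ⟨e.symm⟩
  refine ⟨s, hs, (LinearMap.range f).restrictScalars K, ?_, ?_, ?_, ?_, ?_, ?_⟩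
  · intro h0
    apply hatom.1
    rw [Submodule.eq_bot_iff]
    intro v hv
    have : v ∈ (LinearMap.range f).restrictScalars K := hv
    rw [h0] at this
    exact this
  · exact fun h u hu => rho_apply_mem _ h hu
  · intro S hSU hS
    rcases (hatom.le_iff).1 (show toSub ρ S hS ≤ LinearMap.range f from hSU) with h | h
    · left
      rw [Submodule.eq_bot_iff]
      intro v hv
      have : v ∈ toSub ρ S hS := hv
      rw [h] at this
      exact this
    · right
      ext v
      have h2 : v ∈ toSub ρ S hS ↔ v ∈ LinearMap.range f := by rw [h]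
      exact h2
  · refine ⟨g₀, f ⟨w₀, hw₀⟩, ⟨_, rfl⟩, ?_⟩
    intro heq
    apply hgw₀
    have h1 := f.map_smul (⟨ρ g₀, rho_mem_alg ρ g₀⟩ : alg ρ) (⟨w₀, hw₀⟩ : U₀)
    exact congrArg Subtype.val (hfinj (h1.trans heq))
  · intro u hu
    have := hfX u hu
    rwa [Units.val_pow_eq_pow_val] at this
  · intro u hu hsum
    have h1 := independent hN hU₀ (p ^ s) hinj (fun i => ((X : Module.End K V) ^ i) u)
      (fun i _ => apply_mem_tw_iterate hN i (hle hu)) hsum 0 hpos
    simpa using h1

end Group

end Cfsg.Agent.PLocal.HHBClifford
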