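import Mathlib

set_option autoImplicit false

/-!
Identities for unipotent elements of `p`-power order in characteristic `p`, used in the proof of
Theorem B of Hall and Higman.
-/

namespace Cfsg.Agent.PLocal.HHBUnip

open Polynomial

variable {K : Type*} [Field K] (p : ℕ) [Fact p.Prime] [CharP K p]

include p in
/-- `1 + X + ⋯ + X^(p^k - 1) = (X - 1)^(p^k - 1)` in characteristic `p`. -/
theorem poly_geom (k : ℕ) :
    ∑ i ∈ Finset.range (p ^ k), (X : K[X]) ^ i = (X - 1) ^ (p ^ k - 1) := by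
  have h1 : (X - 1 : K[X]) ≠ 0 := by simpa using X_sub_C_ne_zero (1 : K)
  have hpos : 0 < p ^ k := pow_pos (Fact.out : p.Prime).pos k
  have h2 : (∑ i ∈ Finset.range (p ^ k), (X : K[X]) ^ i) * (X - 1) =
      (X - 1) ^ (p ^ k - 1) * (X - 1) := by
    rw [geom_sum_mul, ← pow_succ, Nat.sub_add_cancel hpos, sub_pow_char_pow, one_pow]
  exact mul_right_cancel₀ h1 h2

include p in
/-- the derived identity: `∑ i X^i = - X (X - 1)^(p^k - 2)`. -/
theorem poly_geom' (k : ℕ) (hk : 1 ≤ k) :
    ∑ i ∈ Finset.range (p ^ k), (i : K[X]) * (X : K[X]) ^ i = - (X * (X - 1) ^ (p ^ k - 2)) := by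
  have h := congrArg derivative (poly_geom (K := K) p k)
  have hp2 : 2 ≤ p ^ k := by
    calc 2 ≤ p := (Fact.out : p.Prime).two_le
      _ = p ^ 1 := (pow_one p).symm
      _ ≤ p ^ k := Nat.pow_le_pow_right (Fact.out : p.Prime).pos hk
  rw [derivative_sum, derivative_pow] at h
  have hc : ((p ^ k - 1 : ℕ) : K) = -1 := by
    rw [Nat.cast_sub (by omega)]
    have : ((p ^ k : ℕ) : K) = 0 := by
      rw [Nat.cast_pow, CharP.cast_eq_zero, zero_pow (by omega)]
    rw [this]; simp
  rw [hc] at h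
  have h3 : derivative (X - 1 : K[X]) = 1 := by simp
  rw [h3] at h
  have h4 := congrArg (fun f => X * f) h
  simp only [Finset.mul_sum] at h4
  have h5 : p ^ k - 1 - 1 = p ^ k - 2 := by omega
  rw [h5] at h4
  calc ∑ i ∈ Finset.range (p ^ k), (i : K[X]) * (X : K[X]) ^ i
      = ∑ i ∈ Finset.range (p ^ k), X * derivative ((X : K[X]) ^ i) := by
        refine Finset.sum_congr rfl fun i _ => ?_
        rcases Nat.eq_zero_or_pos i with hi | hi
        · subst hi; simp
        · rw [derivative_X_pow]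
          obtain ⟨j, rfl⟩ : ∃ j, i = j + 1 := ⟨i - 1, by omega⟩
          simp only [Nat.add_sub_cancel, pow_succ]
          simp
          ring
    _ = _ := by rw [h4]; simp

variable (K) {A : Type*} [Ring A] [Algebra K A]

include K p in
theorem geom_eq (Y : A) (k : ℕ) :
    ∑ i ∈ Finset.range (p ^ k), Y ^ i = (Y - 1) ^ (p ^ k - 1) := by
  have h := congrArg (aeval Y) (poly_geom (K := K) p k)
  simpa using h

include K p in
theorem geom_eq' (Y : A) (k : ℕ) (hk : 1 ≤ k) :
    ∑ i ∈ Finset.range (p ^ k), (i : A) * Y ^ i = - (Y * (Y - 1) ^ (p ^ k - 2)) := by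
  have h := congrArg (aeval Y) (poly_geom' (K := K) p k hk)
  simpa using h

end Cfsg.Agent.PLocal.HHBUnip
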