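import Mathlib
import Cfsg.Agent.PLocal.HHBUnip

set_option autoImplicit false

/-!
The Jordan structure of a unipotent `Y` of order `p^k` such that every operator commuting with `Y`
is a scalar plus a trace: used in Theorem B of Hall and Higman.
-/

namespace Cfsg.Agent.PLocal.HHBJordan

open Cfsg.Agent.PLocal.HHBUnip

variable {K : Type*} [Field K] {U : Type*} [AddCommGroup U] [Module K U]

/-- the trace of `E` over the powers of `Y` -/
noncomputable def tr (Y : (Module.End K U)ˣ) (N : ℕ) (E : Module.End K U) : Module.End K U :=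
  ∑ i ∈ Finset.range N,
    ((Y ^ i : (Module.End K U)ˣ) : Module.End K U) * E * ((Y ^ i)⁻¹ : (Module.End K U)ˣ)

/-- every operator commuting with `Y` is a scalar plus a trace -/
def Decomp (Y : (Module.End K U)ˣ) (N : ℕ) : Prop :=
  ∀ T : Module.End K U, (Y : Module.End K U) * T = T * Y →
    ∃ (c : K) (E : Module.End K U), T = c • 1 + tr Y N E

variable {Y : (Module.End K U)ˣ}

theorem pow_inv_fixed {w : U} (hw : (Y : Module.End K U) w = w) (i : ℕ) :
    ((Y ^ i)⁻¹ : (Module.End K U)ˣ).val w = w := by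
  have h1 : ((Y ^ i : (Module.End K U)ˣ) : Module.End K U) w = w := by
    induction i with
    | zero => simp
    | succ i ih => rw [pow_succ', Units.val_mul, Module.End.mul_apply, ih, hw]
  have h2 : (((Y ^ i)⁻¹ : (Module.End K U)ˣ) : Module.End K U) *
      ((Y ^ i : (Module.End K U)ˣ) : Module.End K U) = 1 := Units.inv_mul _
  calc ((Y ^ i)⁻¹ : (Module.End K U)ˣ).val w
      = ((Y ^ i)⁻¹ : (Module.End K U)ˣ).val (((Y ^ i : (Module.End K U)ˣ) : Module.End K U) w) := by
        rw [h1]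
    _ = w := by rw [← Module.End.mul_apply, h2, Module.End.one_apply]

theorem pow_inv_second {w₁ w₂ : U} (hw₁ : (Y : Module.End K U) w₁ = w₁)
    (hw₂ : (Y : Module.End K U) w₂ = w₂ + w₁) (i : ℕ) :
    ((Y ^ i)⁻¹ : (Module.End K U)ˣ).val w₂ = w₂ - (i : K) • w₁ := by
  have h1 : ((Y ^ i : (Module.End K U)ˣ) : Module.End K U) w₂ = w₂ + (i : K) • w₁ := by
    induction i with
    | zero => simp
    | succ i ih =>
      rw [pow_succ', Units.val_mul, Module.End.mul_apply, ih, map_add, map_smul, hw₁, hw₂]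
      push_cast
      rw [add_smul, one_smul]
      abel
  have h2 : (((Y ^ i)⁻¹ : (Module.End K U)ˣ) : Module.End K U) *
      ((Y ^ i : (Module.End K U)ˣ) : Module.End K U) = 1 := Units.inv_mul _
  have h3 : w₂ = ((Y ^ i : (Module.End K U)ˣ) : Module.End K U) w₂ - (i : K) • w₁ := by
    rw [h1]; abel
  have h4 := congrArg (((Y ^ i)⁻¹ : (Module.End K U)ˣ) : Module.End K U) h3
  rw [map_sub, map_smul, pow_inv_fixed hw₁, ← Module.End.mul_apply, h2,
    Module.End.one_apply] at h4
  exact h4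

variable (p : ℕ) [Fact p.Prime] [CharP K p]

theorem val_pow (i : ℕ) : ((Y ^ i : (Module.End K U)ˣ) : Module.End K U) =
    (Y : Module.End K U) ^ i := by simp

include p in
theorem tr_fixed (k : ℕ) (E : Module.End K U) {w : U} (hw : (Y : Module.End K U) w = w) :
    tr Y (p ^ k) E w = (((Y : Module.End K U) - 1) ^ (p ^ k - 1)) (E w) := by
  unfold tr
  rw [← geom_eq K p, LinearMap.sum_apply, LinearMap.sum_apply]
  refine Finset.sum_congr rfl fun i _ => ?_
  rw [Module.End.mul_apply, Module.End.mul_apply, pow_inv_fixed hw, val_pow]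

include p in
theorem tr_second (k : ℕ) (hk : 1 ≤ k) (E : Module.End K U) {w₁ w₂ : U}
    (hw₁ : (Y : Module.End K U) w₁ = w₁) (hw₂ : (Y : Module.End K U) w₂ = w₂ + w₁) :
    tr Y (p ^ k) E w₂ = (((Y : Module.End K U) - 1) ^ (p ^ k - 1)) (E w₂) +
      ((Y : Module.End K U) * ((Y : Module.End K U) - 1) ^ (p ^ k - 2)) (E w₁) := by
  have h1 : ((Y : Module.End K U) * ((Y : Module.End K U) - 1) ^ (p ^ k - 2)) =
      - ∑ i ∈ Finset.range (p ^ k), (i : Module.End K U) * (Y : Module.End K U) ^ i := by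
    rw [geom_eq' K p _ k hk, neg_neg]
  unfold tr
  rw [← geom_eq K p, h1, LinearMap.sum_apply, LinearMap.sum_apply, LinearMap.neg_apply,
    LinearMap.sum_apply, ← sub_eq_add_neg, ← Finset.sum_sub_distrib]
  refine Finset.sum_congr rfl fun i _ => ?_
  rw [Module.End.mul_apply, Module.End.mul_apply, pow_inv_second hw₁ hw₂, val_pow, map_sub,
    map_smul, map_sub, map_smul, Module.End.mul_apply]
  congr 1
  rw [Nat.cast_smul_eq_nsmul]
  simp

include p in
/-- `(Y - 1)^(p^k - 2) ≠ 0`. -/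
theorem pow_ne_zero_of_decomp [Nontrivial U] (k : ℕ) (hk : 1 ≤ k) (hD : Decomp Y (p ^ k))
    (hY : (Y : Module.End K U) - 1 ≠ 0) : ((Y : Module.End K U) - 1) ^ (p ^ k - 2) ≠ 0 := by
  intro h0
  set ν : Module.End K U := (Y : Module.End K U) - 1 with hν
  have hex : ∃ j, ν ^ j = 0 := ⟨_, h0⟩
  classical
  set j := Nat.find hex with hj
  have hj0 : ν ^ j = 0 := Nat.find_spec hex
  have hjmin : ∀ m < j, ν ^ m ≠ 0 := fun m hm => Nat.find_min hex hm
  have hj2 : 2 ≤ j := by
    by_contra hlt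
    have : j = 0 ∨ j = 1 := by omega
    rcases this with h | h
    · rw [h, pow_zero] at hj0
      exact one_ne_zero hj0
    · rw [h, pow_one] at hj0
      exact hY hj0
  have h1 : ∃ w, (ν ^ (j - 1)) w ≠ 0 := by
    by_contra hcon
    push Not at hcon
    exact hjmin (j - 1) (by omega) (LinearMap.ext hcon)
  obtain ⟨w, hw⟩ := h1
  set w₂ := (ν ^ (j - 2)) w with hw₂
  set w₁ := (ν ^ (j - 1)) w with hw₁
  have h2 : ν w₂ = w₁ := by
    rw [hw₂, hw₁, ← Module.End.mul_apply, ← pow_succ']
    congr 2; omega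
  have h3 : ν w₁ = 0 := by
    rw [hw₁, ← Module.End.mul_apply, ← pow_succ']
    have : j - 1 + 1 = j := by omega
    rw [this, hj0, LinearMap.zero_apply]
  have hYw₁ : (Y : Module.End K U) w₁ = w₁ := by
    have : (Y : Module.End K U) w₁ = ν w₁ + w₁ := by rw [hν]; simp
    rw [this, h3, zero_add]
  have hYw₂ : (Y : Module.End K U) w₂ = w₂ + w₁ := by
    have : (Y : Module.End K U) w₂ = ν w₂ + w₂ := by rw [hν]; simp
    rw [this, h2, add_comm]
  have hcomm : (Y : Module.End K U) * ν = ν * Y := by rw [hν]; noncomm_ring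
  obtain ⟨c, E, hcE⟩ := hD ν hcomm
  have h4 : ν ^ (p ^ k - 1) = 0 := by
    have : p ^ k - 1 = (p ^ k - 2) + (p ^ k - 1 - (p ^ k - 2)) := by omega
    rw [this, pow_add, h0, zero_mul]
  have h5 : c • w₁ = 0 := by
    have := LinearMap.congr_fun hcE w₁
    rw [h3, LinearMap.add_apply, tr_fixed p k E hYw₁, ← hν, h4] at this
    simpa using this.symm
  have h6 : c = 0 := by
    rcases smul_eq_zero.1 h5 with h | h
    · exact h
    · exact absurd h hw
  have h7 := LinearMap.congr_fun hcE w₂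
  rw [h2, LinearMap.add_apply, tr_second p k hk E hYw₁ hYw₂, ← hν, h4, h0, h6] at h7
  apply hw
  simpa using h7

include p in
/-- If `(Y - 1)^(p^k - 1) = 0` then `U` is a single Jordan block of size `p^k - 1`. -/
theorem finrank_eq_of_decomp [FiniteDimensional K U] [Nontrivial U] (k : ℕ) (hk : 1 ≤ k)
    (hD : Decomp Y (p ^ k)) (hY : (Y : Module.End K U) - 1 ≠ 0)
    (h0 : ((Y : Module.End K U) - 1) ^ (p ^ k - 1) = 0) : Module.finrank K U = p ^ k - 1 := by
  have hne := pow_ne_zero_of_decomp p k hk hD hY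
  have hp2 : 2 ≤ p ^ k := by
    calc 2 ≤ p := (Fact.out : p.Prime).two_le
      _ = p ^ 1 := (pow_one p).symm
      _ ≤ p ^ k := Nat.pow_le_pow_right (Fact.out : p.Prime).pos hk
  set ν : Module.End K U := (Y : Module.End K U) - 1 with hν
  obtain ⟨s, hs⟩ : ∃ s, p ^ k - 1 = s + 1 := ⟨p ^ k - 2, by omega⟩
  have hs' : p ^ k - 2 = s := by omega
  have hYν : ∀ u, (Y : Module.End K U) u = ν u + u := by intro u; rw [hν]; simp
  rw [hs'] at hne
  rw [hs] at h0 ⊢
  -- a cyclic vector
  have h1 : ∃ v, (ν ^ s) v ≠ 0 := by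
    by_contra hcon
    push Not at hcon
    exact hne (LinearMap.ext hcon)
  obtain ⟨v, hv⟩ := h1
  set w₀ := (ν ^ s) v with hw₀
  obtain ⟨ψ, hψ⟩ : ∃ ψ : Module.Dual K U, ψ w₀ = 1 :=
    Module.Projective.exists_dual_eq_one K hv
  -- an operator commuting with `ν`
  let T : Module.End K U := ∑ i ∈ Finset.range (s + 1),
    (ψ ∘ₗ (ν ^ (s - i))).smulRight ((ν ^ i) v)
  have hT : ∀ u, T u = ∑ i ∈ Finset.range (s + 1), ψ ((ν ^ (s - i)) u) • (ν ^ i) v := by
    intro u
    simp [T, LinearMap.sum_apply]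
  have hνpow : ∀ (i : ℕ) (u : U), (ν ^ i) (ν u) = (ν ^ (i + 1)) u := by
    intro i u
    rw [pow_succ, Module.End.mul_apply]
  have hνpow' : ∀ (i : ℕ) (u : U), ν ((ν ^ i) u) = (ν ^ (i + 1)) u := by
    intro i u
    rw [pow_succ', Module.End.mul_apply]
  have hTν : ∀ u, T (ν u) = ν (T u) := by
    intro u
    rw [hT, hT, map_sum, Finset.sum_range_succ', Finset.sum_range_succ]
    have e1 : ψ ((ν ^ (s - 0)) (ν u)) • (ν ^ 0) v = 0 := by
      rw [hνpow, Nat.sub_zero, h0, LinearMap.zero_apply, map_zero, zero_smul]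
    have e2 : ν (ψ ((ν ^ (s - s)) u) • (ν ^ s) v) = 0 := by
      rw [map_smul, hνpow', h0, LinearMap.zero_apply, smul_zero]
    rw [e1, e2, add_zero, add_zero]
    refine Finset.sum_congr rfl fun i hi => ?_
    have hi' := Finset.mem_range.1 hi
    have : s - (i + 1) + 1 = s - i := by omega
    rw [map_smul, hνpow, hνpow', this]
  have hTY : (Y : Module.End K U) * T = T * Y := by
    ext u
    rw [Module.End.mul_apply, Module.End.mul_apply, hYν, hYν, map_add, hTν]
  obtain ⟨c, E, hcE⟩ := hD T hTY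
  have hker : ∀ w, ν w = 0 → ψ w • w₀ = c • w := by
    intro w hw
    have hYw : (Y : Module.End K U) w = w := by rw [hYν, hw, zero_add]
    have h2 := LinearMap.congr_fun hcE w
    rw [LinearMap.add_apply, tr_fixed p k E hYw, ← hν, hs, h0, LinearMap.zero_apply, add_zero,
      LinearMap.smul_apply, Module.End.one_apply] at h2
    rw [← h2, hT, Finset.sum_range_succ]
    have h3 : ∑ i ∈ Finset.range s, ψ ((ν ^ (s - i)) w) • (ν ^ i) v = 0 := by
      refine Finset.sum_eq_zero fun i hi => ?_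
      have hi' := Finset.mem_range.1 hi
      obtain ⟨m, hm⟩ : ∃ m, s - i = m + 1 := ⟨s - i - 1, by omega⟩
      rw [hm, ← hνpow, hw, map_zero, map_zero, zero_smul]
    rw [h3, zero_add, Nat.sub_self, pow_zero, Module.End.one_apply]
  have hνw₀ : ν w₀ = 0 := by
    rw [hw₀, hνpow', h0, LinearMap.zero_apply]
  have hc : c = 1 := by
    have h4 := hker w₀ hνw₀
    rw [hψ] at h4
    exact (smul_left_injective K hv h4).symm
  have hker' : ∀ w, ν w = 0 → w = ψ w • w₀ := by
    intro w hw
    rw [hker w hw, hc, one_smul]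
  -- upper bound
  have hle : Module.finrank K U ≤ s + 1 := by
    let Φ : U →ₗ[K] (Fin (s + 1) → K) := LinearMap.pi fun i => ψ ∘ₗ (ν ^ (i : ℕ))
    have hΦ : Function.Injective Φ := by
      rw [← LinearMap.ker_eq_bot, LinearMap.ker_eq_bot']
      intro u hu
      by_contra hu0
      have hex : ∃ j, (ν ^ j) u = 0 := ⟨s + 1, by rw [h0]; rfl⟩
      classical
      obtain ⟨j, hj, hjmin⟩ : ∃ j, (ν ^ j) u = 0 ∧ ∀ m < j, (ν ^ m) u ≠ 0 :=
        ⟨Nat.find hex, Nat.find_spec hex, fun m hm => Nat.find_min hex hm⟩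
      have hj0 : j ≠ 0 := by
        rintro rfl
        exact hu0 (by simpa using hj)
      have hjs : j ≤ s + 1 := by
        by_contra hlt
        exact hjmin (s + 1) (by omega) (by rw [h0]; rfl)
      obtain ⟨m, rfl⟩ : ∃ m, j = m + 1 := ⟨j - 1, by omega⟩
      apply hjmin m (by omega)
      rw [hker' ((ν ^ m) u) (by rw [hνpow']; exact hj)]
      have : ψ ((ν ^ m) u) = 0 := congrFun hu ⟨m, by omega⟩
      rw [this, zero_smul]
    have := LinearMap.finrank_le_finrank_of_injective hΦ
    simpa using this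
  -- lower bound
  have hge : s + 1 ≤ Module.finrank K U := by
    by_contra hlt
    have hnil : IsNilpotent ν := ⟨_, h0⟩
    have h5 : ν ^ (Module.finrank K U) = 0 := by
      have h6 := LinearMap.aeval_self_charpoly ν
      rw [IsNilpotent.charpoly_eq_X_pow_finrank hnil] at h6
      simpa using h6
    apply hne
    have : s = Module.finrank K U + (s - Module.finrank K U) := by omega
    rw [this, pow_add, h5, zero_mul]
  omega

end Cfsg.Agent.PLocal.HHBJordan
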