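import Mathlib
import Cfsg.Agent.PLocal.HHBUnip

set_option autoImplicit false

/-!
The linear part of Theorem B of Hall and Higman: a group `Q` of class at most two acting irreducibly
on `U` over an algebraically closed field of characteristic `p`, normalized by a `p`-element `Y`.
-/

namespace Cfsg.Agent.PLocal.HHBLinear

open scoped commutatorElement

variable {K : Type*} [Field K] {U : Type*} [AddCommGroup U] [Module K U] {Q : Type*} [Group Q]

/-- no proper nonzero invariant subspaces -/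
def IsIrr (ρ : Q →* Module.End K U) : Prop :=
  ∀ S : Submodule K U, (∀ h : Q, ∀ w ∈ S, ρ h w ∈ S) → S = ⊥ ∨ S = ⊤

theorem schur [IsAlgClosed K] [FiniteDimensional K U] [Nontrivial U]
    {ρ : Q →* Module.End K U} (hirr : IsIrr ρ) (T : Module.End K U)
    (hT : ∀ h, T * ρ h = ρ h * T) : ∃ c : K, T = c • 1 := by
  obtain ⟨c, hc⟩ := Module.End.exists_eigenvalue T
  refine ⟨c, ?_⟩
  rcases hirr (Module.End.eigenspace T c) (by
    intro h w hw
    rw [Module.End.mem_eigenspace_iff] at hw ⊢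
    calc T (ρ h w) = (T * ρ h) w := rfl
      _ = ρ h (T w) := by rw [hT]; rfl
      _ = c • ρ h w := by rw [hw, map_smul]) with h | h
  · exact absurd h hc
  · ext w
    have : w ∈ Module.End.eigenspace T c := by rw [h]; trivial
    simpa using Module.End.mem_eigenspace_iff.1 this

/-- the commutator scalars of a group of class at most two acting irreducibly -/
structure CommScalar (ρ : Q →* Module.End K U) (κ : Q → Q → K) : Prop where
  comm : ∀ a b, ρ a * ρ b = κ a b • (ρ b * ρ a)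

theorem exists_commScalar [IsAlgClosed K] [FiniteDimensional K U] [Nontrivial U]
    {ρ : Q →* Module.End K U} (hirr : IsIrr ρ)
    (hcl : ∀ a b c : Q, ⁅a, b⁆ * c = c * ⁅a, b⁆) : ∃ κ : Q → Q → K, CommScalar ρ κ := by
  have h : ∀ a b : Q, ∃ c : K, ρ ⁅a, b⁆ = c • 1 := by
    intro a b
    refine schur hirr _ fun c => ?_
    rw [← map_mul, ← map_mul, hcl]
  choose κ hκ using h
  refine ⟨κ, ⟨fun a b => ?_⟩⟩
  have h1 : a * b = ⁅a, b⁆ * (b * a) := by rw [commutatorElement_def]; group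
  rw [← map_mul, h1, map_mul, hκ, smul_mul_assoc, one_mul, map_mul]

variable [Nontrivial U] {ρ : Q →* Module.End K U} {κ : Q → Q → K}

theorem rho_ne_zero (ρ : Q →* Module.End K U) (a : Q) : ρ a ≠ 0 := by
  intro h
  have h1 : ρ a * ρ a⁻¹ = 1 := by rw [← map_mul, mul_inv_cancel, map_one]
  rw [h, zero_mul] at h1
  exact zero_ne_one h1

theorem scal_inj (ρ : Q →* Module.End K U) (a : Q) {c c' : K} (h : c • ρ a = c' • ρ a) :
    c = c' :=
  smul_left_injective K (rho_ne_zero ρ a) h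

namespace CommScalar

theorem mul_left (hκ : CommScalar ρ κ) (a a' b : Q) : κ (a * a') b = κ a b * κ a' b := by
  apply scal_inj ρ (b * (a * a'))
  rw [map_mul, ← hκ.comm, map_mul, mul_assoc, hκ.comm a' b, mul_smul_comm, ← mul_assoc,
    hκ.comm a b, smul_mul_assoc, smul_smul, mul_comm (κ a' b), mul_assoc]

theorem mul_right (hκ : CommScalar ρ κ) (a b b' : Q) : κ a (b * b') = κ a b * κ a b' := by
  apply scal_inj ρ (b * b' * a)
  rw [map_mul, ← hκ.comm, map_mul, ← mul_assoc, hκ.comm a b, smul_mul_assoc, mul_assoc,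
    hκ.comm a b', mul_smul_comm, smul_smul, mul_assoc]

theorem symm_mul (hκ : CommScalar ρ κ) (a b : Q) : κ a b * κ b a = 1 := by
  apply scal_inj ρ (a * b)
  rw [map_mul, ← smul_smul, ← hκ.comm b a, ← hκ.comm a b, one_smul]

theorem ne_zero (hκ : CommScalar ρ κ) (a b : Q) : κ a b ≠ 0 :=
  left_ne_zero_of_mul_eq_one (hκ.symm_mul a b)

theorem one_left (hκ : CommScalar ρ κ) (b : Q) : κ 1 b = 1 := by
  have h := hκ.mul_left 1 1 b
  rw [one_mul] at h
  have h2 := hκ.ne_zero 1 b
  field_simp at h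
  exact h.symm

theorem one_right (hκ : CommScalar ρ κ) (b : Q) : κ b 1 = 1 := by
  have h := hκ.mul_right b 1 1
  rw [one_mul] at h
  have h2 := hκ.ne_zero b 1
  field_simp at h
  exact h.symm

theorem inv_left (hκ : CommScalar ρ κ) (a b : Q) : κ a⁻¹ b = (κ a b)⁻¹ := by
  have h := hκ.mul_left a⁻¹ a b
  rw [inv_mul_cancel, hκ.one_left] at h
  exact eq_inv_of_mul_eq_one_left h.symm

theorem inv_right (hκ : CommScalar ρ κ) (a b : Q) : κ a b⁻¹ = (κ a b)⁻¹ := by
  have h := hκ.mul_right a b⁻¹ b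
  rw [inv_mul_cancel, hκ.one_right] at h
  exact eq_inv_of_mul_eq_one_left h.symm

/-- the radical -/
def rad (hκ : CommScalar ρ κ) : Subgroup Q where
  carrier := {u | ∀ h, κ h u = 1}
  one_mem' := fun h => hκ.one_right h
  mul_mem' := by
    intro a b ha hb h
    rw [hκ.mul_right, ha h, hb h, one_mul]
  inv_mem' := by
    intro a ha h
    rw [hκ.inv_right, ha h, inv_one]

theorem mem_rad (hκ : CommScalar ρ κ) {u : Q} : u ∈ hκ.rad ↔ ∀ h, κ h u = 1 := Iff.rfl

theorem left_of_mem_rad (hκ : CommScalar ρ κ) {u : Q} (hu : u ∈ hκ.rad) (h : Q) : κ u h = 1 := by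
  have := hκ.symm_mul u h
  rwa [hu h, mul_one] at this

theorem mem_rad_of_left (hκ : CommScalar ρ κ) {u : Q} (hu : ∀ h, κ u h = 1) : u ∈ hκ.rad := by
  intro h
  have := hκ.symm_mul u h
  rwa [hu h, one_mul] at this

theorem scalar_of_mem_rad [IsAlgClosed K] [FiniteDimensional K U] (hκ : CommScalar ρ κ)
    (hirr : IsIrr ρ) {u : Q} (hu : u ∈ hκ.rad) : ∃ c : K, ρ u = c • 1 := by
  refine schur hirr _ fun h => ?_
  rw [hκ.comm u h, hκ.left_of_mem_rad hu, one_smul]

/-- `∑_u κ(h,u)⁻¹` vanishes unless `h` is in the radical. -/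
theorem sum_inv [Fintype Q] (hκ : CommScalar ρ κ) (h : Q) (hh : h ∉ hκ.rad) :
    ∑ u : Q, (κ h u)⁻¹ = 0 := by
  have h1 : ∃ v, κ h v ≠ 1 := by
    by_contra hcon
    push Not at hcon
    exact hh (hκ.mem_rad_of_left hcon)
  obtain ⟨v, hv⟩ := h1
  have h2 : ∑ u : Q, (κ h u)⁻¹ = (κ h v)⁻¹ * ∑ u : Q, (κ h u)⁻¹ := by
    rw [Finset.mul_sum]
    rw [← Equiv.sum_comp (Equiv.mulLeft v)]
    refine Finset.sum_congr rfl fun u _ => ?_
    rw [Equiv.coe_mulLeft, hκ.mul_right, mul_inv]
  have h3 : (1 - (κ h v)⁻¹) * ∑ u : Q, (κ h u)⁻¹ = 0 := by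
    rw [sub_mul, one_mul, ← h2, sub_self]
  rcases mul_eq_zero.1 h3 with h4 | h4
  · exfalso
    apply hv
    rw [sub_eq_zero] at h4
    rw [← inv_inv (κ h v), ← h4, inv_one]
  · exact h4

/-- same with the other variable -/
theorem sum_inv' [Fintype Q] (hκ : CommScalar ρ κ) (u : Q) (hu : u ∉ hκ.rad) :
    ∑ h : Q, (κ h u)⁻¹ = 0 := by
  have h1 : ∀ h, (κ h u)⁻¹ = κ u h := fun h => inv_eq_of_mul_eq_one_right (hκ.symm_mul h u)
  have h2 := hκ.sum_inv u⁻¹ (fun hcon => hu (by simpa using hκ.rad.inv_mem hcon))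
  rw [← h2]
  refine Finset.sum_congr rfl fun h _ => ?_
  rw [h1, hκ.inv_left, inv_inv]

/-- the operators `P_u` -/
noncomputable def P [Fintype Q] (_hκ : CommScalar ρ κ) (u : Q) (T : Module.End K U) :
    Module.End K U :=
  ∑ h : Q, (κ h u)⁻¹ • (ρ h * T * ρ h⁻¹)

theorem sum_P [Fintype Q] [IsAlgClosed K] [FiniteDimensional K U] (hκ : CommScalar ρ κ)
    (hirr : IsIrr ρ) (T : Module.End K U) :
    ∑ u : Q, hκ.P u T = ((Fintype.card Q : K) * (Nat.card hκ.rad : K)) • T := by
  classical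
  unfold P
  rw [Finset.sum_comm]
  have h1 : ∀ h : Q, ∑ u : Q, (κ h u)⁻¹ • (ρ h * T * ρ h⁻¹) =
      if h ∈ hκ.rad then (Fintype.card Q : K) • T else 0 := by
    intro h
    rw [← Finset.sum_smul]
    split_ifs with hh
    · obtain ⟨c, hc⟩ := hκ.scalar_of_mem_rad hirr hh
      have h2 : ρ h * T * ρ h⁻¹ = T := by
        have h3 : ρ h * T = T * ρ h := by rw [hc, smul_mul_assoc, mul_smul_comm, one_mul, mul_one]
        rw [h3, mul_assoc, ← map_mul, mul_inv_cancel, map_one, mul_one]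
      rw [h2]
      congr 1
      simp [hκ.left_of_mem_rad hh]
    · rw [hκ.sum_inv h hh, zero_smul]
  rw [Finset.sum_congr rfl fun h _ => h1 h, Finset.sum_ite, Finset.sum_const_zero, add_zero,
    Finset.sum_const, ← Nat.cast_smul_eq_nsmul K, smul_smul, mul_comm]
  congr 2
  rw [Nat.card_eq_fintype_card, Fintype.card_subtype]

theorem P_one_comm [Fintype Q] (hκ : CommScalar ρ κ) (T : Module.End K U) (a : Q) :
    hκ.P 1 T * ρ a = ρ a * hκ.P 1 T := by
  unfold P
  rw [Finset.sum_mul, Finset.mul_sum, ← Equiv.sum_comp (Equiv.mulLeft a)]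
  refine Finset.sum_congr rfl fun h _ => ?_
  rw [Equiv.coe_mulLeft, hκ.one_right, hκ.one_right, inv_one, one_smul, one_smul, map_mul,
    mul_inv_rev, map_mul]
  have h1 : ρ a⁻¹ * ρ a = 1 := by rw [← map_mul, inv_mul_cancel, map_one]
  simp only [mul_assoc]
  rw [h1, mul_one]

theorem P_one_scalar [Fintype Q] [IsAlgClosed K] [FiniteDimensional K U] (hκ : CommScalar ρ κ)
    (hirr : IsIrr ρ) (T : Module.End K U) : ∃ c : K, hκ.P 1 T = c • 1 :=
  schur hirr _ fun a => hκ.P_one_comm T a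

theorem P_of_mem_rad [Fintype Q] (hκ : CommScalar ρ κ) {u : Q} (hu : u ∈ hκ.rad)
    (T : Module.End K U) : hκ.P u T = hκ.P 1 T := by
  unfold P
  refine Finset.sum_congr rfl fun h _ => ?_
  rw [hu h, hκ.one_right]

section Equivariant

variable {Y : (Module.End K U)ˣ} {σ : MulAut Q}

theorem equiv_apply (hκ : CommScalar ρ κ)
    (hY : ∀ h, (Y : Module.End K U) * ρ h = ρ (σ h) * Y) (a b : Q) :
    κ (σ a) (σ b) = κ a b := by
  apply scal_inj ρ (σ b * σ a)
  have h1 : (ρ (σ a) * ρ (σ b)) * (Y : Module.End K U) =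
      (κ a b • (ρ (σ b) * ρ (σ a))) * (Y : Module.End K U) := by
    rw [mul_assoc, ← hY b, ← mul_assoc, ← hY a, mul_assoc, hκ.comm a b, mul_smul_comm,
      ← mul_assoc, hY b, mul_assoc, hY a, ← mul_assoc, smul_mul_assoc]
  have h2 := Units.mul_left_inj Y |>.1 h1
  rw [map_mul, ← hκ.comm, h2]

theorem equiv_pow (hκ : CommScalar ρ κ)
    (hY : ∀ h, (Y : Module.End K U) * ρ h = ρ (σ h) * Y) (i : ℕ) (a b : Q) :
    κ ((σ ^ i) a) ((σ ^ i) b) = κ a b := by
  induction i with
  | zero => simp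
  | succ i ih =>
    rw [pow_succ', MulAut.mul_apply, MulAut.mul_apply, hκ.equiv_apply hY, ih]

theorem P_equiv [Fintype Q] (hκ : CommScalar ρ κ)
    (hY : ∀ h, (Y : Module.End K U) * ρ h = ρ (σ h) * Y) {T : Module.End K U}
    (hT : (Y : Module.End K U) * T = T * Y) (u : Q) :
    (Y : Module.End K U) * hκ.P u T = hκ.P (σ u) T * Y := by
  unfold P
  rw [Finset.sum_mul, Finset.mul_sum, ← Equiv.sum_comp σ.toEquiv
    (fun h => (κ h (σ u))⁻¹ • (ρ h * T * ρ h⁻¹) * (Y : Module.End K U))]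
  refine Finset.sum_congr rfl fun h _ => ?_
  have h0 : σ.toEquiv h = σ h := rfl
  rw [h0, hκ.equiv_apply hY, mul_smul_comm, smul_mul_assoc]
  congr 1
  rw [← map_inv, mul_assoc, mul_assoc, ← hY h⁻¹, ← mul_assoc, hY h, mul_assoc, ← mul_assoc _ T,
    hT, mul_assoc, mul_assoc]

theorem P_equiv_pow [Fintype Q] (hκ : CommScalar ρ κ)
    (hY : ∀ h, (Y : Module.End K U) * ρ h = ρ (σ h) * Y) {T : Module.End K U}
    (hT : (Y : Module.End K U) * T = T * Y) (i : ℕ) (u : Q) :
    ((Y ^ i : (Module.End K U)ˣ) : Module.End K U) * hκ.P u T * ((Y ^ i)⁻¹ : (Module.End K U)ˣ) =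
      hκ.P ((σ ^ i) u) T := by
  have h1 : ((Y ^ i : (Module.End K U)ˣ) : Module.End K U) * hκ.P u T =
      hκ.P ((σ ^ i) u) T * (Y ^ i : (Module.End K U)ˣ) := by
    induction i with
    | zero => simp
    | succ i ih =>
      rw [pow_succ', Units.val_mul, mul_assoc, ih, ← mul_assoc, hκ.P_equiv hY hT, pow_succ',
        MulAut.mul_apply, mul_assoc]
  rw [h1, mul_assoc, Units.mul_inv, mul_one]

/-- the elements outside the radical are in regular orbits -/
theorem period_eq (hκ : CommScalar ρ κ)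
    (hY : ∀ h, (Y : Module.End K U) * ρ h = ρ (σ h) * Y) {p k : ℕ} [Fact p.Prime] (hk : 1 ≤ k)
    (hσ : σ ^ (p ^ k) = 1)
    (hgen : Subgroup.closure {z : Q | ∃ h : Q, z = (σ ^ (p ^ (k - 1))) h * h⁻¹} = ⊤)
    {u : Q} (hu : u ∉ hκ.rad) : MulAction.period σ u = p ^ k := by
  have h1 : MulAction.period σ u ∣ p ^ k := by
    rw [← MulAction.pow_smul_eq_iff_period_dvd, hσ, one_smul]
  obtain ⟨t, ht, hpt⟩ := (Nat.dvd_prime_pow (Fact.out : p.Prime)).1 h1
  rw [hpt]
  by_contra hne
  have htk : t ≤ k - 1 := by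
    have : t ≠ k := fun h => hne (by rw [h])
    omega
  have h2 : MulAction.period σ u ∣ p ^ (k - 1) := by
    rw [hpt]; exact pow_dvd_pow p htk
  rw [← MulAction.pow_smul_eq_iff_period_dvd, MulAut.smul_def] at h2
  apply hu
  -- all of `Q` pairs trivially with `u`
  let S : Subgroup Q :=
    { carrier := {h | κ h u = 1}
      one_mem' := hκ.one_left u
      mul_mem' := by
        intro a b ha hb
        show κ (a * b) u = 1
        rw [hκ.mul_left, show κ a u = 1 from ha, show κ b u = 1 from hb, one_mul]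
      inv_mem' := by
        intro a ha
        show κ a⁻¹ u = 1
        rw [hκ.inv_left, show κ a u = 1 from ha, inv_one] }
  have hS : S = ⊤ := by
    rw [eq_top_iff, ← hgen, Subgroup.closure_le]
    rintro _ ⟨h, rfl⟩
    show κ _ u = 1
    rw [hκ.mul_left, hκ.inv_left]
    have h3 := hκ.equiv_pow hY (p ^ (k - 1)) h u
    rw [h2] at h3
    rw [h3, mul_inv_cancel₀ (hκ.ne_zero h u)]
  intro h
  have : h ∈ S := by rw [hS]; trivial
  exact this

theorem exists_trace_of_finset [Fintype Q] [DecidableEq Q] (hκ : CommScalar ρ κ)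
    (hY : ∀ h, (Y : Module.End K U) * ρ h = ρ (σ h) * Y) {p k : ℕ} [Fact p.Prime] (hk : 1 ≤ k)
    (hσ : σ ^ (p ^ k) = 1)
    (hgen : Subgroup.closure {z : Q | ∃ h : Q, z = (σ ^ (p ^ (k - 1))) h * h⁻¹} = ⊤)
    {T : Module.End K U} (hT : (Y : Module.End K U) * T = T * Y) (n : ℕ) :
    ∀ S : Finset Q, S.card = n → (∀ u ∈ S, u ∉ hκ.rad) → (∀ u ∈ S, σ u ∈ S) →
      ∃ E : Module.End K U, ∑ u ∈ S, hκ.P u T = ∑ i ∈ Finset.range (p ^ k),
        ((Y ^ i : (Module.End K U)ˣ) : Module.End K U) * E * ((Y ^ i)⁻¹ : (Module.End K U)ˣ) := by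
  induction n using Nat.strong_induction_on with
  | _ n ih =>
    intro S hSn hSr hSσ
    rcases S.eq_empty_or_nonempty with hS | ⟨u, hu⟩
    · exact ⟨0, by simp [hS]⟩
    · have hper := hκ.period_eq hY hk hσ hgen (hSr u hu)
      have hpow : ∀ i, (σ ^ i) u ∈ S := by
        intro i
        induction i with
        | zero => simpa using hu
        | succ i ih => rw [pow_succ', MulAut.mul_apply]; exact hSσ _ ih
      let O : Finset Q := (Finset.range (p ^ k)).image (fun i => (σ ^ i) u)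
      have hinj : Set.InjOn (fun i => (σ ^ i) u) (Finset.range (p ^ k) : Set ℕ) := by
        intro i hi j hj hij
        have hi' : i < p ^ k := Finset.mem_range.1 hi
        have hj' : j < p ^ k := Finset.mem_range.1 hj
        have h1 : ∀ a b : ℕ, a ≤ b → b < p ^ k → (σ ^ a) u = (σ ^ b) u → a = b := by
          intro a b hab hb h
          have h2 : (σ ^ (b - a)) • u = u := by
            have h3 : σ ^ b = σ ^ a * σ ^ (b - a) := by rw [← pow_add]; congr 1; omega
            rw [h3, MulAut.mul_apply] at h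
            exact (σ ^ a).injective h.symm
          rw [MulAction.pow_smul_eq_iff_period_dvd, hper] at h2
          have := Nat.eq_zero_of_dvd_of_lt h2 (by omega)
          omega
        rcases le_total i j with h | h
        · exact h1 i j h hj' hij
        · exact (h1 j i h hi' hij.symm).symm
      have hOS : O ⊆ S := by
        intro v hv
        obtain ⟨i, _, rfl⟩ := Finset.mem_image.1 hv
        exact hpow i
      have hpos : 0 < p ^ k := pow_pos (Fact.out : p.Prime).pos k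
      have huO : u ∈ O := Finset.mem_image.2 ⟨0, Finset.mem_range.2 hpos, by simp⟩
      obtain ⟨E, hE⟩ := ih (S \ O).card (by
        rw [← hSn]
        exact Finset.card_lt_card (Finset.sdiff_ssubset hOS ⟨u, huO⟩)) (S \ O) rfl
        (fun v hv => hSr v (Finset.mem_sdiff.1 hv).1)
        (by
          intro v hv
          obtain ⟨hvS, hvO⟩ := Finset.mem_sdiff.1 hv
          refine Finset.mem_sdiff.2 ⟨hSσ v hvS, fun hcon => hvO ?_⟩
          obtain ⟨i, hi, hiv⟩ := Finset.mem_image.1 hcon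
          rcases Nat.eq_zero_or_pos i with h0 | h0
          · refine Finset.mem_image.2 ⟨p ^ k - 1, Finset.mem_range.2 (by omega), ?_⟩
            apply σ.injective
            rw [← hiv, h0, ← MulAut.mul_apply, ← pow_succ', Nat.sub_add_cancel hpos, hσ, pow_zero]
          · refine Finset.mem_image.2 ⟨i - 1, Finset.mem_range.2
              (by have := Finset.mem_range.1 hi; omega), ?_⟩
            apply σ.injective
            rw [← hiv, ← MulAut.mul_apply, ← pow_succ', Nat.sub_add_cancel h0])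
      refine ⟨E + hκ.P u T, ?_⟩
      rw [← Finset.sum_sdiff hOS, hE, Finset.sum_image hinj, ← Finset.sum_add_distrib]
      refine Finset.sum_congr rfl fun i _ => ?_
      rw [← hκ.P_equiv_pow hY hT, mul_add, add_mul]

/-- **Key decomposition**: everything commuting with `Y` is a scalar plus a trace. -/
theorem exists_trace [Fintype Q] [IsAlgClosed K] [FiniteDimensional K U] (hκ : CommScalar ρ κ)
    (hirr : IsIrr ρ) (hcard : (Fintype.card Q : K) ≠ 0)
    (hY : ∀ h, (Y : Module.End K U) * ρ h = ρ (σ h) * Y) {p k : ℕ} [Fact p.Prime] (hk : 1 ≤ k)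
    (hσ : σ ^ (p ^ k) = 1)
    (hgen : Subgroup.closure {z : Q | ∃ h : Q, z = (σ ^ (p ^ (k - 1))) h * h⁻¹} = ⊤)
    {T : Module.End K U} (hT : (Y : Module.End K U) * T = T * Y) :
    ∃ (c : K) (E : Module.End K U), T = c • 1 + ∑ i ∈ Finset.range (p ^ k),
        ((Y ^ i : (Module.End K U)ˣ) : Module.End K U) * E * ((Y ^ i)⁻¹ : (Module.End K U)ˣ) := by
  classical
  set c₀ : K := (Fintype.card Q : K) * (Nat.card hκ.rad : K) with hc₀
  have hc₀' : c₀ ≠ 0 := by
    refine mul_ne_zero hcard ?_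
    intro h
    apply hcard
    obtain ⟨m, hm⟩ := Subgroup.card_subgroup_dvd_card hκ.rad
    rw [← Nat.card_eq_fintype_card, hm, Nat.cast_mul, h, zero_mul]
  have h1 := hκ.sum_P hirr T
  rw [← Finset.sum_filter_add_sum_filter_not Finset.univ (fun u => u ∈ hκ.rad)] at h1
  obtain ⟨E, hE⟩ := hκ.exists_trace_of_finset hY hk hσ hgen hT _
    (Finset.univ.filter (fun u => ¬ u ∈ hκ.rad)) rfl
    (fun u hu => (Finset.mem_filter.1 hu).2)
    (by
      intro u hu
      refine Finset.mem_filter.2 ⟨Finset.mem_univ _, fun hcon => (Finset.mem_filter.1 hu).2 ?_⟩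
      intro h
      rw [← hκ.equiv_apply hY]
      exact hcon _)
  obtain ⟨d, hd⟩ := hκ.P_one_scalar hirr T
  have h2 : ∑ u ∈ Finset.univ.filter (fun u => u ∈ hκ.rad), hκ.P u T =
      ((Finset.univ.filter (fun u => u ∈ hκ.rad)).card : K) • (d • (1 : Module.End K U)) := by
    rw [Finset.sum_congr rfl fun u hu => hκ.P_of_mem_rad (Finset.mem_filter.1 hu).2 T,
      Finset.sum_const, ← Nat.cast_smul_eq_nsmul K, hd]
  rw [h2, hE, smul_smul, ← hc₀] at h1
  refine ⟨c₀⁻¹ * (((Finset.univ.filter (fun u => u ∈ hκ.rad)).card : K) * d), c₀⁻¹ • E, ?_⟩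
  have h3 : T = c₀⁻¹ • (c₀ • T) := by rw [smul_smul, inv_mul_cancel₀ hc₀', one_smul]
  rw [h3, ← h1, smul_add, smul_smul, Finset.smul_sum]
  congr 1
  refine Finset.sum_congr rfl fun i _ => ?_
  rw [mul_smul_comm, smul_mul_assoc]

end Equivariant

end CommScalar

end Cfsg.Agent.PLocal.HHBLinear
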