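import Mathlib
import Cfsg.Agent.PLocal.HHBUnip
import Cfsg.Agent.PLocal.HHBLinear
import Cfsg.Agent.PLocal.HHBJordan

/-!
# Hall–Higman Theorem B: the core, given the minimal subgroup and the Clifford-type subspace
-/

set_option autoImplicit false

open Module

namespace Cfsg.Agent.PLocal.HHBCoreAux

open Cfsg.Agent.PLocal.HHBLinear Cfsg.Agent.PLocal.HHBJordan Cfsg.Agent.PLocal.HHBUnip
open scoped commutatorElement

universe u v w

/-- iterates of an endomorphism restricted to an invariant subspace -/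
theorem restrict_pow_apply {K V : Type*} [Field K] [AddCommGroup V] [Module K V] (U : Submodule K V)
    (A : Module.End K V) (B : Module.End K U) (h : ∀ u : U, ((B u : U) : V) = A u) (k : ℕ) :
    ∀ u : U, (((B ^ k) u : U) : V) = (A ^ k) u := by
  induction k with
  | zero => intro u; rfl
  | succ k ih =>
    intro u
    rw [pow_succ, pow_succ]
    change (((B ^ k) (B u) : U) : V) = (A ^ k) (A u)
    rw [ih, h]

/-- The exponent of the `p`-part: if `(Y - 1)^j ≠ 0` on `U`, where `Y` is the restriction of `X^(p^s)` to `U` and the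
translates of `U` are independent, then `p^s * (j + 1) ≤ r`. -/
theorem le_of_pow_ne_zero {K : Type w} [Field K] {p : ℕ} [Fact p.Prime] [CharP K p]
    {V : Type v} [AddCommGroup V] [Module K V] (X : Module.End K V) (s : ℕ) (U : Submodule K V)
    (Y : Module.End K U) (hY : ∀ u : U, ((Y u : U) : V) = (X ^ (p ^ s)) u)
    (hind : ∀ u ∈ U, ∑ i ∈ Finset.range (p ^ s), (X ^ i) u = 0 → u = 0)
    (r : ℕ) (hr : (X - 1) ^ r = 0) (j : ℕ) (hj : (Y - 1) ^ j ≠ 0) : p ^ s * (j + 1) ≤ r := by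
  by_contra hlt
  push Not at hlt
  apply hj
  have hpos : 0 < p ^ s := pow_pos (Fact.out : p.Prime).pos s
  ext u
  change (((Y - 1) ^ j) u : V) = 0
  apply hind _ (((Y - 1) ^ j) u).2
  have h1 : ∀ x : V, ∑ i ∈ Finset.range (p ^ s), (X ^ i) x = ((X - 1) ^ (p ^ s - 1)) x := by
    intro x
    rw [← geom_eq K p X s, LinearMap.sum_apply]
  have h2 : (X - 1) ^ (p ^ s) = X ^ (p ^ s) - 1 := by
    have h3 := congrArg (Polynomial.aeval X)
      (sub_pow_char_pow (R := Polynomial K) (p := p) (n := s) (Polynomial.X) 1)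
    simpa using h3
  have h4 : ∀ u : U, (((Y - 1 : Module.End K U) u : U) : V) = ((X - 1) ^ (p ^ s)) u := by
    intro u
    rw [h2]
    change ((Y u : U) : V) - (u : V) = (X ^ (p ^ s)) u - u
    rw [hY]
  rw [h1, restrict_pow_apply U ((X - 1) ^ (p ^ s)) (Y - 1) h4 j u, ← pow_mul, ← Module.End.mul_apply,
    ← pow_add]
  have h5 : p ^ s - 1 + p ^ s * j = r + (p ^ s - 1 + p ^ s * j - r) := by
    have : p ^ s * (j + 1) = p ^ s * j + p ^ s := by ring
    omega
  rw [h5, pow_add, hr, zero_mul, LinearMap.zero_apply]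

/-- The core for a group `Q` of class at most two generated by the `τ(h) h⁻¹`. -/
theorem core_aux {K : Type w} [Field K] [IsAlgClosed K] {p q : ℕ} [Fact p.Prime] [CharP K p]
    [Fact q.Prime] (hpq : q ≠ p) {V : Type v} [AddCommGroup V] [Module K V] [FiniteDimensional K V]
    {Q : Type u} [Group Q] [Fintype Q] (hQ : IsPGroup q Q)
    (finrank_sq : ∀ (U : Type v) [AddCommGroup U] [Module K U] [FiniteDimensional K U]
      [Nontrivial U] (ρ : Q →* Module.End K U) (κ : Q → Q → K)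
      (hκ : CommScalar ρ κ), IsIrr ρ → Module.finrank K U ^ 2 = hκ.rad.index)
    (ρ : Q →* Module.End K V) (σ : MulAut Q) (X : Module.End K V)
    (hXρ : ∀ g, X * ρ g = ρ (σ g) * X) (n : ℕ) (hXn : X ^ (p ^ n) = 1)
    (hσn : σ ^ (p ^ n) = 1)
    (hcl : ∀ a b c : Q, ⁅a, b⁆ * c = c * ⁅a, b⁆)
    (hgen : Subgroup.closure {z : Q | ∃ h : Q, z = (σ ^ (p ^ (n - 1))) h * h⁻¹} = ⊤)
    (s : ℕ) (hs : s ≤ n) (U : Submodule K V) (hU : U ≠ ⊥) (hUρ : ∀ h, ∀ u ∈ U, ρ h u ∈ U)
    (hirr : ∀ S ≤ U, (∀ h, ∀ u ∈ S, ρ h u ∈ S) → S = ⊥ ∨ S = U)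
    (hne : ∃ h, ∃ u ∈ U, ρ h u ≠ u)
    (hUX : ∀ u ∈ U, (X ^ (p ^ s)) u ∈ U)
    (hind : ∀ u ∈ U, ∑ i ∈ Finset.range (p ^ s), (X ^ i) u = 0 → u = 0)
    (r : ℕ) (hr : (X - 1) ^ r = 0) :
    p ^ n ≤ r ∨ ∃ n₀ m : ℕ, 1 ≤ n₀ ∧ n₀ ≤ n ∧ 1 ≤ m ∧ p ^ n₀ - 1 = q ^ m ∧
      (∃ a b : Q, a * b ≠ b * a) ∧ p ^ (n - n₀) * (p ^ n₀ - 1) ≤ r := by
  classical
  have hUn : Nontrivial U := Submodule.nontrivial_iff_ne_bot.2 hU
  -- the restricted representation
  let ρU : Q →* Module.End K U :=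
    { toFun := fun g => (ρ g).restrict (hUρ g)
      map_one' := by
        ext x
        simp
      map_mul' := by
        intro g h
        ext x
        simp }
  have hρU : ∀ (g : Q) (u : U), ((ρU g u : U) : V) = ρ g u := fun g u => rfl
  let Y₀ : Module.End K U := (X ^ (p ^ s)).restrict hUX
  have hY₀ : ∀ u : U, ((Y₀ u : U) : V) = (X ^ (p ^ s)) u := fun u => rfl
  have key : ∀ j, (Y₀ - 1) ^ j ≠ 0 → p ^ s * (j + 1) ≤ r :=
    le_of_pow_ne_zero X s U Y₀ hY₀ hind r hr
  rcases hs.eq_or_lt with rfl | hsn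
  · left
    have := key 0 (by rw [pow_zero]; exact one_ne_zero)
    simpa using this
  -- now `s < n`
  set k := n - s with hk
  have hk1 : 1 ≤ k := by omega
  have hY₀pow : Y₀ ^ (p ^ k) = 1 := by
    ext u
    rw [restrict_pow_apply U (X ^ (p ^ s)) Y₀ hY₀, ← pow_mul, ← pow_add, hk,
      Nat.add_sub_cancel' hs, hXn]
    rfl
  have hpk : p ^ k ≠ 0 := (pow_pos (Fact.out : p.Prime).pos k).ne'
  obtain ⟨Y, hYval⟩ : ∃ Y : (Module.End K U)ˣ, (Y : Module.End K U) = Y₀ :=
    IsUnit.of_pow_eq_one hY₀pow hpk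
  have hXρpow : ∀ (i : ℕ) (g : Q), X ^ i * ρ g = ρ ((σ ^ i) g) * X ^ i := by
    intro i
    induction i with
    | zero => intro g; simp
    | succ i ih =>
      intro g
      rw [pow_succ', mul_assoc, ih, ← mul_assoc, hXρ, mul_assoc, pow_succ', MulAut.mul_apply]
  have hYρ : ∀ h, (Y : Module.End K U) * ρU h = ρU ((σ ^ (p ^ s)) h) * Y := by
    intro h
    rw [hYval]
    ext u
    exact LinearMap.congr_fun (hXρpow (p ^ s) h) (u : V)
  have hσ' : (σ ^ (p ^ s)) ^ (p ^ k) = 1 := by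
    rw [← pow_mul, ← pow_add, hk, Nat.add_sub_cancel' hs, hσn]
  have hgen' : Subgroup.closure {z : Q | ∃ h : Q, z = ((σ ^ (p ^ s)) ^ (p ^ (k - 1))) h * h⁻¹} = ⊤ := by
    have : (σ ^ (p ^ s)) ^ (p ^ (k - 1)) = σ ^ (p ^ (n - 1)) := by
      rw [← pow_mul, ← pow_add]
      congr 2
      omega
    rw [this]
    exact hgen
  have hirrU : IsIrr ρU := by
    intro S hS
    have hinj := Submodule.map_injective_of_injective (f := U.subtype) U.injective_subtype
    rcases hirr (S.map U.subtype) (Submodule.map_subtype_le _ _) (by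
      rintro h _ ⟨u, hu, rfl⟩
      exact ⟨ρU h u, hS h u hu, rfl⟩) with h | h
    · left
      exact hinj (h.trans (Submodule.map_bot _).symm)
    · right
      exact hinj (h.trans (by rw [Submodule.map_top, Submodule.range_subtype]))
  -- the representation is not centralized by `Y`
  have hA : ¬ ∀ h, (Y : Module.End K U) * ρU h = ρU h * Y := by
    intro hcom
    have h1 : ∀ h, ρU ((σ ^ (p ^ s)) h) = ρU h := by
      intro h
      have := hcom h
      rw [hYρ] at this
      exact (Units.mul_left_inj Y).1 this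
    have h2 : ∀ (i : ℕ) (h : Q), ρU (((σ ^ (p ^ s)) ^ i) h) = ρU h := by
      intro i
      induction i with
      | zero => intro h; simp
      | succ i ih =>
        intro h
        rw [pow_succ', MulAut.mul_apply, h1, ih]
    have h3 : ρU.ker = ⊤ := by
      rw [eq_top_iff, ← hgen', Subgroup.closure_le]
      rintro _ ⟨h, rfl⟩
      change ρU _ = 1
      rw [map_mul, h2, ← map_mul, mul_inv_cancel, map_one]
    obtain ⟨h, u, hu, hne⟩ := hne
    apply hne
    have h4 : h ∈ ρU.ker := by rw [h3]; trivial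
    rw [MonoidHom.mem_ker] at h4
    have h5 := congrArg Subtype.val (LinearMap.congr_fun h4 ⟨u, hu⟩)
    exact h5
  obtain ⟨κ, hκ⟩ := exists_commScalar hirrU hcl
  obtain ⟨a, ha⟩ := IsPGroup.iff_card.1 hQ
  have hcard : (Fintype.card Q : K) ≠ 0 := by
    rw [← Nat.card_eq_fintype_card, ha]
    intro h0
    rw [CharP.cast_eq_zero_iff K p] at h0
    exact hpq ((Nat.prime_dvd_prime_iff_eq (Fact.out : p.Prime) (Fact.out : q.Prime)).1
      ((Fact.out : p.Prime).dvd_of_dvd_pow h0)).symm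
  have hD : Decomp Y (p ^ k) := by
    intro T hT
    exact hκ.exists_trace hirrU hcard hYρ hk1 hσ' hgen' hT
  have hY1 : (Y : Module.End K U) - 1 ≠ 0 := by
    intro h0
    apply hA
    intro h
    rw [sub_eq_zero.1 h0, one_mul, mul_one]
  have hne2 := pow_ne_zero_of_decomp p k hk1 hD hY1
  have hp2 : 2 ≤ p ^ k := by
    calc 2 ≤ p := (Fact.out : p.Prime).two_le
      _ = p ^ 1 := (pow_one p).symm
      _ ≤ p ^ k := Nat.pow_le_pow_right (Fact.out : p.Prime).pos hk1
  have hpn : p ^ s * p ^ k = p ^ n := by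
    rw [← pow_add, hk, Nat.add_sub_cancel' hs]
  by_cases h0 : ((Y : Module.End K U) - 1) ^ (p ^ k - 1) = 0
  swap
  · left
    rw [hYval] at h0
    have := key _ h0
    rw [Nat.sub_add_cancel (by omega), hpn] at this
    exact this
  right
  have hfr := finrank_eq_of_decomp p k hk1 hD hY1 h0
  have hsq := finrank_sq U ρU κ hκ hirrU
  obtain ⟨m, hm⟩ : ∃ m, finrank K U = q ^ m := by
    have h1 : finrank K U ∣ q ^ a := by
      rw [← ha]
      refine (Dvd.intro_left _ (pow_two _).symm).trans ?_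
      rw [hsq]
      exact hκ.rad.index_dvd_card
    obtain ⟨m, -, hm⟩ := (Nat.dvd_prime_pow (Fact.out : q.Prime)).1 h1
    exact ⟨m, hm⟩
  have hne1 : finrank K U ≠ 1 := by
    intro h1
    apply hA
    intro h
    obtain ⟨c, hc, -⟩ := LinearMap.existsUnique_eq_smul_id_of_finrank_eq_one h1 (ρU h)
    have hc : ρU h = c • 1 := hc
    rw [hc, mul_smul_comm, mul_one, smul_mul_assoc, one_mul]
  refine ⟨k, m, hk1, by omega, ?_, ?_, ?_, ?_⟩
  · rcases Nat.eq_zero_or_pos m with rfl | h1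
    · rw [pow_zero] at hm
      exact absurd hm hne1
    · exact h1
  · rw [← hfr, hm]
  · by_contra hcomm
    push Not at hcomm
    apply hA
    intro h
    obtain ⟨c, hc⟩ := schur hirrU (ρU h) (fun g => by rw [← map_mul, ← map_mul, hcomm])
    rw [hc, mul_smul_comm, mul_one, smul_mul_assoc, one_mul]
  · rw [hYval] at hne2
    have h1 := key _ hne2
    have h2 : n - k = s := by omega
    have h3 : p ^ k - 2 + 1 = p ^ k - 1 := by omega
    rw [h2]
    rwa [h3] at h1

end Cfsg.Agent.PLocal.HHBCoreAux
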