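import Mathlib
import Cfsg.Agent.PLocal.HHBCent

/-!
A faithful representation `ρ` of a finite group `Q` of class at most two over a field in which `|Q|` is nonzero,
with scalar commutant: the images of coset representatives of the centre form a basis of the endomorphism algebra.
-/

set_option autoImplicit false
open Module Cfsg.Agent.PLocal.HHBCent

namespace Cfsg.Agent.PLocal.HHBTwisted

variable {K V : Type*} [Field K] [AddCommGroup V] [Module K V]
variable {Q : Type*} [Group Q]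

/-- The centre acts by scalars. -/
theorem exists_scalar (ρ : Q →* Module.End K V)
    (hcomm : ∀ T : Module.End K V, (∀ g, T * ρ g = ρ g * T) → ∃ a : K, T = a • 1)
    {z : Q} (hz : z ∈ Subgroup.center Q) : ∃ a : K, ρ z = a • 1 := by
  refine hcomm _ fun g => ?_
  rw [← map_mul, ← map_mul, Subgroup.mem_center_iff.1 hz g]

/-- The sum of the conjugates of a noncentral element vanishes. -/
theorem sum_conj_eq_zero [Fintype Q] (ρ : Q →* Module.End K V) (hρ : Function.Injective ρ)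
    (hcl : ∀ a b : Q, a * b * a⁻¹ * b⁻¹ ∈ Subgroup.center Q)
    (hcomm : ∀ T : Module.End K V, (∀ g, T * ρ g = ρ g * T) → ∃ a : K, T = a • 1)
    {x : Q} (hx : x ∉ Subgroup.center Q) : ∑ h : Q, ρ (h * x * h⁻¹) = 0 := by
  rw [Subgroup.mem_center_iff] at hx
  push Not at hx
  obtain ⟨h₀, hh₀⟩ := hx
  have hz := hcl h₀ x
  set z := h₀ * x * h₀⁻¹ * x⁻¹ with hzdef
  obtain ⟨a, ha⟩ := exists_scalar ρ hcomm hz
  have hz1 : z ≠ 1 := by
    intro h1
    apply hh₀
    rw [hzdef, mul_inv_eq_one, mul_inv_eq_iff_eq_mul] at h1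
    exact h1
  have ha1 : a ≠ 1 := by
    rintro rfl
    rw [one_smul] at ha
    exact hz1 (hρ (by rw [ha, map_one]))
  have key : ∑ h : Q, ρ (h * x * h⁻¹) = a • ∑ h : Q, ρ (h * x * h⁻¹) := by
    conv_lhs => rw [← Equiv.sum_comp (Equiv.mulRight h₀)]
    rw [Finset.smul_sum]
    refine Finset.sum_congr rfl fun h _ => ?_
    have h1 : (Equiv.mulRight h₀) h * x * ((Equiv.mulRight h₀) h)⁻¹ = z * (h * x * h⁻¹) := by
      have hzx : h₀ * x * h₀⁻¹ = z * x := by rw [hzdef]; group
      have hzc : h * z = z * h := Subgroup.mem_center_iff.1 hz h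
      calc (Equiv.mulRight h₀) h * x * ((Equiv.mulRight h₀) h)⁻¹
          = h * (h₀ * x * h₀⁻¹) * h⁻¹ := by simp [mul_assoc]
        _ = (h * z) * x * h⁻¹ := by rw [hzx]; simp [mul_assoc]
        _ = z * (h * x * h⁻¹) := by rw [hzc]; simp [mul_assoc]
    rw [h1, map_mul, ha, smul_mul_assoc, one_mul]
  have h2 : (1 - a) • ∑ h : Q, ρ (h * x * h⁻¹) = 0 := by
    rw [sub_smul, one_smul, sub_eq_zero]
    exact key
  rcases smul_eq_zero.1 h2 with h3 | h3
  · exact absurd (sub_eq_zero.1 h3).symm ha1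
  · exact h3

/-- Averaging an endomorphism over the group gives a scalar. -/
theorem exists_avg [Fintype Q] (ρ : Q →* Module.End K V)
    (hcomm : ∀ T : Module.End K V, (∀ g, T * ρ g = ρ g * T) → ∃ a : K, T = a • 1)
    (T : Module.End K V) : ∃ a : K, ∑ h : Q, ρ h * T * ρ h⁻¹ = a • 1 := by
  refine hcomm _ fun g => ?_
  rw [Finset.sum_mul, Finset.mul_sum]
  conv_lhs => rw [← Equiv.sum_comp (Equiv.mulLeft g)]
  refine Finset.sum_congr rfl fun h _ => ?_
  have h1 : ρ ((Equiv.mulLeft g) h)⁻¹ = ρ h⁻¹ * ρ g⁻¹ := by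
    rw [← map_mul]; simp
  have h2 : ρ ((Equiv.mulLeft g) h) = ρ g * ρ h := by
    rw [← map_mul]; simp
  have h3 : ρ g⁻¹ * ρ g = 1 := by rw [← map_mul, inv_mul_cancel, map_one]
  rw [h1, h2]
  simp only [mul_assoc]
  rw [h3, mul_one]

/-- The group spans the endomorphism algebra. -/
theorem span_range_eq_top [Finite Q] (hK : (Nat.card Q : K) ≠ 0)
    (ρ : Q →* Module.End K V) (hρ : Function.Injective ρ)
    (hcl : ∀ a b : Q, a * b * a⁻¹ * b⁻¹ ∈ Subgroup.center Q)
    (hcomm : ∀ T : Module.End K V, (∀ g, T * ρ g = ρ g * T) → ∃ a : K, T = a • 1) :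
    Submodule.span K (Set.range ρ) = ⊤ := by
  classical
  have : Fintype Q := Fintype.ofFinite Q
  rw [eq_top_iff]
  intro T _
  -- the double sum
  have hsum : ∑ g : Q, (∑ h : Q, ρ h * (T * ρ g⁻¹) * ρ h⁻¹) * ρ g
      = ((Nat.card Q : K) * (Nat.card (Subgroup.center Q) : K)) • T := by
    have h1 : ∀ h : Q, (∑ g : Q, ρ h * (T * ρ g⁻¹) * ρ h⁻¹ * ρ g) =
        if h ∈ Subgroup.center Q then (Nat.card Q : K) • T else 0 := by
      intro h
      have h2 : (∑ g : Q, ρ h * (T * ρ g⁻¹) * ρ h⁻¹ * ρ g) =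
          ρ h * T * ∑ g : Q, ρ (g * h⁻¹ * g⁻¹) := by
        rw [Finset.mul_sum, ← Equiv.sum_comp (Equiv.inv Q)]
        refine Finset.sum_congr rfl fun g _ => ?_
        simp only [map_mul, mul_assoc, Equiv.inv_apply, inv_inv]
      rw [h2]
      split_ifs with hh
      · have h3 : ∀ g : Q, ρ (g * h⁻¹ * g⁻¹) = ρ h⁻¹ := by
          intro g
          have := Subgroup.mem_center_iff.1 (inv_mem hh) g
          rw [this, mul_inv_cancel_right]
        simp only [h3, Finset.sum_const, Finset.card_univ]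
        obtain ⟨a, ha⟩ := exists_scalar ρ hcomm hh
        rw [mul_smul_comm, ha, Nat.card_eq_fintype_card, Nat.cast_smul_eq_nsmul]
        congr 1
        have h4 : ρ h * ρ h⁻¹ = 1 := by rw [← map_mul, mul_inv_cancel, map_one]
        rw [ha] at h4
        rw [smul_mul_assoc, one_mul, smul_mul_assoc, ← mul_smul_comm,
          show (a • ρ h⁻¹) = 1 from by rw [← h4, smul_mul_assoc, one_mul], mul_one]
      · rw [sum_conj_eq_zero ρ hρ hcl hcomm (fun hc => hh (inv_mem_iff.1 hc)), mul_zero]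
    simp only [Finset.sum_mul]
    rw [Finset.sum_comm]
    simp only [h1]
    rw [← Finset.sum_filter, Finset.sum_const, mul_comm, mul_smul]
    have h5 : (Finset.univ.filter (fun h : Q => h ∈ Subgroup.center Q)).card =
        Nat.card (Subgroup.center Q) := by
      rw [Nat.card_eq_fintype_card, Fintype.card_subtype]
    rw [h5]
    simp only [Nat.cast_smul_eq_nsmul]
  have hZ : (Nat.card (Subgroup.center Q) : K) ≠ 0 := by
    intro h0
    apply hK
    have := Subgroup.card_subgroup_dvd_card (Subgroup.center Q)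
    obtain ⟨m, hm⟩ := this
    rw [hm, Nat.cast_mul, h0, zero_mul]
  have hmem : ((Nat.card Q : K) * (Nat.card (Subgroup.center Q) : K)) • T ∈
      Submodule.span K (Set.range ρ) := by
    rw [← hsum]
    refine Submodule.sum_mem _ fun g _ => ?_
    obtain ⟨a, ha⟩ := exists_avg ρ hcomm (T * ρ g⁻¹)
    rw [ha, smul_mul_assoc, one_mul]
    exact Submodule.smul_mem _ _ (Submodule.subset_span ⟨g, rfl⟩)
  have h6 := Submodule.smul_mem _ ((Nat.card Q : K) * (Nat.card (Subgroup.center Q) : K))⁻¹ hmem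
  rwa [smul_smul, inv_mul_cancel₀ (mul_ne_zero hK hZ), one_smul] at h6

/-- Coset representatives of the centre span the endomorphism algebra. -/
theorem span_reps_eq_top [Finite Q] (hK : (Nat.card Q : K) ≠ 0)
    (ρ : Q →* Module.End K V) (hρ : Function.Injective ρ)
    (hcl : ∀ a b : Q, a * b * a⁻¹ * b⁻¹ ∈ Subgroup.center Q)
    (hcomm : ∀ T : Module.End K V, (∀ g, T * ρ g = ρ g * T) → ∃ a : K, T = a • 1)
    (r : Q ⧸ Subgroup.center Q → Q) (hr : ∀ c, (r c : Q ⧸ Subgroup.center Q) = c) :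
    Submodule.span K (Set.range fun c => ρ (r c)) = ⊤ := by
  rw [eq_top_iff, ← span_range_eq_top hK ρ hρ hcl hcomm, Submodule.span_le]
  rintro _ ⟨g, rfl⟩
  have h1 : (r (g : Q ⧸ Subgroup.center Q))⁻¹ * g ∈ Subgroup.center Q := by
    rw [← QuotientGroup.eq]; exact hr _
  obtain ⟨a, ha⟩ := exists_scalar ρ hcomm h1
  have h2 : ρ g = a • ρ (r (g : Q ⧸ Subgroup.center Q)) := by
    have : g = r (g : Q ⧸ Subgroup.center Q) * ((r (g : Q ⧸ Subgroup.center Q))⁻¹ * g) := by group
    conv_lhs => rw [this]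
    rw [map_mul, ha, mul_smul_comm, mul_one]
  rw [SetLike.mem_coe, h2]
  exact Submodule.smul_mem _ _ (Submodule.subset_span ⟨_, rfl⟩)

/-- Coset representatives of the centre are linearly independent. -/
theorem linearIndependent_reps [Finite Q] [Nontrivial V] (hK : (Nat.card Q : K) ≠ 0)
    (ρ : Q →* Module.End K V) (hρ : Function.Injective ρ)
    (hcl : ∀ a b : Q, a * b * a⁻¹ * b⁻¹ ∈ Subgroup.center Q)
    (hcomm : ∀ T : Module.End K V, (∀ g, T * ρ g = ρ g * T) → ∃ a : K, T = a • 1)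
    (r : Q ⧸ Subgroup.center Q → Q) (hr : ∀ c, (r c : Q ⧸ Subgroup.center Q) = c) :
    LinearIndependent K (fun c => ρ (r c)) := by
  classical
  have : Fintype Q := Fintype.ofFinite Q
  have : Fintype (Q ⧸ Subgroup.center Q) := Fintype.ofFinite _
  rw [Fintype.linearIndependent_iff]
  intro f hf c₀
  -- multiply by `ρ (r c₀)⁻¹` and average over conjugation
  have h1 : ∑ h : Q, ρ h * ((∑ c, f c • ρ (r c)) * ρ (r c₀)⁻¹) * ρ h⁻¹ =
      ((Nat.card Q : K) * f c₀) • 1 := by
    have h2 : ∀ h : Q, ρ h * ((∑ c, f c • ρ (r c)) * ρ (r c₀)⁻¹) * ρ h⁻¹ =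
        ∑ c, f c • ρ (h * (r c * (r c₀)⁻¹) * h⁻¹) := by
      intro h
      rw [Finset.sum_mul, Finset.mul_sum, Finset.sum_mul]
      refine Finset.sum_congr rfl fun c _ => ?_
      simp only [map_mul, smul_mul_assoc, mul_smul_comm]
    simp only [h2]
    rw [Finset.sum_comm]
    simp only [← Finset.smul_sum]
    rw [Finset.sum_eq_single c₀]
    · simp only [mul_inv_cancel, mul_one, map_one, Finset.sum_const, Finset.card_univ]
      rw [Nat.card_eq_fintype_card, mul_comm, mul_smul, Nat.cast_smul_eq_nsmul]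
    · intro c _ hc
      rw [sum_conj_eq_zero ρ hρ hcl hcomm, smul_zero]
      intro hmem
      apply hc
      rw [← hr c, ← hr c₀, QuotientGroup.eq]
      have h3 : (r c)⁻¹ * r c₀ = (r c)⁻¹ * (r c * (r c₀)⁻¹)⁻¹ * r c := by group
      rw [h3]
      have h4 := Subgroup.mem_center_iff.1 (inv_mem hmem) (r c)⁻¹
      rw [h4, inv_mul_cancel_right]
      exact inv_mem hmem
    · intro h; exact absurd (Finset.mem_univ _) h
  rw [hf] at h1
  simp only [zero_mul, mul_zero, Finset.sum_const_zero] at h1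
  have h5 : (Nat.card Q : K) * f c₀ = 0 := by
    rcases smul_eq_zero.1 h1.symm with h | h
    · exact h
    · exact absurd h one_ne_zero
  exact (mul_eq_zero.1 h5).resolve_left hK

/-- Coset representatives of the centre give a basis of the endomorphism algebra. -/
noncomputable def repsBasis [Finite Q] [Nontrivial V] (hK : (Nat.card Q : K) ≠ 0)
    (ρ : Q →* Module.End K V) (hρ : Function.Injective ρ)
    (hcl : ∀ a b : Q, a * b * a⁻¹ * b⁻¹ ∈ Subgroup.center Q)
    (hcomm : ∀ T : Module.End K V, (∀ g, T * ρ g = ρ g * T) → ∃ a : K, T = a • 1)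
    (r : Q ⧸ Subgroup.center Q → Q) (hr : ∀ c, (r c : Q ⧸ Subgroup.center Q) = c) :
    Basis (Q ⧸ Subgroup.center Q) K (Module.End K V) :=
  Basis.mk (linearIndependent_reps hK ρ hρ hcl hcomm r hr)
    (span_reps_eq_top hK ρ hρ hcl hcomm r hr).ge

theorem repsBasis_apply [Finite Q] [Nontrivial V] (hK : (Nat.card Q : K) ≠ 0)
    (ρ : Q →* Module.End K V) (hρ : Function.Injective ρ)
    (hcl : ∀ a b : Q, a * b * a⁻¹ * b⁻¹ ∈ Subgroup.center Q)
    (hcomm : ∀ T : Module.End K V, (∀ g, T * ρ g = ρ g * T) → ∃ a : K, T = a • 1)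
    (r : Q ⧸ Subgroup.center Q → Q) (hr : ∀ c, (r c : Q ⧸ Subgroup.center Q) = c)
    (c : Q ⧸ Subgroup.center Q) :
    repsBasis hK ρ hρ hcl hcomm r hr c = ρ (r c) :=
  Basis.mk_apply _ _ c

/-- L4a: if `Z(Q)` acts by scalars (faithful `ρ`) and the commutant of `ρ(Q)` is `K`, `Q` of class ≤ 2, then
`(dim V)^2 = |Q/Z|`. -/
theorem L4a {K V : Type*} [Field K] [AddCommGroup V] [Module K V] [FiniteDimensional K V] [Nontrivial V]
    {Q : Type*} [Group Q] [Finite Q] (hK : (Nat.card Q : K) ≠ 0)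
    (ρ : Q →* Module.End K V) (hρ : Function.Injective ρ)
    (hcl : ∀ a b : Q, a * b * a⁻¹ * b⁻¹ ∈ Subgroup.center Q)
    (hcomm : ∀ T : Module.End K V, (∀ g, T * ρ g = ρ g * T) → ∃ a : K, T = a • 1) :
    finrank K V ^ 2 = Nat.card (Q ⧸ Subgroup.center Q) := by
  have hr : ∀ c : Q ⧸ Subgroup.center Q, ((Quotient.out c : Q) : Q ⧸ Subgroup.center Q) = c :=
    fun c => QuotientGroup.out_eq' c
  have h1 := Module.finrank_eq_nat_card_basis (repsBasis hK ρ hρ hcl hcomm Quotient.out hr)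
  rw [← h1, sq]
  exact (Module.finrank_linearMap K K V V).symm

end Cfsg.Agent.PLocal.HHBTwisted
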