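import Mathlib
import Cfsg.Agent.PLocal.HHBLinear
import Cfsg.Agent.PLocal.HHBTwisted

/-!
`(dim U)² = |Q : rad κ|` for an irreducible representation of a group of class at most two (modulo the kernel).
-/

set_option autoImplicit false

namespace Cfsg.Agent.PLocal.HHBFinrankSq

open Cfsg.Agent.PLocal.HHBLinear

theorem finrank_sq {K : Type*} [Field K] [IsAlgClosed K] {U : Type*} [AddCommGroup U] [Module K U]
    [FiniteDimensional K U] [Nontrivial U] {Q : Type*} [Group Q] [Fintype Q]
    (hcard : (Fintype.card Q : K) ≠ 0) {ρ : Q →* Module.End K U} {κ : Q → Q → K}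
    (hκ : CommScalar ρ κ) (hirr : IsIrr ρ) : Module.finrank K U ^ 2 = hκ.rad.index := by
  classical
  set N := ρ.ker with hN
  let ρ' : (Q ⧸ N) →* Module.End K U := QuotientGroup.lift N ρ (fun x hx => hx)
  have hρ' : ∀ g : Q, ρ' (QuotientGroup.mk' N g) = ρ g := fun g => rfl
  have hinj : Function.Injective ρ' := by
    rw [← MonoidHom.ker_eq_bot_iff, eq_bot_iff]
    intro x hx
    obtain ⟨g, rfl⟩ := QuotientGroup.mk'_surjective N x
    rw [MonoidHom.mem_ker, hρ'] at hx
    rw [Subgroup.mem_bot]
    exact (QuotientGroup.eq_one_iff g).2 hx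
  have hcomm : ∀ a b : Q, ρ (a * b * a⁻¹ * b⁻¹) = κ a b • 1 := by
    intro a b
    have h1 : a * b = (a * b * a⁻¹ * b⁻¹) * (b * a) := by group
    have h2 : ρ (a * b * a⁻¹ * b⁻¹) * ρ (b * a) = κ a b • (1 : Module.End K U) * ρ (b * a) := by
      rw [← map_mul, ← h1, map_mul, hκ.comm, smul_mul_assoc, one_mul, map_mul]
    have h3 : IsUnit (ρ (b * a)) := ((Group.isUnit (b * a)).map ρ)
    exact h3.mul_right_cancel h2
  have h := HHBTwisted.L4a (Q := Q ⧸ N) (K := K) (V := U) (by
      intro h0
      apply hcard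
      rw [← Nat.card_eq_fintype_card, Subgroup.card_eq_card_quotient_mul_card_subgroup N,
        Nat.cast_mul, h0, zero_mul]) ρ' hinj (by
      intro a b
      obtain ⟨a, rfl⟩ := QuotientGroup.mk'_surjective N a
      obtain ⟨b, rfl⟩ := QuotientGroup.mk'_surjective N b
      rw [Subgroup.mem_center_iff]
      intro c
      obtain ⟨c, rfl⟩ := QuotientGroup.mk'_surjective N c
      apply hinj
      rw [← map_mul, ← map_inv, ← map_inv, ← map_mul, ← map_mul, ← map_mul, ← map_mul, hρ', hρ',
        map_mul ρ c, map_mul ρ _ c, hcomm]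
      simp) (by
      intro T hT
      exact schur hirr T fun g => hT (QuotientGroup.mk' N g))
  rw [h]
  have hZ : (Subgroup.center (Q ⧸ N)).comap (QuotientGroup.mk' N) = hκ.rad := by
    ext u
    rw [Subgroup.mem_comap, Subgroup.mem_center_iff, hκ.mem_rad]
    constructor
    · intro h g
      have h1 := congrArg ρ' (h (QuotientGroup.mk' N g))
      rw [map_mul, map_mul, hρ', hρ', hκ.comm g u] at h1
      have h3 : IsUnit (ρ u * ρ g) := by
        rw [← map_mul]; exact (Group.isUnit _).map ρ
      have h4 : κ g u • (ρ u * ρ g) = (1 : K) • (ρ u * ρ g) := by rw [h1, one_smul]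
      exact smul_left_injective K (h3.ne_zero) h4
    · intro h g
      obtain ⟨g, rfl⟩ := QuotientGroup.mk'_surjective N g
      apply hinj
      rw [map_mul, map_mul, hρ', hρ', hκ.comm g u, h g, one_smul]
  rw [← hZ, Subgroup.index_comap_of_surjective _ (QuotientGroup.mk'_surjective N)]
  rfl

end Cfsg.Agent.PLocal.HHBFinrankSq
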