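import Mathlib

/-!
# Hall–Higman Theorem B: reduction of the core statement to the faithful, minimal, irreducible case
-/

set_option autoImplicit false

open Module

namespace Cfsg.Agent.PLocal.HHBReduceCore

universe u v w

/-- The conclusion of the core statement. -/
def Concl (p q : ℕ) (Q : Type*) [Group Q] (n r : ℕ) : Prop :=
  p ^ n ≤ r ∨ ∃ n₀ m : ℕ, 1 ≤ n₀ ∧ n₀ ≤ n ∧ 1 ≤ m ∧ p ^ n₀ - 1 = q ^ m ∧
      (∃ a b : Q, a * b ≠ b * a) ∧ p ^ (n - n₀) * (p ^ n₀ - 1) ≤ r

theorem Concl_def (p q : ℕ) (Q : Type*) [Group Q] (n r : ℕ) : Concl p q Q n r ↔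
  (p ^ n ≤ r ∨ ∃ n₀ m : ℕ, 1 ≤ n₀ ∧ n₀ ≤ n ∧ 1 ≤ m ∧ p ^ n₀ - 1 = q ^ m ∧
      (∃ a b : Q, a * b ≠ b * a) ∧ p ^ (n - n₀) * (p ^ n₀ - 1) ≤ r) := Iff.rfl

theorem Concl.of_injective {p q : ℕ} {Q Q' : Type*} [Group Q] [Group Q'] (f : Q' →* Q)
    (hf : Function.Injective f) {n r : ℕ} (h : Concl p q Q' n r) : Concl p q Q n r := by
  rcases h with h | ⟨n₀, m, h1, h2, h3, h4, ⟨a, b, hab⟩, h5⟩
  · exact Or.inl h
  · refine Or.inr ⟨n₀, m, h1, h2, h3, h4, ⟨f a, f b, fun h => hab (hf ?_)⟩, h5⟩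
    rw [map_mul, map_mul, h]

theorem Concl.of_surjective {p q : ℕ} {Q Q' : Type*} [Group Q] [Group Q'] (f : Q →* Q')
    (hf : Function.Surjective f) {n r : ℕ} (h : Concl p q Q' n r) : Concl p q Q n r := by
  rcases h with h | ⟨n₀, m, h1, h2, h3, h4, ⟨a, b, hab⟩, h5⟩
  · exact Or.inl h
  · obtain ⟨a, rfl⟩ := hf a
    obtain ⟨b, rfl⟩ := hf b
    refine Or.inr ⟨n₀, m, h1, h2, h3, h4, ⟨a, b, fun h => hab ?_⟩, h5⟩
    rw [← map_mul, ← map_mul, h]

/-- The core statement for vector spaces of dimension `d` and groups of order `m`. -/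
def CoreFor (K : Type w) [Field K] (p q d m : ℕ) : Prop :=
  ∀ (V : Type v) [AddCommGroup V] [Module K V] [FiniteDimensional K V] (_ : finrank K V = d)
    (Q : Type u) [Group Q] [Finite Q] (_ : IsPGroup q Q) (_ : Nat.card Q = m)
    (ρ : Q →* Module.End K V) (σ : MulAut Q) (X : Module.End K V)
    (_ : ∀ g, X * ρ g = ρ (σ g) * X) (n : ℕ) (_ : 1 ≤ n) (_ : X ^ (p ^ n) = 1)
    (_ : σ ^ (p ^ n) = 1) (_ : ∃ g, ρ ((σ ^ (p ^ (n - 1))) g) ≠ ρ g)
    (r : ℕ) (_ : (X - 1) ^ r = 0), Concl p q Q n r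

/-- powers of the automorphism induced on an invariant subgroup -/
theorem exists_restrict {Q : Type*} [Group Q] [Finite Q] (σ : MulAut Q) (L : Subgroup Q)
    (hL : ∀ g ∈ L, σ g ∈ L) : ∃ τ : MulAut L, ∀ (k : ℕ) (g : L), (((τ ^ k) g : L) : Q) = (σ ^ k) g := by
  have hmap : L.map (σ : Q ≃* Q).toMonoidHom = L := by
    apply SetLike.coe_injective
    apply Set.eq_of_subset_of_ncard_le ?_ ?_ (Set.toFinite _)
    · rintro _ ⟨g, hg, rfl⟩
      exact hL g hg
    · rw [Subgroup.coe_map]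
      exact (Set.ncard_image_of_injective _ σ.injective).ge
  let τ : MulAut L := (MulEquiv.subgroupMap (σ : Q ≃* Q) L).trans (MulEquiv.subgroupCongr hmap)
  have hτ : ∀ g : L, ((τ g : L) : Q) = σ g := fun g => rfl
  refine ⟨τ, fun k => ?_⟩
  induction k with
  | zero => intro g; rfl
  | succ k ih =>
    intro g
    rw [pow_succ, pow_succ]
    change (((τ ^ k) (τ g) : L) : Q) = (σ ^ k) (σ g)
    rw [ih, hτ]

/-- powers of the automorphism induced on the quotient by an invariant normal subgroup -/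
theorem exists_quotient {Q : Type*} [Group Q] [Finite Q] (σ : MulAut Q) (N : Subgroup Q) [N.Normal]
    (hN : ∀ g ∈ N, σ g ∈ N) : ∃ τ : MulAut (Q ⧸ N), ∀ (k : ℕ) (g : Q),
      (τ ^ k) (QuotientGroup.mk' N g) = QuotientGroup.mk' N ((σ ^ k) g) := by
  have hmap : N.map (σ : Q ≃* Q).toMonoidHom = N := by
    apply SetLike.coe_injective
    apply Set.eq_of_subset_of_ncard_le ?_ ?_ (Set.toFinite _)
    · rintro _ ⟨g, hg, rfl⟩
      exact hN g hg
    · rw [Subgroup.coe_map]
      exact (Set.ncard_image_of_injective _ σ.injective).ge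
  let τ : MulAut (Q ⧸ N) := QuotientGroup.congr N N (σ : Q ≃* Q) hmap
  have hτ : ∀ g : Q, τ (QuotientGroup.mk' N g) = QuotientGroup.mk' N (σ g) := fun g => rfl
  refine ⟨τ, fun k => ?_⟩
  induction k with
  | zero => intro g; rfl
  | succ k ih =>
    intro g
    rw [pow_succ, pow_succ]
    change (τ ^ k) (τ (QuotientGroup.mk' N g)) = QuotientGroup.mk' N ((σ ^ k) (σ g))
    rw [hτ, ih]

/-- An element of a `q`-group acting as a unipotent endomorphism in characteristic `p ≠ q` acts trivially. -/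
theorem eq_one_of_unipotent {K V Q : Type*} [Field K] {p q : ℕ} [hp : Fact p.Prime] [CharP K p]
    [hq : Fact q.Prime] (hpq : q ≠ p) [AddCommGroup V] [Module K V] [Group Q] (hQ : IsPGroup q Q)
    (ρ : Q →* Module.End K V) (c : Q) (h : (ρ c - 1) ^ 2 = 0) : ρ c = 1 := by
  have h1 : (ρ c - 1) ^ p = 0 := by
    have : 2 ≤ p := hp.out.two_le
    obtain ⟨k, rfl⟩ := Nat.exists_eq_add_of_le this
    rw [pow_add, h, zero_mul]
  have h2 : (ρ c) ^ p = 1 := by
    have : CharP (Module.End K V) p ∨ Subsingleton (Module.End K V) := by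
      rcases subsingleton_or_nontrivial V with hV | hV
      · right
        exact ⟨fun f g => LinearMap.ext fun x => Subsingleton.elim _ _⟩
      · left
        exact charP_of_injective_algebraMap (algebraMap K (Module.End K V)).injective p
    rcases this with h3 | h3
    · have h4 : (ρ c - 1) ^ p = ρ c ^ p - 1 ^ p := sub_pow_char_of_commute _ (Commute.one_right _)
      rw [h1, one_pow] at h4
      exact (sub_eq_zero.1 h4.symm)
    · exact Subsingleton.elim _ _
  obtain ⟨k, hk⟩ := hQ c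
  have h3 : (ρ c) ^ (q ^ k) = 1 := by rw [← map_pow, hk, map_one]
  have h4 : Nat.Coprime (q ^ k) p :=
    Nat.Coprime.pow_left k ((Nat.coprime_primes hq.out hp.out).2 hpq)
  have h5 : orderOf (ρ c) ∣ 1 := by
    have := Nat.dvd_gcd (orderOf_dvd_of_pow_eq_one h3) (orderOf_dvd_of_pow_eq_one h2)
    rwa [Nat.Coprime.gcd_eq_one h4] at this
  exact orderOf_eq_one_iff.1 (Nat.dvd_one.1 h5)

theorem restrict_pow_apply {K V : Type*} [Field K] [AddCommGroup V] [Module K V] (U : Submodule K V)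
    (A : Module.End K V) (B : Module.End K U) (h : ∀ u : U, ((B u : U) : V) = A u) (k : ℕ) :
    ∀ u : U, (((B ^ k) u : U) : V) = (A ^ k) u := by
  induction k with
  | zero => intro u; rfl
  | succ k ih =>
    intro u
    rw [pow_succ, pow_succ]
    change (((B ^ k) (B u) : U) : V) = (A ^ k) (A u)
    rw [ih, h]

theorem quot_pow_apply {K V : Type*} [Field K] [AddCommGroup V] [Module K V] (U : Submodule K V)
    (A : Module.End K V) (B : Module.End K (V ⧸ U)) (h : ∀ v : V, B (U.mkQ v) = U.mkQ (A v)) (k : ℕ) :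
    ∀ v : V, (B ^ k) (U.mkQ v) = U.mkQ ((A ^ k) v) := by
  induction k with
  | zero => intro v; rfl
  | succ k ih =>
    intro v
    rw [pow_succ, pow_succ]
    change (B ^ k) (B (U.mkQ v)) = U.mkQ ((A ^ k) (A v))
    rw [h, ih]

/-- Reduction of the core statement. -/
theorem reduce_core {K : Type w} [Field K] {p q : ℕ} [Fact p.Prime] [CharP K p]
    [Fact q.Prime] (hpq : q ≠ p)
    (main : ∀ d : ℕ, (∀ d' < d, ∀ m', CoreFor.{u, v, w} K p q d' m') →
      ∀ (V : Type v) [AddCommGroup V] [Module K V] [FiniteDimensional K V] (_ : finrank K V = d)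
        (Q : Type u) [Group Q] [Finite Q] (_ : IsPGroup q Q)
        (ρ : Q →* Module.End K V) (σ : MulAut Q) (X : Module.End K V)
        (_ : ∀ g, X * ρ g = ρ (σ g) * X) (n : ℕ) (_ : 1 ≤ n) (_ : X ^ (p ^ n) = 1)
        (_ : σ ^ (p ^ n) = 1) (_ : ∃ g, ρ ((σ ^ (p ^ (n - 1))) g) ≠ ρ g)
        (r : ℕ) (_ : (X - 1) ^ r = 0)
        (_ : Function.Injective ρ)
        (_ : ∀ L : Subgroup Q, L ≠ ⊤ → (∀ g ∈ L, σ g ∈ L) →
          ∀ g ∈ L, (σ ^ (p ^ (n - 1))) g = g)
        (_ : ∀ U : Submodule K V, U ≠ ⊥ → U ≠ ⊤ → (∀ g, U ≤ U.comap (ρ g)) → ¬ U ≤ U.comap X),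
        Concl p q Q n r) :
    ∀ d m : ℕ, CoreFor.{u, v, w} K p q d m := by
  intro d
  induction d using Nat.strong_induction_on with
  | _ d ihd =>
  intro m
  induction m using Nat.strong_induction_on with
  | _ m ihm =>
  intro V _ _ _ hd Q _ _ hQ hm ρ σ X hXρ n hn hXn hσn hy r hr
  have hpos : 0 < p ^ n := pow_pos (Fact.out : p.Prime).pos n
  have hXu : IsUnit X := IsUnit.of_pow_eq_one hXn hpos.ne'
  -- (a) `ρ` is injective
  by_cases hinj : Function.Injective ρ
  swap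
  · have hker : ∀ g ∈ ρ.ker, σ g ∈ ρ.ker := by
      intro g hg
      rw [MonoidHom.mem_ker] at hg ⊢
      have h1 := hXρ g
      rw [hg, mul_one] at h1
      exact hXu.mul_right_cancel (by rw [one_mul]; exact h1.symm)
    obtain ⟨τ, hτ⟩ := exists_quotient σ ρ.ker hker
    have hcard : Nat.card (Q ⧸ ρ.ker) < m := by
      rw [← hm]
      have hne : ρ.ker ≠ ⊥ := fun h => hinj ((MonoidHom.ker_eq_bot_iff ρ).1 h)
      have h1 : 1 < Nat.card ρ.ker := (Subgroup.one_lt_card_iff_ne_bot _).2 hne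
      have h2 := Subgroup.card_eq_card_quotient_mul_card_subgroup ρ.ker
      have h3 : 0 < Nat.card (Q ⧸ ρ.ker) := Nat.card_pos
      rw [h2]
      exact lt_mul_of_one_lt_right h3 h1
    have hlift : ∀ g : Q, QuotientGroup.lift ρ.ker ρ (fun x hx => hx) (QuotientGroup.mk' ρ.ker g)
        = ρ g := fun g => rfl
    refine Concl.of_surjective (QuotientGroup.mk' ρ.ker) (QuotientGroup.mk'_surjective _)
      (ihm _ hcard V hd (Q ⧸ ρ.ker) (hQ.to_quotient _) rfl
        (QuotientGroup.lift ρ.ker ρ (fun x hx => hx)) τ X ?_ n hn hXn ?_ ?_ r hr)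
    · intro g
      obtain ⟨g, rfl⟩ := QuotientGroup.mk'_surjective _ g
      have h1 := hτ 1 g
      rw [pow_one, pow_one] at h1
      rw [h1, hlift, hlift]
      exact hXρ g
    · ext g
      obtain ⟨g, rfl⟩ := QuotientGroup.mk'_surjective _ g
      rw [hτ, hσn]
      rfl
    · obtain ⟨g, hg⟩ := hy
      refine ⟨QuotientGroup.mk' ρ.ker g, ?_⟩
      rw [hτ, hlift, hlift]
      exact hg
  -- (b) proper invariant subgroups
  by_cases hmin : ∀ L : Subgroup Q, L ≠ ⊤ → (∀ g ∈ L, σ g ∈ L) →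
          ∀ g ∈ L, (σ ^ (p ^ (n - 1))) g = g
  swap
  · push Not at hmin
    obtain ⟨L, hLtop, hLσ, g, hg, hgne⟩ := hmin
    obtain ⟨τ, hτ⟩ := exists_restrict σ L hLσ
    have hcard : Nat.card L < m := by
      rw [← hm]
      exact lt_of_le_of_ne (Subgroup.card_le_card_group L) fun h => hLtop (Subgroup.eq_top_of_card_eq L h)
    refine Concl.of_injective L.subtype L.subtype_injective
      (ihm _ hcard V hd L (hQ.to_subgroup _) rfl (ρ.comp L.subtype) τ X ?_ n hn hXn ?_ ?_ r hr)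
    · intro g
      have h1 := hτ 1 g
      rw [pow_one, pow_one] at h1
      change X * ρ (g : Q) = ρ ((τ g : L) : Q) * X
      rw [h1]
      exact hXρ g
    · ext g
      rw [hτ, hσn]
      rfl
    · refine ⟨⟨g, hg⟩, fun h => hgne (hinj ?_)⟩
      change ρ (((τ ^ (p ^ (n - 1))) ⟨g, hg⟩ : L) : Q) = ρ g at h
      rwa [hτ] at h
  -- (c) invariant submodules
  by_cases hirr : ∀ U : Submodule K V, U ≠ ⊥ → U ≠ ⊤ → (∀ g, U ≤ U.comap (ρ g)) → ¬ U ≤ U.comap X
  · exact main d (fun d' hd' m' => ihd d' hd' m') V hd Q hQ ρ σ X hXρ n hn hXn hσn hy r hr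
      hinj hmin hirr
  push Not at hirr
  obtain ⟨U, hUbot, hUtop, hUρ, hUX⟩ := hirr
  have hltU : finrank K U < d := by
    rw [← hd]
    exact Submodule.finrank_lt hUtop
  have hltQ : finrank K (V ⧸ U) < d := by
    rw [← hd]
    have h1 := U.finrank_quotient_add_finrank
    have h2 : 0 < finrank K U := by
      rw [Module.finrank_pos_iff]
      exact Submodule.nontrivial_iff_ne_bot.2 hUbot
    omega
  -- restriction to `U`
  let ρU : Q →* Module.End K U :=
    { toFun := fun g => (ρ g).restrict (hUρ g)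
      map_one' := by
        ext x
        simp
      map_mul' := by
        intro g h
        ext x
        simp }
  have hρU : ∀ (g : Q) (u : U), ((ρU g u : U) : V) = ρ g u := fun g u => rfl
  let XU : Module.End K U := X.restrict hUX
  have hXU : ∀ u : U, ((XU u : U) : V) = X u := fun u => rfl
  -- the quotient
  let ρW : Q →* Module.End K (V ⧸ U) :=
    { toFun := fun g => U.mapQ U (ρ g) (hUρ g)
      map_one' := by
        ext x
        simp
      map_mul' := by
        intro g h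
        ext x
        simp }
  have hρW : ∀ (g : Q) (v : V), ρW g (U.mkQ v) = U.mkQ (ρ g v) := fun g v => rfl
  let XW : Module.End K (V ⧸ U) := U.mapQ U X hUX
  have hXW : ∀ v : V, XW (U.mkQ v) = U.mkQ (X v) := fun v => rfl
  obtain ⟨g, hg⟩ := hy
  by_cases h1 : ρU ((σ ^ (p ^ (n - 1))) g) = ρU g
  swap
  · refine ihd _ hltU (Nat.card Q) U rfl Q hQ rfl ρU σ XU ?_ n hn ?_ hσn ⟨g, h1⟩ r ?_
    · intro g
      ext u
      have := LinearMap.congr_fun (hXρ g) (u : V)
      exact this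
    · ext u
      rw [restrict_pow_apply U X XU hXU, hXn]
      rfl
    · ext u
      rw [restrict_pow_apply U (X - 1) (XU - 1) (fun u => rfl), hr]
      rfl
  by_cases h2 : ρW ((σ ^ (p ^ (n - 1))) g) = ρW g
  swap
  · refine ihd _ hltQ (Nat.card Q) (V ⧸ U) rfl Q hQ rfl ρW σ XW ?_ n hn ?_ hσn ⟨g, h2⟩ r ?_
    · intro g
      refine LinearMap.ext fun v => ?_
      obtain ⟨v, rfl⟩ := U.mkQ_surjective v
      have := congrArg U.mkQ (LinearMap.congr_fun (hXρ g) v)
      exact this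
    · refine LinearMap.ext fun v => ?_
      obtain ⟨v, rfl⟩ := U.mkQ_surjective v
      rw [quot_pow_apply U X XW hXW, hXn]
      rfl
    · refine LinearMap.ext fun v => ?_
      obtain ⟨v, rfl⟩ := U.mkQ_surjective v
      rw [quot_pow_apply U (X - 1) (XW - 1) (fun v => rfl), hr]
      rfl
  exfalso
  set c : Q := g⁻¹ * (σ ^ (p ^ (n - 1))) g with hc
  have hcU : ρU c = 1 := by
    rw [hc, map_mul, h1, ← map_mul, inv_mul_cancel, map_one]
  have hcW : ρW c = 1 := by
    rw [hc, map_mul, h2, ← map_mul, inv_mul_cancel, map_one]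
  have hsq : (ρ c - 1) ^ 2 = 0 := by
    ext v
    have h3 : (ρ c - 1) v ∈ U := by
      rw [← Submodule.ker_mkQ U, LinearMap.mem_ker]
      change U.mkQ (ρ c v - v) = 0
      rw [map_sub, ← hρW, hcW]
      exact sub_self _
    have h4 := LinearMap.congr_fun hcU ⟨_, h3⟩
    have h5 := congrArg Subtype.val h4
    change ρ c ((ρ c - 1) v) = (ρ c - 1) v at h5
    rw [pow_two]
    change ρ c ((ρ c - 1) v) - (ρ c - 1) v = 0
    rw [h5, sub_self]
  have h6 := eq_one_of_unipotent hpq hQ ρ c hsq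
  apply hg
  have h7 : (σ ^ (p ^ (n - 1))) g = g * c := by rw [hc, mul_inv_cancel_left]
  rw [h7, map_mul, h6, mul_one]

end Cfsg.Agent.PLocal.HHBReduceCore
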