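import Mathlib
import Cfsg.Agent.PLocal.HHBCoreAux
import Cfsg.Agent.PLocal.HHBMinimal
import Cfsg.Agent.PLocal.HHBFinrankSq
import Cfsg.Agent.PLocal.HHBClifford
import Cfsg.Agent.PLocal.HHBReduceCore

/-!
# Hall–Higman Theorem B: the core statement over an algebraically closed field
-/

set_option autoImplicit false

open Module

namespace Cfsg.Agent.PLocal.HHBCore

open scoped commutatorElement

theorem core {K : Type*} [Field K] [IsAlgClosed K] {p q : ℕ} [Fact p.Prime] [CharP K p] [Fact q.Prime]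
    (hpq : q ≠ p) {V : Type*} [AddCommGroup V] [Module K V] [FiniteDimensional K V]
    {Q : Type*} [Group Q] [Finite Q] (hQ : IsPGroup q Q)
    (ρ : Q →* Module.End K V) (hρ : Function.Injective ρ) (σ : MulAut Q) (X : Module.End K V)
    (hXρ : ∀ g, X * ρ g = ρ (σ g) * X) (n : ℕ) (hn : 1 ≤ n) (hXn : X ^ (p ^ n) = 1)
    (hσn : σ ^ (p ^ n) = 1) (hy : ∃ g, (σ ^ (p ^ (n - 1))) g ≠ g)
    (r : ℕ) (hr : (X - 1) ^ r = 0) :
    p ^ n ≤ r ∨ ∃ n₀ m : ℕ, 1 ≤ n₀ ∧ n₀ ≤ n ∧ 1 ≤ m ∧ p ^ n₀ - 1 = q ^ m ∧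
      (∃ a b : Q, a * b ≠ b * a) ∧ p ^ (n - n₀) * (p ^ n₀ - 1) ≤ r := by
  classical
  obtain ⟨L, hLbot, hLσ, hcl, hgen⟩ := HHBMinimal.exists_minimal hpq hQ σ n hn hσn hy
  have hLmem : ∀ g ∈ L, σ g ∈ L := by
    intro g hg
    have : σ g ∈ L.map σ.toMonoidHom := ⟨g, hg, rfl⟩
    rwa [hLσ] at this
  obtain ⟨τ, hτ⟩ := HHBReduceCore.exists_restrict σ L hLmem
  have hLQ : IsPGroup q L := hQ.to_subgroup L
  have hpp : p ^ n ≠ 0 := (pow_pos (Fact.out : p.Prime).pos n).ne'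
  obtain ⟨Xu, hXu⟩ : ∃ Xu : (Module.End K V)ˣ, (Xu : Module.End K V) = X :=
    IsUnit.of_pow_eq_one hXn hpp
  have hXL : ∀ h : L, X * (ρ.comp L.subtype) h = (ρ.comp L.subtype) (τ h) * X := by
    intro h
    have h1 := hτ 1 h
    rw [pow_one, pow_one] at h1
    change X * ρ (h : Q) = ρ ((τ h : L) : Q) * X
    rw [h1]
    exact hXρ h
  have hτn : τ ^ (p ^ n) = 1 := by
    ext g
    rw [hτ, hσn]
    rfl
  obtain ⟨a, ha⟩ := IsPGroup.iff_card.1 hLQ
  have hcard : (Nat.card L : K) ≠ 0 := by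
    rw [ha]
    intro h0
    rw [CharP.cast_eq_zero_iff K p] at h0
    exact hpq ((Nat.prime_dvd_prime_iff_eq (Fact.out : p.Prime) (Fact.out : q.Prime)).1
      ((Fact.out : p.Prime).dvd_of_dvd_pow h0)).symm
  obtain ⟨s, hs, U, hU, hUρ, hirr, hne, hUX, hind⟩ := HHBClifford.clifford (p := p) hcard
    (ρ.comp L.subtype) Xu τ (by rw [hXu]; exact hXL) n (by
      apply Units.ext
      rw [Units.val_pow_eq_pow_val, hXu, hXn, Units.val_one]) (by
      obtain ⟨g, hg⟩ := Subgroup.ne_bot_iff_exists_ne_one.1 hLbot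
      exact ⟨g, fun h => hg (Subtype.ext (hρ (by rw [OneMemClass.coe_one, map_one]; exact h)))⟩)
  rw [hXu] at hUX hind
  let _ : Fintype L := Fintype.ofFinite L
  have key := HHBCoreAux.core_aux hpq hLQ (fun U _ _ _ _ ρ κ hκ hirr =>
      HHBFinrankSq.finrank_sq (by rwa [← Nat.card_eq_fintype_card]) hκ hirr)
    (ρ.comp L.subtype) τ X hXL n hXn hτn (by
      intro a b c
      apply Subtype.ext
      exact hcl a a.2 b b.2 c c.2) (by
      apply Subgroup.map_injective L.subtype_injective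
      rw [MonoidHom.map_closure, ← MonoidHom.range_eq_map, Subgroup.range_subtype]
      refine Eq.trans ?_ hgen
      congr 1
      ext z
      constructor
      · rintro ⟨_, ⟨h, rfl⟩, rfl⟩
        refine ⟨h, h.2, ?_⟩
        rw [← hτ]
        rfl
      · rintro ⟨u, hu, rfl⟩
        refine ⟨_, ⟨⟨u, hu⟩, rfl⟩, ?_⟩
        change (((τ ^ (p ^ (n - 1))) ⟨u, hu⟩ : L) : Q) * u⁻¹ = _
        rw [hτ]) s hs U hU hUρ hirr hne hUX hind r hr
  rcases key with h | ⟨n₀, m, h1, h2, h3, h4, ⟨a, b, hab⟩, h5⟩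
  · exact Or.inl h
  · exact Or.inr ⟨n₀, m, h1, h2, h3, h4, ⟨a, b, fun h => hab (Subtype.ext h)⟩, h5⟩

end Cfsg.Agent.PLocal.HHBCore
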