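import Mathlib

/-!
Hall-Higman Theorem B, step L2: if `X` permutes independent translates `E, XE, ..., X^(p-1)E` cyclically and
`(X - 1) ^ r = 0`, then `(X ^ p - 1) ^ s = 0` on `E` for some `s ≥ 1` with `p * s ≤ r`.
-/

set_option autoImplicit false
open Module Polynomial

namespace Cfsg.Agent.PLocal.HHBInduced

theorem pow_char_sub {K V : Type*} [Field K] [AddCommGroup V] [Module K V]
    {p : ℕ} [Fact p.Prime] [CharP K p] (X : Module.End K V) : (X - 1) ^ p = X ^ p - 1 := by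
  have h := sub_pow_char (p := p) (Polynomial.X : K[X]) 1
  have h2 := congrArg (Polynomial.aeval X) h
  simpa using h2

theorem L2 {K V : Type*} [Field K] [AddCommGroup V] [Module K V] [FiniteDimensional K V]
    {p : ℕ} [Fact p.Prime] [CharP K p]
    (X : Module.End K V) (E : Submodule K V) (hE : E ≠ ⊥)
    (hind : iSupIndep (fun i : Fin p => E.map (X ^ (i : ℕ))))
    (hXp : E.map (X ^ p) ≤ E) (n : ℕ) (hn : 1 ≤ n) (hX : X ^ (p ^ n) = 1)
    (r : ℕ) (hr : (X - 1) ^ r = 0) :
    ∃ s : ℕ, 1 ≤ s ∧ p * s ≤ r ∧ ∀ v ∈ E, ((X ^ p - 1) ^ s) v = 0 := by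
  classical
  have hp := (Fact.out : p.Prime)
  have hpow : (X - 1) ^ p = X ^ p - 1 := pow_char_sub X
  have hex : ∃ s : ℕ, ∀ v ∈ E, ((X ^ p - 1) ^ s) v = 0 := by
    refine ⟨r, fun v _ => ?_⟩
    rw [← hpow, ← pow_mul, mul_comm, pow_mul, hr, zero_pow hp.ne_zero]
    rfl
  have hs := Nat.find_spec hex
  set s := Nat.find hex with hsdef
  have hs1 : 1 ≤ s := by
    by_contra hlt
    have hs0 : s = 0 := by omega
    apply hE
    rw [Submodule.eq_bot_iff]
    intro v hv
    have := hs v hv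
    rw [hs0] at this
    simpa using this
  refine ⟨s, hs1, ?_, hs⟩
  by_contra hlt
  push Not at hlt
  have hmin : ¬ ∀ v ∈ E, ((X ^ p - 1) ^ (s - 1)) v = 0 := Nat.find_min hex (by omega)
  push Not at hmin
  obtain ⟨v, hv, hv0⟩ := hmin
  set e := ((X ^ p - 1) ^ (s - 1)) v with he
  -- `E` is invariant under `X ^ p - 1`
  have hinv : ∀ k : ℕ, ((X ^ p - 1) ^ k) v ∈ E := by
    intro k
    induction k with
    | zero => simpa using hv
    | succ k ih =>
      rw [pow_succ', Module.End.mul_apply, LinearMap.sub_apply]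
      exact E.sub_mem (hXp (Submodule.mem_map_of_mem ih)) ih
  have heE : e ∈ E := hinv (s - 1)
  have hzero : ((X - 1) ^ (p - 1)) e = 0 := by
    rw [he, ← Module.End.mul_apply, ← hpow, ← pow_mul, ← pow_add]
    have hle : r ≤ p - 1 + p * (s - 1) := by
      have h1 : p * s = p * (s - 1) + p := by
        rw [← Nat.mul_succ]; congr 1; omega
      have := hp.pos
      omega
    rw [pow_eq_zero_of_le hle hr]
    rfl
  -- expand
  set f : K[X] := (Polynomial.X - 1) ^ (p - 1) with hf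
  have haeval : Polynomial.aeval X f = (X - 1) ^ (p - 1) := by
    simp [hf]
  have hdeg : f.natDegree < p := by
    have : f.natDegree = p - 1 := by
      rw [hf, ← Polynomial.C_1, Polynomial.natDegree_pow, Polynomial.natDegree_X_sub_C, mul_one]
    have := hp.pos
    omega
  have hsum : ((X - 1) ^ (p - 1)) e = ∑ i ∈ Finset.range p, f.coeff i • (X ^ i) e := by
    rw [← haeval, Polynomial.aeval_eq_sum_range' hdeg]
    simp [LinearMap.sum_apply]
  rw [hzero] at hsum
  have hc0 : f.coeff 0 ≠ 0 := by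
    rw [hf, Polynomial.coeff_zero_eq_eval_zero]
    simp
  have hp1 : 0 < p := hp.pos
  rw [← Finset.insert_erase (Finset.mem_range.mpr hp1), Finset.sum_insert (Finset.notMem_erase _ _)] at hsum
  have hrest : ∑ i ∈ (Finset.range p).erase 0, f.coeff i • (X ^ i) e ∈
      ⨆ (j : Fin p) (_ : j ≠ ⟨0, hp1⟩), E.map (X ^ (j : ℕ)) := by
    refine Submodule.sum_mem _ ?_
    intro i hi
    rw [Finset.mem_erase, Finset.mem_range] at hi
    refine Submodule.smul_mem _ _ ?_
    have h1 : (X ^ i) e ∈ E.map (X ^ ((⟨i, hi.2⟩ : Fin p) : ℕ)) := Submodule.mem_map_of_mem heE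
    have hne : (⟨i, hi.2⟩ : Fin p) ≠ ⟨0, hp1⟩ := by
      intro h
      exact hi.1 (by simpa using congrArg Fin.val h)
    exact (le_iSup₂ (f := fun (j : Fin p) (_ : j ≠ ⟨0, hp1⟩) => E.map (X ^ (j : ℕ)))
      (⟨i, hi.2⟩ : Fin p) hne) h1
  have hfirst : f.coeff 0 • (X ^ 0) e ∈ E.map (X ^ ((⟨0, hp1⟩ : Fin p) : ℕ)) :=
    Submodule.smul_mem _ _ (Submodule.mem_map_of_mem heE)
  have hdis := hind ⟨0, hp1⟩
  have hneg : f.coeff 0 • (X ^ 0) e = - ∑ i ∈ (Finset.range p).erase 0, f.coeff i • (X ^ i) e :=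
    eq_neg_of_add_eq_zero_left hsum.symm
  have h0 : f.coeff 0 • (X ^ 0) e = 0 := by
    have := Submodule.disjoint_def.mp hdis _ hfirst
      (by rw [hneg]; exact Submodule.neg_mem _ hrest)
    exact this
  rw [pow_zero, Module.End.one_apply] at h0
  exact hv0 ((smul_eq_zero.mp h0).resolve_left hc0)

end Cfsg.Agent.PLocal.HHBInduced
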