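import Cfsg.Prelude.Def_Local
import Cfsg.Agent.Lib.Cores
import Cfsg.Agent.Lib.PGroupCoprimeAction
import Cfsg.Agent.PLocal.HallHigmanPrime

/-!
Hall–Higman Theorem B, group theoretic reduction: an element `x` of order `p^n` of a `p`-solvable group with
`O_p = 1` normalizes a `q`-subgroup (`q ≠ p`) which is not centralized by `x^(p^(n-1))`.
-/

set_option autoImplicit false

namespace Cfsg.Agent.PLocal.HHBReduction

/-- A finite group is generated by any family containing a Sylow `q`-subgroup for every prime `q`. -/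
theorem le_of_forall_sylow_le {G : Type*} [Group G] [Finite G] (N C : Subgroup G)
    (h : ∀ q : ℕ, q.Prime → ∃ S : Subgroup G, (∃ T : Sylow q N, (T : Subgroup N).map N.subtype = S) ∧
      S ≤ C) : N ≤ C := by
  have hdvd : Nat.card N ∣ Nat.card (N ⊓ C : Subgroup G) := by
    rw [← Nat.factorization_prime_le_iff_dvd Nat.card_pos.ne' Nat.card_pos.ne']
    intro q hq
    have : Fact q.Prime := ⟨hq⟩
    obtain ⟨S, ⟨T, rfl⟩, hSC⟩ := h q hq
    have h1 : Nat.card ((T : Subgroup N).map N.subtype : Subgroup G) =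
        q ^ (Nat.card N).factorization q := by
      rw [← Sylow.card_eq_multiplicity T]
      exact (Nat.card_congr ((T : Subgroup N).equivMapOfInjective N.subtype
        N.subtype_injective).toEquiv).symm
    have h2 : q ^ (Nat.card N).factorization q ∣ Nat.card (N ⊓ C : Subgroup G) := by
      rw [← h1]
      exact Subgroup.card_dvd_of_le (le_inf (Subgroup.map_subtype_le _) hSC)
    exact (hq.pow_dvd_iff_le_factorization Nat.card_pos.ne').1 h2
  have heq : N ⊓ C = N :=
    Subgroup.eq_of_le_of_card_ge inf_le_left (Nat.le_of_dvd Nat.card_pos hdvd)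
  exact inf_eq_left.1 heq

theorem L7 {H : Type*} [Group H] [Finite H] {p : ℕ} [Fact p.Prime] (hsol : Cfsg.IsPSolvable p H)
    (hOp : Cfsg.pCore p H = ⊥) (x : H) (n : ℕ) (hn : 1 ≤ n) (hx : orderOf x = p ^ n) :
    ∃ (q : ℕ) (Q : Subgroup H), q.Prime ∧ q ≠ p ∧ IsPGroup q Q ∧ x ∈ Subgroup.normalizer (Q : Set H) ∧
      ∃ g ∈ Q, x ^ (p ^ (n - 1)) * g ≠ g * x ^ (p ^ (n - 1)) := by
  have hp : p.Prime := Fact.out
  set N : Subgroup H := Cfsg.pPrimeCore p H with hN
  have hNn : N.Normal := Cfsg.Agent.Lib.Cores.pPrimeCore_normal p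
  have hNc : (Nat.card N).Coprime p := Cfsg.Agent.Lib.Cores.pPrimeCore_coprime p
  have hNp : ¬ p ∣ Nat.card N := fun h => by
    have := Nat.dvd_gcd h (dvd_refl p)
    rw [hNc] at this
    exact hp.one_lt.ne' (Nat.dvd_one.1 this)
  have hcent := Cfsg.Agent.PLocal.HallHigmanPrime.centralizer_pPrimeCore_le_of_pSolvable p hsol hOp
  set y : H := x ^ (p ^ (n - 1)) with hy
  by_contra hcon
  push Not at hcon
  have hxp : IsPGroup p (Subgroup.zpowers x) := by
    apply IsPGroup.of_card (n := n)
    rw [Nat.card_zpowers, hx]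
  have hle : N ≤ Subgroup.centralizer {y} := by
    apply le_of_forall_sylow_le
    intro q hq
    have : Fact q.Prime := ⟨hq⟩
    obtain ⟨S, hS, hinv⟩ := Cfsg.Agent.Lib.PGroupCoprimeAction.exists_invariant_sylow hxp hNp
      (fun b _ u hu => hNn.conj_mem u hu b) q
    refine ⟨S, hS, ?_⟩
    obtain ⟨T, rfl⟩ := hS
    have hSq : IsPGroup q ((T : Subgroup N).map N.subtype : Subgroup H) :=
      T.isPGroup'.map N.subtype
    by_cases hqp : q = p
    · subst hqp
      -- the Sylow subgroup is trivial
      have h1 : Nat.card ((T : Subgroup N).map N.subtype : Subgroup H) = 1 := by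
        rw [← Nat.card_congr ((T : Subgroup N).equivMapOfInjective N.subtype
          N.subtype_injective).toEquiv, Sylow.card_eq_multiplicity T,
          Nat.factorization_eq_zero_of_not_dvd hNp, pow_zero]
      rw [Subgroup.card_eq_one.1 h1]
      exact bot_le
    · have hxn : x ∈ Subgroup.normalizer (((T : Subgroup N).map N.subtype : Subgroup H) : Set H) := by
        rw [Subgroup.mem_normalizer_iff]
        intro u
        constructor
        · exact hinv x (Subgroup.mem_zpowers x) u
        · intro hu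
          have := hinv x⁻¹ (Subgroup.inv_mem _ (Subgroup.mem_zpowers x)) _ hu
          have h2 : x⁻¹ * (x * u * x⁻¹) * x⁻¹⁻¹ = u := by group
          rwa [h2] at this
      intro g hg
      rw [Subgroup.mem_centralizer_singleton_iff]
      exact (hcon q _ hq hqp hSq hxn g hg).symm
  have hyN : y ∈ N := by
    apply hcent
    rw [Subgroup.mem_centralizer_iff]
    intro g hg
    exact Subgroup.mem_centralizer_singleton_iff.1 (hle hg)
  have hyo : orderOf y = p := by
    rw [hy, orderOf_pow, hx, Nat.gcd_eq_right (Nat.pow_dvd_pow p (Nat.sub_le n 1)),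
      Nat.pow_div (Nat.sub_le n 1) hp.pos, Nat.sub_sub_self hn, pow_one]
  have : orderOf y ∣ Nat.card N := by
    have h1 := orderOf_dvd_natCard (⟨y, hyN⟩ : N)
    rwa [Subgroup.orderOf_mk] at h1
  rw [hyo] at this
  exact hNp this

end Cfsg.Agent.PLocal.HHBReduction
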