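import Mathlib

/-!
# Irreducible modules of groups generated by two quadratically acting elements

`exists_field_model`: let `V` be a finite vector space over `ZMod p`, irreducible under two linear
maps `A`, `B` with `A ^ 2 = B ^ 2 = 0`, `A ≠ 0`.  Then `C = A B + B A` generates a finite field `E`
and `V ≅ E ^ 2` in such a way that `A`, `B` are the matrices `!![0, c; 0, 0]` and `!![0, 0; 1, 0]`.
-/

set_option autoImplicit false
set_option linter.style.haveILetI false
set_option linter.deprecated false

namespace Cfsg.Agent.PLocal.QuadPair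

universe u

theorem exists_field_model {p : ℕ} [Fact p.Prime] {V : Type u} [AddCommGroup V]
    [Module (ZMod p) V] [Finite V] (A B : V →ₗ[ZMod p] V) (hA : ∀ v, A (A v) = 0)
    (hB : ∀ v, B (B v) = 0) (hA0 : A ≠ 0)
    (hirr : ∀ U : Submodule (ZMod p) V, (∀ u ∈ U, A u ∈ U) → (∀ u ∈ U, B u ∈ U) →
      U = ⊥ ∨ U = ⊤) :
    ∃ (E : Type u) (_ : Field E) (_ : Fintype E) (_ : CharP E p) (c : E)
      (ψ : V ≃+ (Fin 2 → E)), c ≠ 0 ∧ (∀ v, ψ (A v) = ![c * ψ v 1, 0]) ∧
        (∀ v, ψ (B v) = ![0, ψ v 0]) := by
  classical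
  let C : Module.End (ZMod p) V := A * B + B * A
  have hC : ∀ v, C v = A (B v) + B (A v) := fun v => rfl
  have hCA : ∀ v, C (A v) = A (C v) := by
    intro v
    rw [hC, hC, map_add, hA, hA, map_zero, add_zero, zero_add]
  have hCB : ∀ v, C (B v) = B (C v) := by
    intro v
    rw [hC, hC, map_add, hB, hB, map_zero, add_zero, zero_add]
  let S : Subalgebra (ZMod p) (Module.End (ZMod p) V) := Algebra.adjoin (ZMod p) {C}
  have hCS : C ∈ S := Algebra.subset_adjoin (Set.mem_singleton C)
  have hSA : ∀ s ∈ S, ∀ v, s (A v) = A (s v) := by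
    intro s hs
    have hle : S ≤ Subalgebra.centralizer (ZMod p) {A} := by
      apply Algebra.adjoin_le
      intro x hx
      rw [Set.mem_singleton_iff] at hx
      subst hx
      rw [SetLike.mem_coe, Subalgebra.mem_centralizer_iff]
      intro y hy
      rw [Set.mem_singleton_iff] at hy
      subst hy
      exact LinearMap.ext fun v => (hCA v).symm
    have := (Subalgebra.mem_centralizer_iff (ZMod p)).mp (hle hs) A (Set.mem_singleton A)
    intro v
    exact (LinearMap.congr_fun this v).symm
  have hSB : ∀ s ∈ S, ∀ v, s (B v) = B (s v) := by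
    intro s hs
    have hle : S ≤ Subalgebra.centralizer (ZMod p) {B} := by
      apply Algebra.adjoin_le
      intro x hx
      rw [Set.mem_singleton_iff] at hx
      subst hx
      rw [SetLike.mem_coe, Subalgebra.mem_centralizer_iff]
      intro y hy
      rw [Set.mem_singleton_iff] at hy
      subst hy
      exact LinearMap.ext fun v => (hCB v).symm
    have := (Subalgebra.mem_centralizer_iff (ZMod p)).mp (hle hs) B (Set.mem_singleton B)
    intro v
    exact (LinearMap.congr_fun this v).symm
  -- nonzero elements of `S` are injective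
  have hinj : ∀ s ∈ S, s ≠ 0 → ∀ v, s v = 0 → v = 0 := by
    intro s hs hs0 v hv
    rcases hirr (LinearMap.ker s) (by
      intro u hu
      rw [LinearMap.mem_ker] at hu ⊢
      rw [hSA s hs, hu, map_zero]) (by
      intro u hu
      rw [LinearMap.mem_ker] at hu ⊢
      rw [hSB s hs, hu, map_zero]) with h | h
    · have : v ∈ LinearMap.ker s := hv
      rw [h] at this
      exact this
    · exfalso
      apply hs0
      rw [LinearMap.ker_eq_top] at h
      exact h
  letI iC : CommRing S := Algebra.adjoinCommRingOfComm (ZMod p) (by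
    intro a ha b hb
    rw [Set.mem_singleton_iff] at ha hb
    rw [ha, hb])
  have hmul : ∀ s t : S, ((s * t : S) : Module.End (ZMod p) V) = s * t := fun s t => rfl
  haveI : Nontrivial V := by
    obtain ⟨v, hv⟩ : ∃ v, A v ≠ 0 := by
      by_contra h
      push Not at h
      exact hA0 (LinearMap.ext h)
    exact ⟨A v, 0, hv⟩
  haveI : Nontrivial S := by
    refine ⟨0, 1, ?_⟩
    intro h
    obtain ⟨v, hv⟩ := exists_ne (0 : V)
    apply hv
    have h1 := congrArg Subtype.val h
    have h2 : (0 : Module.End (ZMod p) V) v = (1 : Module.End (ZMod p) V) v :=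
      congrArg (fun f : Module.End (ZMod p) V => f v) h1
    simpa using h2.symm
  haveI : NoZeroDivisors S := by
    refine ⟨?_⟩
    intro a b hab
    by_cases ha : a = 0
    · exact Or.inl ha
    · right
      apply Subtype.ext
      apply LinearMap.ext
      intro v
      have ha' : (a : Module.End (ZMod p) V) ≠ 0 := fun h => ha (Subtype.ext h)
      have h1 : (a : Module.End (ZMod p) V) ((b : Module.End (ZMod p) V) v) = 0 := by
        have := congrArg (fun s : S => (s : Module.End (ZMod p) V) v) hab
        exact this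
      have := hinj a a.2 ha' _ h1
      rw [this]
      rfl
  haveI : IsDomain S := NoZeroDivisors.to_isDomain S
  haveI : Finite S := by
    apply Finite.of_injective (fun s : S => ((s : Module.End (ZMod p) V) : V → V))
    intro s t hst
    exact Subtype.ext (LinearMap.ext (congrFun hst))
  letI : Fintype S := Fintype.ofFinite S
  letI iF : Field S := (Finite.isField_of_domain S).toField
  have hmulF : ∀ s t : S, ((s * t : S) : Module.End (ZMod p) V) = s * t := fun s t => rfl
  have haddF : ∀ s t : S, ((s + t : S) : Module.End (ZMod p) V) = s + t := fun s t => rfl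
  have hzeroF : ((0 : S) : Module.End (ZMod p) V) = 0 := rfl
  -- a nonzero vector killed by `A`
  obtain ⟨v, hv0, hvA⟩ : ∃ v : V, v ≠ 0 ∧ A v = 0 := by
    obtain ⟨v, hv⟩ : ∃ v, A v ≠ 0 := by
      by_contra h
      push Not at h
      exact hA0 (LinearMap.ext h)
    exact ⟨A v, hv, hA v⟩
  -- `B v ≠ 0`
  have hBv : B v ≠ 0 := by
    intro hBv
    let U : Submodule (ZMod p) V :=
      { carrier := {u | ∃ s : S, (s : Module.End (ZMod p) V) v = u}
        zero_mem' := ⟨0, by rw [hzeroF]; rfl⟩
        add_mem' := by
          rintro _ _ ⟨s, rfl⟩ ⟨t, rfl⟩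
          exact ⟨s + t, by rw [haddF]; rfl⟩
        smul_mem' := by
          rintro r _ ⟨s, rfl⟩
          exact ⟨r • s, rfl⟩ }
    have hUA : ∀ u ∈ U, A u = 0 := by
      rintro _ ⟨s, rfl⟩
      rw [← hSA s s.2, hvA, map_zero]
    have hUB : ∀ u ∈ U, B u = 0 := by
      rintro _ ⟨s, rfl⟩
      rw [← hSB s s.2, hBv, map_zero]
    rcases hirr U (fun u hu => by rw [hUA u hu]; exact U.zero_mem)
      (fun u hu => by rw [hUB u hu]; exact U.zero_mem) with h | h
    · have hvU : v ∈ U := ⟨1, rfl⟩
      rw [h] at hvU
      exact hv0 hvU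
    · apply hA0
      apply LinearMap.ext
      intro u
      have hu : u ∈ U := by rw [h]; trivial
      rw [hUA u hu]
      rfl
  let f : (Fin 2 → S) →+ V :=
    { toFun := fun w => (w 0 : Module.End (ZMod p) V) v + (w 1 : Module.End (ZMod p) V) (B v)
      map_zero' := by
        simp only [Pi.zero_apply, hzeroF, LinearMap.zero_apply, add_zero]
      map_add' := by
        intro w w'
        simp only [Pi.add_apply, haddF, LinearMap.add_apply]
        abel }
  have hf : ∀ w, f w = (w 0 : Module.End (ZMod p) V) v +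
    (w 1 : Module.End (ZMod p) V) (B v) := fun w => rfl
  let c : S := ⟨C, hCS⟩
  have hcC : (c : Module.End (ZMod p) V) = C := rfl
  have hBf : ∀ w, B (f w) = (w 0 : Module.End (ZMod p) V) (B v) := by
    intro w
    rw [hf, map_add, ← hSB _ (w 0).2, ← hSB _ (w 1).2, hB, map_zero, add_zero]
  have hAf : ∀ w, A (f w) = ((c * w 1 : S) : Module.End (ZMod p) V) v := by
    intro w
    rw [hf, map_add, ← hSA _ (w 0).2, ← hSA _ (w 1).2, hvA, map_zero, zero_add]
    have h1 : A (B v) = C v := by rw [hC, hvA, map_zero, add_zero]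
    rw [h1, mul_comm, hmulF, hcC]
    rfl
  have hfinj : Function.Injective f := by
    rw [injective_iff_map_eq_zero]
    intro w hw
    have h0 : w 0 = 0 := by
      by_contra h0
      have h0' : (w 0 : Module.End (ZMod p) V) ≠ 0 := fun h => h0 (Subtype.ext h)
      have h1 : (w 0 : Module.End (ZMod p) V) (B v) = 0 := by
        rw [← hBf, hw, map_zero]
      exact hBv (hinj _ (w 0).2 h0' _ h1)
    have h1 : w 1 = 0 := by
      by_contra h1
      have h1' : (w 1 : Module.End (ZMod p) V) ≠ 0 := fun h => h1 (Subtype.ext h)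
      rw [hf, h0, hzeroF, LinearMap.zero_apply, zero_add] at hw
      exact hBv (hinj _ (w 1).2 h1' _ hw)
    funext i
    fin_cases i
    · exact h0
    · exact h1
  have hfsurj : Function.Surjective f := by
    let U : Submodule (ZMod p) V :=
      { carrier := Set.range f
        zero_mem' := ⟨0, map_zero f⟩
        add_mem' := by
          rintro _ _ ⟨s, rfl⟩ ⟨t, rfl⟩
          exact ⟨s + t, map_add f s t⟩
        smul_mem' := by
          rintro r _ ⟨s, rfl⟩
          refine ⟨fun i => r • s i, ?_⟩
          rw [hf, hf, smul_add]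
          rfl }
    have hmemU : ∀ u, u ∈ U ↔ ∃ w, f w = u := fun u => Iff.rfl
    rcases hirr U (by
      intro u hu
      obtain ⟨w, rfl⟩ := (hmemU u).mp hu
      refine (hmemU _).mpr ⟨![c * w 1, 0], ?_⟩
      rw [hAf, hf]
      simp only [Matrix.cons_val_zero, Matrix.cons_val_one, hzeroF, LinearMap.zero_apply,
        add_zero]) (by
      intro u hu
      obtain ⟨w, rfl⟩ := (hmemU u).mp hu
      refine (hmemU _).mpr ⟨![0, w 0], ?_⟩
      rw [hBf, hf]
      simp only [Matrix.cons_val_zero, Matrix.cons_val_one, hzeroF, LinearMap.zero_apply,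
        zero_add]) with h | h
    · exfalso
      have hvU : v ∈ U := (hmemU v).mpr ⟨![1, 0], by
        rw [hf]
        simp only [Matrix.cons_val_zero, Matrix.cons_val_one, hzeroF, LinearMap.zero_apply,
          add_zero]
        rfl⟩
      rw [h] at hvU
      exact hv0 hvU
    · intro u
      have hu : u ∈ U := by rw [h]; trivial
      exact hu
  let ψ : V ≃+ (Fin 2 → S) := (AddEquiv.ofBijective f ⟨hfinj, hfsurj⟩).symm
  have hψf : ∀ w, ψ (f w) = w := fun w =>
    (AddEquiv.ofBijective f ⟨hfinj, hfsurj⟩).symm_apply_apply w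
  have hfψ : ∀ u, f (ψ u) = u := fun u =>
    (AddEquiv.ofBijective f ⟨hfinj, hfsurj⟩).apply_symm_apply u
  refine ⟨S, iF, inferInstance, ?_, c, ψ, ?_, ?_, ?_⟩
  · refine ⟨fun n => ?_⟩
    have h1 : ((n : S) : Module.End (ZMod p) V) = (n : Module.End (ZMod p) V) := by
      induction n with
      | zero => rw [Nat.cast_zero, Nat.cast_zero, hzeroF]
      | succ n ih =>
        rw [Nat.cast_succ, Nat.cast_succ, haddF, ih]
        rfl
    constructor
    · intro h
      rw [h, hzeroF] at h1
      have h2 : (n : Module.End (ZMod p) V) v = 0 := by rw [← h1]; rfl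
      have h3 : ((n : ZMod p)) • v = 0 := by
        rw [Nat.cast_smul_eq_nsmul]
        simpa using h2
      rcases smul_eq_zero.mp h3 with h4 | h4
      · exact (ZMod.natCast_eq_zero_iff n p).mp h4
      · exact absurd h4 hv0
    · intro h
      apply Subtype.ext
      rw [h1, hzeroF]
      apply LinearMap.ext
      intro u
      have h3 : ((n : ZMod p)) • u = 0 := by
        rw [(ZMod.natCast_eq_zero_iff n p).mpr h, zero_smul]
      rw [Nat.cast_smul_eq_nsmul] at h3
      simpa using h3
  · intro hc0
    apply hA0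
    apply LinearMap.ext
    intro u
    rw [← hfψ u, hAf, hc0, zero_mul, hzeroF]
    rfl
  · intro u
    apply hfinj
    rw [hfψ]
    conv_lhs => rw [← hfψ u]
    rw [hAf, hf]
    simp only [Matrix.cons_val_zero, Matrix.cons_val_one, hzeroF, LinearMap.zero_apply,
      add_zero]
  · intro u
    apply hfinj
    rw [hfψ]
    conv_lhs => rw [← hfψ u]
    rw [hBf, hf]
    simp only [Matrix.cons_val_zero, Matrix.cons_val_one, hzeroF, LinearMap.zero_apply,
      zero_add]

end Cfsg.Agent.PLocal.QuadPair
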