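import Mathlib

/-!
# Subgroups of `SL(2, F)` isomorphic to `SL(2, p)`

* `closure_eq_top` : `SL(2, ZMod p)` is generated by `!![1, 1; 0, 1]` and `!![1, 0; 1, 1]`.
* `exists_natural` : if `θ : SL(2, ZMod p) →* SL(2, F)` is injective, `F` a field of characteristic `p`,
  there is an additive embedding `ι : (ZMod p)² → F²`, with `θ m (ι x) = ι (m x)`.
-/

set_option autoImplicit false
set_option linter.style.haveILetI false

namespace Cfsg.Agent.PLocal.SL2Natural

open Matrix

/-- The upper unitriangular matrix with entry `x`. -/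
def up {R : Type*} [CommRing R] (x : R) : SpecialLinearGroup (Fin 2) R :=
  ⟨!![1, x; 0, 1], by simp [Matrix.det_fin_two]⟩

/-- The lower unitriangular matrix with entry `x`. -/
def lo {R : Type*} [CommRing R] (x : R) : SpecialLinearGroup (Fin 2) R :=
  ⟨!![1, 0; x, 1], by simp [Matrix.det_fin_two]⟩

/-- The underlying matrix. -/
def mat {R : Type*} [CommRing R] (g : SpecialLinearGroup (Fin 2) R) : Matrix (Fin 2) (Fin 2) R :=
  g.1

theorem mat_injective {R : Type*} [CommRing R] {g h : SpecialLinearGroup (Fin 2) R}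
    (hgh : mat g = mat h) : g = h := Subtype.ext hgh

theorem mat_up {R : Type*} [CommRing R] (x : R) : mat (up x) = !![1, x; 0, 1] := rfl

theorem mat_lo {R : Type*} [CommRing R] (x : R) : mat (lo x) = !![1, 0; x, 1] := rfl

theorem mat_mul {R : Type*} [CommRing R] (g h : SpecialLinearGroup (Fin 2) R) :
    mat (g * h) = mat g * mat h := rfl

theorem mat_one {R : Type*} [CommRing R] : mat (1 : SpecialLinearGroup (Fin 2) R) = 1 := rfl

theorem mat_pow {R : Type*} [CommRing R] (g : SpecialLinearGroup (Fin 2) R) (n : ℕ) :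
    mat (g ^ n) = mat g ^ n := rfl

theorem det_mat {R : Type*} [CommRing R] (g : SpecialLinearGroup (Fin 2) R) :
    (mat g).det = 1 := g.2

theorem up_mul {R : Type*} [CommRing R] (x y : R) : up x * up y = up (x + y) := by
  apply mat_injective
  rw [mat_mul, mat_up, mat_up, mat_up]
  ext i j
  fin_cases i <;> fin_cases j <;> simp [Matrix.mul_apply, Fin.sum_univ_two, add_comm]

theorem lo_mul {R : Type*} [CommRing R] (x y : R) : lo x * lo y = lo (x + y) := by
  apply mat_injective
  rw [mat_mul, mat_lo, mat_lo, mat_lo]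
  ext i j
  fin_cases i <;> fin_cases j <;> simp [Matrix.mul_apply, Fin.sum_univ_two]

theorem up_zero {R : Type*} [CommRing R] : up (0 : R) = 1 := by
  apply mat_injective
  rw [mat_up, mat_one]
  ext i j
  fin_cases i <;> fin_cases j <;> simp

theorem lo_zero {R : Type*} [CommRing R] : lo (0 : R) = 1 := by
  apply mat_injective
  rw [mat_lo, mat_one]
  ext i j
  fin_cases i <;> fin_cases j <;> simp

theorem up_pow {R : Type*} [CommRing R] (n : ℕ) : up (1 : R) ^ n = up (n : R) := by
  induction n with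
  | zero => rw [pow_zero, Nat.cast_zero, up_zero]
  | succ n ih => rw [pow_succ, ih, up_mul, Nat.cast_succ]

theorem lo_pow {R : Type*} [CommRing R] (n : ℕ) : lo (1 : R) ^ n = lo (n : R) := by
  induction n with
  | zero => rw [pow_zero, Nat.cast_zero, lo_zero]
  | succ n ih => rw [pow_succ, ih, lo_mul, Nat.cast_succ]

/-- `SL(2, p)` is generated by the two elementary unitriangular matrices. -/
theorem closure_eq_top (p : ℕ) [Fact p.Prime] :
    Subgroup.closure ({up 1, lo 1} : Set (SpecialLinearGroup (Fin 2) (ZMod p))) = ⊤ := by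
  set K := Subgroup.closure ({up 1, lo 1} : Set (SpecialLinearGroup (Fin 2) (ZMod p))) with hK
  have hup : ∀ x : ZMod p, up x ∈ K := by
    intro x
    have : up x = up 1 ^ (x.val) := by
      rw [up_pow, ZMod.natCast_zmod_val]
    rw [this]
    exact K.pow_mem (Subgroup.subset_closure (by simp)) _
  have hlo : ∀ x : ZMod p, lo x ∈ K := by
    intro x
    have : lo x = lo 1 ^ (x.val) := by
      rw [lo_pow, ZMod.natCast_zmod_val]
    rw [this]
    exact K.pow_mem (Subgroup.subset_closure (by simp)) _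
  have key : ∀ g : SpecialLinearGroup (Fin 2) (ZMod p), mat g 1 0 ≠ 0 → g ∈ K := by
    intro g hc
    have hdet : mat g 0 0 * mat g 1 1 - mat g 0 1 * mat g 1 0 = 1 := by
      have := det_mat g
      rwa [Matrix.det_fin_two] at this
    have hg : g = up ((mat g 0 0 - 1) / mat g 1 0) * lo (mat g 1 0) *
        up ((mat g 1 1 - 1) / mat g 1 0) := by
      apply mat_injective
      rw [mat_mul, mat_mul, mat_up, mat_lo, mat_up]
      ext i j
      fin_cases i <;> fin_cases j
      · simp [Matrix.mul_apply, Fin.sum_univ_two]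
        field_simp
        ring
      · simp [Matrix.mul_apply, Fin.sum_univ_two]
        field_simp
        linear_combination (-1 : ZMod p) * hdet
      · simp [Matrix.mul_apply, Fin.sum_univ_two]
      · simp [Matrix.mul_apply, Fin.sum_univ_two]
        field_simp
        ring
    rw [hg]
    exact K.mul_mem (K.mul_mem (hup _) (hlo _)) (hup _)
  rw [eq_top_iff]
  intro g _
  by_cases hc : mat g 1 0 = 0
  · have hdet : mat g 0 0 * mat g 1 1 - mat g 0 1 * mat g 1 0 = 1 := by
      have := det_mat g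
      rwa [Matrix.det_fin_two] at this
    have h00 : mat g 0 0 ≠ 0 := by
      intro h
      rw [h, hc] at hdet
      simp at hdet
    have h1 : lo 1 * g ∈ K := by
      apply key
      rw [mat_mul, mat_lo]
      simp [Matrix.mul_apply, Fin.sum_univ_two, hc, h00]
    have h2 := K.mul_mem (K.inv_mem (hlo 1)) h1
    rwa [inv_mul_cancel_left] at h2
  · exact key g hc

section Planar

variable {F : Type*} [Field F]

/-- The determinant of two plane vectors. -/
def dd (x y : Fin 2 → F) : F := x 0 * y 1 - x 1 * y 0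

theorem dd_mulVec (g : SpecialLinearGroup (Fin 2) F) (x y : Fin 2 → F) :
    dd (mat g *ᵥ x) (mat g *ᵥ y) = dd x y := by
  have hdet : mat g 0 0 * mat g 1 1 - mat g 0 1 * mat g 1 0 = 1 := by
    have := det_mat g
    rwa [Matrix.det_fin_two] at this
  simp only [dd, Matrix.mulVec, dotProduct, Fin.sum_univ_two]
  linear_combination (x 0 * y 1 - x 1 * y 0) * hdet

theorem dd_ext {v x z : Fin 2 → F} (hd : dd v x ≠ 0) :
    z = (dd z x / dd v x) • v + (dd v z / dd v x) • x := by
  funext i
  rw [Pi.add_apply, Pi.smul_apply, Pi.smul_apply, smul_eq_mul, smul_eq_mul]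
  rw [div_mul_eq_mul_div, div_mul_eq_mul_div, ← add_div, eq_div_iff hd]
  fin_cases i
  · simp only [dd, Fin.zero_eta, Fin.isValue]
    ring
  · simp only [dd, Fin.mk_one, Fin.isValue]
    ring

theorem exists_dd_ne_zero {v : Fin 2 → F} (hv : v ≠ 0) : ∃ x, dd v x ≠ 0 := by
  by_contra h
  push Not at h
  apply hv
  have h0 := h ![0, 1]
  have h1 := h ![1, 0]
  simp only [dd, Matrix.cons_val_zero, Matrix.cons_val_one, mul_one, mul_zero, sub_zero,
    zero_sub, neg_eq_zero] at h0 h1
  funext i
  fin_cases i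
  · exact h0
  · exact h1

theorem eq_smul_of_dd_eq_zero {v z : Fin 2 → F} (hv : v ≠ 0) (h : dd v z = 0) :
    ∃ c : F, z = c • v := by
  obtain ⟨x, hx⟩ := exists_dd_ne_zero hv
  refine ⟨dd z x / dd v x, ?_⟩
  conv_lhs => rw [dd_ext (z := z) hx]
  rw [h, zero_div, zero_smul, add_zero]

/-- An element of `SL(2, F)` that fixes `v` moves every vector by a multiple of `v`. -/
theorem exists_eq_add_smul (g : SpecialLinearGroup (Fin 2) F) {v : Fin 2 → F} (hv : v ≠ 0)
    (hg : mat g *ᵥ v = v) (x : Fin 2 → F) : ∃ c : F, mat g *ᵥ x = x + c • v := by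
  have h1 : dd v (mat g *ᵥ x - x) = 0 := by
    have h2 := dd_mulVec g v x
    rw [hg] at h2
    have h3 : dd v (mat g *ᵥ x - x) = dd v (mat g *ᵥ x) - dd v x := by
      simp only [dd, Pi.sub_apply]
      ring
    rw [h3, h2, sub_self]
  obtain ⟨c, hc⟩ := eq_smul_of_dd_eq_zero hv h1
  exact ⟨c, by rw [← hc]; abel⟩

theorem mat_ext_of_mulVec {g h : Matrix (Fin 2) (Fin 2) F} {v x : Fin 2 → F} (hd : dd v x ≠ 0)
    (hv : g *ᵥ v = h *ᵥ v) (hx : g *ᵥ x = h *ᵥ x) : g = h := by
  apply Matrix.ext_of_mulVec_single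
  intro i
  rw [dd_ext (z := Pi.single i 1) hd, Matrix.mulVec_add, Matrix.mulVec_add, Matrix.mulVec_smul,
    Matrix.mulVec_smul, Matrix.mulVec_smul, Matrix.mulVec_smul, hv, hx]

/-- Two elements of `SL(2, F)` with a common nonzero fixed vector commute. -/
theorem commute_of_fix {g h : SpecialLinearGroup (Fin 2) F} {v : Fin 2 → F} (hv : v ≠ 0)
    (hg : mat g *ᵥ v = v) (hh : mat h *ᵥ v = v) : g * h = h * g := by
  obtain ⟨x, hx⟩ := exists_dd_ne_zero hv
  obtain ⟨c, hc⟩ := exists_eq_add_smul g hv hg x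
  obtain ⟨c', hc'⟩ := exists_eq_add_smul h hv hh x
  apply mat_injective
  rw [mat_mul, mat_mul]
  apply mat_ext_of_mulVec hx
  · rw [← Matrix.mulVec_mulVec, ← Matrix.mulVec_mulVec, hh, hg, hh]
  · rw [← Matrix.mulVec_mulVec, ← Matrix.mulVec_mulVec, hc', hc, Matrix.mulVec_add,
      Matrix.mulVec_add, Matrix.mulVec_smul, Matrix.mulVec_smul, hc, hc', hg, hh]
    abel

/-- An element of order dividing `p` of `SL(2, F)`, `F` of characteristic `p`, fixes a nonzero
vector. -/
theorem exists_fixed (p : ℕ) [Fact p.Prime] [CharP F p] (g : SpecialLinearGroup (Fin 2) F)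
    (h : g ^ p = 1) : ∃ v : Fin 2 → F, v ≠ 0 ∧ mat g *ᵥ v = v := by
  have h1 : (mat g - 1) ^ p = 0 := by
    rw [sub_pow_char_of_commute p (Commute.one_right _), one_pow, ← mat_pow, h, mat_one,
      sub_self]
  have h2 : (mat g - 1).det = 0 := by
    have h3 := congrArg Matrix.det h1
    rw [Matrix.det_pow, Matrix.det_zero] at h3
    exact pow_eq_zero_iff (Fact.out : p.Prime).ne_zero |>.mp h3
  obtain ⟨v, hv, hv'⟩ := Matrix.exists_mulVec_eq_zero_iff.mpr h2
  refine ⟨v, hv, ?_⟩
  rw [Matrix.sub_mulVec, Matrix.one_mulVec, sub_eq_zero] at hv'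
  exact hv'

end Planar

/-- Any embedding of `SL(2, p)` in `SL(2, F)`, `F` a field of characteristic `p`, is equivalent
to the standard one. -/
theorem exists_natural {p : ℕ} [Fact p.Prime] {F : Type*} [Field F] [CharP F p]
    (θ : SpecialLinearGroup (Fin 2) (ZMod p) →* SpecialLinearGroup (Fin 2) F)
    (hθ : Function.Injective θ) :
    ∃ ι : (Fin 2 → ZMod p) →+ (Fin 2 → F), Function.Injective ι ∧
      ∀ (m : SpecialLinearGroup (Fin 2) (ZMod p)) (x : Fin 2 → ZMod p),
        mat (θ m) *ᵥ ι x = ι (mat m *ᵥ x) := by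
  have hp0 : ((p : ℕ) : ZMod p) = 0 := ZMod.natCast_self p
  have hup : (up (1 : ZMod p)) ^ p = 1 := by rw [up_pow, hp0, up_zero]
  have hlo : (lo (1 : ZMod p)) ^ p = 1 := by rw [lo_pow, hp0, lo_zero]
  obtain ⟨v, hv, hgv⟩ := exists_fixed p (θ (up 1)) (by rw [← map_pow, hup, map_one])
  obtain ⟨w₀, hw₀, hhw₀⟩ := exists_fixed p (θ (lo 1)) (by rw [← map_pow, hlo, map_one])
  have hne : ∀ x : Fin 2 → F, x ≠ 0 → mat (θ (up 1)) *ᵥ x = x → mat (θ (lo 1)) *ᵥ x = x →
      False := by
    intro x hx h1 h2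
    have h3 := commute_of_fix hx h1 h2
    rw [← map_mul, ← map_mul] at h3
    have h4 := congrArg mat (hθ h3)
    rw [mat_mul, mat_mul, mat_up, mat_lo] at h4
    have h5 := congrFun (congrFun h4 0) 0
    simp [Matrix.mul_apply, Fin.sum_univ_two] at h5
  have hd : dd v w₀ ≠ 0 := by
    intro hd
    obtain ⟨c, hc⟩ := eq_smul_of_dd_eq_zero hv hd
    refine hne w₀ hw₀ ?_ hhw₀
    rw [hc, Matrix.mulVec_smul, hgv]
  obtain ⟨ν, hν⟩ := exists_eq_add_smul (θ (lo 1)) hw₀ hhw₀ v
  have hν0 : ν ≠ 0 := by
    intro h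
    rw [h, zero_smul, add_zero] at hν
    exact hne v hv hgv hν
  obtain ⟨w, hw⟩ : ∃ w, w = ν • w₀ := ⟨_, rfl⟩
  have hhv : mat (θ (lo 1)) *ᵥ v = v + w := by rw [hν, hw]
  have hhw : mat (θ (lo 1)) *ᵥ w = w := by rw [hw, Matrix.mulVec_smul, hhw₀]
  obtain ⟨μ, hμ⟩ := exists_eq_add_smul (θ (up 1)) hv hgv w
  have hdvw : dd v w ≠ 0 := by
    have : dd v w = ν * dd v w₀ := by
      rw [hw]
      simp only [dd, Pi.smul_apply, smul_eq_mul]
      ring
    rw [this]
    exact mul_ne_zero hν0 hd
  -- the inverse of the lower unitriangular element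
  have hlo' : lo (-1 : ZMod p) * lo 1 = 1 := by rw [lo_mul, neg_add_cancel, lo_zero]
  have hinv : ∀ x, mat (θ (lo (-1))) *ᵥ (mat (θ (lo 1)) *ᵥ x) = x := by
    intro x
    rw [Matrix.mulVec_mulVec, ← mat_mul, ← map_mul, hlo', map_one, mat_one, Matrix.one_mulVec]
  have hkw : mat (θ (lo (-1))) *ᵥ w = w := by
    conv_lhs => rw [← hhw]
    exact hinv w
  have hkv : mat (θ (lo (-1))) *ᵥ v = v - w := by
    have h1 := hinv v
    rw [hhv, Matrix.mulVec_add, hkw] at h1
    exact eq_sub_of_add_eq h1
  -- the braid relation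
  have hbraid : up (1 : ZMod p) * lo (-1) * up 1 = lo (-1) * up 1 * lo (-1) := by
    apply mat_injective
    rw [mat_mul, mat_mul, mat_mul, mat_mul, mat_up, mat_lo]
    ext i j
    fin_cases i <;> fin_cases j <;> simp [Matrix.mul_apply, Fin.sum_univ_two]
  have hμ1 : μ = 1 := by
    have h1 := congrArg (fun g => mat (θ g) *ᵥ v) hbraid
    simp only [map_mul, mat_mul, ← Matrix.mulVec_mulVec] at h1
    rw [hgv, hkv, Matrix.mulVec_sub, hgv, hμ, Matrix.mulVec_sub, Matrix.mulVec_add, hkv, hkw,
      Matrix.mulVec_smul, hkv] at h1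
    have h2 := congrArg (dd v) h1
    simp only [dd, Pi.sub_apply, Pi.add_apply, Pi.smul_apply, smul_eq_mul] at h2
    have h3 : (μ - 1) * dd v w = 0 := by
      simp only [dd]
      linear_combination (-1 : F) * h2
    rcases mul_eq_zero.mp h3 with h4 | h4
    · exact sub_eq_zero.mp h4
    · exact absurd h4 hdvw
  rw [hμ1, one_smul] at hμ
  let κ : ZMod p →+* F := ZMod.castHom (dvd_refl p) F
  let ι : (Fin 2 → ZMod p) →+ (Fin 2 → F) :=
    { toFun := fun x => κ (x 0) • v + κ (x 1) • w
      map_zero' := by simp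
      map_add' := by
        intro x y
        simp only [Pi.add_apply, map_add, add_smul]
        abel }
  have hι : ∀ x, ι x = κ (x 0) • v + κ (x 1) • w := fun x => rfl
  refine ⟨ι, ?_, ?_⟩
  · rw [injective_iff_map_eq_zero]
    intro x hx
    rw [hι] at hx
    have h0 : κ (x 0) * dd v w = 0 := by
      have := congrArg (fun z => dd z w) hx
      simp only [dd, Pi.add_apply, Pi.smul_apply, smul_eq_mul, Pi.zero_apply, zero_mul,
        sub_zero] at this
      simp only [dd]
      linear_combination this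
    have h1 : κ (x 1) * dd v w = 0 := by
      have := congrArg (fun z => dd v z) hx
      simp only [dd, Pi.add_apply, Pi.smul_apply, smul_eq_mul, Pi.zero_apply, mul_zero,
        sub_zero] at this
      simp only [dd]
      linear_combination this
    have h0' : x 0 = 0 := by
      rcases mul_eq_zero.mp h0 with h | h
      · exact (map_eq_zero κ).mp h
      · exact absurd h hdvw
    have h1' : x 1 = 0 := by
      rcases mul_eq_zero.mp h1 with h | h
      · exact (map_eq_zero κ).mp h
      · exact absurd h hdvw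
    funext i
    fin_cases i
    · exact h0'
    · exact h1'
  · intro m
    have hm : m ∈ Subgroup.closure ({up 1, lo 1} : Set (SpecialLinearGroup (Fin 2) (ZMod p))) := by
      rw [closure_eq_top]
      trivial
    induction hm using Subgroup.closure_induction with
    | mem m hm =>
      intro x
      rcases hm with rfl | hm
      · rw [hι, hι, Matrix.mulVec_add, Matrix.mulVec_smul, Matrix.mulVec_smul, hgv, hμ, mat_up]
        simp only [Matrix.mulVec, dotProduct, Fin.sum_univ_two, Matrix.of_apply,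
          Matrix.cons_val', Matrix.cons_val_zero, Matrix.cons_val_one, Matrix.cons_val_fin_one,
          one_mul, zero_mul, zero_add, map_add, add_smul, smul_add]
        abel
      · rw [Set.mem_singleton_iff] at hm
        subst hm
        rw [hι, hι, Matrix.mulVec_add, Matrix.mulVec_smul, Matrix.mulVec_smul, hhv, hhw, mat_lo]
        simp only [Matrix.mulVec, dotProduct, Fin.sum_univ_two, Matrix.of_apply,
          Matrix.cons_val', Matrix.cons_val_zero, Matrix.cons_val_one, Matrix.cons_val_fin_one,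
          one_mul, zero_mul, add_zero, map_add, add_smul, smul_add]
        abel
    | one =>
      intro x
      rw [map_one, mat_one, mat_one, Matrix.one_mulVec, Matrix.one_mulVec]
    | mul m m' _ _ ih ih' =>
      intro x
      rw [map_mul, mat_mul, mat_mul, ← Matrix.mulVec_mulVec, ih', ih, Matrix.mulVec_mulVec]
    | inv m _ ih =>
      intro x
      have h1 : mat m *ᵥ (mat m⁻¹ *ᵥ x) = x := by
        rw [Matrix.mulVec_mulVec, ← mat_mul, mul_inv_cancel, mat_one, Matrix.one_mulVec]
      conv_lhs => rw [← h1]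
      rw [← ih, Matrix.mulVec_mulVec, ← mat_mul, ← map_mul, inv_mul_cancel, map_one, mat_one,
        Matrix.one_mulVec]

end Cfsg.Agent.PLocal.SL2Natural
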