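import Mathlib
import Cfsg.Agent.S0274
import Cfsg.Agent.PLocal.QuadPair
import Cfsg.Agent.Lib.PGroupFixedVector
import Cfsg.Agent.PLocal.SL2Natural

/-!
# A natural `SL(2, p)`-submodule in an irreducible module with a quadratic pair

`exists_natural_sub`: `p` odd, `H = ⟨a, b⟩` a finite group acting irreducibly and nontrivially on the
finite `ZMod p`-module `V`, with `a`, `b` acting quadratically.  Then some subgroup `L` of `H` acts on
some subgroup of `V` like `SL(2, p)` on `(ZMod p)²`.
-/

set_option autoImplicit false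
set_option linter.style.haveILetI false

namespace Cfsg.Agent.PLocal.NaturalSub

open Matrix Cfsg.Agent.PLocal.SL2Natural

universe u v

/-- A set closed under the action of generators of a finite group is closed under the group. -/
theorem mem_of_closure {H : Type*} [Group H] [Finite H] {V : Type*} (f : H → V → V)
    (hf1 : ∀ x, f 1 x = x) (hfm : ∀ g h x, f (g * h) x = f g (f h x)) (U : Set V) (s : Set H)
    (hs : ∀ g ∈ s, ∀ u ∈ U, f g u ∈ U) {g : H} (hg : g ∈ Subgroup.closure s) :
    ∀ u ∈ U, f g u ∈ U := by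
  induction hg using Subgroup.closure_induction with
  | mem g hg => exact hs g hg
  | one => intro u hu; rwa [hf1]
  | mul g h _ _ ih ih' => intro u hu; rw [hfm]; exact ih _ (ih' u hu)
  | inv g _ ih =>
    have hpow : ∀ n : ℕ, ∀ u ∈ U, f (g ^ n) u ∈ U := by
      intro n
      induction n with
      | zero => intro u hu; rwa [pow_zero, hf1]
      | succ n ihn => intro u hu; rw [pow_succ, hfm]; exact ihn _ (ih u hu)
    have h1 : g⁻¹ = g ^ (orderOf g - 1) := by
      rw [inv_eq_iff_mul_eq_one, mul_pow_sub_one (orderOf_pos g).ne', pow_orderOf_eq_one]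
    rw [h1]
    exact hpow _

/-- Model: an additive equivalence with `E ^ 2` that turns the action into a homomorphism to
`SL(2, E)`. -/
theorem exists_hom {p : ℕ} [Fact p.Prime] {V : Type u} [AddCommGroup V] [Module (ZMod p) V]
    [Finite V] {H : Type v} [Group H] [Finite H] (ρ : H →* Module.End (ZMod p) V) (a b : H)
    (hab : Subgroup.closure ({a, b} : Set H) = ⊤)
    (ha : ∀ v, ρ a (ρ a v - v) = ρ a v - v) (hb : ∀ v, ρ b (ρ b v - v) = ρ b v - v)
    (hirr : ∀ U : Submodule (ZMod p) V, (∀ h, ∀ u ∈ U, ρ h u ∈ U) → U = ⊥ ∨ U = ⊤)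
    (hnt : ∃ h v, ρ h v ≠ v) :
    ∃ (E : Type u) (_ : Field E) (_ : Fintype E) (_ : CharP E p) (ψ : V ≃+ (Fin 2 → E))
      (σ : H →* SpecialLinearGroup (Fin 2) E), (∀ h v, ψ (ρ h v) = mat (σ h) *ᵥ ψ v) ∧
        (∀ u, mat (σ a) *ᵥ u = u → mat (σ b) *ᵥ u = u → u = 0) := by
  classical
  let A : V →ₗ[ZMod p] V := ρ a - 1
  let B : V →ₗ[ZMod p] V := ρ b - 1
  have hAdef : ∀ v, A v = ρ a v - v := fun v => rfl
  have hBdef : ∀ v, B v = ρ b v - v := fun v => rfl
  have hA : ∀ v, A (A v) = 0 := by
    intro v
    rw [hAdef v, hAdef (ρ a v - v), ha, sub_self]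
  have hB : ∀ v, B (B v) = 0 := by
    intro v
    rw [hBdef v, hBdef (ρ b v - v), hb, sub_self]
  have hρmul : ∀ g h : H, ∀ x, ρ (g * h) x = ρ g (ρ h x) := by
    intro g h x
    rw [map_mul]
    rfl
  have hρone : ∀ x, ρ 1 x = x := by
    intro x
    rw [map_one]
    rfl
  have hirr' : ∀ U : Submodule (ZMod p) V, (∀ u ∈ U, A u ∈ U) → (∀ u ∈ U, B u ∈ U) →
      U = ⊥ ∨ U = ⊤ := by
    intro U hUA hUB
    apply hirr U
    intro h
    have hh : h ∈ Subgroup.closure ({a, b} : Set H) := by rw [hab]; trivial
    refine mem_of_closure (fun g x => ρ g x) hρone hρmul (U : Set V) {a, b} ?_ hh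
    intro g hg u hu
    rcases hg with rfl | hg
    · have h1 := U.add_mem (hUA u hu) hu
      rw [hAdef, sub_add_cancel] at h1
      exact h1
    · rw [Set.mem_singleton_iff] at hg
      subst hg
      have h1 := U.add_mem (hUB u hu) hu
      rw [hBdef, sub_add_cancel] at h1
      exact h1
  have hA0 : A ≠ 0 := by
    intro hA0
    have hB0 : B = 0 := by
      rcases hirr' (LinearMap.ker B) (by
        intro u _
        rw [hA0]
        exact Submodule.zero_mem _) (by
        intro u hu
        rw [LinearMap.mem_ker] at hu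
        rw [hu]
        exact Submodule.zero_mem _) with h | h
      · apply LinearMap.ext
        intro u
        have h1 : B u ∈ LinearMap.ker B := hB u
        rw [h] at h1
        exact h1
      · rw [LinearMap.ker_eq_top] at h
        exact h
    obtain ⟨h, v, hv⟩ := hnt
    apply hv
    have hh : h ∈ Subgroup.closure ({a, b} : Set H) := by rw [hab]; trivial
    have h1 := mem_of_closure (fun g x => ρ g x) hρone hρmul ({v} : Set V) {a, b} (by
      intro g hg u hu
      rw [Set.mem_singleton_iff] at hu ⊢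
      subst hu
      rcases hg with rfl | hg
      · have h2 : A u = 0 := by rw [hA0]; rfl
        rw [hAdef, sub_eq_zero] at h2
        exact h2
      · rw [Set.mem_singleton_iff] at hg
        subst hg
        have h2 : B u = 0 := by rw [hB0]; rfl
        rw [hBdef, sub_eq_zero] at h2
        exact h2) hh v rfl
    exact h1
  obtain ⟨E, iF, iFt, iC, c, ψ, hc, hψA, hψB⟩ :=
    Cfsg.Agent.PLocal.QuadPair.exists_field_model A B hA hB hA0 hirr'
  -- the elements of `H` acting as elements of `SL(2, E)`
  have hex : ∀ h : H, ∃ g : SpecialLinearGroup (Fin 2) E, ∀ v, ψ (ρ h v) = mat g *ᵥ ψ v := by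
    let T : Subgroup H :=
      { carrier := {h | ∃ g : SpecialLinearGroup (Fin 2) E, ∀ v, ψ (ρ h v) = mat g *ᵥ ψ v}
        one_mem' := ⟨1, by
          intro v
          rw [hρone, mat_one, Matrix.one_mulVec]⟩
        mul_mem' := by
          rintro h h' ⟨g, hg⟩ ⟨g', hg'⟩
          refine ⟨g * g', ?_⟩
          intro v
          rw [hρmul, hg, hg', mat_mul, Matrix.mulVec_mulVec]
        inv_mem' := by
          rintro h ⟨g, hg⟩
          refine ⟨g⁻¹, ?_⟩
          intro v
          have h1 : v = ρ h (ρ h⁻¹ v) := by rw [← hρmul, mul_inv_cancel, hρone]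
          conv_rhs => rw [h1]
          rw [hg, Matrix.mulVec_mulVec, ← mat_mul, inv_mul_cancel, mat_one, Matrix.one_mulVec] }
    have hT : Subgroup.closure ({a, b} : Set H) ≤ T := by
      rw [Subgroup.closure_le]
      intro h hh
      rcases hh with rfl | hh
      · refine ⟨up c, ?_⟩
        intro v
        have h1 : ρ h v = A v + v := by rw [hAdef, sub_add_cancel]
        rw [h1, map_add, hψA, mat_up]
        funext i
        fin_cases i
        · simp [Matrix.mulVec, dotProduct, Fin.sum_univ_two, add_comm]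
        · simp [Matrix.mulVec, dotProduct, Fin.sum_univ_two]
      · rw [Set.mem_singleton_iff] at hh
        subst hh
        refine ⟨lo 1, ?_⟩
        intro v
        have h1 : ρ h v = B v + v := by rw [hBdef, sub_add_cancel]
        rw [h1, map_add, hψB, mat_lo]
        funext i
        fin_cases i
        · simp [Matrix.mulVec, dotProduct, Fin.sum_univ_two]
        · simp [Matrix.mulVec, dotProduct, Fin.sum_univ_two]
    intro h
    have hh : h ∈ Subgroup.closure ({a, b} : Set H) := by rw [hab]; trivial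
    exact hT hh
  choose σ hσ using hex
  have huniq : ∀ g g' : SpecialLinearGroup (Fin 2) E, (∀ v, mat g *ᵥ ψ v = mat g' *ᵥ ψ v) →
      g = g' := by
    intro g g' h
    apply mat_injective
    apply Matrix.ext_of_mulVec_single
    intro i
    have := h (ψ.symm (Pi.single i 1))
    rwa [AddEquiv.apply_symm_apply] at this
  let σ' : H →* SpecialLinearGroup (Fin 2) E :=
    { toFun := σ
      map_one' := by
        apply huniq
        intro v
        rw [← hσ, hρone, mat_one, Matrix.one_mulVec]
      map_mul' := by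
        intro g h
        apply huniq
        intro v
        rw [← hσ, hρmul, hσ, hσ, mat_mul, Matrix.mulVec_mulVec] }
  refine ⟨E, iF, iFt, iC, ψ, σ', fun h v => hσ h v, ?_⟩
  intro u hu1 hu2
  obtain ⟨v, rfl⟩ := ψ.surjective u
  have h1 : A v = 0 := by
    rw [hAdef, sub_eq_zero]
    apply ψ.injective
    rw [hσ a v]
    exact hu1
  have h2 : B v = 0 := by
    rw [hBdef, sub_eq_zero]
    apply ψ.injective
    rw [hσ b v]
    exact hu2
  have h3 := hψA v
  have h4 := hψB v
  rw [h1, map_zero] at h3
  rw [h2, map_zero] at h4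
  have h5 := congrFun h3 0
  have h6 := congrFun h4 1
  simp only [Pi.zero_apply, Matrix.cons_val_zero, Matrix.cons_val_one] at h5 h6
  have h7 : ψ v 1 = 0 := by
    rcases mul_eq_zero.mp h5.symm with h | h
    · exact absurd h hc
    · exact h
  funext i
  fin_cases i
  · exact h6.symm
  · exact h7

/-- `p` odd, `H = ⟨a, b⟩` a finite group acting irreducibly and nontrivially on the finite
`ZMod p`-module `V`, with `a`, `b` acting quadratically.  Then some subgroup `L` of `H` acts on
some subgroup of `V` like `SL(2, p)` on `(ZMod p)²`. -/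
theorem exists_natural_sub {p : ℕ} [Fact p.Prime] (hp2 : p ≠ 2) {V : Type u} [AddCommGroup V]
    [Module (ZMod p) V] [Finite V] {H : Type v} [Group H] [Finite H]
    (ρ : H →* Module.End (ZMod p) V) (a b : H)
    (hab : Subgroup.closure ({a, b} : Set H) = ⊤)
    (ha : ∀ v, ρ a (ρ a v - v) = ρ a v - v) (hb : ∀ v, ρ b (ρ b v - v) = ρ b v - v)
    (hirr : ∀ U : Submodule (ZMod p) V, (∀ h, ∀ u ∈ U, ρ h u ∈ U) → U = ⊥ ∨ U = ⊤)
    (hnt : ∃ h v, ρ h v ≠ v) :
    ∃ (L : Subgroup H) (φ : L →* SpecialLinearGroup (Fin 2) (ZMod p))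
      (ι : (Fin 2 → ZMod p) →+ V), Function.Surjective φ ∧ Function.Injective ι ∧
        ∀ (l : L) (x : Fin 2 → ZMod p), ρ (l : H) (ι x) = ι (mat (φ l) *ᵥ x) := by
  classical
  obtain ⟨E, iF, iFt, iC, ψ, σ, hσ, hfix⟩ := exists_hom ρ a b hab ha hb hirr hnt
  have hρmul : ∀ g h : H, ∀ x, ρ (g * h) x = ρ g (ρ h x) := by
    intro g h x
    rw [map_mul]
    rfl
  -- the generators have `p`-power order in `SL(2, E)`
  have hpow : ∀ g : H, (∀ v, ρ g (ρ g v - v) = ρ g v - v) → σ g ^ p = 1 := by
    intro g hg
    have hn : ∀ n : ℕ, ∀ v, ρ (g ^ n) v = v + n • (ρ g v - v) := by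
      intro n
      induction n with
      | zero =>
        intro v
        rw [pow_zero, map_one, zero_smul, add_zero]
        rfl
      | succ n ih =>
        intro v
        have h2 := hg v
        rw [map_sub] at h2
        rw [pow_succ, hρmul, ih, h2, succ_nsmul]
        abel
    have h1 : ∀ v, mat (σ g ^ p) *ᵥ ψ v = ψ v := by
      intro v
      rw [← map_pow, ← hσ, hn]
      have : (p : ℕ) • (ρ g v - v) = 0 := by
        rw [← Nat.cast_smul_eq_nsmul (ZMod p), ZMod.natCast_self, zero_smul]
      rw [this, add_zero]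
    apply mat_injective
    apply Matrix.ext_of_mulVec_single
    intro i
    have := h1 (ψ.symm (Pi.single i 1))
    rw [AddEquiv.apply_symm_apply] at this
    rw [this, mat_one, Matrix.one_mulVec]
  -- more than one Sylow subgroup
  have hsyl : 1 < Nat.card (Sylow p σ.range) := by
    by_contra hle
    push Not at hle
    haveI : Finite (Sylow p σ.range) := inferInstance
    haveI hsub : Subsingleton (Sylow p σ.range) := by
      rw [← Finite.card_le_one_iff_subsingleton]
      exact hle
    have hsubset : ∀ g : H, σ g ^ p = 1 → ∀ P : Sylow p σ.range,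
        (⟨σ g, g, rfl⟩ : σ.range) ∈ (P : Subgroup σ.range) := by
      intro g hg P
      have h1 : (⟨σ g, g, rfl⟩ : σ.range) ^ p = 1 := Subtype.ext hg
      have h2 : IsPGroup p (Subgroup.zpowers (⟨σ g, g, rfl⟩ : σ.range)) := by
        rw [IsPGroup.iff_card]
        rw [Nat.card_zpowers]
        obtain ⟨k, -, hk⟩ := (Nat.dvd_prime_pow (Fact.out : p.Prime)).mp
          (orderOf_dvd_of_pow_eq_one (n := p ^ 1) (by rwa [pow_one]))
        exact ⟨k, hk⟩
      obtain ⟨Q, hQ⟩ := h2.exists_le_sylow
      rw [Subsingleton.elim P Q]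
      exact hQ (Subgroup.mem_zpowers _)
    obtain ⟨P⟩ : Nonempty (Sylow p σ.range) := Sylow.nonempty
    have htop : (P : Subgroup σ.range) = ⊤ := by
      rw [eq_top_iff]
      rintro ⟨x, h, rfl⟩ -
      have hh : h ∈ Subgroup.closure ({a, b} : Set H) := by rw [hab]; trivial
      have hle : Subgroup.closure ({a, b} : Set H) ≤
          (P : Subgroup σ.range).comap σ.rangeRestrict := by
        rw [Subgroup.closure_le]
        intro y hy
        rcases hy with rfl | hy
        · exact hsubset y (hpow y ha) P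
        · rw [Set.mem_singleton_iff] at hy
          subst hy
          exact hsubset y (hpow y hb) P
      exact hle hh
    have hPG : IsPGroup p σ.range := by
      have := P.2
      rw [htop] at this
      exact this.of_surjective (Subgroup.topEquiv (G := σ.range)).toMonoidHom
        (Subgroup.topEquiv (G := σ.range)).surjective
    let τ : σ.range →* Module.End E (Fin 2 → E) :=
      { toFun := fun g => Matrix.mulVecLin (mat (g : SpecialLinearGroup (Fin 2) E))
        map_one' := by
          apply LinearMap.ext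
          intro x
          exact Matrix.one_mulVec x
        map_mul' := by
          intro g h
          apply LinearMap.ext
          intro x
          exact (Matrix.mulVec_mulVec x _ _).symm }
    obtain ⟨u, hu0, hu⟩ := Cfsg.Agent.Lib.PGroupFixedVector.exists_ne_zero_fixed_rep hPG τ
    apply hu0
    apply hfix
    · exact hu ⟨σ a, a, rfl⟩
    · exact hu ⟨σ b, b, rfl⟩
  obtain ⟨K, hK, ⟨e⟩⟩ := Cfsg.Agent.S0274.result p hp2 σ.range hsyl
  obtain ⟨ι₀, hι₀, heq⟩ := exists_natural (K.subtype.comp e.symm.toMonoidHom)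
    (K.subtype_injective.comp e.symm.injective)
  let L : Subgroup H := K.comap σ
  let φ₀ : L →* K := (σ.comp L.subtype).codRestrict K (fun l => l.2)
  refine ⟨L, e.toMonoidHom.comp φ₀, ψ.symm.toAddMonoidHom.comp ι₀, ?_, ?_, ?_⟩
  · refine e.surjective.comp ?_
    rintro ⟨k, hk⟩
    obtain ⟨h, hh⟩ := hK hk
    exact ⟨⟨h, by rw [Subgroup.mem_comap, hh]; exact hk⟩, Subtype.ext hh⟩
  · exact ψ.symm.injective.comp hι₀
  · intro l x
    apply ψ.injective
    rw [hσ]
    change mat (σ l) *ᵥ ψ (ψ.symm (ι₀ x)) = ψ (ψ.symm (ι₀ (mat (e (φ₀ l)) *ᵥ x)))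
    rw [AddEquiv.apply_symm_apply, AddEquiv.apply_symm_apply, ← heq]
    change _ = mat (K.subtype (e.symm (e (φ₀ l)))) *ᵥ ι₀ x
    rw [MulEquiv.symm_apply_apply]
    rfl

end Cfsg.Agent.PLocal.NaturalSub
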