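import Mathlib

/-!
Pulling back a normal subgroup `E` of the image of `J` under a homomorphism `g` with kernel `C`.
-/

set_option autoImplicit false

namespace Cfsg.Agent.PLocal.PullbackSection

open Subgroup

theorem pullback {G Γ : Type*} [Group G] [Group Γ] (g : G →* Γ) (J C : Subgroup G) (hC : g.ker = C)
    (E : Subgroup Γ) (hE : E ≤ J.map g) (hN : J.map g ≤ normalizer (E : Set Γ)) :
    C ≤ E.comap g ∧ E.comap g ≤ J ⊔ C ∧ J ⊔ C ≤ normalizer ((E.comap g : Subgroup G) : Set G) ∧
      ∃ _ : (C.subgroupOf (E.comap g)).Normal, Nonempty ((↥(E.comap g) ⧸ C.subgroupOf (E.comap g)) ≃* ↥E) := by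
  subst hC
  have hrange : E ≤ g.range := hE.trans (map_le_range g J)
  refine ⟨ker_le_comap g E, ?_, ?_, ?_⟩
  · rw [← comap_map_eq]
    exact comap_mono hE
  · refine le_trans ?_ (le_normalizer_comap g)
    rw [← map_le_iff_le_comap, Subgroup.map_sup]
    refine sup_le hN ?_
    have : g.ker.map g = ⊥ := by
      rw [eq_bot_iff, map_le_iff_le_comap]
      exact le_rfl
    rw [this]
    exact bot_le
  · let φ : ↥(E.comap g) →* ↥E := g.subgroupComap E
    have hφ : Function.Surjective φ := by
      rintro ⟨e, he⟩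
      obtain ⟨x, rfl⟩ := hrange he
      exact ⟨⟨x, he⟩, rfl⟩
    have hker : φ.ker = g.ker.subgroupOf (E.comap g) := by
      ext x
      rw [MonoidHom.mem_ker, mem_subgroupOf, MonoidHom.mem_ker]
      exact Subtype.ext_iff
    have hn : (g.ker.subgroupOf (E.comap g)).Normal := inferInstance
    refine ⟨hn, ⟨?_⟩⟩
    exact (QuotientGroup.quotientMulEquivOfEq hker.symm).trans
      (QuotientGroup.quotientKerEquivOfSurjective φ hφ)

end Cfsg.Agent.PLocal.PullbackSection
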