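import Mathlib

/-!
Two quadratic generators `a, b` of a group acting irreducibly and nontrivially on a finite
`ZMod p`-module `U`: then `T = (a-1)(b-1) + (b-1)(a-1)` generates a finite field `E` inside
`End U`, `U` is two-dimensional over `E`, and in a suitable basis `a = [1 λ; 0 1]`,
`b = [1 0; 1 1]`.
-/

set_option autoImplicit false

namespace Cfsg.Agent.PLocal.QuadraticPair

open Matrix

universe u v

theorem sl_mul_mulVec {R : Type*} [CommRing R] (M N : SpecialLinearGroup (Fin 2) R)
    (c : Fin 2 → R) : ((M * N : SpecialLinearGroup (Fin 2) R) : Matrix (Fin 2) (Fin 2) R) *ᵥ c =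
      (M : Matrix (Fin 2) (Fin 2) R) *ᵥ ((N : Matrix (Fin 2) (Fin 2) R) *ᵥ c) := by
  have h : ((M * N : SpecialLinearGroup (Fin 2) R) : Matrix (Fin 2) (Fin 2) R) =
    (M : Matrix (Fin 2) (Fin 2) R) * (N : Matrix (Fin 2) (Fin 2) R) :=
      Matrix.SpecialLinearGroup.coe_mul M N
  exact (congrArg (fun X : Matrix (Fin 2) (Fin 2) R => X *ᵥ c) h).trans
    (Matrix.mulVec_mulVec c _ _).symm

theorem sl_one_mulVec {R : Type*} [CommRing R] (c : Fin 2 → R) :
    ((1 : SpecialLinearGroup (Fin 2) R) : Matrix (Fin 2) (Fin 2) R) *ᵥ c = c := by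
  have h : ((1 : SpecialLinearGroup (Fin 2) R) : Matrix (Fin 2) (Fin 2) R) = 1 :=
    Matrix.SpecialLinearGroup.coe_one
  exact (congrArg (fun X : Matrix (Fin 2) (Fin 2) R => X *ᵥ c) h).trans (Matrix.one_mulVec c)

theorem sl_mul_inv_mulVec {R : Type*} [CommRing R] (M : SpecialLinearGroup (Fin 2) R)
    (c : Fin 2 → R) : (M : Matrix (Fin 2) (Fin 2) R) *ᵥ
      (((M⁻¹ : SpecialLinearGroup (Fin 2) R) : Matrix (Fin 2) (Fin 2) R) *ᵥ c) = c := by
  rw [← sl_mul_mulVec, mul_inv_cancel, sl_one_mulVec]

/-- If an element of the endomorphism ring commutes with an irreducible group of operators then it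
generates a finite field. -/
theorem exists_field_of_commute {p : ℕ} [Fact p.Prime] {K : Type v} [Group K]
    {U : Type u} [AddCommGroup U] [Module (ZMod p) U] [Finite U] [Nontrivial U]
    (ρ : K →* Module.End (ZMod p) U)
    (hirr : ∀ W : Submodule (ZMod p) U, (∀ k, ∀ w ∈ W, ρ k w ∈ W) → W = ⊥ ∨ W = ⊤)
    (T : Module.End (ZMod p) U) (hTk : ∀ k, Commute (ρ k) T) :
    ∃ (E : Type u) (_ : Field E) (_ : Fintype E) (_ : CharP E p)
      (ι : E →+* Module.End (ZMod p) U) (t : E), ι t = T ∧ ∀ k x, Commute (ρ k) (ι x) := by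
  classical
  let E₀ : Subalgebra (ZMod p) (Module.End (ZMod p) U) := Algebra.adjoin (ZMod p) {T}
  have hcommE : ∀ k, ∀ x ∈ E₀, Commute (ρ k) x := by
    intro k x hx
    refine Algebra.adjoin_induction (p := fun x _ => Commute (ρ k) x) ?_ ?_ ?_ ?_ hx
    · intro x hx
      rw [Set.mem_singleton_iff] at hx
      rw [hx]
      exact hTk k
    · intro r
      exact (Algebra.commutes r (ρ k)).symm
    · intro x y _ _ hx hy
      exact hx.add_right hy
    · intro x y _ _ hx hy
      exact hx.mul_right hy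
  have hEinj : ∀ x ∈ E₀, x ≠ 0 → ∀ y, x y = 0 → y = 0 := by
    intro x hx hx0 y hy
    have h1 := hirr (LinearMap.ker x) (by
      intro k w hw
      rw [LinearMap.mem_ker] at hw ⊢
      have := (hcommE k x hx)
      have h2 : (x * ρ k) w = (ρ k * x) w := by rw [this.eq]
      rw [Module.End.mul_apply, Module.End.mul_apply, hw, map_zero] at h2
      exact h2)
    rcases h1 with h1 | h1
    · have : y ∈ LinearMap.ker x := hy
      rw [h1] at this
      exact (Submodule.mem_bot _).1 this
    · exact absurd (LinearMap.ker_eq_top.1 h1) hx0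
  have : Finite (Module.End (ZMod p) U) :=
    Finite.of_injective (fun f : Module.End (ZMod p) U => (f : U → U)) DFunLike.coe_injective
  have hfinE : Finite E₀ := Subtype.finite
  have hcomm : ∀ x y : E₀, x * y = y * x := by
    intro x y
    apply Subtype.ext
    refine Algebra.adjoin_induction
      (p := fun y _ => (x : Module.End (ZMod p) U) * y = y * (x : Module.End (ZMod p) U))
      ?_ ?_ ?_ ?_ y.2
    · intro y hy
      rw [Set.mem_singleton_iff] at hy
      rw [hy]
      refine Algebra.adjoin_induction (p := fun x _ => x * T = T * x) ?_ ?_ ?_ ?_ x.2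
      · intro z hz
        rw [Set.mem_singleton_iff] at hz
        rw [hz]
      · intro r
        exact Algebra.commutes r T
      · intro z w _ _ hz hw
        rw [add_mul, mul_add, hz, hw]
      · intro z w _ _ hz hw
        rw [mul_assoc, hw, ← mul_assoc, hz, mul_assoc]
    · intro r
      exact (Algebra.commutes r (x : Module.End (ZMod p) U)).symm
    · intro z w _ _ hz hw
      rw [add_mul, mul_add, hz, hw]
    · intro z w _ _ hz hw
      rw [← mul_assoc, hz, mul_assoc, hw, mul_assoc]
  have hfield : IsField E₀ := by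
    refine ⟨⟨0, 1, ?_⟩, hcomm, ?_⟩
    · intro h
      obtain ⟨y, hy⟩ := exists_ne (0 : U)
      have h1 : (0 : Module.End (ZMod p) U) = 1 := congrArg Subtype.val h
      have h2 : (0 : Module.End (ZMod p) U) y = (1 : Module.End (ZMod p) U) y := by rw [h1]
      exact hy h2.symm
    · intro x hx
      -- multiplication by x is injective, hence surjective
      have hinj : Function.Injective (fun y : E₀ => x * y) := by
        intro y z hyz
        have h1 : x * (y - z) = 0 := by
          rw [mul_sub]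
          exact sub_eq_zero.2 hyz
        have h2 : (y - z : E₀) = 0 := by
          apply Subtype.ext
          apply LinearMap.ext
          intro w
          have h3 : ((x * (y - z) : E₀) : Module.End (ZMod p) U) w = 0 := by rw [h1]; rfl
          exact hEinj x x.2 (fun h => hx (Subtype.ext h)) _ h3
        exact sub_eq_zero.1 h2
      obtain ⟨y, hy⟩ := (Finite.injective_iff_surjective.1 hinj) 1
      exact ⟨y, hy⟩
  let instF : Field E₀ := hfield.toField
  let instFt : Fintype E₀ := Fintype.ofFinite E₀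
  let ι : E₀ →+* Module.End (ZMod p) U :=
    { toFun := fun x => x
      map_one' := rfl
      map_mul' := fun x y => rfl
      map_zero' := rfl
      map_add' := fun x y => rfl }
  have hchar : CharP E₀ p := by
    constructor
    intro n
    have key : ι (n : E₀) = 0 ↔ (n : E₀) = 0 := by
      constructor
      · intro h
        exact ι.injective (by rw [h, map_zero])
      · intro h
        rw [h, map_zero]
    rw [← key, map_natCast]
    constructor
    · intro hn
      obtain ⟨y, hy⟩ := exists_ne (0 : U)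
      have h2 : ((n : Module.End (ZMod p) U)) y = 0 := by rw [hn]; rfl
      rw [Module.End.natCast_apply] at h2
      have h3 : ((n : ZMod p)) • y = 0 := by
        rw [Nat.cast_smul_eq_nsmul]; exact h2
      rcases smul_eq_zero.1 h3 with h | h
      · exact (ZMod.natCast_eq_zero_iff n p).1 h
      · exact absurd h hy
    · intro hn
      ext y
      rw [Module.End.natCast_apply]
      have h3 : ((n : ZMod p)) • y = n • y := Nat.cast_smul_eq_nsmul _ _ _
      rw [← h3, (ZMod.natCast_eq_zero_iff n p).2 hn, zero_smul]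
      rfl
  refine ⟨E₀, instF, instFt, hchar, ι, ⟨T, Algebra.self_mem_adjoin_singleton (ZMod p) T⟩, rfl, ?_⟩
  intro k x
  exact hcommE k x x.2

/-- Two quadratic generators on an irreducible module: the `SL₂` structure. -/
theorem exists_sl_two_structure {p : ℕ} [Fact p.Prime] {K : Type v} [Group K]
    {U : Type u} [AddCommGroup U] [Module (ZMod p) U] [Finite U]
    (ρ : K →* Module.End (ZMod p) U) (a b : K) (hab : Subgroup.closure ({a, b} : Set K) = ⊤)
    (ha : ∀ x, ρ a (ρ a x - x) = ρ a x - x) (hb : ∀ x, ρ b (ρ b x - x) = ρ b x - x)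
    (hirr : ∀ W : Submodule (ZMod p) U, (∀ k, ∀ w ∈ W, ρ k w ∈ W) → W = ⊥ ∨ W = ⊤)
    (hnt : ∃ k x, ρ k x ≠ x) :
    ∃ (E : Type u) (_ : Field E) (_ : Fintype E) (_ : CharP E p) (e : U ≃+ (Fin 2 → E))
      (φ : K →* SpecialLinearGroup (Fin 2) E) (lam : E), lam ≠ 0 ∧
      (∀ k x, e (ρ k x) = (φ k : Matrix (Fin 2) (Fin 2) E) *ᵥ (e x)) ∧
      (φ a : Matrix (Fin 2) (Fin 2) E) = !![1, lam; 0, 1] ∧
      (φ b : Matrix (Fin 2) (Fin 2) E) = !![1, 0; 1, 1] := by
  classical
  -- fixed points of both generators are zero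
  have hclos : ∀ S : Subgroup K, a ∈ S → b ∈ S → S = ⊤ := by
    intro S h1 h2
    rw [eq_top_iff, ← hab, Subgroup.closure_le]
    rintro x (rfl | rfl)
    · exact h1
    · exact h2
  have hinv : ∀ k x, ρ k⁻¹ (ρ k x) = x := by
    intro k x
    rw [← Module.End.mul_apply, ← map_mul, inv_mul_cancel, map_one, Module.End.one_apply]
  have hfix : ∀ x, ρ a x = x → ρ b x = x → ∀ k, ρ k x = x := by
    intro x h1 h2
    let S : Subgroup K :=
      { carrier := {k | ρ k x = x}
        mul_mem' := by
          intro k l hk hl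
          change ρ (k * l) x = x
          rw [map_mul, Module.End.mul_apply]
          rw [show ρ l x = x from hl]
          exact hk
        one_mem' := by
          change ρ 1 x = x
          rw [map_one, Module.End.one_apply]
        inv_mem' := by
          intro k hk
          change ρ k⁻¹ x = x
          conv_lhs => rw [← show ρ k x = x from hk]
          exact hinv k x }
    have : S = ⊤ := hclos S h1 h2
    intro k
    have hk : k ∈ S := by rw [this]; trivial
    exact hk
  have hzero : ∀ x, ρ a x = x → ρ b x = x → x = 0 := by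
    intro x h1 h2
    let W : Submodule (ZMod p) U :=
      { carrier := {y | ∀ k, ρ k y = y}
        add_mem' := by
          intro y z hy hz k
          rw [map_add, hy k, hz k]
        zero_mem' := by
          intro k
          rw [map_zero]
        smul_mem' := by
          intro c y hy k
          rw [map_smul, hy k] }
    have hW : ∀ k, ∀ w ∈ W, ρ k w ∈ W := by
      intro k w hw
      rw [hw k]
      exact hw
    have hxW : x ∈ W := hfix x h1 h2
    rcases hirr W hW with h | h
    · rw [h] at hxW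
      exact (Submodule.mem_bot _).1 hxW
    · obtain ⟨k, y, hy⟩ := hnt
      have : y ∈ W := by rw [h]; trivial
      exact absurd (this k) hy
  -- the nilpotent operators
  set A : Module.End (ZMod p) U := ρ a - 1 with hA
  set B : Module.End (ZMod p) U := ρ b - 1 with hB
  have hAx : ∀ x, A x = ρ a x - x := fun x => rfl
  have hBx : ∀ x, B x = ρ b x - x := fun x => rfl
  have hAA : A * A = 0 := by
    ext x
    rw [Module.End.mul_apply, hAx x, hAx, ha x, sub_self]
    rfl
  have hBB : B * B = 0 := by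
    ext x
    rw [Module.End.mul_apply, hBx x, hBx, hb x, sub_self]
    rfl
  have hAA' : ∀ x, A (A x) = 0 := fun x => by
    rw [← Module.End.mul_apply, hAA]; rfl
  have hBB' : ∀ x, B (B x) = 0 := fun x => by
    rw [← Module.End.mul_apply, hBB]; rfl
  obtain ⟨T, hT⟩ : ∃ T : Module.End (ZMod p) U, T = A * B + B * A := ⟨_, rfl⟩
  have hTx : ∀ x, T x = A (B x) + B (A x) := fun x => by rw [hT]; rfl
  have hTA : Commute A T := by
    change A * T = T * A
    rw [hT, mul_add, add_mul, ← mul_assoc, hAA, zero_mul, zero_add, mul_assoc B A A, hAA, mul_zero,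
      add_zero, mul_assoc]
  have hTB : Commute B T := by
    change B * T = T * B
    rw [hT, mul_add, add_mul, ← mul_assoc B B A, hBB, zero_mul, add_zero, mul_assoc A B B, hBB,
      mul_zero, zero_add, mul_assoc]
  have hTa : Commute (ρ a) T := by
    have : ρ a = A + 1 := by rw [hA]; abel
    rw [this]
    exact hTA.add_left (Commute.one_left T)
  have hTb : Commute (ρ b) T := by
    have : ρ b = B + 1 := by rw [hB]; abel
    rw [this]
    exact hTB.add_left (Commute.one_left T)
  have hTk : ∀ k, Commute (ρ k) T := by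
    let S : Subgroup K :=
      { carrier := {k | Commute (ρ k) T}
        mul_mem' := by
          intro k l hk hl
          change Commute (ρ (k * l)) T
          rw [map_mul]
          exact Commute.mul_left hk hl
        one_mem' := by
          change Commute (ρ 1) T
          rw [map_one]
          exact Commute.one_left T
        inv_mem' := by
          intro k hk
          change ρ k⁻¹ * T = T * ρ k⁻¹
          have h1 : ρ k⁻¹ * ρ k = 1 := by rw [← map_mul, inv_mul_cancel, map_one]
          have h2 : ρ k * ρ k⁻¹ = 1 := by rw [← map_mul, mul_inv_cancel, map_one]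
          have h3 : ρ k * T = T * ρ k := hk
          calc ρ k⁻¹ * T = ρ k⁻¹ * (T * ρ k) * ρ k⁻¹ := by
                rw [mul_assoc, mul_assoc T, h2, mul_one]
            _ = ρ k⁻¹ * (ρ k * T) * ρ k⁻¹ := by rw [h3]
            _ = T * ρ k⁻¹ := by rw [← mul_assoc, h1, one_mul] }
    have : S = ⊤ := hclos S hTa hTb
    intro k
    have hk : k ∈ S := by rw [this]; trivial
    exact hk
  have : Nontrivial U := by
    obtain ⟨k, x, hx⟩ := hnt
    exact ⟨⟨_, _, hx⟩⟩
  -- the field
  obtain ⟨E, instF, instFt, hchar, ι, t, hιt, hιk⟩ := exists_field_of_commute ρ hirr T hTk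
  have hιinj : ∀ c : E, c ≠ 0 → ∀ y, ι c y = 0 → y = 0 := by
    intro c hc y hy
    have h1 : ι (c⁻¹ * c) y = 0 := by
      rw [map_mul, Module.End.mul_apply, hy, map_zero]
    rwa [inv_mul_cancel₀ hc, map_one, Module.End.one_apply] at h1
  -- the basis
  obtain ⟨x₀, hx₀A, hx₀0⟩ : ∃ x, A x = 0 ∧ x ≠ 0 := by
    by_cases h : ∃ x, A x ≠ 0
    · obtain ⟨x, hx⟩ := h
      exact ⟨A x, hAA' x, hx⟩
    · push Not at h
      obtain ⟨y, hy⟩ := exists_ne (0 : U)
      exact ⟨y, h y, hy⟩
  have hAB0 : ∀ x, A x = 0 → B x = 0 → x = 0 := by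
    intro x h1 h2
    rw [hAx, sub_eq_zero] at h1
    rw [hBx, sub_eq_zero] at h2
    exact hzero x h1 h2
  obtain ⟨y₀, hy₀⟩ : ∃ y, y = B x₀ := ⟨_, rfl⟩
  have hy₀0 : y₀ ≠ 0 := fun h => hx₀0 (hAB0 x₀ hx₀A (by rw [← hy₀, h]))
  have hBy₀ : B y₀ = 0 := by rw [hy₀]; exact hBB' x₀
  have hAy₀ : A y₀ = T x₀ := by
    rw [hTx, hx₀A, map_zero, add_zero, hy₀]
  have ht0 : t ≠ 0 := by
    intro h
    have h1 : T = 0 := by rw [← hιt, h, map_zero]
    have h2 : A y₀ = 0 := by rw [hAy₀, h1]; rfl
    exact hy₀0 (hAB0 y₀ h2 hBy₀)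
  have hEA : ∀ (c : E) (y : U), A (ι c y) = ι c (A y) := by
    intro c y
    have h2 : (ρ a * ι c) y = (ι c * ρ a) y := by rw [(hιk a c).eq]
    rw [Module.End.mul_apply, Module.End.mul_apply] at h2
    rw [hAx, hAx, map_sub, h2]
  have hEB : ∀ (c : E) (y : U), B (ι c y) = ι c (B y) := by
    intro c y
    have h2 : (ρ b * ι c) y = (ι c * ρ b) y := by rw [(hιk b c).eq]
    rw [Module.End.mul_apply, Module.End.mul_apply] at h2
    rw [hBx, hBx, map_sub, h2]
  let f : (Fin 2 → E) →+ U :=
    { toFun := fun c => ι (c 0) x₀ + ι (c 1) y₀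
      map_zero' := by
        simp
      map_add' := by
        intro c d
        rw [Pi.add_apply, Pi.add_apply, map_add, map_add, LinearMap.add_apply,
          LinearMap.add_apply]
        abel }
  have hf : ∀ c, f c = ι (c 0) x₀ + ι (c 1) y₀ := fun c => rfl
  -- matrices act
  have hfa : ∀ c, ρ a (f c) = f ((!![1, t; 0, 1] : Matrix (Fin 2) (Fin 2) E) *ᵥ c) := by
    intro c
    have h0 : ρ a (f c) = f c + A (f c) := by rw [hAx]; abel
    have h1 : A (f c) = ι (c 1) (T x₀) := by
      rw [hf, map_add, hEA, hEA, hx₀A, map_zero, zero_add, hAy₀]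
    have h2 : (!![1, t; 0, 1] : Matrix (Fin 2) (Fin 2) E) *ᵥ c = ![c 0 + t * c 1, c 1] := by
      ext i
      fin_cases i <;> simp [Matrix.mulVec, dotProduct, Fin.sum_univ_two]
    rw [h0, h1, h2, hf, hf]
    have h3 : ι ((![c 0 + t * c 1, c 1] : Fin 2 → E) 0) = ι (c 0) + ι (c 1) * T := by
      change ι (c 0 + t * c 1) = _
      rw [map_add, mul_comm, map_mul, hιt]
    have h4 : ι ((![c 0 + t * c 1, c 1] : Fin 2 → E) 1) = ι (c 1) := rfl
    rw [h3, h4, LinearMap.add_apply, Module.End.mul_apply]
    abel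
  have hfb : ∀ c, ρ b (f c) = f ((!![1, 0; 1, 1] : Matrix (Fin 2) (Fin 2) E) *ᵥ c) := by
    intro c
    have h0 : ρ b (f c) = f c + B (f c) := by rw [hBx]; abel
    have h1 : B (f c) = ι (c 0) y₀ := by
      rw [hf, map_add, hEB, hEB, hBy₀, map_zero, add_zero, hy₀]
    have h2 : (!![1, 0; 1, 1] : Matrix (Fin 2) (Fin 2) E) *ᵥ c = ![c 0, c 0 + c 1] := by
      ext i
      fin_cases i <;> simp [Matrix.mulVec, dotProduct, Fin.sum_univ_two]
    rw [h0, h1, h2, hf, hf]
    have h3 : ι ((![c 0, c 0 + c 1] : Fin 2 → E) 0) = ι (c 0) := rfl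
    have h4 : ι ((![c 0, c 0 + c 1] : Fin 2 → E) 1) = ι (c 0) + ι (c 1) := by
      change ι (c 0 + c 1) = _
      rw [map_add]
    rw [h3, h4, LinearMap.add_apply]
    abel
  have hfinj : Function.Injective f := by
    rw [injective_iff_map_eq_zero]
    intro c hc
    have h1 : A (f c) = 0 := by rw [hc, map_zero]
    have h2 : A (f c) = ι (c 1) (T x₀) := by
      rw [hf, map_add, hEA, hEA, hx₀A, map_zero, zero_add, hAy₀]
    have h3 : T x₀ ≠ 0 := fun h => hy₀0 (hAB0 y₀ (by rw [hAy₀, h]) hBy₀)
    have h4 : c 1 = 0 := by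
      by_contra h
      exact h3 (hιinj (c 1) h _ (by rw [← h2, h1]))
    have h5 : c 0 = 0 := by
      by_contra h
      rw [hf, h4, map_zero, LinearMap.zero_apply, add_zero] at hc
      exact hx₀0 (hιinj (c 0) h _ hc)
    funext i
    fin_cases i
    · exact h5
    · exact h4
  have hdeta : (!![1, t; 0, 1] : Matrix (Fin 2) (Fin 2) E).det = 1 := by
    rw [Matrix.det_fin_two_of]; ring
  have hdetb : (!![1, 0; 1, 1] : Matrix (Fin 2) (Fin 2) E).det = 1 := by
    rw [Matrix.det_fin_two_of]; ring
  have hexists : ∀ k, ∃ M : SpecialLinearGroup (Fin 2) E,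
      ∀ c, ρ k (f c) = f ((M : Matrix (Fin 2) (Fin 2) E) *ᵥ c) := by
    let S : Subgroup K :=
      { carrier := {k | ∃ M : SpecialLinearGroup (Fin 2) E,
          ∀ c, ρ k (f c) = f ((M : Matrix (Fin 2) (Fin 2) E) *ᵥ c)}
        mul_mem' := by
          rintro k l ⟨M, hM⟩ ⟨N, hN⟩
          refine ⟨M * N, fun c => ?_⟩
          rw [map_mul, Module.End.mul_apply, hN, hM]
          exact congrArg f (sl_mul_mulVec M N c).symm
        one_mem' := by
          refine ⟨1, fun c => ?_⟩
          rw [map_one, Module.End.one_apply]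
          exact congrArg f (sl_one_mulVec c).symm
        inv_mem' := by
          rintro k ⟨M, hM⟩
          refine ⟨M⁻¹, fun c => ?_⟩
          have h1 : ρ k (f (((M⁻¹ : SpecialLinearGroup (Fin 2) E) :
              Matrix (Fin 2) (Fin 2) E) *ᵥ c)) = f c := by
            rw [hM]
            exact congrArg f (sl_mul_inv_mulVec M c)
          rw [← h1, hinv] }
    have : S = ⊤ := hclos S ⟨⟨_, hdeta⟩, hfa⟩ ⟨⟨_, hdetb⟩, hfb⟩
    intro k
    have hk : k ∈ S := by rw [this]; trivial
    exact hk
  have hfsurj : Function.Surjective f := by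
    have hsm : ∀ (r : ZMod p) (c : Fin 2 → E), r • f c ∈ f.range := by
      intro r c
      refine ⟨r.val • c, ?_⟩
      rw [map_nsmul, ← Nat.cast_smul_eq_nsmul (ZMod p), ZMod.natCast_zmod_val]
    let W : Submodule (ZMod p) U :=
      { carrier := f.range
        add_mem' := fun {x y} hx hy => f.range.add_mem hx hy
        zero_mem' := f.range.zero_mem
        smul_mem' := by
          rintro r _ ⟨c, rfl⟩
          exact hsm r c }
    have hW : ∀ k, ∀ w ∈ W, ρ k w ∈ W := by
      rintro k _ ⟨c, rfl⟩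
      obtain ⟨M, hM⟩ := hexists k
      rw [hM]
      exact ⟨_, rfl⟩
    rcases hirr W hW with h | h
    · exfalso
      have h1 : x₀ ∈ W := by
        refine ⟨![1, 0], ?_⟩
        rw [hf]
        change ι 1 x₀ + ι 0 y₀ = x₀
        simp
      rw [h] at h1
      exact hx₀0 ((Submodule.mem_bot _).1 h1)
    · intro y
      have : y ∈ W := by rw [h]; trivial
      exact this
  let e : U ≃+ (Fin 2 → E) := (AddEquiv.ofBijective f ⟨hfinj, hfsurj⟩).symm
  have hfe : ∀ x, f (e x) = x := fun x =>
    (AddEquiv.ofBijective f ⟨hfinj, hfsurj⟩).apply_symm_apply x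
  have hef : ∀ c, e (f c) = c := fun c =>
    (AddEquiv.ofBijective f ⟨hfinj, hfsurj⟩).symm_apply_apply c
  choose φ₀ hφ₀ using hexists
  have huniq : ∀ M N : SpecialLinearGroup (Fin 2) E,
      (∀ c, f ((M : Matrix (Fin 2) (Fin 2) E) *ᵥ c) = f ((N : Matrix (Fin 2) (Fin 2) E) *ᵥ c)) →
        M = N := by
    intro M N h
    apply Subtype.ext
    apply Matrix.mulVec_injective
    funext c
    exact hfinj (h c)
  let φ : K →* SpecialLinearGroup (Fin 2) E := MonoidHom.mk' φ₀ (by
    intro k l
    apply huniq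
    intro c
    rw [← hφ₀, map_mul, Module.End.mul_apply, hφ₀, hφ₀]
    exact congrArg f (sl_mul_mulVec (φ₀ k) (φ₀ l) c).symm)
  have hφ : ∀ k c, ρ k (f c) = f ((φ k : Matrix (Fin 2) (Fin 2) E) *ᵥ c) := fun k c => hφ₀ k c
  refine ⟨E, instF, instFt, hchar, e, φ, t, ht0, ?_, ?_, ?_⟩
  · intro k x
    conv_lhs => rw [← hfe x, hφ, hef]
  · have : φ a = ⟨_, hdeta⟩ := by
      apply huniq
      intro c
      rw [← hφ, hfa]
    rw [this]
  · have : φ b = ⟨_, hdetb⟩ := by
      apply huniq
      intro c
      rw [← hφ, hfb]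
    rw [this]

end Cfsg.Agent.PLocal.QuadraticPair
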