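import Mathlib.GroupTheory.Sylow
import Mathlib.GroupTheory.Nilpotent
import Mathlib.GroupTheory.PGroup
import Mathlib.GroupTheory.Commutator.Basic
import Cfsg.Prelude.Def_PLocal
import Cfsg.Agent.Lib.FrattiniPGroup

/-!
# Regular `p`-groups

* `le_zpowers_of_le_sup`: nonabelian finite `p`-groups are not generated by one element modulo the
  derived subgroup.
* `exists_eq_pow`: if `(ab)^(p^n) = a^(p^n) b^(p^n) c` always holds with `c` in the subgroup generated by
  the `p^n`-th powers in `⟨a, b⟩'`, then every element of `powerClosure p n H` is a `p^n`-th power.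
* `commutator_powerClosure_le`: `⁅℧_n(H), H⁆ ≤ ℧_n(⁅H, H⁆)`.
* `isRegular_of_forall_exists`: the criterion with `n = 1` only.
-/

set_option autoImplicit false
open Subgroup
open scoped commutatorElement

namespace Cfsg.Agent.PLocal.Regular

variable {G : Type*} [Group G] {p : ℕ}

theorem powerClosure_mono {n : ℕ} {H K : Subgroup G} (h : H ≤ K) :
    Cfsg.powerClosure p n H ≤ Cfsg.powerClosure p n K := by
  refine Subgroup.closure_mono ?_
  rintro _ ⟨x, hx, rfl⟩
  exact ⟨x, h hx, rfl⟩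

theorem pow_mem_powerClosure {n : ℕ} {H : Subgroup G} {x : G} (hx : x ∈ H) :
    x ^ (p ^ n) ∈ Cfsg.powerClosure p n H :=
  Subgroup.subset_closure ⟨x, hx, rfl⟩

theorem powerClosure_le {n : ℕ} (H : Subgroup G) : Cfsg.powerClosure p n H ≤ H := by
  refine (Subgroup.closure_le _).mpr ?_
  rintro _ ⟨x, hx, rfl⟩
  exact pow_mem hx _

/-- The derived subgroup of a subgroup of a finite `p`-group consists of non-generators. -/
theorem le_of_le_sup_commutator [Finite G] [Fact p.Prime] (hG : IsPGroup p G)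
    (L K : Subgroup G) (hK : K ≤ L) (h : L ≤ K ⊔ ⁅L, L⁆) : L ≤ K := by
  have h1 : (K.subgroupOf L) ⊔ commutator L = ⊤ := by
    rw [← (Subgroup.map_injective L.subtype_injective).eq_iff, Subgroup.map_sup,
      Subgroup.subgroupOf_map_subtype, Subgroup.map_subtype_commutator, inf_eq_left.mpr hK,
      ← MonoidHom.range_eq_map, Subgroup.range_subtype]
    exact le_antisymm (sup_le hK (Subgroup.commutator_le_self L)) h
  have h2 : (K.subgroupOf L) ⊔ frattini L = ⊤ := by
    rw [eq_top_iff, ← h1]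
    exact sup_le_sup le_rfl
      (Cfsg.Agent.Lib.FrattiniPGroup.commutator_le_frattini (hG.to_subgroup L))
  have h3 := frattini_nongenerating h2
  rwa [Subgroup.subgroupOf_eq_top] at h3

theorem eq_bot_of_le_commutator [Finite G] [Fact p.Prime] (hG : IsPGroup p G)
    (L : Subgroup G) (h : L ≤ ⁅L, L⁆) : L = ⊥ := by
  have := le_of_le_sup_commutator hG L ⊥ bot_le (by simpa using h)
  exact le_bot_iff.mp this

theorem le_zpowers_of_le_sup [Finite G] [Fact p.Prime] (hG : IsPGroup p G)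
    (L : Subgroup G) (g : G) (hg : g ∈ L) (h : L ≤ zpowers g ⊔ ⁅L, L⁆) : L ≤ zpowers g :=
  le_of_le_sup_commutator hG L (zpowers g) (by rwa [zpowers_le]) h

/-- If `(ab)^(p^n) = a^(p^n) b^(p^n) c` always holds with `c` in the subgroup generated by the
`p^n`-th powers in `⟨a, b⟩'`, then every element of `powerClosure p n H` is a `p^n`-th power. -/
theorem exists_eq_pow [Finite G] [Fact p.Prime] (hG : IsPGroup p G) (n : ℕ)
    (h : ∀ a b : G, ∃ c ∈ Cfsg.powerClosure p n
      ⁅Subgroup.closure ({a, b} : Set G), Subgroup.closure ({a, b} : Set G)⁆,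
      (a * b) ^ (p ^ n) = a ^ (p ^ n) * b ^ (p ^ n) * c) (H : Subgroup G) :
    ∀ x ∈ Cfsg.powerClosure p n H, ∃ z ∈ H, x = z ^ (p ^ n) := by
  induction hm : Nat.card H using Nat.strong_induction_on generalizing H with
  | _ m ih =>
    subst hm
    have key : ∀ x ∈ H, ∀ y ∈ H, ∃ z ∈ H, x ^ (p ^ n) * y ^ (p ^ n) = z ^ (p ^ n) := by
      intro x hx y hy
      by_cases hxy : x * y = y * x
      · exact ⟨x * y, mul_mem hx hy, ((show Commute x y from hxy).mul_pow _).symm⟩
      set L : Subgroup G := Subgroup.closure ({x, y} : Set G) with hL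
      have hxL : x ∈ L := Subgroup.subset_closure (by simp)
      have hyL : y ∈ L := Subgroup.subset_closure (by simp)
      have hLH : L ≤ H := by
        rw [hL, Subgroup.closure_le]
        rintro z (rfl | rfl)
        · exact hx
        · exact hy
      have hcard : Nat.card L ≤ Nat.card H := Subgroup.card_le_of_le hLH
      have hLb : L ≠ ⊥ := by
        intro hb
        rw [hb, Subgroup.mem_bot] at hxL hyL
        apply hxy
        rw [hxL, hyL]
      have hL' : ⁅L, L⁆ < L := by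
        refine lt_of_le_not_ge (Subgroup.commutator_le_self L) ?_
        intro hle
        exact hLb (eq_bot_of_le_commutator hG L hle)
      have hcard' : ∀ K : Subgroup G, K < L → Nat.card K < Nat.card L := by
        intro K hK
        by_contra hcon
        push Not at hcon
        exact hK.ne (Subgroup.eq_of_le_of_card_ge hK.le hcon)
      obtain ⟨c, hc, hxyc⟩ := h x y
      obtain ⟨d, hd, rfl⟩ := ih _ (lt_of_lt_of_le (hcard' _ hL') hcard) _ rfl c hc
      set K : Subgroup G := zpowers (x * y) ⊔ ⁅L, L⁆ with hK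
      have hKL : K ≤ L := sup_le (by rw [zpowers_le]; exact mul_mem hxL hyL) hL'.le
      have hKlt : K < L := by
        refine lt_of_le_not_ge hKL ?_
        intro hle
        have h1 := le_zpowers_of_le_sup hG L (x * y) (mul_mem hxL hyL) hle
        obtain ⟨i, hi⟩ := Subgroup.mem_zpowers_iff.mp (h1 hxL)
        obtain ⟨j, hj⟩ := Subgroup.mem_zpowers_iff.mp (h1 hyL)
        apply hxy
        have hcomm : Commute ((x * y) ^ i) ((x * y) ^ j) :=
          (Commute.refl (x * y)).zpow_zpow i j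
        rw [hi, hj] at hcomm
        exact hcomm
      have h2 : (x * y) ^ (p ^ n) * (d⁻¹) ^ (p ^ n) ∈ Cfsg.powerClosure p n K :=
        mul_mem (pow_mem_powerClosure (le_sup_left (α := Subgroup G) (mem_zpowers _)))
          (pow_mem_powerClosure (inv_mem (le_sup_right (α := Subgroup G) hd)))
      obtain ⟨z, hz, hzz⟩ := ih _ (lt_of_lt_of_le (hcard' _ hKlt) hcard) _ rfl _ h2
      refine ⟨z, hLH (hKL hz), ?_⟩
      rw [← hzz, hxyc, inv_pow]
      group
    intro x hx
    induction hx using Subgroup.closure_induction with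
    | mem x hx => exact hx
    | one => exact ⟨1, one_mem _, by simp⟩
    | mul x y _ _ hx hy =>
      obtain ⟨a, ha, rfl⟩ := hx
      obtain ⟨b, hb, rfl⟩ := hy
      exact key a ha b hb
    | inv x _ hx =>
      obtain ⟨a, ha, rfl⟩ := hx
      exact ⟨a⁻¹, inv_mem ha, by rw [inv_pow]⟩

/-- Under the same hypothesis, `⁅℧_n(H), H⁆ ≤ ℧_n(H')`. -/
theorem commutator_powerClosure_le [Finite G] [Fact p.Prime] (hG : IsPGroup p G) (n : ℕ)
    (h : ∀ a b : G, ∃ c ∈ Cfsg.powerClosure p n
      ⁅Subgroup.closure ({a, b} : Set G), Subgroup.closure ({a, b} : Set G)⁆,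
      (a * b) ^ (p ^ n) = a ^ (p ^ n) * b ^ (p ^ n) * c) (H : Subgroup G) :
    ⁅Cfsg.powerClosure p n H, H⁆ ≤ Cfsg.powerClosure p n ⁅H, H⁆ := by
  rw [Subgroup.commutator_le]
  intro x' hx' y hy
  obtain ⟨x, hx, rfl⟩ := exists_eq_pow hG n h H x' hx'
  -- ⁅x^q, y⁆ = x^q (y x⁻¹ y⁻¹)^q = x^q (x⁻¹ ⁅x, y⁆)^q
  have h1 : ⁅x ^ (p ^ n), y⁆ = x ^ (p ^ n) * (x⁻¹ * ⁅x, y⁆) ^ (p ^ n) := by
    have h2 : x⁻¹ * ⁅x, y⁆ = y * x⁻¹ * y⁻¹ := by
      rw [commutatorElement_def]; group
    rw [h2, conj_pow, commutatorElement_def, inv_pow]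
    group
  obtain ⟨c, hc, hc2⟩ := h x⁻¹ ⁅x, y⁆
  have hcm : ⁅x, y⁆ ∈ ⁅H, H⁆ := Subgroup.commutator_mem_commutator hx hy
  have hle : Subgroup.closure ({x⁻¹, ⁅x, y⁆} : Set G) ≤ H := by
    rw [Subgroup.closure_le]
    rintro z (rfl | rfl)
    · exact inv_mem hx
    · exact Subgroup.commutator_le_self H hcm
  have hc' : c ∈ Cfsg.powerClosure p n ⁅H, H⁆ :=
    powerClosure_mono (Subgroup.commutator_mono hle hle) hc
  have h3 : ⁅x ^ (p ^ n), y⁆ = ⁅x, y⁆ ^ (p ^ n) * c := by
    rw [h1, hc2, inv_pow]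
    group
  rw [h3]
  exact mul_mem (pow_mem_powerClosure hcm) hc'

/-- Iterating: `℧_n(℧_1(H)) ≤ ℧_{n+1}(H)` when `℧_1(H)` consists of `p`-th powers. -/
theorem powerClosure_powerClosure_le (n : ℕ) (H : Subgroup G)
    (h : ∀ x ∈ Cfsg.powerClosure p 1 H, ∃ z ∈ H, x = z ^ (p ^ 1)) :
    Cfsg.powerClosure p n (Cfsg.powerClosure p 1 H) ≤ Cfsg.powerClosure p (n + 1) H := by
  refine (Subgroup.closure_le _).mpr ?_
  rintro _ ⟨x, hx, rfl⟩
  obtain ⟨z, hz, rfl⟩ := h x hx
  rw [← pow_mul, ← pow_add, add_comm 1 n]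
  exact pow_mem_powerClosure hz

/-- The criterion for regularity with exponent `p` only. -/
theorem isRegular_of_forall_exists [Finite G] [Fact p.Prime] (hG : IsPGroup p G)
    (h : ∀ a b : G, ∃ c ∈ Cfsg.powerClosure p 1
      ⁅Subgroup.closure ({a, b} : Set G), Subgroup.closure ({a, b} : Set G)⁆,
      (a * b) ^ (p ^ 1) = a ^ (p ^ 1) * b ^ (p ^ 1) * c) : Cfsg.IsRegularPGroup p G := by
  refine ⟨hG, ?_⟩
  intro a b n
  induction n generalizing a b with
  | zero => exact ⟨1, one_mem _, by simp⟩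
  | succ n ih =>
    set H : Subgroup G := Subgroup.closure ({a, b} : Set G) with hH
    have haH : a ∈ H := Subgroup.subset_closure (by simp)
    have hbH : b ∈ H := Subgroup.subset_closure (by simp)
    obtain ⟨c, hc, habc⟩ := h a b
    obtain ⟨d, hd, rfl⟩ := exists_eq_pow hG 1 h _ c hc
    rw [← hH] at hd
    have hdH : d ∈ H := Subgroup.commutator_le_self H hd
    -- every commutator subgroup of a subgroup of ℧_1(H) lies in ℧_1(H')
    have hstep : ∀ u v : G, u ∈ Cfsg.powerClosure p 1 H → v ∈ Cfsg.powerClosure p 1 H →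
        ∃ e ∈ Cfsg.powerClosure p (n + 1) ⁅H, H⁆,
          (u * v) ^ (p ^ n) = u ^ (p ^ n) * v ^ (p ^ n) * e := by
      intro u v hu hv
      obtain ⟨e, he, huv⟩ := ih u v
      refine ⟨e, ?_, huv⟩
      have hle : Subgroup.closure ({u, v} : Set G) ≤ Cfsg.powerClosure p 1 H := by
        rw [Subgroup.closure_le]
        rintro z (rfl | rfl)
        · exact hu
        · exact hv
      have h1 : ⁅Subgroup.closure ({u, v} : Set G), Subgroup.closure ({u, v} : Set G)⁆ ≤
          Cfsg.powerClosure p 1 ⁅H, H⁆ :=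
        le_trans (Subgroup.commutator_mono hle (le_trans hle (powerClosure_le H)))
          (commutator_powerClosure_le hG 1 h H)
      exact powerClosure_powerClosure_le n _ (exists_eq_pow hG 1 h ⁅H, H⁆)
        (powerClosure_mono h1 he)
    obtain ⟨e1, he1, h1⟩ := hstep (a ^ (p ^ 1)) (b ^ (p ^ 1) * d ^ (p ^ 1))
      (pow_mem_powerClosure haH) (mul_mem (pow_mem_powerClosure hbH) (pow_mem_powerClosure hdH))
    obtain ⟨e2, he2, h2⟩ := hstep (b ^ (p ^ 1)) (d ^ (p ^ 1))
      (pow_mem_powerClosure hbH) (pow_mem_powerClosure hdH)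
    refine ⟨(d ^ (p ^ 1)) ^ (p ^ n) * e2 * e1, ?_, ?_⟩
    · refine mul_mem (mul_mem ?_ he2) he1
      rw [← pow_mul, ← pow_add, add_comm 1 n]
      exact pow_mem_powerClosure hd
    · have h3 : ∀ x : G, x ^ (p ^ (n + 1)) = (x ^ (p ^ 1)) ^ (p ^ n) := by
        intro x; rw [← pow_mul, ← pow_add, add_comm 1 n]
      rw [h3 (a * b), habc, mul_assoc (a ^ (p ^ 1)), h1, h2, h3 a, h3 b]
      simp only [mul_assoc]

end Cfsg.Agent.PLocal.Regular
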