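import Mathlib
import Cfsg.Prelude.Def_Solvable
import Cfsg.Agent.Lib.Cores
import Cfsg.Agent.Lib.SubnormalJoin

/-!
Relative subnormality of subgroups of an ambient group: `SN X E` says that `X ≤ E` and `X` is
subnormal in `E`.
-/

set_option autoImplicit false
open Pointwise

namespace Cfsg.Agent.PLocal.RelSubnormal

variable {G : Type*} [Group G]

/-- `X` is a subnormal subgroup of `E`. -/
def SN (X E : Subgroup G) : Prop := X ≤ E ∧ (X.subgroupOf E).IsSubnormal

theorem SN.le {X E : Subgroup G} (h : SN X E) : X ≤ E := h.1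

theorem SN.refl (X : Subgroup G) : SN X X := by
  refine ⟨le_rfl, ?_⟩
  rw [Subgroup.subgroupOf_self]
  exact Subgroup.IsSubnormal.top

theorem SN.trans {X Y E : Subgroup G} (h1 : SN X Y) (h2 : SN Y E) : SN X E := by
  refine ⟨h1.1.trans h2.1, ?_⟩
  have hle : X.subgroupOf E ≤ Y.subgroupOf E := Subgroup.comap_mono h1.1
  refine Subgroup.IsSubnormal.trans hle ?_ h2.2
  exact Subgroup.IsSubnormal.comap (Subgroup.subgroupOfEquivOfLe h2.1).toMonoidHom h1.2

theorem SN.mono {X E F : Subgroup G} (h : SN X E) (hXF : X ≤ F) (hFE : F ≤ E) : SN X F := by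
  refine ⟨hXF, ?_⟩
  exact Subgroup.IsSubnormal.comap (Subgroup.inclusion hFE) h.2

theorem SN.sup [Finite G] {X Y E : Subgroup G} (h1 : SN X E) (h2 : SN Y E) : SN (X ⊔ Y) E := by
  refine ⟨sup_le h1.1 h2.1, ?_⟩
  rw [Subgroup.subgroupOf_sup h1.1 h2.1]
  exact Lib.SubnormalJoin.isSubnormal_sup h1.2 h2.2

theorem SN.of_normal {X E : Subgroup G} (h : X ≤ E) (hn : E ≤ Subgroup.normalizer (X : Set G)) :
    SN X E := by
  refine ⟨h, ?_⟩
  exact ((Subgroup.normal_subgroupOf_iff_le_normalizer h).mpr hn).isSubnormal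

theorem SN.conj {X E : Subgroup G} (h : SN X E) {g : G} (hg : g ∈ E) :
    SN (MulAut.conj g • X) E := by
  have hle : MulAut.conj g • X ≤ E := by
    intro y hy
    rw [Subgroup.mem_pointwise_smul_iff_inv_smul_mem] at hy
    have := h.1 hy
    simp only [MulAut.smul_def, MulAut.conj_inv_apply] at this
    have h2 := E.mul_mem (E.mul_mem hg this) (E.inv_mem hg)
    simpa [mul_assoc] using h2
  refine ⟨hle, ?_⟩
  have := Subgroup.IsSubnormal.smul h.2 (MulAut.conj (⟨g, hg⟩ : E))
  convert this using 1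
  ext y
  rw [Subgroup.mem_pointwise_smul_iff_inv_smul_mem, Subgroup.mem_subgroupOf,
    Subgroup.mem_pointwise_smul_iff_inv_smul_mem, Subgroup.mem_subgroupOf]
  simp [MulAut.smul_def]

/-- A proper subnormal subgroup lies in a proper normal subgroup. -/
theorem SN.exists_normal {X E : Subgroup G} (h : SN X E) (hne : X ≠ E) :
    ∃ N : Subgroup G, X ≤ N ∧ N < E ∧ E ≤ Subgroup.normalizer (N : Set G) := by
  have hne' : X.subgroupOf E ≠ ⊤ := by
    intro h'
    rw [Subgroup.subgroupOf_eq_top] at h'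
    exact hne (le_antisymm h.1 h')
  obtain ⟨K, hK, hXK, hKt⟩ := h.2.exists_normal_and_le_and_lt_top_of_ne hne'
  refine ⟨K.map E.subtype, ?_, ?_, ?_⟩
  · intro x hx
    exact ⟨⟨x, h.1 hx⟩, hXK (by simpa [Subgroup.mem_subgroupOf] using hx), rfl⟩
  · refine lt_of_le_of_ne (Subgroup.map_subtype_le K) ?_
    intro h'
    apply hKt.ne
    rw [eq_top_iff]
    intro y _
    have : (y : G) ∈ K.map E.subtype := by rw [h']; exact y.2
    obtain ⟨z, hz, hzy⟩ := this
    have : z = y := Subtype.ext hzy
    rwa [← this]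
  · have := Subgroup.map_mono (f := E.subtype) (Subgroup.normalizer_eq_top_iff.mpr hK).ge
    rw [← MonoidHom.range_eq_map, Subgroup.range_subtype] at this
    exact this.trans (Subgroup.le_normalizer_map _)

/-- A subnormal `p`-subgroup of a group lies in the `p`-core. -/
theorem le_pCore_of_isSubnormal {p : ℕ} {X : Subgroup G} (h : X.IsSubnormal) (hp : IsPGroup p X) :
    X ≤ pCore p G := by
  -- every normal `p`-subgroup of a subnormal subgroup lies in the `p`-core
  suffices H : ∀ H : Subgroup G, H.IsSubnormal → (pCore p H).map H.subtype ≤ pCore p G by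
    refine le_trans ?_ (H X h)
    have h1 : pCore p X = ⊤ := (Lib.Cores.pCore_eq_top_iff p).mpr hp
    rw [h1, ← MonoidHom.range_eq_map, Subgroup.range_subtype]
  intro H hH
  induction hH with
  | top =>
    have h1 := Lib.Cores.map_subtype_pCore p (G := G) (N := ⊤) inferInstance
    rw [h1]
    exact (inf_le_right : (⊤ : Subgroup G) ⊓ pCore p G ≤ pCore p G)
  | step A B hle hB hN ih =>
    have h1 := Lib.Cores.map_subtype_pCore p (G := B) (N := A.subgroupOf B) hN
    refine le_trans ?_ ih
    have h2 : (pCore p A).map A.subtype =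
        ((pCore p (A.subgroupOf B)).map (A.subgroupOf B).subtype).map B.subtype := by
      rw [← Lib.Cores.map_equiv_pCore (Subgroup.subgroupOfEquivOfLe hle).symm p,
        Subgroup.map_map, Subgroup.map_map]
      congr 1
    rw [h2, h1]
    exact Subgroup.map_mono inf_le_right

theorem SN.eq_bot_of_isPGroup {p : ℕ} {X E : Subgroup G} (h : SN X E) (hE : pCore p E = ⊥)
    (hp : IsPGroup p X) : X = ⊥ := by
  have h1 : IsPGroup p (X.subgroupOf E) := hp.comap_of_injective _ E.subtype_injective
  have h2 := le_pCore_of_isSubnormal h.2 h1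
  rw [hE, le_bot_iff, Subgroup.subgroupOf_eq_bot] at h2
  rw [eq_bot_iff]
  intro x hx
  exact (Subgroup.disjoint_def.mp h2) hx (h.1 hx)

theorem SN.pCore_eq_bot {p : ℕ} {X E : Subgroup G} (h : SN X E) (hE : pCore p E = ⊥) :
    pCore p X = ⊥ := by
  have h1 : SN ((pCore p X).map X.subtype) X := by
    refine SN.of_normal (Subgroup.map_subtype_le _) ?_
    have := Subgroup.map_mono (f := X.subtype)
      (Subgroup.normalizer_eq_top_iff.mpr (Lib.Cores.pCore_normal (G := X) p)).ge
    rw [← MonoidHom.range_eq_map, Subgroup.range_subtype] at this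
    exact this.trans (Subgroup.le_normalizer_map _)
  have h2 := (h1.trans h).eq_bot_of_isPGroup hE ((Lib.Cores.pCore_isPGroup p).map _)
  rwa [Subgroup.map_eq_bot_iff_of_injective _ X.subtype_injective] at h2

end Cfsg.Agent.PLocal.RelSubnormal
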