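import Mathlib
import Cfsg.Agent.S0649
import Cfsg.Agent.S0650

/-!
# The replacement property, from the Glauberman replacement theorem (S0650)

A family `𝒰` of abelian subgroups of a normal subgroup `D` of the `p`-group `S` (`p` odd) that is closed
under passing to abelian subgroups of `D` of the same order and of exponent dividing the old one has the
replacement property.
-/

set_option autoImplicit false

namespace Cfsg.Agent.PLocal.ReplacementProperty

theorem replacement_property {S : Type*} [Group S] [Finite S] {p : ℕ} [Fact p.Prime]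
    (hS : IsPGroup p S) (hp : p ≠ 2) (D : Subgroup S) [hDn : D.Normal]
    (U : Set (Subgroup S)) (hU : ∀ A ∈ U, IsMulCommutative A ∧ A ≤ D)
    (hclosed : ∀ A ∈ U, ∀ A' : Subgroup S, A' ≤ D → IsMulCommutative A' →
      Nat.card A' = Nat.card A → Monoid.exponent A' ∣ Monoid.exponent A → A' ∈ U)
    (B : Subgroup S) [hBn : B.Normal]
    (hex : ∃ A ∈ U, ⁅B, B⁆ ≤ A ∧ ¬ B ≤ A) :
    ∃ A ∈ U, ⁅B, B⁆ ≤ A ∧ ¬ B ≤ A ∧ B ≤ Subgroup.normalizer (A : Set S) := by
  classical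
  -- choose `A` with `A ⊓ B` of largest order
  let T : Set (Subgroup S) := {A | A ∈ U ∧ ⁅B, B⁆ ≤ A ∧ ¬ B ≤ A}
  have hTne : T.Nonempty := by
    obtain ⟨A, h1, h2, h3⟩ := hex
    exact ⟨A, h1, h2, h3⟩
  have hTfin : T.Finite := Set.toFinite T
  obtain ⟨A, hAT, hmax⟩ := Set.exists_max_image T (fun A => Nat.card ↥(A ⊓ B)) hTfin hTne
  obtain ⟨hAU, hBA, hnle⟩ := hAT
  refine ⟨A, hAU, hBA, hnle, ?_⟩
  by_contra hnot
  obtain ⟨hAab, hAD⟩ := hU A hAU
  obtain ⟨b, hb, hbN, hbA⟩ := Cfsg.Agent.S0649.result hS B (fun h => absurd h hp) A hAab hBA hnot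
  have key := Cfsg.Agent.S0650.result hS B (fun h => absurd h hp) A hAab hBA hnot b hb hbN hbA
  set A' : Subgroup S := (A ⊓ A.map (MulAut.conj (b⁻¹)).toMonoidHom) ⊔
    Subgroup.closure {g : S | ∃ a ∈ A, g = a * b⁻¹ * a⁻¹ * b} with hA'
  obtain ⟨hcard, hcomm, hBA', hlt, hlt', -, -, -, -, hexp⟩ := key
  have hA'D : A' ≤ D := by
    rw [hA']
    refine sup_le (inf_le_left.trans hAD) ?_
    rw [Subgroup.closure_le]
    rintro g ⟨a, ha, rfl⟩
    have h1 : a * b⁻¹ * a⁻¹ * b = a * (b⁻¹ * a⁻¹ * b⁻¹⁻¹) := by group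
    rw [h1]
    exact D.mul_mem (hAD ha) (hDn.conj_mem _ (D.inv_mem (hAD ha)) _)
  have hA'U : A' ∈ U := hclosed A hAU A' hA'D hcomm hcard (hexp hp)
  have hA'T : A' ∈ T := by
    refine ⟨hA'U, hBA', ?_⟩
    intro hle
    have h1 : A' ⊓ B = B := inf_eq_right.2 hle
    rw [h1] at hlt'
    exact lt_irrefl _ hlt'
  have h2 := hmax A' hA'T
  have h3 : Nat.card ↥(A ⊓ B) < Nat.card ↥(A' ⊓ B) := by
    have h4 : ((A ⊓ B : Subgroup S) : Set S) ⊂ ((A' ⊓ B : Subgroup S) : Set S) := hlt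
    exact Set.Finite.card_lt_card (Set.toFinite _) h4
  exact absurd h2 (not_le.2 h3)

end Cfsg.Agent.PLocal.ReplacementProperty
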