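import Mathlib

/-!
# The Kerdock-type bound for S0665 (case b = 1)

Group version of the bound on the number of pairwise disjoint maximal totally singular subspaces:
if `D` is an elementary abelian 2-group, `y` an involution outside `D`, and `(E i)` are groups of
exponent 2, each containing `Z` and an element of the coset `y D`, with `E i ⊓ E j ≤ D` for `i ≠ j`,
then the number of `i`'s is at most `|C_D(y) : Z|`; in particular (if `y` does not centralize `D`) at
most `|D : Z| / 2`.

Also: the `|A| |B|` vectors `α v`, `β⁻¹ v + α v` of an opposite pair of quadratic groups.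
-/

set_option autoImplicit false

namespace Cfsg.Agent.PLocal.S4FreeKerdock

section group

variable {G : Type*} [Group G]

/-- Two elements of order dividing two with product of order dividing two commute. -/
theorem comm_of_sq {y d : G} (hy : y * y = 1) (hd : d * d = 1) (hyd : (y * d) * (y * d) = 1) :
    y * d = d * y := by
  have h1 : (y * d)⁻¹ = y * d := inv_eq_of_mul_eq_one_left hyd
  have h2 : y⁻¹ = y := inv_eq_of_mul_eq_one_left hy
  have h3 : d⁻¹ = d := inv_eq_of_mul_eq_one_left hd
  rw [mul_inv_rev, h2, h3] at h1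
  exact h1.symm

/-- **Kerdock bound, group version.** -/
theorem card_le [Finite G] {ι : Type*} {D Z : Subgroup G} {y : G}
    (hD : ∀ d ∈ D, d * d = 1) (hy : y * y = 1) (hyD : y ∉ D)
    (E : ι → Subgroup G) (hE : ∀ i, ∀ e ∈ E i, e * e = 1) (hZE : ∀ i, Z ≤ E i)
    (hEE : ∀ i j, i ≠ j → E i ⊓ E j ≤ D) (hmeet : ∀ i, ∃ d ∈ D, y * d ∈ E i) :
    Nat.card ι ≤ Z.relIndex (D ⊓ Subgroup.centralizer ({y} : Set G)) := by
  choose d hdD hdE using hmeet
  set C : Subgroup G := D ⊓ Subgroup.centralizer ({y} : Set G) with hC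
  have hdC : ∀ i, d i ∈ C := by
    intro i
    refine Subgroup.mem_inf.mpr ⟨hdD i, ?_⟩
    rw [Subgroup.mem_centralizer_singleton_iff]
    exact (comm_of_sq hy (hD _ (hdD i)) (hE i _ (hdE i))).symm
  let f : ι → C ⧸ Z.subgroupOf C := fun i => QuotientGroup.mk ⟨d i, hdC i⟩
  have hf : Function.Injective f := by
    intro i j hij
    by_contra hne
    have h1 : (⟨d i, hdC i⟩ : C)⁻¹ * ⟨d j, hdC j⟩ ∈ Z.subgroupOf C := QuotientGroup.eq.mp hij
    rw [Subgroup.mem_subgroupOf] at h1
    have h2 : (d i)⁻¹ * d j ∈ Z := h1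
    have h3 : y * d j = (y * d i) * ((d i)⁻¹ * d j) := by group
    have h4 : y * d j ∈ E i := by
      rw [h3]; exact (E i).mul_mem (hdE i) (hZE i h2)
    have h5 : y * d j ∈ D := hEE i j hne ⟨h4, hdE j⟩
    apply hyD
    have h6 := D.mul_mem h5 (D.inv_mem (hdD j))
    simpa [mul_assoc] using h6
  exact Nat.card_le_card_of_injective f hf

/-- The bound `2 |ι| ≤ |D : Z|` when `y` does not centralize `D`. -/
theorem two_mul_card_le [Finite G] {ι : Type*} {D Z : Subgroup G} {y : G} (hZD : Z ≤ D)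
    (hD : ∀ d ∈ D, d * d = 1) (hy : y * y = 1) (hyD : y ∉ D)
    (hyZ : Z ≤ Subgroup.centralizer ({y} : Set G)) (hne : ∃ d ∈ D, y * d ≠ d * y)
    (E : ι → Subgroup G) (hE : ∀ i, ∀ e ∈ E i, e * e = 1) (hZE : ∀ i, Z ≤ E i)
    (hEE : ∀ i j, i ≠ j → E i ⊓ E j ≤ D) (hmeet : ∀ i, ∃ d ∈ D, y * d ∈ E i) :
    2 * Nat.card ι ≤ Z.relIndex D := by
  have h1 := card_le hD hy hyD E hE hZE hEE hmeet
  set C : Subgroup G := D ⊓ Subgroup.centralizer ({y} : Set G) with hC
  have hZC : Z ≤ C := le_inf hZD hyZ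
  have hCD : C ≤ D := inf_le_left
  have h2 : Z.relIndex C * C.relIndex D = Z.relIndex D := Subgroup.relIndex_mul_relIndex Z C D hZC hCD
  have h3 : 2 ≤ C.relIndex D := by
    have hne1 : C.relIndex D ≠ 1 := by
      intro h
      rw [Subgroup.relIndex_eq_one] at h
      obtain ⟨d, hdD, hd⟩ := hne
      have := (Subgroup.mem_inf.mp (h hdD)).2
      rw [Subgroup.mem_centralizer_singleton_iff] at this
      exact hd this.symm
    have hne0 : C.relIndex D ≠ 0 := by
      have : Finite D := inferInstance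
      exact Subgroup.index_ne_zero_of_finite
    omega
  calc 2 * Nat.card ι ≤ C.relIndex D * Z.relIndex C := Nat.mul_le_mul h3 h1
    _ = Z.relIndex D := by rw [mul_comm, h2]

end group

end Cfsg.Agent.PLocal.S4FreeKerdock
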