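import Mathlib

/-!
# S0665, case `b = 1`: the "Kerdock" bound on the type II side

`F` a group, `A ≤ F` of exponent two, `Z ≤ A`, and a family `E i` of subgroups of exponent two, each containing `Z`
and covering `F` modulo `A`, with pairwise intersections `Z`. If some involution `x₀ ∉ A` does not centralise `A`
then `2 * #ι * |Z| ≤ |A|`.
-/

set_option autoImplicit false

namespace Cfsg.Agent.PLocal.SFourKerdock

variable {F : Type*} [Group F]

/-- The elements of `A` commuting with `x`. -/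
def cenIn (A : Subgroup F) (x : F) : Subgroup F := A ⊓ Subgroup.centralizer {x}

theorem mem_cenIn {A : Subgroup F} {x a : F} : a ∈ cenIn A x ↔ a ∈ A ∧ a * x = x * a := by
  rw [cenIn, Subgroup.mem_inf, Subgroup.mem_centralizer_singleton_iff]

/-- Two involutions whose product is an involution commute. -/
theorem comm_of_sq {x a : F} (hx : x * x = 1) (ha : a * a = 1) (h : x * a * (x * a) = 1) : a * x = x * a := by
  have h1 : x * a = (x * a)⁻¹ := eq_inv_of_mul_eq_one_left h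
  rw [mul_inv_rev, inv_eq_of_mul_eq_one_left hx, inv_eq_of_mul_eq_one_left ha] at h1
  exact h1.symm

/-- `#ι * |Z| ≤ |C_A(x₀)|`. -/
theorem card_mul_le {ι : Type*} [Finite ι] [Finite F] {A Z : Subgroup F} {E : ι → Subgroup F}
    (hA : ∀ a ∈ A, a * a = 1) (hE : ∀ i, ∀ e ∈ E i, e * e = 1) (hZA : Z ≤ A) (hZE : ∀ i, Z ≤ E i)
    {x₀ : F} (hx : x₀ * x₀ = 1) (hxA : x₀ ∉ A)
    (hcov : ∀ i, ∃ a ∈ A, x₀ * a ∈ E i)
    (hdis : ∀ i j, i ≠ j → E i ⊓ E j ≤ Z) :
    Nat.card ι * Nat.card Z ≤ Nat.card (cenIn A x₀) := by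
  choose a haA haE using hcov
  have key : ∀ i, ∀ z ∈ Z, a i * z ∈ cenIn A x₀ := by
    intro i z hz
    rw [mem_cenIn]
    have h1 : a i * z ∈ A := A.mul_mem (haA i) (hZA hz)
    have h2 : x₀ * (a i * z) ∈ E i := by
      rw [← mul_assoc]
      exact (E i).mul_mem (haE i) (hZE i hz)
    exact ⟨h1, comm_of_sq hx (hA _ h1) (hE i _ h2)⟩
  rw [← Nat.card_prod]
  refine Nat.card_le_card_of_injective (fun p : ι × Z => (⟨a p.1 * p.2, key p.1 p.2 p.2.2⟩ : cenIn A x₀)) ?_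
  rintro ⟨i, z⟩ ⟨j, w⟩ h
  have h' : a i * z = a j * w := congrArg Subtype.val h
  have hij : i = j := by
    by_contra hne
    have h1 : x₀ * (a i * z) ∈ E i := by
      rw [← mul_assoc]
      exact (E i).mul_mem (haE i) (hZE i z.2)
    have h2 : x₀ * (a i * z) ∈ E j := by
      rw [h', ← mul_assoc]
      exact (E j).mul_mem (haE j) (hZE j w.2)
    have h3 : x₀ * (a i * z) ∈ A := hZA (hdis i j hne ⟨h1, h2⟩)
    have h4 : a i * z ∈ A := A.mul_mem (haA i) (hZA z.2)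
    exact hxA ((Subgroup.mul_mem_cancel_right A h4).1 h3)
  subst hij
  have : (z : F) = w := mul_left_cancel h'
  exact Prod.ext rfl (Subtype.ext this)

/-- **The Kerdock bound.** -/
theorem two_mul_card_mul_le {ι : Type*} [Finite ι] [Finite F] {A Z : Subgroup F} {E : ι → Subgroup F}
    (hA : ∀ a ∈ A, a * a = 1) (hE : ∀ i, ∀ e ∈ E i, e * e = 1) (hZA : Z ≤ A) (hZE : ∀ i, Z ≤ E i)
    {x₀ : F} (hx : x₀ * x₀ = 1) (hxA : x₀ ∉ A)
    (hcov : ∀ i, ∃ a ∈ A, x₀ * a ∈ E i)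
    (hdis : ∀ i j, i ≠ j → E i ⊓ E j ≤ Z)
    (hncomm : ∃ a ∈ A, a * x₀ ≠ x₀ * a) :
    2 * (Nat.card ι * Nat.card Z) ≤ Nat.card A := by
  obtain ⟨a, ha, hax⟩ := hncomm
  have h1 := card_mul_le hA hE hZA hZE hx hxA hcov hdis
  have hle : cenIn A x₀ ≤ A := inf_le_left
  have hne : cenIn A x₀ ≠ A := by
    intro h
    rw [← h, mem_cenIn] at ha
    exact hax ha.2
  obtain ⟨k, hk⟩ := Subgroup.card_dvd_of_le hle
  have hpos : 0 < Nat.card A := Nat.card_pos
  have hk2 : 2 ≤ k := by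
    rcases k with _ | _ | k
    · omega
    · exfalso
      apply hne
      refine Subgroup.eq_of_le_of_card_ge hle ?_
      omega
    · omega
  calc 2 * (Nat.card ι * Nat.card Z) ≤ 2 * Nat.card (cenIn A x₀) := Nat.mul_le_mul_left 2 h1
    _ ≤ k * Nat.card (cenIn A x₀) := Nat.mul_le_mul_right _ hk2
    _ = Nat.card A := by rw [hk, mul_comm]

end Cfsg.Agent.PLocal.SFourKerdock
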